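import Mathlib
import Groth.Agent.Lib.R2LeadLciT1a
import Groth.Agent.Lib.R2LeadLciT1b
import Groth.Agent.Lib.Helper19FlatResExtB

/-!
# Base change of `T¹` of a flat lci algebra with generically smooth fibres (lead)
-/

set_option autoImplicit false
set_option linter.style.haveILetI false
set_option linter.unusedVariables false
set_option linter.unusedSectionVars false
universe u

namespace Groth.Agent.Lib.R2LeadLciT1c

open IsLocalRing TensorProduct Algebra CategoryTheory
open Groth.Agent.Lib.Helper5.GorFlat Groth.Agent.Lib.Helper5.GorRing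
open Groth.Agent.Lib.R2LeadLciH1 Groth.Agent.Lib.R2LeadLciT1a Groth.Agent.Lib.R2LeadLciT1b

variable {A P : Type u} [CommRing A] [CommRing P] [Algebra A P] (J : Ideal A)

section Fibre

variable [Module.Flat A P] [IsNoetherianRing A] [IsNoetherianRing P]

theorem gor_fiber_quot (hl : LCI.IsLCI A P) (p' : Ideal (A ⧸ J)) [p'.IsPrime] :
    LocCoh.IsGorensteinRing (p'.Fiber (P ⧸ J.map (algebraMap A P))) := by
  letI : Algebra A p'.ResidueField :=
    ((algebraMap (A ⧸ J) p'.ResidueField).comp (algebraMap A (A ⧸ J))).toAlgebra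
  haveI : IsScalarTower A (A ⧸ J) p'.ResidueField := IsScalarTower.of_algebraMap_eq (fun _ => rfl)
  haveI := Groth.Agent.Lib.Helper5.KoszulBC.gorRing_tensor_field_of_flat_isLCI A P hl
    p'.ResidueField
  let e1 : p'.ResidueField ⊗[A ⧸ J] (P ⧸ J.map (algebraMap A P)) ≃ₐ[p'.ResidueField]
      p'.ResidueField ⊗[A ⧸ J] ((A ⧸ J) ⊗[A] P) :=
    Algebra.TensorProduct.congr AlgEquiv.refl
      (Algebra.TensorProduct.quotIdealMapEquivQuotTensor P J)
  let e2 := Algebra.TensorProduct.cancelBaseChange A (A ⧸ J) p'.ResidueField p'.ResidueField P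
  let e3 := Algebra.TensorProduct.comm A p'.ResidueField P
  exact gorRing_of_ringEquiv
    (e3.symm.toRingEquiv.trans (e2.symm.toRingEquiv.trans e1.symm.toRingEquiv))

end Fibre

section Primes

local notation "K" => Ideal.map (algebraMap A P) J

theorem minimal_comap (Q' : Ideal (P ⧸ J.map (algebraMap A P))) [hQ' : Q'.IsPrime]
    (hmin : ∀ (Q₁ : Ideal (P ⧸ J.map (algebraMap A P))) [Q₁.IsPrime], Q₁ ≤ Q' →
      Q₁.comap (algebraMap (A ⧸ J) (P ⧸ J.map (algebraMap A P))) =
        Q'.comap (algebraMap (A ⧸ J) (P ⧸ J.map (algebraMap A P))) → Q₁ = Q')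
    (𝔔 : Ideal P) [h𝔔 : 𝔔.IsPrime]
    (hle : 𝔔 ≤ Q'.comap (algebraMap P (P ⧸ J.map (algebraMap A P))))
    (hc : 𝔔.comap (algebraMap A P) =
      (Q'.comap (algebraMap P (P ⧸ J.map (algebraMap A P)))).comap (algebraMap A P)) :
    𝔔 = Q'.comap (algebraMap P (P ⧸ J.map (algebraMap A P))) := by
  have hK : K = J.map (algebraMap A P) := rfl
  have hmk : algebraMap P (P ⧸ K) = Ideal.Quotient.mk K := rfl
  have hsurj : Function.Surjective (algebraMap P (P ⧸ K)) := Ideal.Quotient.mk_surjective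
  have hK𝔔 : K ≤ 𝔔 := by
    rw [hK, Ideal.map_le_iff_le_comap, hc]
    intro j hj
    rw [Ideal.mem_comap, Ideal.mem_comap, hmk]
    have : Ideal.Quotient.mk K (algebraMap A P j) = 0 :=
      Ideal.Quotient.eq_zero_iff_mem.mpr (Ideal.mem_map_of_mem _ hj)
    rw [this]
    exact Ideal.zero_mem _
  have hker : RingHom.ker (algebraMap P (P ⧸ K)) ≤ 𝔔 := by
    rw [hmk, Ideal.mk_ker]
    exact hK𝔔
  haveI hQ₁ : (𝔔.map (algebraMap P (P ⧸ K))).IsPrime :=
    Ideal.map_isPrime_of_surjective hsurj hker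
  have hcm : (𝔔.map (algebraMap P (P ⧸ K))).comap (algebraMap P (P ⧸ K)) = 𝔔 := by
    rw [Ideal.comap_map_of_surjective _ hsurj]
    exact sup_eq_left.mpr (by rw [← RingHom.ker_eq_comap_bot]; exact hker)
  have hle₁ : 𝔔.map (algebraMap P (P ⧸ K)) ≤ Q' := Ideal.map_le_iff_le_comap.mpr hle
  have hcomp : ∀ I : Ideal (P ⧸ K), (I.comap (algebraMap (A ⧸ J) (P ⧸ K))).comap
      (algebraMap A (A ⧸ J)) = (I.comap (algebraMap P (P ⧸ K))).comap (algebraMap A P) := by
    intro I
    rw [Ideal.comap_comap, Ideal.comap_comap,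
      ← IsScalarTower.algebraMap_eq A (A ⧸ J) (P ⧸ K), ← IsScalarTower.algebraMap_eq A P (P ⧸ K)]
  have hc₁ : (𝔔.map (algebraMap P (P ⧸ K))).comap (algebraMap (A ⧸ J) (P ⧸ K)) =
      Q'.comap (algebraMap (A ⧸ J) (P ⧸ K)) := by
    apply Ideal.comap_injective_of_surjective (algebraMap A (A ⧸ J)) Ideal.Quotient.mk_surjective
    rw [hcomp, hcomp, hcm, hc]
  have := hmin _ hle₁ hc₁
  rw [← this, hcm]

end Primes

section Kaehler

local notation "K" => Ideal.map (algebraMap A P) J

theorem mapBaseChange_bijective :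
    Function.Bijective (KaehlerDifferential.mapBaseChange A P (P ⧸ J.map (algebraMap A P))) := by
  have hK : K = J.map (algebraMap A P) := rfl
  have hsurj : Function.Surjective (algebraMap P (P ⧸ K)) := Ideal.Quotient.mk_surjective
  refine ⟨?_, KaehlerDifferential.mapBaseChange_surjective A P (P ⧸ K) hsurj⟩
  rw [← LinearMap.ker_eq_bot, eq_bot_iff]
  intro z hz
  have hex := KaehlerDifferential.exact_kerCotangentToTensor_mapBaseChange A P (P ⧸ K) hsurj
  obtain ⟨w, rfl⟩ := (hex z).mp hz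
  obtain ⟨x, rfl⟩ := Ideal.toCotangent_surjective _ w
  rw [KaehlerDifferential.kerCotangentToTensor_toCotangent, Submodule.mem_bot]
  have hx : (x : P) ∈ K := by
    have h1 : Ideal.Quotient.mk K (x : P) = 0 := RingHom.mem_ker.mp x.2
    exact Ideal.Quotient.eq_zero_iff_mem.mp h1
  have key : ∀ y ∈ K, (1 : P ⧸ K) ⊗ₜ[P] (KaehlerDifferential.D A P y) = 0 := by
    intro y hy
    rw [hK, Ideal.map] at hy
    induction hy using Submodule.span_induction with
    | mem y hy =>
      obtain ⟨j, hj, rfl⟩ := hy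
      rw [Derivation.map_algebraMap, tmul_zero]
    | zero => rw [map_zero, tmul_zero]
    | add y z _ _ hy hz => rw [map_add, tmul_add, hy, hz, add_zero]
    | smul r y hy ih =>
      rw [smul_eq_mul, Derivation.leibniz, tmul_add, tmul_smul, ih, smul_zero, zero_add,
        ← smul_tmul]
      have : y • (1 : P ⧸ K) = 0 := by
        rw [Algebra.smul_def, mul_one, Ideal.Quotient.algebraMap_eq,
          Ideal.Quotient.eq_zero_iff_mem]
        exact hy
      rw [this, zero_tmul]
  exact key _ hx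

end Kaehler

section Inj

local notation "K" => Ideal.map (algebraMap A P) J

variable [Module.Flat A P] [IsNoetherianRing A]

theorem baseChange_injective (hl : LCI.IsLCI A P)
    (hgs : ∀ 𝔓 : PrimeSpectrum P,
      (∀ 𝔔 : PrimeSpectrum P, 𝔔 ≤ 𝔓 →
          𝔔.asIdeal.comap (algebraMap A P) = 𝔓.asIdeal.comap (algebraMap A P) → 𝔔 = 𝔓) →
        𝔓 ∈ Algebra.smoothLocus A P)
    {N F : Type u} [AddCommGroup N] [Module P N] [AddCommGroup F] [Module P F]
    [Module.Finite P N] [Module.Projective P N]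
    (c : N →ₗ[P] F) (t : F →ₗ[P] Ω[P⁄A]) (hc : Function.Injective c)
    (hex : Function.Exact c t) (ht : Function.Surjective t) :
    Function.Injective (c.baseChange (P ⧸ K)) := by
  haveI := hl.1
  haveI : IsNoetherianRing P := Algebra.FiniteType.isNoetherianRing A P
  haveI : Module.Flat (A ⧸ J) (P ⧸ K) := Groth.Agent.Lib.Helper19.FlatResExt.flat_quotient_map J
  haveI : Module.FinitePresentation P Ω[P⁄A] := Module.finitePresentation_of_finite P _
  have hG : ∀ (Q : Ideal (P ⧸ K)) [Q.IsPrime],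
      LocCoh.IsGorensteinLocalRing (EGA4.FibLocRing (A ⧸ J) (P ⧸ K) Q) :=
    (forall_gor_fiber_iff (A := A ⧸ J) (B := P ⧸ K)).mp (fun p' _ => gor_fiber_quot J hl p')
  haveI : Module.Flat (P ⧸ K) ((P ⧸ K) ⊗[P] N) := Module.Flat.of_projective
  rw [injective_iff_map_eq_zero]
  intro x hx
  apply eq_zero_of_generic (A := A ⧸ J) (P := P ⧸ K) hG x
  intro Q' hQ' hmin
  have hQ : (Q'.comap (algebraMap P (P ⧸ K))).IsPrime := Ideal.comap_isPrime _ _
  have hsm : (⟨Q'.comap (algebraMap P (P ⧸ K)), hQ⟩ : PrimeSpectrum P) ∈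
      Algebra.smoothLocus A P := by
    apply hgs
    intro 𝔔 hle hcc
    ext1
    exact minimal_comap J Q' (fun Q₁ _ h1 h2 => hmin Q₁ h1 h2) 𝔔.asIdeal hle hcc
  rw [Algebra.smoothLocus_eq_compl_support_inter] at hsm
  have hfree := Module.mem_freeLocus.mp hsm.2
  have hproj : Module.Projective (Localization.AtPrime (Q'.comap (algebraMap P (P ⧸ K))))
      (LocalizedModule (Q'.comap (algebraMap P (P ⧸ K))).primeCompl Ω[P⁄A]) :=
    Module.Projective.of_free
  obtain ⟨a, ha, ρ, hρ⟩ := exists_smul_retraction c t hc hex ht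
    (Q'.comap (algebraMap P (P ⧸ K))) hproj
  refine ⟨algebraMap P (P ⧸ K) a, ha, ?_⟩
  have h1 : (ρ.baseChange (P ⧸ K)) (c.baseChange (P ⧸ K) x) = a • x := by
    rw [← LinearMap.comp_apply, ← LinearMap.baseChange_comp, hρ, LinearMap.baseChange_smul,
      LinearMap.baseChange_id, LinearMap.smul_apply, LinearMap.id_apply]
  rw [algebraMap_smul, ← h1, hx, map_zero]

end Inj

section Main

local notation "K" => Ideal.map (algebraMap A P) J

variable [Module.Flat A P] [IsNoetherianRing A]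

open Groth.Agent.Lib.R2H7.GrLDExt in
theorem main_aux (hlci : LCI.IsLCI A P)
    (hgs : ∀ 𝔓 : PrimeSpectrum P,
      (∀ 𝔔 : PrimeSpectrum P, 𝔔 ≤ 𝔓 →
          𝔔.asIdeal.comap (algebraMap A P) = 𝔓.asIdeal.comap (algebraMap A P) → 𝔔 = 𝔓) →
        𝔓 ∈ Algebra.smoothLocus A P)
    {N F : Type u} [AddCommGroup N] [Module P N] [AddCommGroup F] [Module P F]
    [Module.Finite P N] [Module.Projective P N] [Module.Finite P F] [Module.Free P F]
    (c : N →ₗ[P] F) (t : F →ₗ[P] Ω[P⁄A]) (hc : Function.Injective c)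
    (hex : Function.Exact c t) (ht : Function.Surjective t) :
    Nonempty
      ((P ⧸ K) ⊗[P] Abelian.Ext.{u} (ModuleCat.of P (Ω[P⁄A])) (ModuleCat.of P P) 1
            ≃ₗ[P ⧸ K]
        Abelian.Ext.{u} (ModuleCat.of (P ⧸ K) (Ω[(P ⧸ K)⁄A]))
          (ModuleCat.of (P ⧸ K) (P ⧸ K)) 1) := by
  obtain ⟨dl, hdl, hkerdl⟩ := exists_ext_one_coker (A := P) P c t hc ht hex
  have hc' := baseChange_injective J hlci hgs c t hc hex ht
  let mB := LinearEquiv.ofBijective (KaehlerDifferential.mapBaseChange A P (P ⧸ K))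
    (mapBaseChange_bijective J)
  let t' : (P ⧸ K) ⊗[P] F →ₗ[P ⧸ K] Ω[(P ⧸ K)⁄A] :=
    mB.toLinearMap ∘ₗ (t.baseChange (P ⧸ K))
  have ht' : Function.Surjective t' :=
    mB.surjective.comp (LinearMap.lTensor_surjective _ ht)
  have hex' : Function.Exact (c.baseChange (P ⧸ K)) t' := by
    have h1 := lTensor_exact (P ⧸ K) hex ht
    intro x
    have h2 : (t.baseChange (P ⧸ K)) x = 0 ↔
        x ∈ Set.range (c.baseChange (P ⧸ K)) := h1 x
    rw [← h2]
    constructor
    · intro h
      apply mB.injective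
      rw [map_zero]
      exact h
    · intro h
      show mB _ = 0
      rw [h, map_zero]
  obtain ⟨dl', hdl', hkerdl'⟩ := exists_ext_one_coker (A := P ⧸ K) (P ⧸ K)
    (c.baseChange (P ⧸ K)) t' hc' ht' hex'
  exact coker_compare (P ⧸ K) c dl hdl hkerdl dl' hdl' hkerdl'

end Main

open Groth.Agent.Lib.R2H3.KzCotProj in
theorem main (A : Type u) [CommRing A] [IsNoetherianRing A]
    (P : Type u) [CommRing P] [Algebra A P] [Module.Flat A P] (hlci : LCI.IsLCI A P)
    (hgs : ∀ 𝔓 : PrimeSpectrum P,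
      (∀ 𝔔 : PrimeSpectrum P, 𝔔 ≤ 𝔓 →
          𝔔.asIdeal.comap (algebraMap A P) = 𝔓.asIdeal.comap (algebraMap A P) → 𝔔 = 𝔓) →
        𝔓 ∈ Algebra.smoothLocus A P)
    (J : Ideal A) :
    Nonempty
      ((P ⧸ J.map (algebraMap A P)) ⊗[P]
          Abelian.Ext.{u} (ModuleCat.of P (KaehlerDifferential A P)) (ModuleCat.of P P) 1
            ≃ₗ[P ⧸ J.map (algebraMap A P)]
        Abelian.Ext.{u}
          (ModuleCat.of (P ⧸ J.map (algebraMap A P))
            (KaehlerDifferential A (P ⧸ J.map (algebraMap A P))))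
          (ModuleCat.of (P ⧸ J.map (algebraMap A P)) (P ⧸ J.map (algebraMap A P))) 1) := by
  have hsub := Groth.Agent.Lib.R2LeadLciH1.main A P hlci hgs
  obtain ⟨hft, n, f, hf, hK⟩ := id hlci
  haveI := hft
  haveI : IsNoetherianRing P := Algebra.FiniteType.isNoetherianRing A P
  let G : Generators A P (Fin n) := Generators.ofAlgHom f hf
  have hker : G.toExtension.ker = RingHom.ker f.toRingHom := Generators.ker_ofAlgHom f hf
  obtain ⟨hfin, hproj⟩ := cotangent_finite_projective G.toExtension (hker ▸ hK)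
  haveI := hfin
  haveI := hproj
  haveI : Module.Free P G.toExtension.CotangentSpace := Module.Free.of_basis G.cotangentSpaceBasis
  haveI : Module.Finite P G.toExtension.CotangentSpace :=
    Module.Finite.of_basis G.cotangentSpaceBasis
  have hc : Function.Injective G.toExtension.cotangentComplex := by
    haveI h1 : Subsingleton G.toExtension.H1Cotangent := G.equivH1Cotangent.subsingleton
    haveI h2 : Subsingleton (LinearMap.ker G.toExtension.cotangentComplex) := h1
    rw [← LinearMap.ker_eq_bot]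
    exact Submodule.eq_bot_of_subsingleton
  exact main_aux J hlci hgs G.toExtension.cotangentComplex G.toExtension.toKaehler hc
    Extension.exact_cotangentComplex_toKaehler Extension.toKaehler_surjective

end Groth.Agent.Lib.R2LeadLciT1c
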