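import Groth.Agent.Lib.Helper23Restr
import Groth.Agent.Lib.R2H3VAmpleMor
import Groth.Agent.Lib.H9HensCouple
import Groth.Agent.Lib.H6xExtZeroSec
import Groth.Prelude.Def_Lef

set_option autoImplicit false
set_option linter.style.haveILetI false
set_option linter.unusedSectionVars false
universe u
open CategoryTheory CategoryTheory.Limits AlgebraicGeometry Opposite TopologicalSpace

namespace Groth.Agent.Lib.R2LeadLefConnA

open Groth.Agent.Lib.Helper23.SecTw Groth.Agent.Lib.Helper23.GenLocus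

variable {V : Scheme.{u}}

/-- reduction of global functions modulo an ideal sheaf -/
noncomputable def red (I : V.IdealSheafData) : Γ(V, ⊤) →+* Γ(I.subscheme, ⊤) :=
  I.subschemeι.appTop.hom

/-- the endomorphism of the structure module attached to a global function -/
noncomputable def homOf (e : Γ(V, ⊤)) : Coh.structureModule V ⟶ Coh.structureModule V :=
  secHom (Coh.structureModule V) (toS ⊤ e)

theorem sv_homOf (e : Γ(V, ⊤)) : sv (homOf e) ⊤ = toS ⊤ e := by
  unfold homOf
  rw [sv_secHom]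
  exact res_self _ _

theorem sv_comp_toSubscheme (φ : Coh.structureModule V ⟶ Coh.structureModule V)
    (I : V.IdealSheafData) :
    sv (φ ≫ ClSub.toSubscheme I) ⊤ = (red I (ofS ⊤ (sv φ ⊤)) : Γ(I.subscheme, ⊤)) := rfl

theorem sv_homOf_comp (e : Γ(V, ⊤)) (I : V.IdealSheafData) :
    sv (homOf e ≫ ClSub.toSubscheme I) ⊤ = (red I e : Γ(I.subscheme, ⊤)) := by
  rw [sv_comp_toSubscheme, sv_homOf]
  rfl

/-- injectivity half of the Lefschetz condition, on functions -/
theorem eq_of_red_eq (𝓙 : V.IdealSheafData)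
    (h : Lef.HomToFormalBijective 𝓙 (Coh.structureModule V)) (e e' : Γ(V, ⊤))
    (hee : ∀ n : ℕ, red (𝓙 ^ (n + 1)) e = red (𝓙 ^ (n + 1)) e') : e = e' := by
  have h1 : homOf e = homOf e' := by
    apply h.1
    intro n
    apply hom_ext_of_sv
    rw [sv_homOf_comp, sv_homOf_comp, hee n]
  have h2 := congrArg (fun φ => ofS ⊤ (sv φ ⊤)) h1
  simp only [sv_homOf] at h2
  exact h2

section quotMap

set_option maxHeartbeats 400000 in
theorem quotMap_one {I J : V.IdealSheafData} (h : I ≤ J) :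
    (Lef.quotMap h).app ⊤ (1 : Γ(I.subscheme, ⊤)) = (1 : Γ(J.subscheme, ⊤)) := by
  have h1 : ((Scheme.Modules.pushforward I.subschemeι).map
      (ClSub.unitToPush (Scheme.IdealSheafData.inclusion h))).app ⊤ (1 : Γ(I.subscheme, ⊤)) =
      (1 : Γ(J.subscheme, ⊤)) :=
    map_one ((Scheme.IdealSheafData.inclusion h).app (I.subschemeι ⁻¹ᵁ ⊤)).hom
  have h2 : ((Scheme.Modules.pushforwardComp (Scheme.IdealSheafData.inclusion h) I.subschemeι).hom.app
      (Coh.structureModule J.subscheme)).app ⊤ (1 : Γ(J.subscheme, ⊤)) = (1 : Γ(J.subscheme, ⊤)) := rfl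
  have h3 : ((Scheme.Modules.pushforwardCongr
      (Scheme.IdealSheafData.inclusion_subschemeι h)).hom.app
      (Coh.structureModule J.subscheme)).app ⊤ (1 : Γ(J.subscheme, ⊤)) = (1 : Γ(J.subscheme, ⊤)) :=
    map_one (J.subscheme.presheaf.map (eqToHom (by rfl)).op).hom
  exact (congrArg _ ((congrArg _ h1).trans h2)).trans h3

theorem toSubscheme_quotMap {I J : V.IdealSheafData} (h : I ≤ J) :
    ClSub.toSubscheme I ≫ Lef.quotMap h = ClSub.toSubscheme J := by
  apply hom_ext_of_sv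
  have h1 : sv (ClSub.toSubscheme I) ⊤ = (1 : Γ(I.subscheme, ⊤)) :=
    map_one (I.subschemeι.app ⊤).hom
  have h2 : sv (ClSub.toSubscheme J) ⊤ = (1 : Γ(J.subscheme, ⊤)) :=
    map_one (J.subschemeι.app ⊤).hom
  have h0 : sv (ClSub.toSubscheme I ≫ Lef.quotMap h) ⊤ =
      (Lef.quotMap h).app ⊤ (sv (ClSub.toSubscheme I) ⊤) := rfl
  exact h0.trans ((congrArg _ h1).trans ((quotMap_one h).trans h2.symm))

/-- `quotMap` on sections coming from functions on `V` -/
theorem quotMap_app_red {I J : V.IdealSheafData} (h : I ≤ J) (W : V.Opens) (x : Γ(V, W)) :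
    (Lef.quotMap h).app W ((I.subschemeι.app W).hom x : Γ(I.subscheme, I.subschemeι ⁻¹ᵁ W)) =
      ((J.subschemeι.app W).hom x : Γ(J.subscheme, J.subschemeι ⁻¹ᵁ W)) :=
  congrArg (fun φ => Scheme.Modules.Hom.app φ W (toS W x)) (toSubscheme_quotMap h)

end quotMap

section idem

variable {Z : Scheme.{u}}

theorem res_idem_eq_one {e : Γ(Z, ⊤)} (he : IsIdempotentElem e) (O : Z.Opens)
    (hO : O ≤ Z.basicOpen e) : Z.presheaf.map (homOfLE (le_top : O ≤ ⊤)).op e = 1 := by
  apply Groth.Agent.Lib.H9HensCouple.idem_ext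
  · exact he.map (Z.presheaf.map (homOfLE (le_top : O ≤ ⊤)).op).hom
  · exact IsIdempotentElem.one
  · rw [Scheme.basicOpen_res, Scheme.basicOpen_of_isUnit _ isUnit_one]
    exact inf_eq_left.2 hO

theorem res_idem_eq_zero {e : Γ(Z, ⊤)} (he : IsIdempotentElem e) (O : Z.Opens)
    (hO : O ⊓ Z.basicOpen e = ⊥) : Z.presheaf.map (homOfLE (le_top : O ≤ ⊤)).op e = 0 := by
  apply Groth.Agent.Lib.H9HensCouple.idem_ext
  · exact he.map (Z.presheaf.map (homOfLE (le_top : O ≤ ⊤)).op).hom
  · exact IsIdempotentElem.zero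
  · rw [Scheme.basicOpen_res, Scheme.basicOpen_zero]
    exact hO

end idem

/-- the transition map on global sections -/
noncomputable def trn (𝓙 : V.IdealSheafData) (n : ℕ) :
    Γ((𝓙 ^ (n + 2)).subscheme, ⊤) →+* Γ((𝓙 ^ (n + 1)).subscheme, ⊤) :=
  (Scheme.IdealSheafData.inclusion (Lef.pow_succ_le 𝓙 n)).appTop.hom

end Groth.Agent.Lib.R2LeadLefConnA
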