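import Groth.Agent.Lib.R2LeadLefConnA
import Groth.Agent.Lib.R2H2HomLimA

set_option autoImplicit false
set_option linter.style.haveILetI false
set_option linter.unusedSectionVars false
universe u
open CategoryTheory CategoryTheory.Limits AlgebraicGeometry Opposite TopologicalSpace

namespace Groth.Agent.Lib.R2LeadLefConnB

open Groth.Agent.Lib.Helper23.SecTw Groth.Agent.Lib.Helper23.GenLocus Groth.Agent.Lib.Helper6
open Groth.Agent.Lib.R2LeadLefConnA

variable {V : Scheme.{u}}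

/-- restriction in `O_V / I` is restriction of functions on the closed subscheme -/
theorem res_quotMod (I : V.IdealSheafData) {W : V.Opens} (x : Γ(I.subscheme, ⊤)) :
    res (ClSub.quotMod I) (le_top : W ≤ ⊤) x =
      (I.subscheme.presheaf.map (homOfLE (le_top : I.subschemeι ⁻¹ᵁ W ≤ ⊤)).op x :
        Γ(I.subscheme, I.subschemeι ⁻¹ᵁ W)) := rfl

theorem compat {I J : V.IdealSheafData} (h : I ≤ J) (W₁ W₂ : V.Opens)
    (hcov : (⊤ : V.Opens) ≤ W₁ ⊔ W₂)
    (ε' : Γ(I.subscheme, ⊤)) (ε : Γ(J.subscheme, ⊤))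
    (hε' : IsIdempotentElem ε') (hε : IsIdempotentElem ε)
    (h1' : I.subschemeι ⁻¹ᵁ W₁ ≤ I.subscheme.basicOpen ε')
    (h2' : I.subschemeι ⁻¹ᵁ W₂ ⊓ I.subscheme.basicOpen ε' = ⊥)
    (h1 : J.subschemeι ⁻¹ᵁ W₁ ≤ J.subscheme.basicOpen ε)
    (h2 : J.subschemeι ⁻¹ᵁ W₂ ⊓ J.subscheme.basicOpen ε = ⊥) :
    (Lef.quotMap h).app ⊤ ε' = ε := by
  refine Groth.Agent.Lib.R2H2.HomLimA.eq_of_res_eq (ClSub.quotMod J)
    (fun b : Bool => cond b W₁ W₂) ⊤ (fun _ => le_top) ?_ _ _ ?_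
  · refine hcov.trans ?_
    rw [sup_le_iff]
    exact ⟨le_iSup (fun b : Bool => cond b W₁ W₂) true, le_iSup (fun b : Bool => cond b W₁ W₂) false⟩
  · intro b
    rw [Groth.Agent.Lib.R2H2.HomLimA.res_app]
    cases b
    · -- on W₂ both vanish
      have e1 : res (ClSub.quotMod I) (le_top : W₂ ≤ ⊤) ε' =
          ((I.subschemeι.app W₂).hom 0 : Γ(I.subscheme, I.subschemeι ⁻¹ᵁ W₂)) := by
        rw [map_zero]
        exact res_idem_eq_zero hε' _ h2'
      have e2 : res (ClSub.quotMod J) (le_top : W₂ ≤ ⊤) ε =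
          ((J.subschemeι.app W₂).hom 0 : Γ(J.subscheme, J.subschemeι ⁻¹ᵁ W₂)) := by
        rw [map_zero]
        exact res_idem_eq_zero hε _ h2
      exact (congrArg _ e1).trans ((quotMap_app_red h W₂ 0).trans e2.symm)
    · have e1 : res (ClSub.quotMod I) (le_top : W₁ ≤ ⊤) ε' =
          ((I.subschemeι.app W₁).hom 1 : Γ(I.subscheme, I.subschemeι ⁻¹ᵁ W₁)) := by
        rw [map_one]
        exact res_idem_eq_one hε' _ h1'
      have e2 : res (ClSub.quotMod J) (le_top : W₁ ≤ ⊤) ε =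
          ((J.subschemeι.app W₁).hom 1 : Γ(J.subscheme, J.subschemeι ⁻¹ᵁ W₁)) := by
        rw [map_one]
        exact res_idem_eq_one hε _ h1
      exact (congrArg _ e1).trans ((quotMap_app_red h W₁ 1).trans e2.symm)

end Groth.Agent.Lib.R2LeadLefConnB
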