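import Groth.Agent.Lib.R2LeadLefConnB

set_option autoImplicit false
set_option linter.style.haveILetI false
set_option linter.unusedSectionVars false
universe u
open CategoryTheory CategoryTheory.Limits AlgebraicGeometry Opposite TopologicalSpace

namespace Groth.Agent.Lib.R2LeadLefConnC

open Groth.Agent.Lib.Helper23.SecTw Groth.Agent.Lib.Helper23.GenLocus Groth.Agent.Lib.Helper6
open Groth.Agent.Lib.R2LeadLefConnA Groth.Agent.Lib.R2LeadLefConnB

section formal

variable {V : Scheme.{u}} (𝓙 : V.IdealSheafData)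

/-- surjectivity half of the Lefschetz condition, on functions -/
theorem exists_of_compatible (h : Lef.HomToFormalBijective 𝓙 (Coh.structureModule V))
    (ε : ∀ n : ℕ, Γ((𝓙 ^ (n + 1)).subscheme, ⊤))
    (hε : ∀ n, (Lef.quotMap (Lef.pow_succ_le 𝓙 n)).app ⊤ (ε (n + 1)) = ε n) :
    ∃ e : Γ(V, ⊤), ∀ n, red (𝓙 ^ (n + 1)) e = ε n := by
  let y : ∀ n : ℕ, Coh.structureModule V ⟶ ClSub.quotMod (𝓙 ^ (n + 1)) := fun n =>
    secHom (ClSub.quotMod (𝓙 ^ (n + 1))) (ε n)
  have hy : ∀ n, sv (y n) ⊤ = ε n := fun n => by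
    change sv (secHom _ _) ⊤ = _
    rw [sv_secHom]
    exact res_self _ _
  have hform : Lef.IsFormalHom 𝓙 (Coh.structureModule V) y := by
    intro n
    apply hom_ext_of_sv
    have h0 : sv (y (n + 1) ≫ Lef.quotMap (Lef.pow_succ_le 𝓙 n)) ⊤ =
        (Lef.quotMap (Lef.pow_succ_le 𝓙 n)).app ⊤ (sv (y (n + 1)) ⊤) := rfl
    exact h0.trans ((congrArg _ (hy (n + 1))).trans ((hε n).trans (hy n).symm))
  obtain ⟨φ, hφ⟩ := h.2 y hform
  refine ⟨ofS ⊤ (sv φ ⊤), fun n => ?_⟩
  have h1 := congrArg (fun ψ => sv ψ ⊤) (hφ n)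
  exact ((sv_comp_toSubscheme φ _).symm.trans h1).trans (hy n)

end formal

section main

variable {X : Scheme.{u}} (𝓘 : X.IdealSheafData) (U : X.Opens)

theorem mem_support_of_range (n : ℕ) (y : ((𝓘.comap U.ι) ^ (n + 1)).subscheme) :
    U.ι (((𝓘.comap U.ι) ^ (n + 1)).subschemeι y) ∈ (𝓘.support : Set X) := by
  have h1 : ((𝓘.comap U.ι) ^ (n + 1)).subschemeι y ∈
      Set.range ((𝓘.comap U.ι) ^ (n + 1)).subschemeι := ⟨y, rfl⟩
  rw [Scheme.IdealSheafData.range_subschemeι, Scheme.IdealSheafData.support_pow_succ,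
    Scheme.IdealSheafData.support_comap] at h1
  exact h1

/-- the map from the `n`-th thickening to the support -/
noncomputable def g (n : ℕ) : ((𝓘.comap U.ι) ^ (n + 1)).subscheme → (𝓘.support : Set X) :=
  fun y => ⟨U.ι (((𝓘.comap U.ι) ^ (n + 1)).subschemeι y), mem_support_of_range 𝓘 U n y⟩

theorem continuous_g (n : ℕ) : Continuous (g 𝓘 U n) :=
  Continuous.subtype_mk
    (U.ι.continuous.comp ((𝓘.comap U.ι) ^ (n + 1)).subschemeι.continuous) _

theorem surjective_g (hU : (𝓘.support : Set X) ⊆ (U : Set X)) (n : ℕ) :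
    Function.Surjective (g 𝓘 U n) := by
  rintro ⟨x, hx⟩
  let v : (U : Scheme.{u}) := ⟨x, hU hx⟩
  have hv : v ∈ Set.range ((𝓘.comap U.ι) ^ (n + 1)).subschemeι := by
    rw [Scheme.IdealSheafData.range_subschemeι, Scheme.IdealSheafData.support_pow_succ,
      Scheme.IdealSheafData.support_comap]
    exact hx
  obtain ⟨y, hy⟩ := hv
  refine ⟨y, Subtype.ext ?_⟩
  change U.ι (((𝓘.comap U.ι) ^ (n + 1)).subschemeι y) = x
  rw [hy]
  rfl

/-- clopen subsets of `↑U` disjoint from `Y` are empty -/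
theorem eq_empty_of_disjoint (hLef : Lef.HomToFormalBijective (𝓘.comap U.ι)
      (Coh.structureModule (U : Scheme.{u})))
    (S : Set (U : Scheme.{u})) (hS : IsClopen S)
    (hdisj : ∀ v ∈ S, U.ι v ∉ (𝓘.support : Set X)) : S = ∅ := by
  obtain ⟨e, he, heS⟩ := Groth.Agent.Lib.H9HensCouple.exists_idem_of_isClopen S hS
  have h0 : e = 0 := by
    apply eq_of_red_eq (𝓘.comap U.ι) hLef
    intro n
    rw [map_zero]
    apply Groth.Agent.Lib.H9HensCouple.idem_ext (he.map _) IsIdempotentElem.zero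
    rw [Scheme.basicOpen_zero]
    have h1 : ((𝓘.comap U.ι) ^ (n + 1)).subscheme.basicOpen (red ((𝓘.comap U.ι) ^ (n + 1)) e) =
        ((𝓘.comap U.ι) ^ (n + 1)).subschemeι ⁻¹ᵁ ((U : Scheme.{u}).basicOpen e) :=
      (Scheme.preimage_basicOpen_top _ e).symm
    rw [h1]
    ext y
    simp only [Opens.coe_bot, Set.mem_empty_iff_false, iff_false]
    intro hy
    have hy' : ((𝓘.comap U.ι) ^ (n + 1)).subschemeι y ∈
        (((U : Scheme.{u}).basicOpen e : (U : Scheme.{u}).Opens) : Set (U : Scheme.{u})) := hy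
    rw [heS] at hy'
    exact hdisj _ hy' (mem_support_of_range 𝓘 U n y)
  rw [← heS, h0, Scheme.basicOpen_zero]
  rfl

theorem connectedSpace_opens (hU : (𝓘.support : Set X) ⊆ (U : Set X))
    (hLef : Lef.HomToFormalBijective (𝓘.comap U.ι) (Coh.structureModule (U : Scheme.{u})))
    (hY : ConnectedSpace (𝓘.support : Set X)) : ConnectedSpace (U : Scheme.{u}) := by
  rw [connectedSpace_iff_clopen]
  constructor
  · obtain ⟨⟨x, hx⟩⟩ := hY.toNonempty
    exact ⟨⟨x, hU hx⟩⟩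
  · intro S hS
    let incl : ↥(𝓘.support : Set X) → (U : Scheme.{u}) := fun y => ⟨y.1, hU y.2⟩
    have hincl : Continuous incl := Continuous.subtype_mk continuous_subtype_val _
    have hSY : IsClopen (incl ⁻¹' S) := hS.preimage hincl
    have key : ∀ S' : Set (U : Scheme.{u}), IsClopen S' → incl ⁻¹' S' = ∅ → S' = ∅ := by
      intro S' hS' hem
      apply eq_empty_of_disjoint 𝓘 U hLef S' hS'
      intro v hv hvY
      have h1 : (⟨U.ι v, hvY⟩ : (𝓘.support : Set X)) ∈ incl ⁻¹' S' := by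
        change incl ⟨U.ι v, hvY⟩ ∈ S'
        have h2 : incl ⟨U.ι v, hvY⟩ = v := Subtype.ext rfl
        rw [h2]
        exact hv
      rw [hem] at h1
      exact h1
    rcases (isClopen_iff (α := (𝓘.support : Set X))).1 hSY with h | h
    · exact Or.inl (key S hS h)
    · right
      have h1 : Sᶜ = ∅ := by
        apply key Sᶜ hS.compl
        rw [Set.preimage_compl, h, Set.compl_univ]
      exact Set.compl_empty_iff.1 h1

theorem connectedSpace_support (hU : (𝓘.support : Set X) ⊆ (U : Set X))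
    (hLef : Lef.HomToFormalBijective (𝓘.comap U.ι) (Coh.structureModule (U : Scheme.{u})))
    (hUc : ConnectedSpace (U : Scheme.{u})) : ConnectedSpace (𝓘.support : Set X) := by
  rw [connectedSpace_iff_clopen]
  constructor
  · by_contra hne
    rw [not_nonempty_iff] at hne
    have h1 := eq_empty_of_disjoint 𝓘 U hLef Set.univ isClopen_univ
      (fun v _ hv => hne.false ⟨_, hv⟩)
    obtain ⟨v⟩ := hUc.toNonempty
    have h2 : v ∈ (Set.univ : Set (U : Scheme.{u})) := trivial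
    rw [h1] at h2
    exact h2
  · intro S hS
    obtain ⟨O₁, hO₁, hS₁⟩ := isOpen_induced_iff.1 hS.isOpen
    obtain ⟨O₂, hO₂, hS₂⟩ := isOpen_induced_iff.1 hS.compl.isOpen
    let P₁ : X.Opens := ⟨O₁ ∪ (𝓘.support : Set X)ᶜ, hO₁.union 𝓘.support.isClosed.isOpen_compl⟩
    let P₂ : X.Opens := ⟨O₂ ∪ (𝓘.support : Set X)ᶜ, hO₂.union 𝓘.support.isClosed.isOpen_compl⟩
    let W₁ : (U : Scheme.{u}).Opens := U.ι ⁻¹ᵁ P₁
    let W₂ : (U : Scheme.{u}).Opens := U.ι ⁻¹ᵁ P₂
    have hcov : (⊤ : (U : Scheme.{u}).Opens) ≤ W₁ ⊔ W₂ := by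
      intro v _
      by_cases hv : U.ι v ∈ (𝓘.support : Set X)
      · by_cases hvS : (⟨U.ι v, hv⟩ : (𝓘.support : Set X)) ∈ S
        · left
          rw [← hS₁] at hvS
          exact Or.inl hvS
        · right
          have : (⟨U.ι v, hv⟩ : (𝓘.support : Set X)) ∈ Sᶜ := hvS
          rw [← hS₂] at this
          exact Or.inl this
      · exact Or.inl (Or.inr hv)
    have hW₁ : ∀ (n : ℕ) (y : ((𝓘.comap U.ι) ^ (n + 1)).subscheme),
        ((𝓘.comap U.ι) ^ (n + 1)).subschemeι y ∈ W₁ ↔ g 𝓘 U n y ∈ S := by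
      intro n y
      rw [← hS₁]
      constructor
      · rintro (h | h)
        · exact h
        · exact absurd (mem_support_of_range 𝓘 U n y) h
      · intro h
        exact Or.inl h
    have hW₂ : ∀ (n : ℕ) (y : ((𝓘.comap U.ι) ^ (n + 1)).subscheme),
        ((𝓘.comap U.ι) ^ (n + 1)).subschemeι y ∈ W₂ ↔ g 𝓘 U n y ∈ Sᶜ := by
      intro n y
      rw [← hS₂]
      constructor
      · rintro (h | h)
        · exact h
        · exact absurd (mem_support_of_range 𝓘 U n y) h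
      · intro h
        exact Or.inl h
    have hC : ∀ n : ℕ, IsClopen (g 𝓘 U n ⁻¹' S) := fun n => hS.preimage (continuous_g 𝓘 U n)
    have hex : ∀ n : ℕ, ∃ e : Γ(((𝓘.comap U.ι) ^ (n + 1)).subscheme, ⊤), IsIdempotentElem e ∧
        ((((𝓘.comap U.ι) ^ (n + 1)).subscheme.basicOpen e :
          ((𝓘.comap U.ι) ^ (n + 1)).subscheme.Opens) :
          Set ((𝓘.comap U.ι) ^ (n + 1)).subscheme) = g 𝓘 U n ⁻¹' S := fun n =>
      Groth.Agent.Lib.H9HensCouple.exists_idem_of_isClopen _ (hC n)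
    choose ε hεi hεb using hex
    have h1 : ∀ n : ℕ, ((𝓘.comap U.ι) ^ (n + 1)).subschemeι ⁻¹ᵁ W₁ ≤
        ((𝓘.comap U.ι) ^ (n + 1)).subscheme.basicOpen (ε n) := by
      intro n y hy
      have : y ∈ g 𝓘 U n ⁻¹' S := (hW₁ n y).1 hy
      rw [← hεb n] at this
      exact this
    have h2 : ∀ n : ℕ, ((𝓘.comap U.ι) ^ (n + 1)).subschemeι ⁻¹ᵁ W₂ ⊓
        ((𝓘.comap U.ι) ^ (n + 1)).subscheme.basicOpen (ε n) = ⊥ := by
      intro n
      ext y
      simp only [Opens.coe_bot, Set.mem_empty_iff_false, iff_false]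
      rintro ⟨hy1, hy2⟩
      have ha : g 𝓘 U n y ∈ Sᶜ := (hW₂ n y).1 hy1
      have hb : y ∈ g 𝓘 U n ⁻¹' S := by
        rw [← hεb n]
        exact hy2
      exact ha hb
    have hcompat : ∀ n, (Lef.quotMap (Lef.pow_succ_le (𝓘.comap U.ι) n)).app ⊤ (ε (n + 1)) = ε n :=
      fun n => compat (Lef.pow_succ_le (𝓘.comap U.ι) n) W₁ W₂ hcov (ε (n + 1)) (ε n)
        (hεi (n + 1)) (hεi n) (h1 (n + 1)) (h2 (n + 1)) (h1 n) (h2 n)
    obtain ⟨e, he⟩ := exists_of_compatible (𝓘.comap U.ι) hLef ε hcompat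
    have hidem : IsIdempotentElem e := by
      apply eq_of_red_eq (𝓘.comap U.ι) hLef
      intro n
      rw [map_mul, he n]
      exact hεi n
    have hclopen := Groth.Agent.Lib.H9HensCouple.isClopen_basicOpen hidem
    have hpre : ∀ y : ((𝓘.comap U.ι) ^ (0 + 1)).subscheme,
        ((𝓘.comap U.ι) ^ (0 + 1)).subschemeι y ∈ (U : Scheme.{u}).basicOpen e ↔ g 𝓘 U 0 y ∈ S := by
      intro y
      have h3 : ((𝓘.comap U.ι) ^ (0 + 1)).subschemeι ⁻¹ᵁ ((U : Scheme.{u}).basicOpen e) =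
          ((𝓘.comap U.ι) ^ (0 + 1)).subscheme.basicOpen (red ((𝓘.comap U.ι) ^ (0 + 1)) e) :=
        Scheme.preimage_basicOpen_top _ e
      have h4 : (y ∈ ((𝓘.comap U.ι) ^ (0 + 1)).subschemeι ⁻¹ᵁ ((U : Scheme.{u}).basicOpen e)) ↔
          y ∈ g 𝓘 U 0 ⁻¹' S := by
        rw [h3, he 0, ← hεb 0]
        rfl
      exact h4
    haveI := hUc
    rcases (isClopen_iff (α := (U : Scheme.{u}))).1 hclopen with h | h
    · left
      rw [Set.eq_empty_iff_forall_notMem]
      intro s hs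
      obtain ⟨y, rfl⟩ := surjective_g 𝓘 U hU 0 s
      have := (hpre y).2 hs
      have h5 : ((𝓘.comap U.ι) ^ (0 + 1)).subschemeι y ∈
          (((U : Scheme.{u}).basicOpen e : (U : Scheme.{u}).Opens) : Set (U : Scheme.{u})) := this
      rw [h] at h5
      exact h5
    · right
      rw [Set.eq_univ_iff_forall]
      intro s
      obtain ⟨y, rfl⟩ := surjective_g 𝓘 U hU 0 s
      apply (hpre y).1
      have h5 : ((𝓘.comap U.ι) ^ (0 + 1)).subschemeι y ∈
          (((U : Scheme.{u}).basicOpen e : (U : Scheme.{u}).Opens) : Set (U : Scheme.{u})) := by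
        rw [h]
        trivial
      exact h5

theorem main (h : Lef.LefCond X 𝓘) (hU : (𝓘.support : Set X) ⊆ (U : Set X)) :
    ConnectedSpace (𝓘.support : Set X) ↔ ConnectedSpace U := by
  have hLef := h U hU (Coh.structureModule (U : Scheme.{u}))
    (Groth.Agent.Lib.H6xExtZeroSec.isFinLocFree_structureModule _)
  exact ⟨fun hY => connectedSpace_opens 𝓘 U hU hLef hY,
    fun hUc => connectedSpace_support 𝓘 U hU hLef hUc⟩

end main

end Groth.Agent.Lib.R2LeadLefConnC
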