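import Groth.Prelude.Def_DRing2
import Groth.Prelude.Def_DDual2
import Mathlib
import Groth.Agent.Lib.R2LeadLiftCxD
import Groth.Agent.Lib.Helper1PCNil2
import Groth.Agent.S3168

/-!
# Lifting complexes of projectives along a nilpotent ideal (lead)
-/

set_option autoImplicit false
open scoped TensorProduct
open CategoryTheory CategoryTheory.Limits
attribute [local instance] HasDerivedCategory.standard

namespace Groth.Agent.Lib.R2LeadLiftCxE

open Groth.Agent.Lib.Helper1.PCNil Groth.Agent.Lib.Helper1.ProjRes DerivedCategory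

universe u

variable {R : Type u} [CommRing R]

/-- the class of projective modules -/
def ProjC : ObjectProperty (ModuleCat.{u} R) := fun X => Module.Projective R X

instance : (ProjC (R := R)).IsClosedUnderIsomorphisms where
  of_iso e h := by
    haveI : Module.Projective R _ := h
    exact Module.Projective.of_equiv e.toLinearEquiv

theorem main (I : Ideal R) (hI : IsNilpotent I) [DRing.HasLBaseChange (Ideal.Quotient.mk I)]
    (K : Dual.D R) (E : DRing.Cx (R ⧸ I)) (b : ℤ) (hEb : DRing.VanishesAbove E b)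
    (hEp : ∀ i : ℤ, Module.Projective (R ⧸ I) (E.X i))
    (hE : Nonempty (DRing.toD E ≅ (DRing.LBaseChange (Ideal.Quotient.mk I)).obj K)) :
    ∃ (P : DRing.Cx R) (b' : ℤ), DRing.VanishesAbove P b' ∧
      (∀ i : ℤ, Module.Projective R (P.X i)) ∧ Nonempty (DRing.toD P ≅ K) ∧
      Nonempty ((((ModuleCat.extendScalars (Ideal.Quotient.mk I)).mapHomologicalComplex
        (ComplexShape.up ℤ)).obj P) ≅ E) := by
  obtain ⟨k, hk⟩ := hI
  have hk' : I ^ k = ⊥ := hk
  refine Groth.Agent.Lib.R2LeadLiftCxD.main I ProjC (fun X hX => hX) ?_ ?_ K ?_ E b hEb ?_ hE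
  · intro X Y hX
    haveI : Module.Projective R X := hX
    constructor
    · intro h
      haveI : Module.Projective R (X × Y) := h
      exact Module.Projective.of_split (LinearMap.inr R X Y) (LinearMap.snd R X Y)
        (LinearMap.ext fun _ => rfl)
    · intro h
      haveI : Module.Projective R Y := h
      exact (inferInstance : Module.Projective R (X × Y))
  · intro X Y f _ _ hf
    rw [← LinearMap.range_eq_top]
    exact eq_top_of_sup_smul_eq_top_of_pow_eq_bot I k hk' _ hf
  · -- `K` is bounded above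
    obtain ⟨e⟩ := hE
    have hEle : E.IsStrictlyLE b := by
      rw [CochainComplex.isStrictlyLE_iff]
      exact hEb
    have h1 : (Q.obj E).IsLE b := inferInstance
    have h2 : ((DRing.LBaseChange (Ideal.Quotient.mk I)).obj K).IsLE b :=
      (DerivedCategory.TStructure.t).isLE_of_iso e b
    have hker : RingHom.ker (Ideal.Quotient.mk I) ^ k = ⊥ := by
      rw [Ideal.mk_ker]
      exact hk'
    haveI : K.IsLE b := isLE_of_isLE_LBC (Ideal.Quotient.mk I) Ideal.Quotient.mk_surjective k
      hker K b h2
    obtain ⟨Qc, hQle, hQp, ⟨eQ⟩⟩ := exists_iso_Q_proj K b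
    refine ⟨Qc, b, fun i hi => Qc.isZero_of_isStrictlyLE b i hi, fun i => ?_, ⟨eQ⟩⟩
    haveI := hQp i
    exact ModuleCat.projective_of_module_projective _
  · intro i
    haveI := hEp i
    obtain ⟨P, _, _, hP, ⟨e⟩⟩ := Groth.Agent.S3168.result I ⟨k, hk⟩ (E.X i)
    exact ⟨ModuleCat.of R P, hP, ⟨e⟩⟩

end Groth.Agent.Lib.R2LeadLiftCxE
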