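import Mathlib
import Groth.Prelude.Def_RelProj
import Groth.Agent.Lib.Helper13RelProjA
import Groth.Agent.S9705

/-!
# Projective morphisms (`RelProj.IsProjective`) are proper (lead)
-/

set_option autoImplicit false
set_option linter.unusedSectionVars false
universe u
open CategoryTheory CategoryTheory.Limits AlgebraicGeometry TopologicalSpace Opposite MvPolynomial
open scoped HomogeneousIdeal

namespace Groth.Agent.Lib.R2LeadProjProper

section Ring
variable {R A : Type u} [CommRing R] [CommRing A] (𝒜 : ℕ → AddSubgroup A) [GradedRing 𝒜]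
  (s0 : R →+* 𝒜 0) {m : ℕ} (t : Fin (m + 1) → A)

/-- the structure map `R → A` -/
noncomputable def str : R →+* A := (algebraMap (𝒜 0) A).comp s0

theorem str_mem (r : R) : str 𝒜 s0 r ∈ 𝒜 0 := (s0 r).2

/-- evaluation at the chosen degree one generators -/
noncomputable def ev : MvPolynomial (Fin (m + 1)) R →+* A := eval₂Hom (str 𝒜 s0) t

theorem ev_C (r : R) : ev 𝒜 s0 t (C r) = str 𝒜 s0 r := by
  simp [ev]

theorem ev_X (i : Fin (m + 1)) : ev 𝒜 s0 t (X i) = t i := by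
  simp [ev]

variable (ht : ∀ i, t i ∈ 𝒜 1)

include ht in
theorem prod_mem (e : Fin (m + 1) →₀ ℕ) : (e.prod fun i k => t i ^ k) ∈ 𝒜 e.degree := by
  induction e using Finsupp.induction_linear with
  | zero => simpa using SetLike.GradedOne.one_mem
  | add f g hf hg =>
    rw [Finsupp.prod_add_index' (fun _ => pow_zero _) (fun _ _ _ => pow_add _ _ _), map_add]
    exact SetLike.mul_mem_graded hf hg
  | single i k =>
    rw [Finsupp.prod_single_index (h := fun i k => t i ^ k) (pow_zero _), Finsupp.degree_single]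
    simpa using SetLike.pow_mem_graded k (ht i)

include ht in
theorem ev_monomial_mem (e : Fin (m + 1) →₀ ℕ) (c : R) :
    ev 𝒜 s0 t (monomial e c) ∈ 𝒜 e.degree := by
  have : ev 𝒜 s0 t (monomial e c) = str 𝒜 s0 c * e.prod fun i k => t i ^ k := by
    simp [ev, eval₂_monomial]
  rw [this]
  simpa using SetLike.mul_mem_graded (str_mem 𝒜 s0 c) (prod_mem 𝒜 t ht e)

include ht in
theorem ev_mem {d : ℕ} {p : MvPolynomial (Fin (m + 1)) R} (hp : p.IsHomogeneous d) :
    ev 𝒜 s0 t p ∈ 𝒜 d := by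
  rw [← support_sum_monomial_coeff p, map_sum]
  refine sum_mem fun e he => ?_
  have hd : e.degree = d := by
    rw [Finsupp.degree_eq_weight_one]
    exact hp (mem_support_iff.mp he)
  rw [← hd]
  exact ev_monomial_mem 𝒜 s0 t ht e _

/-- the graded ring homomorphism from the polynomial ring -/
noncomputable def evGr : CohB1.polyGrading m R →+*ᵍ 𝒜 :=
  { ev 𝒜 s0 t with
    map_mem := fun {i x} hx => ev_mem 𝒜 s0 t ht ((mem_homogeneousSubmodule _ _).mp hx) }

theorem evGr_apply (p : MvPolynomial (Fin (m + 1)) R) : evGr 𝒜 s0 t ht p = ev 𝒜 s0 t p := rfl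

/-- `Q d b`: `b` is the value of a homogeneous polynomial of degree `d`. -/
def Q (d : ℕ) (b : A) : Prop := ∃ p : MvPolynomial (Fin (m + 1)) R, p.IsHomogeneous d ∧ ev 𝒜 s0 t p = b

theorem Q_zero (d : ℕ) : Q 𝒜 s0 t d 0 := ⟨0, isHomogeneous_zero _ _ _, map_zero _⟩

theorem Q_add {d : ℕ} {a b : A} (ha : Q 𝒜 s0 t d a) (hb : Q 𝒜 s0 t d b) : Q 𝒜 s0 t d (a + b) := by
  obtain ⟨p, hp, rfl⟩ := ha
  obtain ⟨q, hq, rfl⟩ := hb
  exact ⟨p + q, hp.add hq, map_add _ _ _⟩

theorem Q_neg {d : ℕ} {a : A} (ha : Q 𝒜 s0 t d a) : Q 𝒜 s0 t d (-a) := by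
  obtain ⟨p, hp, rfl⟩ := ha
  exact ⟨-p, hp.neg, map_neg _ _⟩

theorem Q_sum {ι : Type*} (s : Finset ι) {d : ℕ} (f : ι → A) (h : ∀ i ∈ s, Q 𝒜 s0 t d (f i)) :
    Q 𝒜 s0 t d (∑ i ∈ s, f i) := by
  classical
  induction s using Finset.induction_on with
  | empty => simpa using Q_zero 𝒜 s0 t d
  | insert a s ha ih =>
    rw [Finset.sum_insert ha]
    exact Q_add 𝒜 s0 t (h a (Finset.mem_insert_self _ _))
      (ih fun i hi => h i (Finset.mem_insert_of_mem hi))

theorem Q_mul {i j : ℕ} {a b : A} (ha : Q 𝒜 s0 t i a) (hb : Q 𝒜 s0 t j b) :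
    Q 𝒜 s0 t (i + j) (a * b) := by
  obtain ⟨p, hp, rfl⟩ := ha
  obtain ⟨q, hq, rfl⟩ := hb
  exact ⟨p * q, hp.mul hq, map_mul _ _ _⟩

variable (hspan : ∀ x ∈ 𝒜 1, ∃ c : Fin (m + 1) → R, x = ∑ i, str 𝒜 s0 (c i) * t i)

include hspan in
theorem Q_one {b : A} (hb : b ∈ 𝒜 1) : Q 𝒜 s0 t 1 b := by
  obtain ⟨c, rfl⟩ := hspan b hb
  refine ⟨∑ i, C (c i) * X i, IsHomogeneous.sum _ _ _ fun i _ => isHomogeneous_C_mul_X _ _, ?_⟩
  simp [map_sum, ev_C, ev_X]

include ht hspan in
/-- multiplication by degree zero elements preserves the images in positive degrees -/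
theorem Q_smul {d : ℕ} (hd : 0 < d) {a b : A} (ha : a ∈ 𝒜 0) (hb : Q 𝒜 s0 t d b) :
    Q 𝒜 s0 t d (a * b) := by
  obtain ⟨p, hp, rfl⟩ := hb
  rw [← support_sum_monomial_coeff p, map_sum, Finset.mul_sum]
  refine Q_sum 𝒜 s0 t _ _ fun e he => ?_
  have hdeg : e.degree = d := by
    rw [Finsupp.degree_eq_weight_one]
    exact hp (mem_support_iff.mp he)
  have hne : e ≠ 0 := by
    rintro rfl
    simp at hdeg
    omega
  obtain ⟨i, hi⟩ : ∃ i, e i ≠ 0 := by
    by_contra h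
    push_neg at h
    exact hne (Finsupp.ext h)
  set e' : Fin (m + 1) →₀ ℕ := e - Finsupp.single i 1 with he'
  have hee : e = Finsupp.single i 1 + e' := by
    ext j
    by_cases hj : j = i
    · subst hj
      simp only [he', Finsupp.coe_add, Finsupp.coe_tsub, Pi.add_apply, Pi.sub_apply,
        Finsupp.single_eq_same]
      omega
    · simp only [he', Finsupp.coe_add, Finsupp.coe_tsub, Pi.add_apply, Pi.sub_apply,
        Finsupp.single_apply, if_neg (Ne.symm hj)]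
      omega
  have hdeg' : 1 + e'.degree = d := by
    rw [← hdeg, hee, map_add, Finsupp.degree_single]
  have hmon : monomial e (coeff e p) = X i * monomial e' (coeff e p) := by
    rw [hee, X, monomial_mul, one_mul]
  rw [hmon, map_mul, ev_X, ← mul_assoc, ← hdeg']
  refine Q_mul 𝒜 s0 t (Q_one 𝒜 s0 t hspan ?_) ⟨_, isHomogeneous_monomial _ rfl, rfl⟩
  simpa using SetLike.mul_mem_graded ha (ht i)

variable (hgen : Subring.closure ((𝒜 0 : Set A) ∪ (𝒜 1 : Set A)) = ⊤)

include ht hspan hgen in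
theorem Q_decompose (x : A) : ∀ d, 0 < d → Q 𝒜 s0 t d (DirectSum.decompose 𝒜 x d : A) := by
  classical
  have hx : x ∈ Subring.closure ((𝒜 0 : Set A) ∪ (𝒜 1 : Set A)) := by rw [hgen]; trivial
  have h0 : ∀ a ∈ 𝒜 0, ∀ d, 0 < d → Q 𝒜 s0 t d (DirectSum.decompose 𝒜 a d : A) := by
    intro a ha d hd
    rw [DirectSum.decompose_of_mem_ne 𝒜 ha (by omega : (0 : ℕ) ≠ d)]
    exact Q_zero 𝒜 s0 t d
  induction hx using Subring.closure_induction with
  | mem a ha =>
    rcases ha with ha | ha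
    · exact h0 a ha
    · intro d hd
      by_cases h1 : d = 1
      · subst h1
        rw [DirectSum.decompose_of_mem_same 𝒜 ha]
        exact Q_one 𝒜 s0 t hspan ha
      · rw [DirectSum.decompose_of_mem_ne 𝒜 ha (Ne.symm h1)]
        exact Q_zero 𝒜 s0 t d
  | zero =>
    intro d hd
    simpa using Q_zero 𝒜 s0 t d
  | one => exact h0 1 SetLike.GradedOne.one_mem
  | add a b _ _ iha ihb =>
    intro d hd
    rw [DirectSum.decompose_add, DirectSum.add_apply, AddSubgroup.coe_add]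
    exact Q_add 𝒜 s0 t (iha d hd) (ihb d hd)
  | neg a _ iha =>
    intro d hd
    rw [DirectSum.decompose_neg, DFinsupp.neg_apply, AddSubgroup.coe_neg]
    exact Q_neg 𝒜 s0 t (iha d hd)
  | mul a b _ _ iha ihb =>
    intro d hd
    rw [DirectSum.decompose_mul, DirectSum.coe_mul_apply_eq_sum_antidiagonal]
    refine Q_sum 𝒜 s0 t _ _ fun ij hij => ?_
    have hsum : ij.1 + ij.2 = d := Finset.HasAntidiagonal.mem_antidiagonal.mp hij
    by_cases hi : ij.1 = 0
    · have : ij.2 = d := by omega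
      rw [this, hi]
      exact Q_smul 𝒜 s0 t ht hspan hd (SetLike.coe_mem _) (ihb d hd)
    · by_cases hj : ij.2 = 0
      · have : ij.1 = d := by omega
        rw [this, hj, mul_comm]
        exact Q_smul 𝒜 s0 t ht hspan hd (SetLike.coe_mem _) (iha d hd)
      · rw [← hsum]
        exact Q_mul 𝒜 s0 t (iha _ (Nat.pos_of_ne_zero hi)) (ihb _ (Nat.pos_of_ne_zero hj))

include ht hspan hgen in
theorem evGr_surj_pos : ∀ d, 0 < d → ∀ b ∈ 𝒜 d,
    ∃ a ∈ CohB1.polyGrading m R d, evGr 𝒜 s0 t ht a = b := by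
  classical
  intro d hd b hb
  obtain ⟨p, hp, hpb⟩ := Q_decompose 𝒜 s0 t ht hspan hgen b d hd
  rw [DirectSum.decompose_of_mem_same 𝒜 hb] at hpb
  exact ⟨p, (mem_homogeneousSubmodule _ _).mpr hp, hpb⟩

include hspan hgen in
theorem irrelevant_le : 𝒜₊ ≤ ((CohB1.polyGrading m R)₊).map (evGr 𝒜 s0 t ht) := by
  rw [HomogeneousIdeal.irrelevant_le]
  intro i hi b hb
  obtain ⟨a, ha, rfl⟩ := evGr_surj_pos 𝒜 s0 t ht hspan hgen i hi b hb
  exact Ideal.mem_map_of_mem _ (HomogeneousIdeal.mem_irrelevant_of_mem _ hi ha)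

end Ring

section Sch

variable {R A : Type u} [CommRing R] [CommRing A] (𝒜 : ℕ → AddSubgroup A) [GradedRing 𝒜]
  (s0 : R →+* 𝒜 0)

/-- `Proj A ⟶ Spec A₀ ⟶ Spec R` is proper when `A` is generated by `A₀ ∪ A₁` and `A₁` is a finite
`R`-module. -/
theorem isProper_toSpecZero_comp
    (hgen : Subring.closure ((𝒜 0 : Set A) ∪ (𝒜 1 : Set A)) = ⊤)
    (T : Finset A) (hT : (↑T : Set A) ⊆ (𝒜 1 : Set A))
    (hspan : ∀ x ∈ 𝒜 1, ∃ c : A → R, x = ∑ t ∈ T, str 𝒜 s0 (c t) * t) :
    IsProper (Proj.toSpecZero 𝒜 ≫ Spec.map (CommRingCat.ofHom s0)) := by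
  classical
  let m := T.card
  let e : T ≃ Fin m := T.equivFin
  let t : Fin (m + 1) → A := Fin.lastCases 0 (fun i => (e.symm i : A))
  have ht : ∀ i, t i ∈ 𝒜 1 := by
    intro i
    refine Fin.lastCases ?_ (fun j => ?_) i
    · simp only [t, Fin.lastCases_last]
      exact zero_mem _
    · simp only [t, Fin.lastCases_castSucc]
      exact hT (e.symm j).2
  have hspan' : ∀ x ∈ 𝒜 1, ∃ c : Fin (m + 1) → R, x = ∑ i, str 𝒜 s0 (c i) * t i := by
    intro x hx
    obtain ⟨c, rfl⟩ := hspan x hx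
    refine ⟨Fin.lastCases 0 (fun i => c (e.symm i)), ?_⟩
    rw [Fin.sum_univ_castSucc]
    simp only [t, Fin.lastCases_last, Fin.lastCases_castSucc, mul_zero, add_zero]
    rw [← Finset.sum_coe_sort T]
    exact (Equiv.sum_comp e.symm fun i : T => str 𝒜 s0 (c i) * (i : A)).symm
  have hirr := irrelevant_le 𝒜 s0 t ht hspan' hgen
  have hci : IsClosedImmersion (Proj.map (evGr 𝒜 s0 t ht) hirr) :=
    Groth.Agent.Helper13RelProj.isClosedImmersion_map_of_surjective_pos _ hirr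
      (evGr_surj_pos 𝒜 s0 t ht hspan' hgen)
  have hfac : Proj.toSpecZero 𝒜 ≫ Spec.map (CommRingCat.ofHom s0) =
      Proj.map (evGr 𝒜 s0 t ht) hirr ≫ (Proj.toSpecZero (CohB1.polyGrading m R) ≫
        Spec.map (CommRingCat.ofHom (algebraMap R (CohB1.polyGrading m R 0)))) := by
    rw [← Category.assoc, Groth.Agent.Helper13RelProj.map_toSpecZero (evGr 𝒜 s0 t ht) hirr,
      Category.assoc, ← Spec.map_comp]
    congr 2
    refine CommRingCat.hom_ext (RingHom.ext fun r => Subtype.ext ?_)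
    change (s0 r : A) = ev 𝒜 s0 t (C r)
    rw [ev_C]
    rfl
  rw [hfac]
  have h3 : IsProper (Proj.map (evGr 𝒜 s0 t ht) hirr) := inferInstance
  exact MorphismProperty.comp_mem @IsProper _ _ h3
    (Groth.Agent.S9705.isProper_projSpace_toSpec m R)

end Sch

/-- the relative homogeneous spectrum of a quasi-coherent graded algebra generated in degree one
with degree one part of finite type is proper over the base. -/
theorem isProper_of_isRelProj {Y P : Scheme.{u}} (𝒮 : RelProj.QCGrAlg Y) (p : P ⟶ Y)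
    (chart : ∀ (U : Y.Opens) (hU : IsAffineOpen U),
      ((p ⁻¹ᵁ U : P.Opens) : Scheme.{u}) ≅ Proj (𝒮.deg U hU))
    (hp : RelProj.IsRelProj 𝒮 p chart) (hgen : 𝒮.IsGenDegOne) (hft : 𝒮.IsFTDeg 1) :
    IsProper p := by
  rw [IsZariskiLocalAtTarget.iff_of_iSup_eq_top (P := @IsProper) _ (iSup_affineOpens_eq_top Y)]
  intro U
  have h1 : (p ∣_ U.1) = (chart U.1 U.2).hom ≫ (Proj.toSpecZero (𝒮.deg U.1 U.2) ≫
      Spec.map (𝒮.strZero U.1 U.2)) ≫ U.2.isoSpec.inv := by
    rw [← cancel_mono U.1.ι, morphismRestrict_ι, ← hp.chart_over U.1 U.2]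
    simp only [Category.assoc, IsAffineOpen.isoSpec_inv_ι]
  rw [h1]
  obtain ⟨T, hT, hspan⟩ := hft U.1 U.2
  have h2 : IsProper (Proj.toSpecZero (𝒮.deg U.1 U.2) ≫ Spec.map (𝒮.strZero U.1 U.2)) :=
    isProper_toSpecZero_comp (𝒮.deg U.1 U.2) (𝒮.strZero U.1 U.2).hom (hgen U.1 U.2) T hT hspan
  infer_instance

/-- projective morphisms are proper. -/
theorem isProper_of_isProjective {X S : Scheme.{u}} (f : X ⟶ S) (h : RelProj.IsProjective f) :
    IsProper f := by
  obtain ⟨𝒮, P, p, chart, e, hgen, hft, hrel, he⟩ := h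
  have := isProper_of_isRelProj 𝒮 p chart hrel hgen hft
  rw [← he]
  infer_instance

end Groth.Agent.Lib.R2LeadProjProper
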