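import Mathlib
import Groth.Agent.Lib.R2LeadProjProper
import Groth.Agent.Lib.R2LeadHProjB

/-!
# Projective morphisms are H-projective over affine opens of the base (lead)
-/

set_option autoImplicit false
set_option linter.unusedSectionVars false
universe u
open CategoryTheory CategoryTheory.Limits AlgebraicGeometry TopologicalSpace Opposite
open scoped HomogeneousIdeal

namespace Groth.Agent.Lib.R2LeadLocProj

open Groth.Agent.Lib.R2LeadProjProper Groth.Agent.Lib.R2LeadHProj0 Groth.Agent.Lib.R2LeadHProjB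

section Sch

variable {R A : Type u} [CommRing R] [CommRing A] (𝒜 : ℕ → AddSubgroup A) [GradedRing 𝒜]
  (s0 : R →+* 𝒜 0)

/-- `Proj A` is a closed subscheme of a projective space over `R` when `A` is generated by
`A₀ ∪ A₁` and `A₁` is a finite `R`-module. -/
theorem exists_closedImmersion
    (hgen : Subring.closure ((𝒜 0 : Set A) ∪ (𝒜 1 : Set A)) = ⊤)
    (T : Finset A) (hT : (↑T : Set A) ⊆ (𝒜 1 : Set A))
    (hspan : ∀ x ∈ 𝒜 1, ∃ c : A → R, x = ∑ t ∈ T, str 𝒜 s0 (c t) * t) :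
    ∃ (m : ℕ) (c : Proj 𝒜 ⟶ CohB1.ProjSpace m R), IsClosedImmersion c ∧
      c ≫ CohB1.ProjSpace.toSpec m R =
        Proj.toSpecZero 𝒜 ≫ Spec.map (CommRingCat.ofHom s0) := by
  classical
  let m := T.card
  let e : T ≃ Fin m := T.equivFin
  let t : Fin (m + 1) → A := Fin.lastCases 0 (fun i => (e.symm i : A))
  have ht : ∀ i, t i ∈ 𝒜 1 := by
    intro i
    refine Fin.lastCases ?_ (fun j => ?_) i
    · simp only [t, Fin.lastCases_last]
      exact zero_mem _
    · simp only [t, Fin.lastCases_castSucc]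
      exact hT (e.symm j).2
  have hspan' : ∀ x ∈ 𝒜 1, ∃ c : Fin (m + 1) → R, x = ∑ i, str 𝒜 s0 (c i) * t i := by
    intro x hx
    obtain ⟨c, rfl⟩ := hspan x hx
    refine ⟨Fin.lastCases 0 (fun i => c (e.symm i)), ?_⟩
    rw [Fin.sum_univ_castSucc]
    simp only [t, Fin.lastCases_last, Fin.lastCases_castSucc, mul_zero, add_zero]
    rw [← Finset.sum_coe_sort T]
    exact (Equiv.sum_comp e.symm fun i : T => str 𝒜 s0 (c i) * (i : A)).symm
  have hirr := irrelevant_le 𝒜 s0 t ht hspan' hgen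
  have hci : IsClosedImmersion (Proj.map (evGr 𝒜 s0 t ht) hirr) :=
    Groth.Agent.Helper13RelProj.isClosedImmersion_map_of_surjective_pos _ hirr
      (evGr_surj_pos 𝒜 s0 t ht hspan' hgen)
  refine ⟨m, Proj.map (evGr 𝒜 s0 t ht) hirr, hci, ?_⟩
  change Proj.map (evGr 𝒜 s0 t ht) hirr ≫ (Proj.toSpecZero (CohB1.polyGrading m R) ≫
      Spec.map (CommRingCat.ofHom (algebraMap R (CohB1.polyGrading m R 0)))) = _
  rw [← Category.assoc, Groth.Agent.Helper13RelProj.map_toSpecZero (evGr 𝒜 s0 t ht) hirr,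
    Category.assoc, ← Spec.map_comp]
  congr 2
  refine CommRingCat.hom_ext (RingHom.ext fun r => Subtype.ext ?_)
  change ev 𝒜 s0 t (MvPolynomial.C r) = (s0 r : A)
  rw [ev_C]
  rfl

end Sch

/-- a projective morphism is H-projective over every affine open of the base. -/
theorem isHProjective_restrict_of_isProjective {X Y : Scheme.{u}} (f : X ⟶ Y)
    (hf : RelProj.IsProjective f) (V : Y.Opens) (hV : IsAffineOpen V) :
    RelProj.IsHProjective (f ∣_ V) := by
  obtain ⟨𝒮, P, p, chart, e, hgen, hft, hrel, he⟩ := hf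
  subst he
  obtain ⟨T, hT, hspan⟩ := hft V hV
  obtain ⟨m, c, hc, hcfac⟩ := exists_closedImmersion (𝒮.deg V hV) (𝒮.strZero V hV).hom
    (hgen V hV) T hT hspan
  let g : Spec Γ(Y, V) ⟶ V.toScheme := hV.isoSpec.inv
  have hg : g ≫ V.ι = hV.fromSpec := hV.isoSpec_inv_ι
  have hα : IsIso (a m Γ(Y, V) g) := (isPullback_a m Γ(Y, V) g).isIso_fst_of_isIso
  have hpre : e.hom ⁻¹ᵁ (p ⁻¹ᵁ V) = (e.hom ≫ p) ⁻¹ᵁ V := by
    rw [← Scheme.Hom.comp_preimage]
  obtain ⟨ε, hεiso, hε⟩ : ∃ ε : ((e.hom ≫ p) ⁻¹ᵁ V).toScheme ⟶ (p ⁻¹ᵁ V).toScheme,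
      IsIso ε ∧ ε ≫ (p ⁻¹ᵁ V).ι = ((e.hom ≫ p) ⁻¹ᵁ V).ι ≫ e.hom := by
    refine ⟨(Scheme.isoOfEq X hpre).inv ≫ (e.hom ∣_ (p ⁻¹ᵁ V)), inferInstance, ?_⟩
    simp only [Category.assoc, morphismRestrict_ι]
    rw [← Category.assoc, Scheme.isoOfEq_inv_ι]
  refine ⟨m, ε ≫ (chart V hV).hom ≫ c ≫ a m Γ(Y, V) g, ?_, ?_⟩
  · infer_instance
  · rw [← cancel_mono V.ι]
    simp only [Category.assoc]
    rw [morphismRestrict_ι, ← Category.assoc ((e.hom ≫ p) ⁻¹ᵁ V).ι, ← hε, Category.assoc,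
      ← hrel.chart_over V hV]
    congr 2
    rw [← Category.assoc (a m Γ(Y, V) g), a_toBase, Category.assoc, hg, ← Category.assoc c,
      hcfac, Category.assoc]
    rfl

/-- H-projectivity is invariant under isomorphisms of arrows. -/
theorem isHProjective_of_arrow_iso {A B A' B' : Scheme.{u}} (g : A ⟶ B) (g' : A' ⟶ B')
    (φ : Arrow.mk g ≅ Arrow.mk g') (h : RelProj.IsHProjective g) : RelProj.IsHProjective g' := by
  obtain ⟨n, i, hi, hig⟩ := h
  let α : A ⟶ A' := φ.hom.left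
  let β : B ⟶ B' := φ.hom.right
  haveI : IsIso α := inferInstanceAs (IsIso φ.hom.left)
  haveI : IsIso β := inferInstanceAs (IsIso φ.hom.right)
  have hw : α ≫ g' = g ≫ β := φ.hom.w
  have h1 : ∀ {C D : Scheme.{u}} (γ : C ⟶ D), fstZ n C ≫ CohB1.ProjSpace.toSpec n (ULift.{u} ℤ) =
      (CohB1.ProjSpaceOver.toBase n C ≫ γ) ≫ specULiftZIsTerminal.from D := by
    intro C D γ
    rw [fstZ_toSpec, Category.assoc]
    congr 1
    exact specULiftZIsTerminal.hom_ext _ _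
  let ψ : CohB1.ProjSpaceOver n B ⟶ CohB1.ProjSpaceOver n B' :=
    liftOver n (fstZ n B) (CohB1.ProjSpaceOver.toBase n B ≫ β) (h1 β)
  let ψ' : CohB1.ProjSpaceOver n B' ⟶ CohB1.ProjSpaceOver n B :=
    liftOver n (fstZ n B') (CohB1.ProjSpaceOver.toBase n B' ≫ inv β) (h1 (inv β))
  have hψ1 : ψ ≫ fstZ n B' = fstZ n B := liftOver_fstZ n _ _ _
  have hψ2 : ψ ≫ CohB1.ProjSpaceOver.toBase n B' = CohB1.ProjSpaceOver.toBase n B ≫ β :=
    liftOver_toBase n _ _ _
  have hψ'1 : ψ' ≫ fstZ n B = fstZ n B' := liftOver_fstZ n _ _ _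
  have hψ'2 : ψ' ≫ CohB1.ProjSpaceOver.toBase n B = CohB1.ProjSpaceOver.toBase n B' ≫ inv β :=
    liftOver_toBase n _ _ _
  haveI : IsIso ψ := by
    refine ⟨ψ', ?_, ?_⟩
    · apply hom_ext_over
      · rw [Category.assoc, hψ'1, hψ1, Category.id_comp]
      · rw [Category.assoc, hψ'2, ← Category.assoc, hψ2, Category.assoc, IsIso.hom_inv_id,
          Category.comp_id, Category.id_comp]
    · apply hom_ext_over
      · rw [Category.assoc, hψ1, hψ'1, Category.id_comp]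
      · rw [Category.assoc, hψ2, ← Category.assoc, hψ'2, Category.assoc, IsIso.inv_hom_id,
          Category.comp_id, Category.id_comp]
  refine ⟨n, inv α ≫ i ≫ ψ, inferInstance, ?_⟩
  rw [Category.assoc, Category.assoc, hψ2, ← Category.assoc i, hig, ← hw, IsIso.inv_hom_id_assoc]

end Groth.Agent.Lib.R2LeadLocProj
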