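import Mathlib
import Groth.Prelude.Def_DRing2

set_option autoImplicit false
universe u
open CategoryTheory CategoryTheory.Limits

namespace Groth.Agent.Lib.R2Lead.MinCx

open IsLocalRing TensorProduct

variable {R : Type u} [CommRing R] [IsLocalRing R]

/-- Lemma 1: splitting off the "unit part" of a linear map into a finite free module. -/
theorem exists_split_data {M N : Type u} [AddCommGroup M] [Module R M] [AddCommGroup N] [Module R N]
    [Module.Finite R N] [Module.Free R N] (d : M →ₗ[R] N) :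
    ∃ (n : ℕ) (x : (Fin n → R) →ₗ[R] M) (ρ : N →ₗ[R] (Fin n → R)),
      ρ ∘ₗ d ∘ₗ x = LinearMap.id ∧
      ∀ e : M, d e ∈ LinearMap.range (d ∘ₗ x) ⊔ maximalIdeal R • (⊤ : Submodule R N) := by
  classical
  let k := ResidueField R
  let S : Set (k ⊗[R] N) := Set.range (fun e : M => (1 : k) ⊗ₜ[R] d e)
  obtain ⟨b, hbS, hspan, hli⟩ := exists_linearIndependent k S
  have hfin : b.Finite := hli.setFinite
  have : Fintype b := hfin.fintype
  let n := Fintype.card b
  let σ : Fin n ≃ b := (Fintype.equivFin b).symm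
  have hch : ∀ v : b, ∃ e : M, (1 : k) ⊗ₜ[R] d e = (v : k ⊗[R] N) := fun v => hbS v.2
  choose ee hee using hch
  let e : Fin n → M := fun j => ee (σ j)
  let w : Fin n → k ⊗[R] N := fun j => (1 : k) ⊗ₜ[R] d (e j)
  have hw : ∀ j, w j = (σ j : k ⊗[R] N) := fun j => hee (σ j)
  have hwli : LinearIndependent k w := by
    have : w = (fun v : b => (v : k ⊗[R] N)) ∘ σ := by
      funext j; exact hw j
    rw [this]
    exact hli.comp σ σ.injective
  have hwspan : Submodule.span k (Set.range w) = Submodule.span k S := by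
    rw [← hspan]
    congr 1
    ext v
    constructor
    · rintro ⟨j, rfl⟩
      rw [hw j]; exact (σ j).2
    · intro hv
      exact ⟨σ.symm ⟨v, hv⟩, by rw [hw]; simp⟩
  let x : (Fin n → R) →ₗ[R] M := Fintype.linearCombination R e
  let l : (Fin n → R) →ₗ[R] N := d ∘ₗ x
  have hinj : Function.Injective (l.lTensor k) := by
    let Ψ : (Fin n → k) →ₗ[k] k ⊗[R] N := Fintype.linearCombination k w
    have hΨ : Function.Injective Ψ := hwli.fintypeLinearCombination_injective
    have hcomp : l.lTensor k = (Ψ.restrictScalars R) ∘ₗ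
        ((TensorProduct.piScalarRight R k k (Fin n)).toLinearMap.restrictScalars R) := by
      apply TensorProduct.ext'
      intro a f
      simp only [LinearMap.lTensor_tmul, LinearMap.coe_comp, LinearMap.coe_restrictScalars,
        LinearEquiv.coe_coe, Function.comp_apply, TensorProduct.piScalarRight_apply,
        TensorProduct.piScalarRightHom_tmul]
      show a ⊗ₜ[R] d (Fintype.linearCombination R e f) = Fintype.linearCombination k w _
      rw [Fintype.linearCombination_apply, Fintype.linearCombination_apply, map_sum,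
        TensorProduct.tmul_sum]
      refine Finset.sum_congr rfl fun j _ => ?_
      rw [map_smul, TensorProduct.tmul_smul, TensorProduct.smul_tmul']
      show _ = (f j • a) • ((1 : k) ⊗ₜ[R] d (e j))
      rw [TensorProduct.smul_tmul', smul_eq_mul, mul_one]
    rw [hcomp]
    exact hΨ.comp (TensorProduct.piScalarRight R k k (Fin n)).injective
  obtain ⟨ρ, hρ⟩ := (IsLocalRing.split_injective_iff_lTensor_residueField_injective l).2 hinj
  refine ⟨n, x, ρ, hρ, fun m => ?_⟩
  have hmem : (1 : k) ⊗ₜ[R] d m ∈ Submodule.span k (Set.range w) := by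
    rw [hwspan]
    exact Submodule.subset_span ⟨m, rfl⟩
  obtain ⟨c, hc⟩ := (Submodule.mem_span_range_iff_exists_fun k).1 hmem
  have hsurj : ∀ j, ∃ r : R, residue R r = c j := fun j => residue_surjective (c j)
  choose r hr using hsurj
  have hker : d m - l r ∈ maximalIdeal R • (⊤ : Submodule R N) := by
    rw [← LinearMap.ker_tensorProductMk (I := maximalIdeal R) (Q := N), LinearMap.mem_ker]
    show (1 : k) ⊗ₜ[R] (d m - l r) = 0
    rw [TensorProduct.tmul_sub, ← hc, sub_eq_zero]
    show _ = (1 : k) ⊗ₜ[R] d (Fintype.linearCombination R e r)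
    rw [Fintype.linearCombination_apply, map_sum, TensorProduct.tmul_sum]
    refine Finset.sum_congr rfl fun j _ => ?_
    rw [map_smul, TensorProduct.tmul_smul, ← hr j]
    exact algebraMap_smul k (r j) ((1 : k) ⊗ₜ[R] d (e j))
  have : d m = l r + (d m - l r) := by abel
  rw [this]
  exact Submodule.add_mem_sup ⟨r, rfl⟩ hker


/-- splitting data for all differentials of `E` -/
structure SplitData (E : DRing.Cx R) where
  n : ℤ → ℤ → ℕ
  x : ∀ i j, (Fin (n i j) → R) →ₗ[R] E.X i
  ρ : ∀ i j, E.X j →ₗ[R] (Fin (n i j) → R)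
  h1 : ∀ i j, ρ i j ∘ₗ (E.d i j).hom ∘ₗ x i j = LinearMap.id
  h2 : ∀ i j (e : E.X i), (E.d i j).hom e ∈
    LinearMap.range ((E.d i j).hom ∘ₗ x i j) ⊔ maximalIdeal R • (⊤ : Submodule R (E.X j))

theorem nonempty_splitData (E : DRing.Cx R) (hE : DRing.TermwiseFiniteFree E) :
    Nonempty (SplitData E) := by
  have : ∀ i j : ℤ, ∃ (n : ℕ) (x : (Fin n → R) →ₗ[R] E.X i) (ρ : E.X j →ₗ[R] (Fin n → R)),
      ρ ∘ₗ (E.d i j).hom ∘ₗ x = LinearMap.id ∧
      ∀ e : E.X i, (E.d i j).hom e ∈
        LinearMap.range ((E.d i j).hom ∘ₗ x) ⊔ maximalIdeal R • (⊤ : Submodule R (E.X j)) := by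
    intro i j
    have := (hE j).1
    have := (hE j).2
    exact exists_split_data _
  choose n x ρ h1 h2 using this
  exact ⟨⟨n, x, ρ, h1, h2⟩⟩

lemma dd (E : DRing.Cx R) (i j k : ℤ) (e : E.X i) : (E.d j k).hom ((E.d i j).hom e) = 0 := by
  have := E.d_comp_d i j k
  exact LinearMap.congr_fun (congrArg ModuleCat.Hom.hom this) e

namespace SplitData

variable {E : DRing.Cx R} (D : SplitData E)

lemma ρ_d_x (i j : ℤ) (a : Fin (D.n i j) → R) : D.ρ i j ((E.d i j).hom (D.x i j a)) = a :=
  LinearMap.congr_fun (D.h1 i j) a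

/-- `u i = x ρ d : E.X i → E.X i` -/
noncomputable def u (i : ℤ) : E.X i →ₗ[R] E.X i :=
  D.x i (i + 1) ∘ₗ D.ρ i (i + 1) ∘ₗ (E.d i (i + 1)).hom

/-- `v j = d x ρ : E.X j → E.X j` -/
noncomputable def v (j : ℤ) : E.X j →ₗ[R] E.X j :=
  (E.d (j - 1) j).hom ∘ₗ D.x (j - 1) j ∘ₗ D.ρ (j - 1) j

lemma u_u (i : ℤ) (e : E.X i) : D.u i (D.u i e) = D.u i e := by
  simp only [u, LinearMap.coe_comp, Function.comp_apply, ρ_d_x]

lemma v_v (j : ℤ) (e : E.X j) : D.v j (D.v j e) = D.v j e := by
  simp only [v, LinearMap.coe_comp, Function.comp_apply, ρ_d_x]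

lemma u_v (j : ℤ) (e : E.X j) : D.u j (D.v j e) = 0 := by
  simp only [u, v, LinearMap.coe_comp, Function.comp_apply, dd, map_zero]

lemma u_d (i j : ℤ) (e : E.X i) : D.u j ((E.d i j).hom e) = 0 := by
  simp only [u, LinearMap.coe_comp, Function.comp_apply, dd, map_zero]

/-- the homotopy -/
noncomputable def hh : ∀ i j, (ComplexShape.up ℤ).Rel j i → (E.X i ⟶ E.X j) :=
  fun i j _ => ModuleCat.ofHom (D.x j i ∘ₗ D.ρ j i ∘ₗ (LinearMap.id - D.u i))

/-- the null-homotopic idempotent -/
noncomputable def θ : E ⟶ E := Homotopy.nullHomotopicMap' D.hh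

noncomputable def θ_homotopy : Homotopy D.θ 0 := Homotopy.nullHomotopy' D.hh

lemma θ_f (j : ℤ) (e : E.X j) : (D.θ.f j).hom e = D.u j e + D.v j (e - D.u j e) := by
  have h := Homotopy.nullHomotopicMap'_f (show (ComplexShape.up ℤ).Rel (j - 1) j by simp)
    (show (ComplexShape.up ℤ).Rel j (j + 1) by simp) D.hh
  have h' : (D.θ.f j).hom = (E.d j (j + 1) ≫ D.hh (j + 1) j (by simp) +
      D.hh j (j - 1) (by simp) ≫ E.d (j - 1) j).hom := congrArg ModuleCat.Hom.hom h
  rw [h']
  simp only [hh, ModuleCat.hom_add, ModuleCat.hom_comp, ModuleCat.hom_ofHom, LinearMap.add_apply,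
    LinearMap.coe_comp, Function.comp_apply, LinearMap.sub_apply, LinearMap.id_coe, id_eq, u_d,
    sub_zero]
  rfl

lemma θ_θ (j : ℤ) (e : E.X j) : (D.θ.f j).hom ((D.θ.f j).hom e) = (D.θ.f j).hom e := by
  rw [θ_f, θ_f]
  have h1 : D.u j (D.u j e + D.v j (e - D.u j e)) = D.u j e := by
    rw [map_add, u_u, u_v, add_zero]
  rw [h1, add_sub_cancel_left, v_v]

lemma θ_d_x (j : ℤ) (a : Fin (D.n (j - 1) j) → R) :
    (D.θ.f j).hom ((E.d (j - 1) j).hom (D.x (j - 1) j a)) = (E.d (j - 1) j).hom (D.x (j - 1) j a) := by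
  rw [θ_f, u_d, sub_zero, zero_add]
  simp only [v, LinearMap.coe_comp, Function.comp_apply, ρ_d_x]

/-- the contractible subcomplex -/
noncomputable def T (i : ℤ) : Submodule R (E.X i) := LinearMap.range (D.θ.f i).hom

lemma d_mem_T (i j : ℤ) : D.T i ≤ (D.T j).comap (E.d i j).hom := by
  rintro _ ⟨e, rfl⟩
  refine ⟨(E.d i j).hom e, ?_⟩
  have := D.θ.comm i j
  exact (LinearMap.congr_fun (congrArg ModuleCat.Hom.hom this) e).symm

lemma T_le_ker (i : ℤ) : D.T i ≤ LinearMap.ker (LinearMap.id - (D.θ.f i).hom) := by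
  rintro _ ⟨e, rfl⟩
  simp only [LinearMap.mem_ker, LinearMap.sub_apply, LinearMap.id_coe, id_eq, θ_θ, sub_self]

/-- the minimal quotient complex -/
noncomputable def P : DRing.Cx R where
  X i := ModuleCat.of R (E.X i ⧸ D.T i)
  d i j := ModuleCat.ofHom ((D.T i).mapQ (D.T j) (E.d i j).hom (D.d_mem_T i j))
  shape i j hij := by
    apply ModuleCat.hom_ext
    apply Submodule.linearMap_qext
    ext e
    simp [E.shape i j hij]
  d_comp_d' i j k _ _ := by
    apply ModuleCat.hom_ext
    apply Submodule.linearMap_qext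
    ext e
    simp [dd]

/-- the projection -/
noncomputable def π : E ⟶ D.P where
  f i := ModuleCat.ofHom (D.T i).mkQ
  comm' i j _ := by
    apply ModuleCat.hom_ext
    ext e
    rfl

/-- the section -/
noncomputable def σ : D.P ⟶ E where
  f i := ModuleCat.ofHom ((D.T i).liftQ (LinearMap.id - (D.θ.f i).hom) (D.T_le_ker i))
  comm' i j _ := by
    apply ModuleCat.hom_ext
    apply Submodule.linearMap_qext
    ext e
    have := D.θ.comm i j
    have h2 := LinearMap.congr_fun (congrArg ModuleCat.Hom.hom this) e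
    simp only [ModuleCat.hom_comp, LinearMap.coe_comp, Function.comp_apply] at h2
    simp [P, h2]

lemma σ_π : D.σ ≫ D.π = 𝟙 D.P := by
  ext i : 1
  apply ModuleCat.hom_ext
  apply Submodule.linearMap_qext
  ext e
  simp only [HomologicalComplex.comp_f, ModuleCat.hom_comp, LinearMap.coe_comp, Function.comp_apply,
    HomologicalComplex.id_f, ModuleCat.hom_id, LinearMap.id_coe, id_eq]
  show Submodule.Quotient.mk (e - (D.θ.f i).hom e) = Submodule.Quotient.mk e
  rw [Submodule.Quotient.eq]
  simp only [sub_sub_cancel_left]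
  exact (D.T i).neg_mem ⟨e, rfl⟩

lemma π_σ : D.π ≫ D.σ = 𝟙 E - D.θ := by
  ext i : 1
  apply ModuleCat.hom_ext
  ext e
  rfl

/-- `E` is homotopy equivalent to its minimal quotient. -/
noncomputable def homotopyEquiv : HomotopyEquiv E D.P where
  hom := D.π
  inv := D.σ
  homotopyHomInvId := by
    have h : Homotopy (𝟙 E - (𝟙 E - D.θ)) 0 := by
      rw [sub_sub_cancel]
      exact D.θ_homotopy
    exact (Homotopy.ofEq D.π_σ).trans (Homotopy.equivSubZero.symm h).symm
  homotopyInvHomId := Homotopy.ofEq D.σ_π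

instance quasiIso_π : QuasiIso D.π := by
  have : QuasiIso D.homotopyEquiv.hom := inferInstance
  exact this

lemma finite_P (hE : DRing.TermwiseFiniteFree E) (i : ℤ) : Module.Finite R (D.P.X i) := by
  have := (hE i).1
  exact Module.Finite.quotient R (D.T i)

lemma free_P (hE : DRing.TermwiseFiniteFree E) (i : ℤ) : Module.Free R (D.P.X i) := by
  have := (hE i).1
  have := (hE i).2
  have : Module.Finite R (D.P.X i) := D.finite_P hE i
  have : Module.Projective R (D.P.X i) := by
    refine Module.Projective.of_split (D.σ.f i).hom (D.π.f i).hom ?_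
    have := congrArg ModuleCat.Hom.hom (HomologicalComplex.congr_hom D.σ_π i)
    simpa using this
  exact Module.free_of_flat_of_isLocalRing

lemma vanishesAbove_P (b : ℤ) (hb : DRing.VanishesAbove E b) : DRing.VanishesAbove D.P b := by
  intro i hi
  have h0 : Subsingleton (E.X i) := ModuleCat.subsingleton_of_isZero (hb i hi)
  have : Subsingleton (E.X i ⧸ D.T i) := by
    refine ⟨fun a b => ?_⟩
    obtain ⟨a, rfl⟩ := Submodule.Quotient.mk_surjective _ a
    obtain ⟨b, rfl⟩ := Submodule.Quotient.mk_surjective _ b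
    rw [Subsingleton.elim a b]
  show IsZero (ModuleCat.of R (E.X i ⧸ D.T i))
  exact ModuleCat.isZero_of_subsingleton _

lemma minimal_P (i j : ℤ) : LinearMap.range (D.P.d i j).hom ≤
    maximalIdeal R • (⊤ : Submodule R (D.P.X j)) := by
  by_cases hij : i + 1 = j
  · obtain rfl : i = j - 1 := by omega
    rintro _ ⟨p, rfl⟩
    obtain ⟨e, rfl⟩ := Submodule.Quotient.mk_surjective _ p
    show Submodule.Quotient.mk ((E.d (j - 1) j).hom e) ∈ _
    have h2 := D.h2 (j - 1) j e
    obtain ⟨y, ⟨a, rfl⟩, z, hz, hyz⟩ := Submodule.mem_sup.1 h2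
    rw [← hyz, Submodule.Quotient.mk_add]
    have h0 : (Submodule.Quotient.mk (((E.d (j - 1) j).hom ∘ₗ D.x (j - 1) j) a) :
        E.X j ⧸ D.T j) = 0 := by
      rw [Submodule.Quotient.mk_eq_zero]
      exact ⟨_, D.θ_d_x j a⟩
    rw [h0, zero_add]
    exact Submodule.smul_top_le_comap_smul_top (maximalIdeal R) (D.T j).mkQ hz
  · have : D.P.d i j = 0 := D.P.shape i j hij
    rw [this]
    rintro _ ⟨p, rfl⟩
    simp

end SplitData

/-- **Minimal model.** A bounded above complex of finite free modules over a local ring is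
homotopy equivalent (via a surjection) to a minimal one. -/
theorem exists_minimal (E : DRing.Cx R) (b : ℤ) (hb : DRing.VanishesAbove E b)
    (hE : DRing.TermwiseFiniteFree E) :
    ∃ (P : DRing.Cx R) (π : E ⟶ P), DRing.VanishesAbove P b ∧ DRing.TermwiseFiniteFree P ∧
      QuasiIso π ∧ ∀ i j, LinearMap.range (P.d i j).hom ≤
        maximalIdeal R • (⊤ : Submodule R (P.X j)) := by
  obtain ⟨D⟩ := nonempty_splitData E hE
  exact ⟨D.P, D.π, D.vanishesAbove_P b hb, fun i => ⟨D.finite_P hE i, D.free_P hE i⟩,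
    inferInstance, D.minimal_P⟩

end Groth.Agent.Lib.R2Lead.MinCx
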