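import Mathlib
import Groth.Agent.Lib.R2LeadMinCxA
import Groth.Agent.Lib.Helper1LBC
import Groth.Agent.Lib.Helper1Cone
import Groth.Agent.Lib.Helper13MinCx

set_option autoImplicit false
universe u
open CategoryTheory CategoryTheory.Limits

attribute [local instance] HasDerivedCategory.standard

namespace Groth.Agent.Lib.R2Lead.MinCx

open IsLocalRing TensorProduct DerivedCategory

variable {R : Type u} [CommRing R] [IsLocalRing R]

/-- For a homotopy `h : φ ∼ 𝟙` on a minimal cochain complex, `φ x - x ∈ 𝔪 P^i`. -/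
theorem homotopy_sub_mem {P : DRing.Cx R}
    (hmin : ∀ i j, LinearMap.range (P.d i j).hom ≤
      maximalIdeal R • (⊤ : Submodule R (P.X j)))
    (φ : P ⟶ P) (h : Homotopy φ (𝟙 P)) (i : ℤ) (x : P.X i) :
    (φ.f i).hom x - x ∈ maximalIdeal R • (⊤ : Submodule R (P.X i)) := by
  have hc := h.comm i
  rw [dNext_eq h.hom (show (ComplexShape.up ℤ).Rel i (i + 1) by simp),
    prevD_eq h.hom (show (ComplexShape.up ℤ).Rel (i - 1) i by simp)] at hc
  have hx : (φ.f i).hom x = (h.hom (i + 1) i).hom ((P.d i (i + 1)).hom x) +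
      (P.d (i - 1) i).hom ((h.hom i (i - 1)).hom x) + x := by
    rw [hc]
    rfl
  rw [hx, add_sub_cancel_right]
  apply Submodule.add_mem
  · exact Submodule.smul_top_le_comap_smul_top _ _ (hmin _ _ (LinearMap.mem_range_self _ x))
  · exact hmin _ _ (LinearMap.mem_range_self _ _)

/-- A bounded above complex of finite free modules which is isomorphic in `D(R)` to a minimal one
with the same ranks is isomorphic to it as a complex. -/
theorem iso_of_minimal (P P₀ : DRing.Cx R) (b b₀ : ℤ) (hPb : DRing.VanishesAbove P b)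
    (hP : DRing.TermwiseFiniteFree P) (hP₀b : DRing.VanishesAbove P₀ b₀)
    (hP₀ : DRing.TermwiseFiniteFree P₀)
    (hmin : ∀ i j, LinearMap.range (P₀.d i j).hom ≤
      maximalIdeal R • (⊤ : Submodule R (P₀.X j)))
    (hrank : ∀ i, Module.finrank R (P.X i) = Module.finrank R (P₀.X i))
    (e : DRing.toD P ≅ DRing.toD P₀) : Nonempty (P ≅ P₀) := by
  haveI : P.IsKProjective := Groth.Agent.Lib.Helper1.LDer.isKProjective_of_vanishesAbove P b hPb
    (fun i => by
      have := (hP i).2
      exact Module.Projective.of_free)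
  haveI : P₀.IsKProjective := Groth.Agent.Lib.Helper1.LDer.isKProjective_of_vanishesAbove P₀ b₀ hP₀b
    (fun i => by
      have := (hP₀ i).2
      exact Module.Projective.of_free)
  obtain ⟨f, hf⟩ := Groth.Agent.Lib.Helper1.Cone.exists_chain_map P P₀ e.hom
  have hiso : IsIso (Q.map f) := by rw [hf]; infer_instance
  have hq : QuasiIso f := (isIso_Q_map_iff_quasiIso (φ := f)).1 hiso
  obtain ⟨he, rfl⟩ := (CochainComplex.IsKProjective.quasiIso_iff f).1 hq
  have hbij : ∀ i, Function.Bijective (he.hom.f i).hom := by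
    intro i
    have := (hP i).1
    have := (hP i).2
    have := (hP₀ i).1
    have := (hP₀ i).2
    have h1 : Function.Bijective ((he.inv ≫ he.hom).f i).hom :=
      Groth.Agent.Helper13MinCx.bijective_of_sub_mem _
        (fun x => homotopy_sub_mem hmin _ he.homotopyInvHomId i x)
    have hsurj : Function.Surjective (he.hom.f i).hom := by
      intro y
      obtain ⟨z, hz⟩ := h1.2 y
      exact ⟨(he.inv.f i).hom z, hz⟩
    obtain ⟨g⟩ := FiniteDimensional.nonempty_linearEquiv_of_finrank_eq (hrank i).symm
    have hs2 : Function.Surjective ((he.hom.f i).hom ∘ₗ g.toLinearMap) :=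
      hsurj.comp g.surjective
    have hi2 := OrzechProperty.injective_of_surjective_endomorphism _ hs2
    refine ⟨fun a a' haa' => ?_, hsurj⟩
    have : g.symm a = g.symm a' := hi2 (by simpa using haa')
    exact g.symm.injective this
  haveI : ∀ i, IsIso (he.hom.f i) := fun i =>
    (ConcreteCategory.isIso_iff_bijective _).2 (hbij i)
  haveI : IsIso he.hom := HomologicalComplex.Hom.isIso_of_components he.hom
  exact ⟨asIso he.hom⟩


open ChangeOfRings in
lemma tmul_eq_zero_of_mem {N : ModuleCat.{u} R} (s : ResidueField R) (y : N)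
    (hy : y ∈ maximalIdeal R • (⊤ : Submodule R N)) :
    (s ⊗ₜ[R, residue R] y : (ModuleCat.extendScalars.{u, u, u} (residue R)).obj N) = 0 := by
  letI : Module R (ResidueField R) := Module.compHom _ (residue R)
  refine Submodule.smul_induction_on hy (fun r hr n _ => ?_) (fun a b ha hb => ?_)
  · show s ⊗ₜ[R] (r • n) = 0
    rw [← TensorProduct.smul_tmul]
    have key : ∀ t : ResidueField R, t = 0 → (t ⊗ₜ[R] n) = 0 := by
      rintro _ rfl; exact TensorProduct.zero_tmul _ _
    apply key
    show residue R r * s = 0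
    rw [(residue_eq_zero_iff r).2 hr, zero_mul]
  · show s ⊗ₜ[R] (a + b) = 0
    rw [TensorProduct.tmul_add]
    exact (congrArg₂ (· + ·) ha hb).trans (add_zero _)

lemma bc_map_eq_zero {M N : ModuleCat.{u} R} (g : M ⟶ N)
    (hg : LinearMap.range g.hom ≤ maximalIdeal R • (⊤ : Submodule R N)) :
    (ModuleCat.extendScalars.{u, u, u} (residue R)).map g = 0 := by
  apply ModuleCat.ExtendScalars.hom_ext
  intro m
  exact tmul_eq_zero_of_mem 1 (g.hom m) (hg (LinearMap.mem_range_self _ m))

open Groth.Agent.Lib.Helper1.LDer in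
/-- For a minimal complex `P`, `H^i(P ⊗^L κ) ≅ κ ⊗ P^i`. -/
theorem HD_equiv_of_minimal [DRing.HasLBaseChange (residue R)] (P : DRing.Cx R) (b : ℤ)
    (hb : DRing.VanishesAbove P b) (hP : DRing.TermwiseFiniteFree P)
    (hmin : ∀ i j, LinearMap.range (P.d i j).hom ≤
      maximalIdeal R • (⊤ : Submodule R (P.X j))) (i : ℤ) :
    Nonempty (Dual.HD (ResidueField R) ((DRing.LBaseChange (residue R)).obj (DRing.toD P)) i
      ≃ₗ[ResidueField R] ((ModuleCat.extendScalars.{u, u, u} (residue R)).obj (P.X i))) := by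
  haveI : P.IsKProjective := isKProjective_of_vanishesAbove P b hb
    (fun i => by
      have := (hP i).2
      exact Module.Projective.of_free)
  let C := (bcCx (residue R)).obj P
  have hd : ∀ i j, C.d i j = 0 := fun i j => bc_map_eq_zero (P.d i j) (hmin i j)
  let iso1 := (homologyFunctor (ModuleCat.{u} (ResidueField R)) i).mapIso (lbcIso (residue R) P)
  let iso2 := (homologyFunctorFactors (ModuleCat.{u} (ResidueField R)) i).app C
  let iso3 : C.homology i ≅ C.X i :=
    (ShortComplex.LeftHomologyData.ofZeros (C.sc i) (hd _ _) (hd _ _)).homologyIso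
  exact ⟨(iso1 ≪≫ iso2 ≪≫ iso3).toLinearEquiv⟩

open Groth.Agent.Lib.Helper1.LDer in
theorem finrank_bc (M : ModuleCat.{u} R) [Module.Free R M] :
    Module.finrank (ResidueField R) ((ModuleCat.extendScalars.{u, u, u} (residue R)).obj M) =
      Module.finrank R M := by
  letI := (residue R).toAlgebra
  rw [(bcEquiv (residue R) M).finrank_eq]
  exact Module.finrank_baseChange

end Groth.Agent.Lib.R2Lead.MinCx
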