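import Mathlib
import Groth.Prelude.Def_LCI2
import Groth.Agent.Lib.R2LeadDefT1
import Groth.Prelude.Def_EGA4b
import Groth.Agent.Lib.R2LeadKL2
import Groth.Agent.Lib.Helper5RLR
import Groth.Agent.S0563
import Groth.Agent.S2189
import Groth.Agent.S15821

/-!
# Base change of the conormal module along `R → T` when `R/K` is suitably flat
-/

set_option autoImplicit false
set_option linter.style.haveILetI false
set_option linter.unusedSectionVars false
set_option linter.unusedVariables false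
universe u

namespace Groth.Agent.Lib.R2LeadNLFlat2

open TensorProduct

namespace Theta

variable {R : Type u} (T : Type u) [CommRing R] [CommRing T] [Algebra R T] (K : Ideal R)

/-- the extended ideal -/
abbrev Kb : Ideal T := K.map (algebraMap R T)

/-- `R/K → T/KT` -/
noncomputable def qmap : R ⧸ K →+* T ⧸ Kb T K :=
  Ideal.quotientMap (Kb T K) (algebraMap R T) Ideal.le_comap_map

lemma qmap_mk (r : R) :
    qmap T K (Ideal.Quotient.mk K r) = Ideal.Quotient.mk (Kb T K) (algebraMap R T r) := rfl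

noncomputable local instance algQ : Algebra (R ⧸ K) (T ⧸ Kb T K) := (qmap T K).toAlgebra

noncomputable local instance modQ : Module (R ⧸ K) (Kb T K).Cotangent :=
  Module.compHom _ (qmap T K)

local instance towQ : IsScalarTower (R ⧸ K) (T ⧸ Kb T K) (Kb T K).Cotangent :=
  ⟨fun a b n => by
    show (qmap T K a * b) • n = qmap T K a • (b • n)
    rw [mul_smul]⟩

lemma mk_smul (r : R) (m : K.Cotangent) : (Ideal.Quotient.mk K r) • m = r • m := by
  rw [← algebraMap_smul (R ⧸ K) r m]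
  rfl

lemma mk_smul' (t : T) (n : (Kb T K).Cotangent) :
    (Ideal.Quotient.mk (Kb T K) t) • n = t • n := by
  rw [← algebraMap_smul (T ⧸ Kb T K) t n]
  rfl

/-- the `R`-linear map of conormal modules -/
noncomputable def θ₀ : K.Cotangent →ₗ[R] (Kb T K).Cotangent :=
  Ideal.mapCotangent K (Kb T K) (Algebra.ofId R T) Ideal.le_comap_map

lemma θ₀_toCotangent (x : K) :
    θ₀ T K (K.toCotangent x) =
      (Kb T K).toCotangent ⟨algebraMap R T x, Ideal.mem_map_of_mem _ x.2⟩ := rfl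

/-- the same map, `R/K`-linear -/
noncomputable def θ₁ : K.Cotangent →ₗ[R ⧸ K] (Kb T K).Cotangent where
  toFun := θ₀ T K
  map_add' := (θ₀ T K).map_add
  map_smul' := by
    intro c m
    obtain ⟨r, rfl⟩ := Ideal.Quotient.mk_surjective c
    rw [mk_smul, map_smul, RingHom.id_apply]
    show r • θ₀ T K m = qmap T K (Ideal.Quotient.mk K r) • θ₀ T K m
    rw [qmap_mk, mk_smul', algebraMap_smul]

/-- the comparison map -/
noncomputable def Θ : (T ⧸ Kb T K) ⊗[R ⧸ K] K.Cotangent →ₗ[T ⧸ Kb T K]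
    (Kb T K).Cotangent :=
  (θ₁ T K).liftBaseChange (T ⧸ Kb T K)

lemma Θ_tmul (c : T ⧸ Kb T K) (m : K.Cotangent) :
    Θ T K (c ⊗ₜ m) = c • θ₀ T K m := rfl

lemma Θ_surjective : Function.Surjective (Θ T K) := by
  intro n
  obtain ⟨⟨y, hy⟩, rfl⟩ := Ideal.toCotangent_surjective _ n
  revert hy
  intro hy
  have key : ∀ (y : T) (hy : y ∈ Kb T K),
      (Kb T K).toCotangent ⟨y, hy⟩ ∈ LinearMap.range (Θ T K) := by
    intro y hy
    refine Submodule.span_induction (p := fun y hy =>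
      (Kb T K).toCotangent ⟨y, hy⟩ ∈ LinearMap.range (Θ T K)) ?_ ?_ ?_ ?_ hy
    · rintro _ ⟨x, hx, rfl⟩
      exact ⟨1 ⊗ₜ K.toCotangent ⟨x, hx⟩, by rw [Θ_tmul, one_smul]; rfl⟩
    · exact ⟨0, by rw [map_zero]; exact (map_zero _).symm⟩
    · rintro a b ha hb ⟨za, hza⟩ ⟨zb, hzb⟩
      refine ⟨za + zb, ?_⟩
      rw [map_add, hza, hzb, ← map_add]
      rfl
    · rintro t a ha ⟨za, hza⟩
      refine ⟨(Ideal.Quotient.mk (Kb T K) t) • za, ?_⟩
      rw [map_smul, hza, mk_smul', ← map_smul]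
      rfl
  exact key y hy

variable (h1 : ∀ t : T, ∃ u r : R, IsUnit (algebraMap R T u) ∧
  algebraMap R T u * t = algebraMap R T r)
variable (h2 : ∀ x ∈ K, algebraMap R T x ∈ Kb T K ^ 2 → ∃ u : R, IsUnit (algebraMap R T u) ∧
  u * x ∈ K ^ 2 ⊔ RingHom.ker (algebraMap R T) * K)

lemma mk_smul_one_tmul (r : R) (m : K.Cotangent) :
    (Ideal.Quotient.mk (Kb T K) (algebraMap R T r)) • ((1 : T ⧸ Kb T K) ⊗ₜ[R ⧸ K] m) =
      1 ⊗ₜ (r • m) := by
  rw [TensorProduct.smul_tmul', smul_eq_mul, mul_one, ← mk_smul, ← TensorProduct.smul_tmul,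
    ← qmap_mk, Algebra.smul_def, mul_one]
  rfl

include h1 in
lemma exists_rep (z : (T ⧸ Kb T K) ⊗[R ⧸ K] K.Cotangent) :
    ∃ u : R, IsUnit (algebraMap R T u) ∧ ∃ x : K,
      (Ideal.Quotient.mk (Kb T K) (algebraMap R T u)) • z = 1 ⊗ₜ K.toCotangent x := by
  induction z using TensorProduct.induction_on with
  | zero => exact ⟨1, by simp, 0, by simp⟩
  | tmul c m =>
    obtain ⟨t, rfl⟩ := Ideal.Quotient.mk_surjective c
    obtain ⟨x, rfl⟩ := K.toCotangent_surjective m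
    obtain ⟨u, r, hu, hur⟩ := h1 t
    refine ⟨u, hu, r • x, ?_⟩
    rw [TensorProduct.smul_tmul', smul_eq_mul, ← map_mul, hur, map_smul, ← mk_smul_one_tmul,
      TensorProduct.smul_tmul', smul_eq_mul, mul_one]
  | add z₁ z₂ ih₁ ih₂ =>
    obtain ⟨u₁, hu₁, x₁, hx₁⟩ := ih₁
    obtain ⟨u₂, hu₂, x₂, hx₂⟩ := ih₂
    refine ⟨u₁ * u₂, by rw [map_mul]; exact hu₁.mul hu₂, u₂ • x₁ + u₁ • x₂, ?_⟩
    rw [smul_add, map_add, TensorProduct.tmul_add, map_smul, map_smul, ← mk_smul_one_tmul,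
      ← mk_smul_one_tmul, ← hx₁, ← hx₂, smul_smul, smul_smul, ← map_mul, ← map_mul,
      ← map_mul, ← map_mul, mul_comm u₂ u₁]

lemma one_tmul_eq_zero (w : R) (hw : w ∈ K ^ 2 ⊔ RingHom.ker (algebraMap R T) * K) (hwK : w ∈ K) :
    (1 : T ⧸ Kb T K) ⊗ₜ[R ⧸ K] K.toCotangent ⟨w, hwK⟩ = 0 := by
  obtain ⟨a, ha, b, hb, rfl⟩ := Submodule.mem_sup.1 hw
  have haK : a ∈ K := Ideal.pow_le_self two_ne_zero ha
  have hbK : b ∈ K := Ideal.mul_le_right hb
  have hsplit : (⟨a + b, hwK⟩ : K) = ⟨a, haK⟩ + ⟨b, hbK⟩ := rfl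
  rw [hsplit, map_add, TensorProduct.tmul_add]
  have h1 : K.toCotangent ⟨a, haK⟩ = 0 := (Ideal.toCotangent_eq_zero _ _).2 ha
  rw [h1, TensorProduct.tmul_zero, zero_add]
  have key : ∀ (b : R) (hb : b ∈ RingHom.ker (algebraMap R T) * K) (hbK : b ∈ K),
      (1 : T ⧸ Kb T K) ⊗ₜ[R ⧸ K] K.toCotangent ⟨b, hbK⟩ = 0 := by
    intro b hb
    refine Submodule.mul_induction_on' (C := fun b _ => ∀ hbK : b ∈ K,
      (1 : T ⧸ Kb T K) ⊗ₜ[R ⧸ K] K.toCotangent ⟨b, hbK⟩ = 0) ?_ ?_ hb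
    · intro k hk y hy hkyK
      have h3 : (⟨k * y, hkyK⟩ : K) = k • ⟨y, hy⟩ := rfl
      rw [h3, map_smul, ← mk_smul_one_tmul, (RingHom.mem_ker).1 hk, map_zero, zero_smul]
    · intro x hx y hy ihx ihy hxyK
      have hxK : x ∈ K := Ideal.mul_le_right hx
      have hyK : y ∈ K := Ideal.mul_le_right hy
      have h3 : (⟨x + y, hxyK⟩ : K) = ⟨x, hxK⟩ + ⟨y, hyK⟩ := rfl
      rw [h3, map_add, TensorProduct.tmul_add, ihx hxK, ihy hyK, add_zero]
  exact key b hb hbK

include h1 h2 in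
lemma Θ_injective : Function.Injective (Θ T K) := by
  rw [injective_iff_map_eq_zero]
  intro z hz
  obtain ⟨u, hu, x, hx⟩ := exists_rep T K h1 z
  have huq : IsUnit (Ideal.Quotient.mk (Kb T K) (algebraMap R T u)) := hu.map _
  have h3 : Θ T K (1 ⊗ₜ K.toCotangent x) = 0 := by
    rw [← hx, map_smul, hz, smul_zero]
  rw [Θ_tmul, one_smul, θ₀_toCotangent, Ideal.toCotangent_eq_zero] at h3
  obtain ⟨u', hu', hmem⟩ := h2 x x.2 h3
  have hu'' : IsUnit (Ideal.Quotient.mk (Kb T K) (algebraMap R T u')) := hu'.map _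
  have h4 := one_tmul_eq_zero T K (u' * x) hmem (K.mul_mem_left _ x.2)
  have h5 : (⟨u' * x, K.mul_mem_left _ x.2⟩ : K) = u' • x := rfl
  rw [h5, map_smul, ← mk_smul_one_tmul] at h4
  have h6 : (1 : T ⧸ Kb T K) ⊗ₜ[R ⧸ K] K.toCotangent x = 0 := by
    have := hu''.smul_left_cancel.1 (h4.trans (smul_zero _).symm)
    exact this
  rw [h6] at hx
  exact huq.smul_left_cancel.1 (hx.trans (smul_zero _).symm)

include h1 h2 in
/-- **flatness of the conormal module of the extended ideal** -/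
theorem flat_cotangent_map [Module.Flat (R ⧸ K) K.Cotangent] :
    Module.Flat (T ⧸ Kb T K) (Kb T K).Cotangent := by
  let e : (T ⧸ Kb T K) ⊗[R ⧸ K] K.Cotangent ≃ₗ[T ⧸ Kb T K] (Kb T K).Cotangent :=
    LinearEquiv.ofBijective (Θ T K) ⟨Θ_injective T K h1 h2, Θ_surjective T K⟩
  exact Module.Flat.of_linearEquiv e.symm

end Theta

section Fib

variable {A P : Type u} [CommRing A] [CommRing P] [Algebra A P] (I : Ideal P) (q : Ideal P)
  [q.IsPrime]

theorem algebraMap_fib (x : P) : algebraMap P (EGA4.FibLocRing A P q) x =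
    Ideal.Quotient.mk _ (algebraMap P (Localization.AtPrime q) x) := rfl

theorem h1_fib (t : EGA4.FibLocRing A P q) : ∃ u r : P,
    IsUnit (algebraMap P (EGA4.FibLocRing A P q) u) ∧
      algebraMap P (EGA4.FibLocRing A P q) u * t = algebraMap P (EGA4.FibLocRing A P q) r := by
  obtain ⟨s, rfl⟩ := Ideal.Quotient.mk_surjective t
  obtain ⟨⟨r, u⟩, hs⟩ := IsLocalization.surj q.primeCompl s
  refine ⟨u, r, ?_, ?_⟩
  · rw [algebraMap_fib]
    exact (IsLocalization.map_units (Localization.AtPrime q) u).map _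
  · rw [algebraMap_fib, algebraMap_fib, ← map_mul, mul_comm, hs]

theorem h2_fib [Module.Flat A (P ⧸ I)] (x : P) (hx : x ∈ I)
    (h : algebraMap P (EGA4.FibLocRing A P q) x ∈
      (I.map (algebraMap P (EGA4.FibLocRing A P q))) ^ 2) :
    ∃ u : P, IsUnit (algebraMap P (EGA4.FibLocRing A P q) u) ∧
      u * x ∈ I ^ 2 ⊔ RingHom.ker (algebraMap P (EGA4.FibLocRing A P q)) * I := by
  set S := Localization.AtPrime q with hS
  set p : Ideal A := q.comap (algebraMap A P) with hp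
  set 𝔭 : Ideal S := p.map (algebraMap A S) with h𝔭
  set pP : Ideal P := p.map (algebraMap A P) with hpP
  have h𝔭' : 𝔭 = pP.map (algebraMap P S) := by
    rw [h𝔭, hpP, Ideal.map_map, ← IsScalarTower.algebraMap_eq]
  have hmapeq : algebraMap P (EGA4.FibLocRing A P q) =
      (Ideal.Quotient.mk 𝔭).comp (algebraMap P S) := rfl
  rw [← Ideal.map_pow, hmapeq, ← Ideal.map_map] at h
  have h' : algebraMap P S x ∈ (((I ^ 2).map (algebraMap P S)).map (Ideal.Quotient.mk 𝔭)).comap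
      (Ideal.Quotient.mk 𝔭) := h
  rw [Ideal.comap_map_of_surjective _ Ideal.Quotient.mk_surjective, ← RingHom.ker_eq_comap_bot,
    Ideal.mk_ker, h𝔭', ← Ideal.map_sup] at h'
  obtain ⟨m, hm, hmx⟩ :=
    (IsLocalization.algebraMap_mem_map_algebraMap_iff q.primeCompl S (I ^ 2 ⊔ pP) x).1 h'
  obtain ⟨a, ha, b, hb, hab⟩ := Submodule.mem_sup.1 hmx
  have hbI : b ∈ I := by
    have : b = m * x - a := by rw [← hab]; ring
    rw [this]
    exact I.sub_mem (I.mul_mem_left _ hx) (Ideal.pow_le_self two_ne_zero ha)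
  have hb2 : b ∈ pP * I :=
    Groth.Agent.Lib.R2Lead.DefT.mem_mul_of_flat_quot p I b hbI hb
  refine ⟨m, ?_, ?_⟩
  · rw [algebraMap_fib]
    exact (IsLocalization.map_units S ⟨m, hm⟩).map _
  · rw [← hab]
    refine Submodule.add_mem_sup ha (Ideal.mul_mono_left ?_ hb2)
    rw [hpP, Ideal.map_le_iff_le_comap]
    intro c hc
    rw [Ideal.mem_comap, RingHom.mem_ker, algebraMap_fib, ← IsScalarTower.algebraMap_apply,
      Ideal.Quotient.eq_zero_iff_mem]
    exact Ideal.mem_map_of_mem _ hc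

open CategoryTheory in
/-- **fibrewise regularity from a flat conormal module** -/
theorem fibReg_of_flat_cotangent [Algebra.FiniteType A P] [Module.Flat A (P ⧸ I)]
    [Module.Flat (P ⧸ I) I.Cotangent]
    (hIq : I ≤ q) [IsRegularLocalRing (EGA4.FibLocRing A P q)] :
    Groth.Agent.Lib.R2LeadKL2.FibReg A I q := by
  set Fib := EGA4.FibLocRing A P q with hFib
  set Ib : Ideal Fib := I.map (algebraMap P Fib) with hIb
  haveI hflat : Module.Flat (Fib ⧸ Ib) Ib.Cotangent :=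
    Theta.flat_cotangent_map Fib I (h1_fib q) (fun x hx h => h2_fib I q x hx h)
  have hle : Ib ≤ IsLocalRing.maximalIdeal Fib := by
    rw [hIb, Ideal.map_le_iff_le_comap]
    intro a ha
    rw [Ideal.mem_comap, ← IsLocalRing.ringJacobson_eq_maximalIdeal]
    exact Groth.Agent.Lib.R2LeadSyntG.algebraMap_mem_jacobson q a (hIq ha)
  haveI : Nontrivial (Fib ⧸ Ib) := Ideal.Quotient.nontrivial_iff.2 fun h =>
    (IsLocalRing.maximalIdeal.isMaximal Fib).ne_top (top_le_iff.1 (h ▸ hle))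
  haveI : IsLocalRing (Fib ⧸ Ib) :=
    IsLocalRing.of_surjective' (Ideal.Quotient.mk Ib) Ideal.Quotient.mk_surjective
  haveI : Module.Finite Fib Ib.Cotangent :=
    Module.Finite.of_surjective Ib.toCotangent Ib.toCotangent_surjective
  haveI : Module.Finite (Fib ⧸ Ib) Ib.Cotangent :=
    Module.Finite.of_restrictScalars_finite Fib (Fib ⧸ Ib) Ib.Cotangent
  haveI : Module.Free (Fib ⧸ Ib) Ib.Cotangent :=
    Module.free_of_flat_of_isLocalRing (R := Fib ⧸ Ib) (P := Ib.Cotangent)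
  haveI : Module.Projective (Fib ⧸ Ib) Ib.Cotangent := Module.Projective.of_free
  obtain ⟨d, hd⟩ := Groth.Agent.Lib.Helper5.exists_nat_ringKrullDim_eq Fib
  have hpd : HasProjectiveDimensionLT (ModuleCat.of Fib Ib) (d + 1) :=
    Groth.Agent.S0563.result Fib d hd Ib
  intro 𝔮 h𝔮
  obtain ⟨g, hg, rs, hreg, hrs⟩ := Groth.Agent.S2189.result Ib (d + 1) hpd 𝔮.asIdeal h𝔮
  exact ⟨g, hg, rs, (Groth.Agent.S15821.result _ rs hreg.toIsWeaklyRegular).1, hrs.symm⟩

end Fib

end Groth.Agent.Lib.R2LeadNLFlat2
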