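import Mathlib
import Groth.Prelude.Def_LCI2
import Groth.Agent.Lib.R2LeadNLFlat1
import Groth.Agent.Lib.R2LeadNLFlat2
import Groth.Agent.Lib.Helper5JacFlat
import Groth.Agent.Lib.R2H4SyntNhdB
import Groth.Agent.S7072

/-!
# `NL` of tor amplitude `[-1,0]` ⇒ lci, for flat finitely presented algebras
-/

set_option autoImplicit false
set_option linter.style.haveILetI false
set_option linter.unusedSectionVars false
set_option linter.unusedVariables false
universe u

attribute [local instance] HasDerivedCategory.standard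

namespace Groth.Agent.Lib.R2LeadNLFlat3

open Algebra

/-- the conormal module of the kernel ideal of an extension is flat over the quotient when the
conormal module of the extension is flat -/
theorem flat_ker_cotangent {R S : Type u} [CommRing R] [CommRing S] [Algebra R S]
    (Pr : Extension.{u} R S) [Module.Flat S Pr.Cotangent] :
    Module.Flat (Pr.Ring ⧸ Pr.ker) Pr.ker.Cotangent := by
  let e : S ≃+* Pr.Ring ⧸ Pr.ker :=
    (RingHom.quotientKerEquivOfSurjective Pr.algebraMap_surjective).symm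
  have he : ∀ r : Pr.Ring, e (algebraMap Pr.Ring S r) = Ideal.Quotient.mk Pr.ker r := by
    intro r
    rw [RingEquiv.symm_apply_eq]
    rfl
  refine Groth.Agent.Lib.Helper5.flat_of_ringEquiv_of_addEquiv e
    Pr.cotangentEquivCotangentKer.toAddEquiv ?_ inferInstance
  intro s m
  obtain ⟨r, rfl⟩ := Pr.algebraMap_surjective s
  rw [he, algebraMap_smul]
  show Pr.cotangentEquivCotangentKer (r • m) = _
  rw [map_smul, ← algebraMap_smul (Pr.Ring ⧸ Pr.ker) r]
  rfl

theorem flat_cotangent_of_eq {R : Type u} [CommRing R] (I₁ I₂ : Ideal R) (h : I₁ = I₂)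
    [Module.Flat (R ⧸ I₁) I₁.Cotangent] : Module.Flat (R ⧸ I₂) I₂.Cotangent := by
  subst h
  infer_instance

variable {A B : Type u} [CommRing A] [CommRing B] [Algebra A B]

theorem isLCI_of_torAmp [Module.Flat A B] [Algebra.FinitePresentation A B]
    (h : DRing.HasTorAmplitudeIn B (-1) 0 (LCI.NL A B)) : LCI.IsLCI A B := by
  obtain ⟨n, f, hf, hfg⟩ := Algebra.FinitePresentation.out (R := A) (A := B)
  set G := Generators.ofAlgHom f hf with hG
  haveI hM : Module.Flat B G.toExtension.Cotangent :=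
    Groth.Agent.Lib.R2LeadNLFlat1.cotangent_flat G h
  haveI h1 := flat_ker_cotangent G.toExtension
  set I : Ideal (MvPolynomial (Fin n) A) := RingHom.ker f.toRingHom with hI
  haveI hK : Module.Flat (MvPolynomial (Fin n) A ⧸ I) I.Cotangent :=
    @flat_cotangent_of_eq _ _ _ _ (Groth.Agent.S7072.ker_ofAlgHom f hf) h1
  haveI hBflat : Module.Flat A (MvPolynomial (Fin n) A ⧸ I) :=
    Module.Flat.of_linearEquiv (Ideal.quotientKerAlgEquivOfSurjective hf).toLinearEquiv
  refine ⟨inferInstance, n, f, hf, ?_⟩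
  intro 𝔭 h𝔭
  haveI := Groth.Agent.Lib.R2H4.SyntNhd.isRegularLocalRing_fibLoc A n 𝔭.asIdeal
  have hFR := Groth.Agent.Lib.R2LeadNLFlat2.fibReg_of_flat_cotangent (A := A) I 𝔭.asIdeal h𝔭
  exact Groth.Agent.Lib.R2LeadKL2.fib_imp_koszul (R := A) 𝔭.asIdeal I hfg h𝔭 hFR

theorem main [Module.Flat A B] [Algebra.FinitePresentation A B] :
    DRing.HasTorAmplitudeIn B (-1) 0 (LCI.NL A B) ↔ LCI.IsLCI A B :=
  ⟨isLCI_of_torAmp, fun h => (Groth.Agent.S7072.result h).2⟩

end Groth.Agent.Lib.R2LeadNLFlat3
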