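import Mathlib
import Groth.Prelude.Def_LCI2
import Groth.Agent.Lib.R2LeadNLFlat3
import Groth.Agent.Lib.R2H3PolyTorDim
import Groth.Agent.Lib.Helper13Ses

/-!
# `NL` of tor amplitude `[-1,0]` ⇒ lci, for Noetherian base and finite tor dimension
-/

set_option autoImplicit false
set_option linter.style.haveILetI false
set_option linter.unusedSectionVars false
set_option linter.unusedVariables false
universe u

attribute [local instance] HasDerivedCategory.standard

namespace Groth.Agent.Lib.R2LeadNLFlat4

open Algebra CategoryTheory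
open Groth.Agent.Lib.Helper14.TorSyz Groth.Agent.Lib.Helper1.TorDim

/-- over a Noetherian ring a finite module of tor dimension `≤ k` has projective dimension `≤ k` -/
theorem pd_of_torDim {P : Type u} [CommRing P] [IsNoetherianRing P] (k : ℕ) :
    ∀ (M : Type u) [AddCommGroup M] [Module P M] [Module.Finite P M],
      DRing.HasTorDimLE P k M → HasProjectiveDimensionLT (ModuleCat.of P M) (k + 1) := by
  induction k with
  | zero =>
    intro M _ _ _ h
    haveI : Module.Flat P M := (hasTorDimLE_zero_iff_flat M).1 h
    haveI : Module.FinitePresentation P M := Module.finitePresentation_of_finite P M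
    haveI : Module.Projective P M := Module.Flat.projective_of_finitePresentation
    exact projective_iff_hasProjectiveDimensionLT_one.1
      ((IsProjective.iff_projective M).1 inferInstance)
  | succ k ih =>
    intro M _ _ _ h
    obtain ⟨m, g, hg⟩ := Module.Finite.exists_fin' P M
    haveI : Module.Finite P (LinearMap.ker g) := Module.IsNoetherian.finite P _
    have hK : DRing.HasTorDimLE P k (LinearMap.ker g) :=
      hasTorDimLE_ker (LinearMap.ker g).subtype g (LinearMap.ker g).injective_subtype hg
        (LinearMap.exact_subtype_ker_map g) k h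
    have hpdK := ih (LinearMap.ker g) hK
    exact ((Groth.Agent.Helper13Ses.sesKer_shortExact g hg).hasProjectiveDimensionLT_X₃_iff k
      ((IsProjective.iff_projective (Fin m → P)).1 inferInstance)).2 hpdK

variable {A B : Type u} [CommRing A] [CommRing B] [Algebra A B]

open Groth.Agent.Lib.R2LeadNLFlat3 Groth.Agent.Lib.R2H3.PolyTorDim in
theorem isLCI_of_torAmp [IsNoetherianRing A] [Algebra.FiniteType A B]
    (hB : DRing.HasFiniteTorDim A B)
    (h : DRing.HasTorAmplitudeIn B (-1) 0 (LCI.NL A B)) : LCI.IsLCI A B := by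
  obtain ⟨n, f, hf⟩ := Algebra.FiniteType.iff_quotient_mvPolynomial''.1
    (inferInstance : Algebra.FiniteType A B)
  set G := Generators.ofAlgHom f hf with hG
  haveI hM : Module.Flat B G.toExtension.Cotangent :=
    Groth.Agent.Lib.R2LeadNLFlat1.cotangent_flat G h
  haveI h1 := flat_ker_cotangent G.toExtension
  set I : Ideal (MvPolynomial (Fin n) A) := RingHom.ker f.toRingHom with hI
  haveI hK : Module.Flat (MvPolynomial (Fin n) A ⧸ I) I.Cotangent :=
    @flat_cotangent_of_eq _ _ _ _ (Groth.Agent.S7072.ker_ofAlgHom f hf) h1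
  haveI : Module.Finite (MvPolynomial (Fin n) A) I.Cotangent :=
    Module.Finite.of_surjective I.toCotangent I.toCotangent_surjective
  haveI : Module.Finite (MvPolynomial (Fin n) A ⧸ I) I.Cotangent :=
    Module.Finite.of_restrictScalars_finite (MvPolynomial (Fin n) A) _ _
  haveI : Module.FinitePresentation (MvPolynomial (Fin n) A ⧸ I) I.Cotangent :=
    Module.finitePresentation_of_finite _ _
  haveI : Module.Projective (MvPolynomial (Fin n) A ⧸ I) I.Cotangent :=
    Module.Flat.projective_of_finitePresentation
  obtain ⟨d, hd⟩ := hB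
  letI : Algebra (MvPolynomial (Fin n) A) B := f.toRingHom.toAlgebra
  haveI : IsScalarTower A (MvPolynomial (Fin n) A) B :=
    IsScalarTower.of_algebraMap_eq (fun a => (f.commutes a).symm)
  have h2 : DRing.HasTorDimLE (MvPolynomial (Fin n) A) (d + n) B :=
    hasTorDimLE_mvPolynomial A n d B hd
  have h3 : DRing.HasTorDimLE (MvPolynomial (Fin n) A) (d + n + 1) B :=
    fun N _ _ p hp => h2 N p (by omega)
  have hex : Function.Exact I.subtype (Algebra.linearMap (MvPolynomial (Fin n) A) B) := by
    intro y
    constructor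
    · intro hy
      exact ⟨⟨y, hy⟩, rfl⟩
    · rintro ⟨w, rfl⟩
      exact w.2
  have h4 : DRing.HasTorDimLE (MvPolynomial (Fin n) A) (d + n) I :=
    hasTorDimLE_ker I.subtype (Algebra.linearMap (MvPolynomial (Fin n) A) B)
      I.injective_subtype hf hex (d + n) h3
  have hpd := pd_of_torDim (d + n) I h4
  refine ⟨inferInstance, n, f, hf, ?_⟩
  intro 𝔭 h𝔭
  obtain ⟨g, hg, rs, hreg, hrs⟩ := Groth.Agent.S2189.result I (d + n + 1) hpd 𝔭.asIdeal h𝔭
  exact ⟨g, hg, rs, (Groth.Agent.S15821.result _ rs hreg.toIsWeaklyRegular).1, hrs.symm⟩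

theorem main [IsNoetherianRing A] [Algebra.FiniteType A B] (hB : DRing.HasFiniteTorDim A B) :
    DRing.HasTorAmplitudeIn B (-1) 0 (LCI.NL A B) ↔ LCI.IsLCI A B :=
  ⟨isLCI_of_torAmp hB, fun h => (Groth.Agent.S7072.result h).2⟩

end Groth.Agent.Lib.R2LeadNLFlat4
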