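import Mathlib

/-!
# Generators along a stratification of `Spec R` (lead)

Pure algebra for S17867.
-/

set_option autoImplicit false
universe u v

namespace Groth.Agent.Lib.R2LeadNisGenA

open PrimeSpectrum

variable {R : Type u} [CommRing R] {M : Type v} [AddCommGroup M] [Module R M]

/-- the support of `M / span x` -/
def bad {n : ℕ} (x : Fin n → M) : Set (PrimeSpectrum R) :=
  Module.support R (M ⧸ Submodule.span R (Set.range x))

theorem isClosed_bad [Module.Finite R M] {n : ℕ} (x : Fin n → M) : IsClosed (bad (R := R) x) :=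
  Module.isClosed_support

theorem bad_mono {T T' : Submodule R M} (h : T ≤ T') :
    Module.support R (M ⧸ T') ⊆ Module.support R (M ⧸ T) :=
  Module.support_subset_of_surjective (Submodule.factor h) (Submodule.factor_surjective h)

theorem bad_inter_zeroLocus [Module.Finite R M] (K : Ideal R) (T : Submodule R M)
    (h : T ⊔ K • (⊤ : Submodule R M) = ⊤) :
    Module.support R (M ⧸ T) ∩ zeroLocus (K : Set R) = ∅ := by
  rw [← Module.support_quotient K, Module.support_eq_empty_iff]
  constructor
  intro a b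
  have key : ∀ q : (M ⧸ T), q ∈ K • (⊤ : Submodule R (M ⧸ T)) := by
    intro q
    obtain ⟨y, rfl⟩ := Submodule.Quotient.mk_surjective _ q
    have hy : y ∈ T ⊔ K • (⊤ : Submodule R M) := by rw [h]; trivial
    obtain ⟨a, ha, b, hb, rfl⟩ := Submodule.mem_sup.1 hy
    have h1 : (Submodule.Quotient.mk (a + b) : M ⧸ T) = T.mkQ b := by
      rw [Submodule.Quotient.mk_add, (Submodule.Quotient.mk_eq_zero T).2 ha, zero_add]
      rfl
    rw [h1]
    have h2 : T.mkQ b ∈ (K • (⊤ : Submodule R M)).map T.mkQ := Submodule.mem_map_of_mem hb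
    rw [Submodule.map_smul''] at h2
    exact (Submodule.smul_mono le_rfl le_top) h2
  obtain ⟨a', rfl⟩ := Submodule.Quotient.mk_surjective _ a
  obtain ⟨b', rfl⟩ := Submodule.Quotient.mk_surjective _ b
  rw [Submodule.Quotient.eq]
  exact key (a' - b')

theorem exists_generators_of_strata [Module.Finite R M] (N m : ℕ)
    (Z : Fin (m + 1) → Set (PrimeSpectrum R))
    (h0 : Z 0 = ∅) (hm : Z (Fin.last m) = Set.univ) (hcl : ∀ k, IsClosed (Z k))
    (hstep : ∀ (k : Fin m) (K : Ideal R), K.IsRadical →
      zeroLocus (K : Set R) ⊆ Z k.succ \ Z k.castSucc →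
      ∃ x' : Fin N → M, Submodule.span R (Set.range x') ⊔ K • (⊤ : Submodule R M) = ⊤) :
    ∃ s : Fin (N * m) → M, Submodule.span R (Set.range s) = ⊤ := by
  have key : ∀ j (hj : j ≤ m), ∃ x : Fin (N * j) → M,
      bad (R := R) x ∩ Z ⟨j, Nat.lt_succ_of_le hj⟩ = ∅ := by
    intro j
    induction j with
    | zero =>
      intro hj
      refine ⟨fun i => (Fin.cast (Nat.mul_zero N) i).elim0, ?_⟩
      have : Z ⟨0, Nat.lt_succ_of_le hj⟩ = ∅ := h0
      rw [this, Set.inter_empty]
    | succ j ih =>
      intro hj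
      obtain ⟨x, hx⟩ := ih (Nat.le_of_succ_le hj)
      let k : Fin m := ⟨j, hj⟩
      have hks : k.succ = ⟨j + 1, Nat.lt_succ_of_le hj⟩ := rfl
      have hkc : k.castSucc = ⟨j, Nat.lt_succ_of_le (Nat.le_of_succ_le hj)⟩ := rfl
      let C : Set (PrimeSpectrum R) := Z k.succ ∩ bad (R := R) x
      have hC : IsClosed C := (hcl _).inter (isClosed_bad x)
      have hzl : zeroLocus ((vanishingIdeal C : Ideal R) : Set R) = C := by
        rw [zeroLocus_vanishingIdeal_eq_closure, hC.closure_eq]
      have hsub : zeroLocus ((vanishingIdeal C : Ideal R) : Set R) ⊆ Z k.succ \ Z k.castSucc := by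
        rw [hzl]
        rintro c ⟨hc1, hc2⟩
        refine ⟨hc1, fun hc3 => ?_⟩
        rw [hkc] at hc3
        have : c ∈ bad (R := R) x ∩ Z ⟨j, Nat.lt_succ_of_le (Nat.le_of_succ_le hj)⟩ := ⟨hc2, hc3⟩
        rw [hx] at this
        exact this
      obtain ⟨x', hx'⟩ := hstep k _ (isRadical_vanishingIdeal C) hsub
      refine ⟨fun i => Fin.append x x' (Fin.cast (Nat.mul_succ N j) i), ?_⟩
      have hrange : Set.range (fun i => Fin.append x x' (Fin.cast (Nat.mul_succ N j) i)) =
          Set.range x ∪ Set.range x' := by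
        ext y
        constructor
        · rintro ⟨i, rfl⟩
          refine Fin.addCases (motive := fun l => Fin.append x x' l ∈ Set.range x ∪ Set.range x')
            (fun a => ?_) (fun b => ?_) (Fin.cast (Nat.mul_succ N j) i)
          · rw [Fin.append_left]; exact Or.inl ⟨a, rfl⟩
          · rw [Fin.append_right]; exact Or.inr ⟨b, rfl⟩
        · rintro (⟨a, rfl⟩ | ⟨b, rfl⟩)
          · exact ⟨Fin.cast (Nat.mul_succ N j).symm (Fin.castAdd N a), by simp⟩
          · exact ⟨Fin.cast (Nat.mul_succ N j).symm (Fin.natAdd (N * j) b), by simp⟩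
      have h1 : bad (R := R) (fun i => Fin.append x x' (Fin.cast (Nat.mul_succ N j) i)) ⊆
          bad (R := R) x := by
        unfold bad
        rw [hrange]
        exact bad_mono (Submodule.span_mono Set.subset_union_left)
      have h2 : bad (R := R) (fun i => Fin.append x x' (Fin.cast (Nat.mul_succ N j) i)) ⊆
          bad (R := R) x' := by
        unfold bad
        rw [hrange]
        exact bad_mono (Submodule.span_mono Set.subset_union_right)
      have h3 := bad_inter_zeroLocus (vanishingIdeal C : Ideal R) _ hx'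
      rw [hzl] at h3
      rw [Set.eq_empty_iff_forall_notMem]
      rintro c ⟨hc1, hc2⟩
      rw [← hks] at hc2
      have : c ∈ Module.support R (M ⧸ Submodule.span R (Set.range x')) ∩ C :=
        ⟨h2 hc1, hc2, h1 hc1⟩
      rw [h3] at this
      exact this
  obtain ⟨x, hx⟩ := key m le_rfl
  refine ⟨x, ?_⟩
  have : Z ⟨m, Nat.lt_succ_of_le le_rfl⟩ = Set.univ := hm
  rw [this, Set.inter_univ] at hx
  unfold bad at hx
  rw [Module.support_eq_empty_iff] at hx
  exact Submodule.Quotient.subsingleton_iff.1 hx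

theorem exists_lift_generators {R A S : Type*} [CommRing R] [CommRing A] [CommRing S]
    (ψ : R →+* A) (hψ : Function.Surjective ψ)
    {M : Type*} [AddCommGroup M] [Module R M] {P G : Type*} [AddCommGroup P] [Module A P]
    [AddCommGroup G] [Module S G]
    (ρ : A →+* S) (hρ : Function.Surjective ρ) (ε : P ≃+ G) (hε : ∀ a z, ε (a • z) = ρ a • ε z)
    (j : M →+ P) (hj : ∀ r m, j (r • m) = ψ r • j m) (hjs : Function.Surjective j)
    (hker : ∀ m, j m = 0 → m ∈ (RingHom.ker ψ) • (⊤ : Submodule R M))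
    {N : ℕ} (t : Fin N → G) (ht : Submodule.span S (Set.range t) = ⊤) :
    ∃ x' : Fin N → M,
      Submodule.span R (Set.range x') ⊔ (RingHom.ker ψ) • (⊤ : Submodule R M) = ⊤ := by
  have hx : ∀ k, ∃ x : M, j x = ε.symm (t k) := fun k => hjs _
  choose x' hx' using hx
  refine ⟨x', ?_⟩
  rw [eq_top_iff]
  intro y _
  have hy : ε (j y) ∈ Submodule.span S (Set.range t) := by rw [ht]; trivial
  obtain ⟨c, hc⟩ := (Submodule.mem_span_range_iff_exists_fun S).1 hy
  have hr : ∀ k, ∃ r : R, ρ (ψ r) = c k := fun k => by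
    obtain ⟨a, ha⟩ := hρ (c k)
    obtain ⟨r, rfl⟩ := hψ a
    exact ⟨r, ha⟩
  choose r hr using hr
  have h1 : ε (j (∑ k, r k • x' k)) = ε (j y) := by
    rw [← hc, map_sum, map_sum]
    refine Finset.sum_congr rfl (fun k _ => ?_)
    rw [hj, hε, hx', AddEquiv.apply_symm_apply, hr]
  have h2 : j (y - ∑ k, r k • x' k) = 0 := by
    rw [map_sub, ← ε.injective h1, sub_self]
  have h3 := hker _ h2
  have h4 : y = ∑ k, r k • x' k + (y - ∑ k, r k • x' k) := by abel
  rw [h4]
  refine Submodule.add_mem_sup ?_ h3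
  exact Submodule.sum_mem _ (fun k _ => Submodule.smul_mem _ _ (Submodule.subset_span ⟨k, rfl⟩))

end Groth.Agent.Lib.R2LeadNisGenA
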