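import Groth.Agent.Lib.R2LeadNisGenA
import Groth.Agent.Lib.R2LeadGenCov
import Groth.Agent.Lib.Helper20OmegaAff
import Groth.Agent.Lib.Helper2FPAff
import Groth.Agent.Lib.Helper23PB
import Groth.Prelude.Def_W4c5algebraiztannakaNis

set_option autoImplicit false
set_option linter.style.haveILetI false
set_option linter.unusedSectionVars false
universe u
open CategoryTheory CategoryTheory.Limits AlgebraicGeometry Opposite TensorProduct

namespace Groth.Agent.Lib.R2LeadNisGenB

open Groth.Agent.Lib.Helper23.SecTw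

section cat

/-- a left adjoint sends a jointly epimorphic coproduct family to a jointly epimorphic one -/
theorem epi_desc_of_isLeftAdjoint {C D : Type*} [Category C] [Category D] (L : C ⥤ D)
    [L.IsLeftAdjoint] {ι : Type*} (X : ι → C) [HasCoproduct X] (Y : ι → D) [HasCoproduct Y]
    (e : ∀ i, Y i ⟶ L.obj (X i)) [∀ i, IsIso (e i)] {Z : D} (p : L.obj (∐ X) ⟶ Z) [Epi p] :
    Epi (Sigma.desc (fun i => e i ≫ L.map (Sigma.ι X i) ≫ p)) := by
  let adj := Adjunction.ofIsLeftAdjoint L
  constructor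
  intro W g₁ g₂ h
  have h1 : ∀ i, L.map (Sigma.ι X i) ≫ (p ≫ g₁) = L.map (Sigma.ι X i) ≫ (p ≫ g₂) := by
    intro i
    have := congrArg (fun q => Sigma.ι Y i ≫ q) h
    simp only [Sigma.ι_desc_assoc, Category.assoc] at this
    exact (cancel_epi (e i)).1 this
  have h2 : (adj.homEquiv _ _) (p ≫ g₁) = (adj.homEquiv _ _) (p ≫ g₂) := by
    apply Sigma.hom_ext
    intro i
    rw [← adj.homEquiv_naturality_left, ← adj.homEquiv_naturality_left, h1]
  have h3 := (adj.homEquiv _ _).injective h2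
  exact (cancel_epi p).1 h3

end cat

variable (R : CommRingCat.{u}) (M : ModuleCat.{u} R)

/-- the section over a closed reduced subscheme contained in a stratum -/
theorem exists_section_over_quotient {U : Scheme.{u}} (f : U ⟶ Spec R)
    (W : Set (Spec R)) (hW : W4c5algebraiztannaka.HasSectOver f W) (K : Ideal R) (hK : K.IsRadical)
    (hKW : PrimeSpectrum.zeroLocus (K : Set R) ⊆ W) :
    ∃ t : Spec (CommRingCat.of (R ⧸ K)) ⟶ U,
      t ≫ f = Spec.map (CommRingCat.ofHom (Ideal.Quotient.mk K)) := by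
  obtain ⟨T, g, s, hg, hrange, hsg⟩ := hW
  let A : CommRingCat.{u} := CommRingCat.of (R ⧸ K)
  let ψ : R ⟶ A := CommRingCat.ofHom (Ideal.Quotient.mk K)
  haveI : IsClosedImmersion (Spec.map ψ) :=
    IsClosedImmersion.spec_of_surjective ψ Ideal.Quotient.mk_surjective
  haveI : _root_.IsReduced (R ⧸ K) := (Ideal.isRadical_iff_quotient_reduced K).1 hK
  haveI : _root_.IsReduced A := inferInstanceAs (_root_.IsReduced (R ⧸ K))
  haveI : IsReduced (Spec A) := inferInstance
  have hrι : ∀ y : Spec A, (Spec.map ψ) y ∈ Set.range g := by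
    intro y
    have h1 : (Spec.map ψ) y ∈ W := by
      apply hKW
      intro k hk
      change ψ.hom k ∈ y.asIdeal
      have : ψ.hom k = 0 := Ideal.Quotient.eq_zero_iff_mem.2 hk
      rw [this]
      exact zero_mem _
    rw [← hrange] at h1
    exact h1
  haveI : IsImmersion g := hg
  have hr : Set.range (pullback.snd g (Spec.map ψ)) = Set.univ := by
    rw [Scheme.Pullback.range_snd]
    ext y
    simp only [Set.mem_preimage, Set.mem_univ, iff_true]
    exact hrι y
  haveI : Surjective (pullback.snd g (Spec.map ψ)) := ⟨fun y => by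
    have : y ∈ Set.range (pullback.snd g (Spec.map ψ)) := by rw [hr]; trivial
    exact this⟩
  haveI : IsClosedImmersion (pullback.snd g (Spec.map ψ)) :=
    .of_isPreimmersion _ (by rw [hr]; exact isClosed_univ)
  haveI : IsIso (pullback.snd g (Spec.map ψ)) := isIso_of_isClosedImmersion_of_surjective _
  refine ⟨inv (pullback.snd g (Spec.map ψ)) ≫ pullback.fst g (Spec.map ψ) ≫ s, ?_⟩
  rw [Category.assoc, Category.assoc, hsg, pullback.condition, IsIso.inv_hom_id_assoc]

/-- generators of `f^* M~` on `U`, pulled back along a section over `Spec (R/K)`, give generators of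
`M` modulo `K`. -/
theorem exists_gens_mod {U : Scheme.{u}} (f : U ⟶ Spec R) (N : ℕ)
    (φ : FlatMod.freeMod U N ⟶ (Scheme.Modules.pullback f).obj (tilde M)) [Epi φ]
    (K : Ideal R) (t : Spec (CommRingCat.of (R ⧸ K)) ⟶ U)
    (ht : t ≫ f = Spec.map (CommRingCat.ofHom (Ideal.Quotient.mk K))) :
    ∃ x' : Fin N → M, Submodule.span R (Set.range x') ⊔ K • (⊤ : Submodule R M) = ⊤ := by
  let A : CommRingCat.{u} := CommRingCat.of (R ⧸ K)
  let ψ : R ⟶ A := CommRingCat.ofHom (Ideal.Quotient.mk K)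
  let P' : ModuleCat.{u} A := (ModuleCat.extendScalars ψ.hom).obj M
  haveI : (Scheme.Modules.pullback t).IsLeftAdjoint :=
    (Scheme.Modules.pullbackPushforwardAdjunction t).isLeftAdjoint
  let iso1 : (Scheme.Modules.pullback t).obj ((Scheme.Modules.pullback f).obj (tilde M)) ≅
      (Scheme.Modules.pullback (t ≫ f)).obj (tilde M) :=
    (Scheme.Modules.pullbackComp t f).app (tilde M)
  let iso2 : (Scheme.Modules.pullback (t ≫ f)).obj (tilde M) ≅
      (Scheme.Modules.pullback (Spec.map ψ)).obj (tilde M) :=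
    (Scheme.Modules.pullbackCongr ht).app (tilde M)
  let iso3 : (Scheme.Modules.pullback (Spec.map ψ)).obj (tilde M) ≅ tilde P' :=
    Groth.Agent.Lib.Helper20.OmegaAff.pullbackTildeObjIso ψ M
  let p : (Scheme.Modules.pullback t).obj (FlatMod.freeMod U N) ⟶ tilde P' :=
    (Scheme.Modules.pullback t).map φ ≫ iso1.hom ≫ iso2.hom ≫ iso3.hom
  haveI : Epi ((Scheme.Modules.pullback t).map φ) := inferInstance
  haveI : Epi p := epi_comp _ _
  let Θ : FlatMod.freeMod (Spec A) N ⟶ tilde P' :=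
    Sigma.desc (fun k : Fin N => (Groth.Agent.Lib.Helper23.PB.pullbackUnitIso t).inv ≫
      (Scheme.Modules.pullback t).map (Sigma.ι (fun _ : Fin N => Coh.structureModule U) k) ≫ p)
  haveI : Epi Θ := epi_desc_of_isLeftAdjoint (Scheme.Modules.pullback t)
    (fun _ : Fin N => Coh.structureModule U) (fun _ : Fin N => Coh.structureModule (Spec A))
    (fun _ => (Groth.Agent.Lib.Helper23.PB.pullbackUnitIso t).inv) p
  haveI : (FlatMod.freeMod (Spec A) N).IsQuasicoherent :=
    Groth.Agent.Lib.Helper23.Serre.isQuasicoherent_freeMod N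
  have hsurj := Groth.Agent.Lib.Helper23.FinType.surjective_app_of_epi Θ (isAffineOpen_top (Spec A))
  let tt : Fin N → Γ(tilde P', ⊤) := fun k =>
    sv (Sigma.ι (fun _ : Fin N => Coh.structureModule (Spec A)) k ≫ Θ) ⊤
  have htt : Submodule.span Γ(Spec A, ⊤) (Set.range tt) = ⊤ := by
    rw [eq_top_iff]
    intro z _
    obtain ⟨b, rfl⟩ := hsurj z
    exact Groth.Agent.Lib.R2LeadGenCov.app_mem_span_of_freeMod Θ ⊤ b
  obtain ⟨ρ, hρ, e, he⟩ := Groth.Agent.Lib.Helper2.FPAff.exists_semilinear_Γtop A (tilde P')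
  let E : P' ≅ (moduleSpecΓFunctor (R := A)).obj (tilde P') :=
    (tilde.toTildeΓNatIso (R := A)).app P'
  let ε : P' ≃+ Γ(tilde P', ⊤) := E.toLinearEquiv.toAddEquiv.trans e
  have hε : ∀ (a : A) (z : P'), ε (a • z) = ρ a • ε z := by
    intro a z
    change e (E.toLinearEquiv (a • z)) = ρ a • e (E.toLinearEquiv z)
    rw [map_smul, he]
  let j : M →+ P' := (TensorProduct.mk R (R ⧸ K) M 1).toAddMonoidHom
  have hone : ∀ r : R, r • (1 : R ⧸ K) = Ideal.Quotient.mk K r := by
    intro r
    rw [Algebra.smul_def, mul_one]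
    rfl
  have hj0 : ∀ (r : R) (m : M), (1 : R ⧸ K) ⊗ₜ[R] (r • m) = (Ideal.Quotient.mk K r) ⊗ₜ[R] m := by
    intro r m
    rw [← TensorProduct.smul_tmul, hone]
  have hj : ∀ (r : R) (m : M), j (r • m) = ψ.hom r • j m := by
    intro r m
    refine Eq.trans ?_
      (ModuleCat.ExtendScalars.smul_tmul (f := ψ.hom) (M := M) (ψ.hom r) 1 m).symm
    rw [mul_one]
    exact hj0 r m
  have hjs : Function.Surjective j := by
    intro z
    induction z using TensorProduct.induction_on with
    | zero => exact ⟨0, map_zero _⟩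
    | tmul a m =>
      obtain ⟨r, rfl⟩ := Ideal.Quotient.mk_surjective a
      exact ⟨r • m, hj0 r m⟩
    | add z₁ z₂ h₁ h₂ =>
      obtain ⟨a₁, rfl⟩ := h₁
      obtain ⟨a₂, rfl⟩ := h₂
      exact ⟨a₁ + a₂, map_add _ _ _⟩
  have hker : ∀ m : M, j m = 0 → m ∈ (RingHom.ker ψ.hom) • (⊤ : Submodule R M) := by
    intro m hm
    have hk : RingHom.ker ψ.hom = K := Ideal.mk_ker
    rw [hk]
    have h2 : (TensorProduct.quotTensorEquivQuotSMul M K) ((Ideal.Quotient.mk K 1) ⊗ₜ[R] m) = 0 := by
      have := congrArg (TensorProduct.quotTensorEquivQuotSMul M K) hm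
      exact this.trans (map_zero _)
    rw [TensorProduct.quotTensorEquivQuotSMul_mk_tmul, one_smul] at h2
    exact (Submodule.Quotient.mk_eq_zero _).1 h2
  have key := Groth.Agent.Lib.R2LeadNisGenA.exists_lift_generators ψ.hom
    Ideal.Quotient.mk_surjective ρ hρ.surjective ε hε j hj hjs hker tt htt
  have hk : RingHom.ker ψ.hom = K := Ideal.mk_ker
  rw [hk] at key
  exact key

theorem main [Module.Finite R M] {U : Scheme.{u}}
    (f : U ⟶ Spec R) (m N : ℕ) (hf : W4c5algebraiztannaka.IsNisCoverLen f m)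
    (hgen : ∃ φ : FlatMod.freeMod U N ⟶ (Scheme.Modules.pullback f).obj (tilde M), Epi φ) :
    ∃ s : Fin (N * m) → M, Submodule.span R (Set.range s) = ⊤ := by
  obtain ⟨φ, hφ⟩ := hgen
  obtain ⟨Z, h0, hm, -, hcc, hsect⟩ := hf.flag
  refine Groth.Agent.Lib.R2LeadNisGenA.exists_generators_of_strata (R := R) (M := M) N m Z h0 hm
    (fun k => (hcc k).1) ?_
  intro k K hK hKW
  obtain ⟨t, ht⟩ := exists_section_over_quotient R f _ (hsect k) K hK hKW
  exact exists_gens_mod R M f N φ K t ht

end Groth.Agent.Lib.R2LeadNisGenB
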