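import Mathlib
import Groth.Prelude.Def_Pi1
import Groth.Prelude.Def_CurvBase
import Groth.Agent.Lib.H9CurveFamNormal
import Groth.Agent.Lib.R2H2NodalRed
import Groth.Agent.Lib.Helper6SmGeom

/-!
# Normality of nodal families over a Dedekind base (lead)

* `isReduced_stalk_of_atWorstNodal`: the local rings of an at-worst-nodal scheme locally of finite
  type over a field are reduced (no quasi-compactness).
* `pointwise'`: variant of `H9CurveFamNormal.pointwise` with normality of the local rings of the
  total space over the generic point as hypothesis.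
* `main`: S7889.
-/

set_option autoImplicit false
set_option linter.style.haveILetI false
universe u

open AlgebraicGeometry CategoryTheory IsLocalRing

namespace Groth.Agent.Lib.R2LeadNodalNorm

section Reduced

attribute [local instance] Curv2.stalkAlgebra

variable (k : Type u) [Field k] (X : Scheme.{u}) [X.Over (Spec (CommRingCat.of k))]
  [LocallyOfFiniteType (X ↘ Spec (CommRingCat.of k))]

theorem isReduced_stalk_of_atWorstNodal (h : Curv2.AtWorstNodal k X) (y : X) :
    _root_.IsReduced (X.presheaf.stalk y) := by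
  haveI : JacobsonSpace ↥(Spec (CommRingCat.of k)) := inferInstance
  haveI : JacobsonSpace X := LocallyOfFiniteType.jacobsonSpace (X ↘ Spec (CommRingCat.of k))
  obtain ⟨y₀, hy₀, hcl⟩ := nonempty_inter_closedPoints (X := X) (Z := closure ({y} : Set X))
    ⟨y, subset_closure rfl⟩ isClosed_closure.isLocallyClosed
  have hcl' : IsClosed ({y₀} : Set X) := hcl
  -- the local ring at the closed point is reduced
  have hred₀ : _root_.IsReduced (X.presheaf.stalk y₀) := by
    rcases h y₀ hcl' with ⟨U, hxU, hU⟩ | hnode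
    · haveI : AlgebraicGeometry.IsReduced (U : Scheme.{u}) :=
        Groth.Agent.Lib.Helper6.SmGeom.isReduced_of_smooth_over_field k _
          (U.ι ≫ (X ↘ Spec (CommRingCat.of k)))
      haveI : IsIso (U.ι.stalkMap ⟨y₀, hxU⟩) := inferInstance
      exact isReduced_of_injective (U.ι.stalkMap ⟨y₀, hxU⟩).hom
        ((ConcreteCategory.bijective_of_isIso (U.ι.stalkMap ⟨y₀, hxU⟩)).1)
    · haveI := Groth.Agent.Lib.R2H2.NodalRed.isGeometricallyReduced_stalk_of_isNode k X y₀ hnode
      exact Algebra.isReduced_of_isGeometricallyReduced k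
  obtain ⟨_, ⟨U, hU : IsAffineOpen U, rfl⟩, hy₀U, -⟩ :=
    X.isBasis_affineOpens.exists_subset_of_mem_open (Set.mem_univ y₀) isOpen_univ
  have hyU : y ∈ U := by
    by_contra hn
    have hsub : ({y} : Set X) ⊆ (U : Set X)ᶜ := by
      intro z hz; rw [Set.mem_singleton_iff] at hz; subst hz; exact hn
    have := closure_minimal hsub U.2.isClosed_compl hy₀
    exact this hy₀U
  letI : Algebra Γ(X, U) (X.presheaf.stalk y₀) := X.presheaf.algebra_section_stalk ⟨y₀, hy₀U⟩
  letI : Algebra Γ(X, U) (X.presheaf.stalk y) := X.presheaf.algebra_section_stalk ⟨y, hyU⟩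
  haveI : IsLocalization.AtPrime (X.presheaf.stalk y₀) (hU.primeIdealOf ⟨y₀, hy₀U⟩).asIdeal :=
    hU.isLocalization_stalk ⟨y₀, hy₀U⟩
  haveI : IsLocalization.AtPrime (X.presheaf.stalk y) (hU.primeIdealOf ⟨y, hyU⟩).asIdeal :=
    hU.isLocalization_stalk ⟨y, hyU⟩
  refine Groth.Agent.Lib.R2H2.NodalRed.isReduced_of_le (A := Γ(X, U)) (B := X.presheaf.stalk y₀)
    (C := X.presheaf.stalk y)
    (hU.primeIdealOf ⟨y₀, hy₀U⟩).asIdeal (hU.primeIdealOf ⟨y, hyU⟩).asIdeal ?_
  have hspec : y ⤳ y₀ := specializes_iff_mem_closure.mpr hy₀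
  have h1 : hU.primeIdealOf ⟨y, hyU⟩ ⤳ hU.primeIdealOf ⟨y₀, hy₀U⟩ := by
    have h2 : (⟨y, hyU⟩ : U) ⤳ ⟨y₀, hy₀U⟩ := (subtype_specializes_iff _ _).mpr hspec
    exact h2.map (hU.isoSpec.hom.base.hom.continuous)
  exact (PrimeSpectrum.le_iff_specializes _ _).mpr h1

end Reduced

section Pointwise

open Groth.Agent.Lib.H9CurveFamNormal

variable {S C : Scheme.{u}}

theorem pointwise' [IsIntegral S] [IsLocallyNoetherian S] [IsLocallyNoetherian C]
    (hS : Pi1.IsNormalScheme S) (f : C ⟶ S) [Flat f]
    (hred : ∀ x : C, _root_.IsReduced ((f.fiber (f x)).presheaf.stalk (f.asFiber x)))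
    (hdim : ∀ s : S, topologicalKrullDim ↥(f.fiber s) ≤ 1)
    (hgen : ∀ x : C, f x = genericPoint S →
      IsDomain (C.presheaf.stalk x) ∧ IsIntegrallyClosed (C.presheaf.stalk x))
    (x : C) :
    ((maximalIdeal (C.presheaf.stalk x)).height ≤ 1 → IsRegularLocalRing (C.presheaf.stalk x)) ∧
      min 2 (maximalIdeal (C.presheaf.stalk x)).height ≤
        LocCoh.depth (C.presheaf.stalk x) (C.presheaf.stalk x) := by
  letI := (f.stalkMap x).hom.toAlgebra
  haveI : IsLocalHom (algebraMap (S.presheaf.stalk (f x)) (C.presheaf.stalk x)) :=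
    inferInstanceAs (IsLocalHom (f.stalkMap x).hom)
  haveI : Module.Flat (S.presheaf.stalk (f x)) (C.presheaf.stalk x) := Flat.stalkMap f x
  haveI := (hS (f x)).1
  haveI := (hS (f x)).2
  obtain ⟨e⟩ := Groth.Agent.Lib.Helper5.FiberStalk.nonempty_stalk_asFiber_equiv f x
  have hne : (maximalIdeal (S.presheaf.stalk (f x))).map (f.stalkMap x).hom ≠ ⊤ :=
    (IsLocalRing.map_maximalIdeal_lt_top _).ne
  haveI : IsLocalRing (C.presheaf.stalk x ⧸
      (maximalIdeal (S.presheaf.stalk (f x))).map (f.stalkMap x).hom) :=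
    Groth.Agent.Lib.Helper5.isLocalRing_quotient hne
  haveI := hred x
  haveI : _root_.IsReduced (C.presheaf.stalk x ⧸
      (maximalIdeal (S.presheaf.stalk (f x))).map (f.stalkMap x).hom) :=
    isReduced_of_injective e.symm.toRingHom e.symm.injective
  have hdimF : (maximalIdeal (C.presheaf.stalk x ⧸
      (maximalIdeal (S.presheaf.stalk (f x))).map (f.stalkMap x).hom)).height ≤ 1 := by
    have h1 : ringKrullDim ((f.fiber (f x)).presheaf.stalk (f.asFiber x)) ≤ 1 :=
      (Groth.Agent.Lib.Helper4.FibDim.ringKrullDim_stalk_le_topologicalKrullDim _ _).trans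
        (hdim _)
    rw [ringKrullDim_eq_of_ringEquiv e, ← IsLocalRing.maximalIdeal_height_eq_ringKrullDim] at h1
    exact_mod_cast h1
  refine core (R := S.presheaf.stalk (f x)) (T := C.presheaf.stalk x)
    ((maximalIdeal (S.presheaf.stalk (f x))).map (f.stalkMap x).hom) rfl hdimF ?_
  intro h0
  have hη : f x = genericPoint S := eq_genericPoint_of_height_eq_zero (f x) h0
  obtain ⟨hd, hic⟩ := hgen x hη
  haveI := hd
  haveI := hic
  -- the maximal ideal of the base local ring is zero
  have hbot : maximalIdeal (S.presheaf.stalk (f x)) = ⊥ := by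
    exact Ideal.height_eq_zero_iff_eq_bot.mp h0
  have hJ : (maximalIdeal (S.presheaf.stalk (f x))).map (f.stalkMap x).hom = ⊥ := by
    rw [hbot, Ideal.map_bot]
  have hht := height_eq_add (R := S.presheaf.stalk (f x)) (T := C.presheaf.stalk x)
    ((maximalIdeal (S.presheaf.stalk (f x))).map (f.stalkMap x).hom) rfl
  have hT1 : (maximalIdeal (C.presheaf.stalk x)).height ≤ 1 := by
    rw [hht, h0, add_zero]
    exact hdimF
  haveI : IsNoetherianRing (C.presheaf.stalk x) := inferInstance
  haveI : IsRegularLocalRing (C.presheaf.stalk x) :=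
    isRegularLocalRing_of_isIntegrallyClosed_of_height_le_one _ hT1
  exact IsRegularLocalRing.of_ringEquiv
    ((Ideal.quotEquivOfEq hJ).trans (RingEquiv.quotientBot _)).symm

end Pointwise

section Main

theorem main {R : Type u} [CommRing R] [IsDedekindDomain R]
    {X : Scheme.{u}} (f : X ⟶ Spec (CommRingCat.of R)) (hf : Curv2.IsNodalFamily f)
    (hgen : ∀ x : X, (f.base x).asIdeal = ⊥ →
      IsDomain (X.presheaf.stalk x) ∧ IsIntegrallyClosed (X.presheaf.stalk x)) :
    ∀ x : X, IsDomain (X.presheaf.stalk x) ∧ IsIntegrallyClosed (X.presheaf.stalk x) := by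
  obtain ⟨hflat, hlfp, hfib⟩ := hf
  haveI := hflat
  haveI := hlfp
  haveI : IsLocallyNoetherian X := LocallyOfFiniteType.isLocallyNoetherian f
  have hS : Pi1.IsNormalScheme (Spec (CommRingCat.of R)) := by
    intro s
    let e : (Spec (CommRingCat.of R)).presheaf.stalk s ≃+* Localization.AtPrime s.asIdeal :=
      (StructureSheaf.stalkIso R s).symm.toRingEquiv
    haveI : IsIntegrallyClosed (Localization.AtPrime s.asIdeal) :=
      isIntegrallyClosed_of_isLocalization _ s.asIdeal.primeCompl
        s.asIdeal.primeCompl_le_nonZeroDivisors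
    exact ⟨e.toMulEquiv.isDomain _, IsIntegrallyClosed.of_equiv e.symm⟩
  have hN : Pi1.IsNormalScheme X := by
    apply Groth.Agent.Lib.H9CurveFamNormal.isNormalScheme_of_pointwise
    intro x
    refine pointwise' hS f (fun x => ?_) (fun s => ?_) (fun x hx => ?_) x
    · letI : (f.fiber (f x)).Over (Spec ((Spec (CommRingCat.of R)).residueField (f x))) :=
        ⟨f.fiberToSpecResidueField (f x)⟩
      haveI : LocallyOfFiniteType (f.fiber (f x) ↘
          Spec ((Spec (CommRingCat.of R)).residueField (f x))) :=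
        (MorphismProperty.pullback_snd (P := @LocallyOfFiniteType) _ _ inferInstance :
          LocallyOfFiniteType (f.fiberToSpecResidueField (f x)))
      exact isReduced_stalk_of_atWorstNodal _ (f.fiber (f x)) (hfib (f x)).2 (f.asFiber x)
    · exact Groth.Agent.Lib.R2H2.NodalRed.topologicalKrullDim_le_of_irreducibleComponents 1
        (fun Z hZ => ((hfib s).1 Z hZ).le)
    · apply hgen x
      have h1 : f.base x = genericPoint (Spec (CommRingCat.of R)) := hx
      rw [h1, genericPoint_eq_bot_of_affine]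
      rfl
  exact hN

end Main

end Groth.Agent.Lib.R2LeadNodalNorm
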