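import Mathlib
import Groth.Prelude.Def_W4c2arithlefschetzNode
import Groth.Agent.Lib.R2H7NodeAlgStabLen

/-!
# Residual fixed-point ideals (colon ideals) of branch-stabilizing automorphisms of the node algebra

Builds on helper7's `R2H7NodeAlg*` libraries.
-/

set_option autoImplicit false
universe u

namespace Groth.Agent.Lib.R2Lead.NodeColon

open IsLocalRing MvPowerSeries Groth.Agent.Lib.Helper19 Groth.Agent.Lib.Helper5
  Groth.Agent.Lib.R2H7.NodeAlgReg Groth.Agent.Lib.R2H7.NodeAlgFix

variable {B : Type u} [CommRing B] [IsDomain B] [IsDiscreteValuationRing B]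

/-- `length N/(a, t^m e^n) = m length N/(t, a) + n length N/(e, a)`. -/
theorem length_quotient_span_a_mul_pow' {π : B} (hπ : Irreducible π)
    [IsLocalRing (ArLef.NodeAlg B π)]
    (a : ArLef.NodeAlg B π) (ha : a ∈ maximalIdeal (ArLef.NodeAlg B π)) (m n : ℕ)
    (hea : n ≠ 0 → ¬ ArLef.NodeAlg.e π ∣ a) (hta : m ≠ 0 → ¬ ArLef.NodeAlg.t π ∣ a) :
    Module.length (ArLef.NodeAlg B π) (ArLef.NodeAlg B π ⧸
      Ideal.span {a, ArLef.NodeAlg.t π ^ m * ArLef.NodeAlg.e π ^ n}) =
      (m : ℕ∞) * Module.length (ArLef.NodeAlg B π) (ArLef.NodeAlg B π ⧸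
        Ideal.span {ArLef.NodeAlg.t π, a}) +
      (n : ℕ∞) * Module.length (ArLef.NodeAlg B π) (ArLef.NodeAlg B π ⧸
        Ideal.span {ArLef.NodeAlg.e π, a}) := by
  have hreg := (isRegularLocalRing_nodeAlg hπ).1
  have hdim := (isRegularLocalRing_nodeAlg hπ).2
  have key := Groth.Agent.Lib.R2H7.NormLength.length_prod_cons hdim [a] (by simp)
    (by
      intro x hx
      rw [List.mem_singleton] at hx
      rw [hx]
      exact ha)
    (List.replicate m (ArLef.NodeAlg.t π) ++ List.replicate n (ArLef.NodeAlg.e π))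
    (by
      intro f hf
      rcases List.mem_append.mp hf with hf | hf
      · rw [List.eq_of_mem_replicate hf]
        exact t_mem_maximalIdeal hπ
      · rw [List.eq_of_mem_replicate hf]
        exact e_mem_maximalIdeal hπ)
    (by
      intro f hf
      rcases List.mem_append.mp hf with hf | hf
      · have hk : m ≠ 0 := (List.mem_replicate.mp hf).1
        rw [List.eq_of_mem_replicate hf]
        exact le_radical_ofList_pair hπ (prime_t hπ) (hta hk)
      · have hk : n ≠ 0 := (List.mem_replicate.mp hf).1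
        rw [List.eq_of_mem_replicate hf]
        exact le_radical_ofList_pair hπ (prime_e hπ) (hea hk))
  rw [List.prod_append, List.prod_replicate, List.prod_replicate, List.map_append,
    List.map_replicate, List.map_replicate, List.sum_append, List.sum_replicate,
    List.sum_replicate, ofList_pair_eq_span, ofList_pair_eq_span, ofList_pair_eq_span,
    nsmul_eq_mul, nsmul_eq_mul] at key
  rw [Set.pair_comm]
  exact key

/-- S19596. -/
theorem length_quot_fixIdeal_colon_dvd (π : B) (hπ : Irreducible π)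
    (j i₁ i₂ : ℕ) (h12 : i₁ ≤ i₂) (h2 : 0 < i₂) (h2j : i₂ < j) (γ : B) (hγ : IsUnit γ)
    (σ : ArLef.NodeAlg B π ≃+* ArLef.NodeAlg B π)
    (hσB : ∀ c : B, σ (algebraMap B (ArLef.NodeAlg B π) c) - algebraMap B (ArLef.NodeAlg B π) c ∈
      Ideal.span ({algebraMap B (ArLef.NodeAlg B π) (π ^ j)} : Set (ArLef.NodeAlg B π)))
    (hσπ : σ (algebraMap B (ArLef.NodeAlg B π) π) =
      algebraMap B (ArLef.NodeAlg B π) (π + γ * π ^ j))
    (α β : (ArLef.NodeAlg B π)ˣ)
    (ht : σ (ArLef.NodeAlg.t π) = (α : ArLef.NodeAlg B π) * ArLef.NodeAlg.t π)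
    (he : σ (ArLef.NodeAlg.e π) = (β : ArLef.NodeAlg B π) * ArLef.NodeAlg.e π)
    (a b : ArLef.NodeAlg B π)
    (ha : (α : ArLef.NodeAlg B π) - 1 = ArLef.NodeAlg.t π ^ i₁ * ArLef.NodeAlg.e π ^ i₂ * a)
    (hb : (β : ArLef.NodeAlg B π) - 1 = ArLef.NodeAlg.t π ^ i₁ * ArLef.NodeAlg.e π ^ i₂ * b)
    (hea : ¬ (ArLef.NodeAlg.e π ∣ a)) (htb : ¬ (ArLef.NodeAlg.t π ∣ b)) :
    Module.length (ArLef.NodeAlg B π) (ArLef.NodeAlg B π ⧸ (ArLef.fixIdeal σ).colon
        ({ArLef.NodeAlg.t π ^ i₁ * ArLef.NodeAlg.e π ^ i₂} : Set (ArLef.NodeAlg B π))) =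
      1 + ((j - i₁ : ℕ) : ℕ∞) * Module.length (ArLef.NodeAlg B π) (ArLef.NodeAlg B π ⧸
          Ideal.span ({ArLef.NodeAlg.t π, b} : Set (ArLef.NodeAlg B π))) +
        ((j - i₂ : ℕ) : ℕ∞) * Module.length (ArLef.NodeAlg B π) (ArLef.NodeAlg B π ⧸
          Ideal.span ({ArLef.NodeAlg.e π, a} : Set (ArLef.NodeAlg B π))) := by
  have hdom := isDomain_nodeAlg hπ
  have hloc := isLocalRing_nodeAlg hπ
  obtain ⟨k, rfl⟩ : ∃ k, j = k + 1 := ⟨j - 1, by omega⟩
  obtain ⟨m', hm'⟩ : ∃ m', k = i₁ + m' := ⟨k - i₁, by omega⟩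
  obtain ⟨n', hn'⟩ : ∃ n', k = i₂ + n' := ⟨k - i₂, by omega⟩
  have hjm : k + 1 - i₁ = m' + 1 := by omega
  have hjn : k + 1 - i₂ = n' + 1 := by omega
  rw [hjm, hjn]
  have hte : ArLef.NodeAlg.t π * ArLef.NodeAlg.e π = algebraMap B (ArLef.NodeAlg B π) π :=
    Groth.Agent.Lib.Helper22.nodeAlg_t_mul_e π
  have htm := t_mem_maximalIdeal hπ
  have hem := e_mem_maximalIdeal hπ
  have hpt := prime_t hπ
  have hpe := prime_e hπ
  have hne := e_notMem_span_t hπ
  have hLte := length_quotient_t_mul_e hπ b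
  have hLa := fun (ha : a ∈ maximalIdeal (ArLef.NodeAlg B π)) =>
    length_quotient_span_a_mul_pow' hπ a ha m' (n' + 1) (fun _ => hea)
  have hfixle := fixIdeal_le_nodeAlg hπ σ
  have hte0 := te_ne_zero hπ
  generalize ArLef.NodeAlg.t π = t at *
  generalize ArLef.NodeAlg.e π = e at *
  have hcu : IsUnit (algebraMap B (ArLef.NodeAlg B π) γ) := hγ.map _
  have hσp : σ (algebraMap B (ArLef.NodeAlg B π) π) = algebraMap B (ArLef.NodeAlg B π) π +
      algebraMap B (ArLef.NodeAlg B π) γ * algebraMap B (ArLef.NodeAlg B π) π ^ (k + 1) := by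
    rw [hσπ, map_add, map_mul, map_pow]
  have hσB' : ∀ b : B, σ (algebraMap B (ArLef.NodeAlg B π) b) -
      algebraMap B (ArLef.NodeAlg B π) b ∈
      Ideal.span ({algebraMap B (ArLef.NodeAlg B π) π ^ (k + 1)} : Set (ArLef.NodeAlg B π)) := by
    intro b
    rw [← map_pow]
    exact hσB b
  generalize algebraMap B (ArLef.NodeAlg B π) γ = c at *
  generalize algebraMap B (ArLef.NodeAlg B π) π = p at *
  clear hσB hσπ
  have h1 : σ t * σ e = σ p := by rw [← map_mul, hte]
  have hαβ : (α : ArLef.NodeAlg B π) * β = 1 + c * p ^ k := by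
    have h2 : ((α : ArLef.NodeAlg B π) * β) * p = (1 + c * p ^ k) * p := by
      have h3 := h1
      rw [ht, he, hσp] at h3
      linear_combination h3 - ((α : ArLef.NodeAlg B π) * β) * hte
    rw [← hte] at h2
    rw [← hte]
    exact mul_right_cancel₀ hte0 h2
  have ht0 : t ≠ 0 := hpt.ne_zero
  have he0 : e ≠ 0 := hpe.ne_zero
  obtain ⟨D, hD⟩ : ∃ D, D = t ^ i₁ * e ^ i₂ := ⟨_, rfl⟩
  have hD0 : D ≠ 0 := by rw [hD]; exact mul_ne_zero (pow_ne_zero _ ht0) (pow_ne_zero _ he0)
  rw [← hD] at ha hb ⊢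
  have hα_eq : (α : ArLef.NodeAlg B π) = 1 + D * a := by rw [← ha]; ring
  have hβ_eq : (β : ArLef.NodeAlg B π) = 1 + D * b := by rw [← hb]; ring
  have hpk0 : p ^ k = D * (t ^ m' * e ^ n') := by
    have e1 : t ^ k = t ^ i₁ * t ^ m' := by rw [← pow_add, ← hm']
    have e2 : e ^ k = e ^ i₂ * e ^ n' := by rw [← pow_add, ← hn']
    rw [hD, ← hte, mul_pow, e1, e2]; ring
  have hR : a + b + D * a * b = c * (t ^ m' * e ^ n') := by
    apply mul_left_cancel₀ hD0
    rw [hα_eq, hβ_eq, hpk0] at hαβ
    linear_combination hαβ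
  have hσt : σ t - t = D * (a * t) := by rw [ht, hα_eq]; ring
  have hσe : σ e - e = D * (b * e) := by rw [he, hβ_eq]; ring
  have hpk : p ^ (k + 1) = D * (t ^ (m' + 1) * e ^ (n' + 1)) := by
    rw [pow_succ, hpk0, ← hte]; ring
  -- the fixed-point ideal
  have hfix : ArLef.fixIdeal σ = Ideal.span {D * (a * t), D * (b * e), p ^ (k + 1)} := by
    apply le_antisymm
    · apply hfixle
      · intro b'
        refine ((Ideal.span_singleton_le_iff_mem _).mpr ?_) (hσB' b')
        exact Ideal.subset_span (by simp)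
      · rw [hσt]
        exact Ideal.subset_span (by simp)
      · rw [hσe]
        exact Ideal.subset_span (by simp)
    · rw [Ideal.span_le]
      rintro x (rfl | rfl | rfl)
      · rw [← hσt]
        exact sub_mem_fixIdeal _ _
      · rw [← hσe]
        exact sub_mem_fixIdeal _ _
      · have h2 : c * p ^ (k + 1) ∈ ArLef.fixIdeal σ := by
          have h3 : c * p ^ (k + 1) = σ p - p := by rw [hσp]; ring
          rw [h3]
          exact sub_mem_fixIdeal _ _
        exact (Ideal.unit_mul_mem_iff_mem _ hcu).mp h2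
  -- the colon by `D`
  have hcolonD : (ArLef.fixIdeal σ).colon ({D} : Set (ArLef.NodeAlg B π)) =
      Ideal.span {a * t, b * e, t ^ (m' + 1) * e ^ (n' + 1)} := by
    ext x
    rw [Submodule.mem_colon_singleton, hfix, smul_eq_mul]
    constructor
    · intro hx
      obtain ⟨u, z, hz, hx⟩ := Ideal.mem_span_insert.mp hx
      obtain ⟨v, z', hz', rfl⟩ := Ideal.mem_span_insert.mp hz
      obtain ⟨w, rfl⟩ := Ideal.mem_span_singleton'.mp hz'
      have hx' : x = u * (a * t) + (v * (b * e) + w * (t ^ (m' + 1) * e ^ (n' + 1))) := by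
        apply mul_left_cancel₀ hD0
        rw [hpk] at hx
        linear_combination hx
      rw [hx']
      exact Ideal.add_mem _ (Ideal.mul_mem_left _ _ (Ideal.subset_span (by simp)))
        (Ideal.add_mem _ (Ideal.mul_mem_left _ _ (Ideal.subset_span (by simp)))
          (Ideal.mul_mem_left _ _ (Ideal.subset_span (by simp))))
    · intro hx
      obtain ⟨u, z, hz, rfl⟩ := Ideal.mem_span_insert.mp hx
      obtain ⟨v, z', hz', rfl⟩ := Ideal.mem_span_insert.mp hz
      obtain ⟨w, rfl⟩ := Ideal.mem_span_singleton'.mp hz'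
      have : (u * (a * t) + (v * (b * e) + w * (t ^ (m' + 1) * e ^ (n' + 1)))) * D =
          u * (D * (a * t)) + (v * (D * (b * e)) + w * p ^ (k + 1)) := by
        rw [hpk]; ring
      rw [this]
      exact Ideal.add_mem _ (Ideal.mul_mem_left _ _ (Ideal.subset_span (by simp)))
        (Ideal.add_mem _ (Ideal.mul_mem_left _ _ (Ideal.subset_span (by simp)))
          (Ideal.mul_mem_left _ _ (Ideal.subset_span (by simp))))
  -- the colon by `t`
  have hbe : b * e = c * (t ^ m' * e ^ (n' + 1)) - a * ((1 + D * b) * e) := by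
    linear_combination e * hR
  have hcolon := Groth.Agent.Lib.Helper5.HilbertRLR.length_eq_add_of_colon
    (Ideal.span {a, t ^ m' * e ^ (n' + 1)})
    (Ideal.span {a * t, b * e, t ^ (m' + 1) * e ^ (n' + 1)}) t
    (by
      intro y hy
      obtain ⟨u, v, rfl⟩ := Ideal.mem_span_pair.mp hy
      have h2 : t * (u * a + v * (t ^ m' * e ^ (n' + 1))) =
          u * (a * t) + v * (t ^ (m' + 1) * e ^ (n' + 1)) := by ring
      rw [h2]
      exact Ideal.add_mem _ (Ideal.mul_mem_left _ _ (Ideal.subset_span (by simp)))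
        (Ideal.mul_mem_left _ _ (Ideal.subset_span (by simp))))
    (by
      intro y hy
      obtain ⟨u, z, hz, hy⟩ := Ideal.mem_span_insert.mp hy
      obtain ⟨v, w, rfl⟩ := Ideal.mem_span_pair.mp hz
      have h2 : t * (y - u * a - w * (t ^ m' * e ^ (n' + 1))) = v * (b * e) := by
        linear_combination hy
      have h3 : t ∣ v * (b * e) := ⟨_, h2.symm⟩
      have h4 : t ∣ v := by
        rcases hpt.dvd_or_dvd h3 with h | h
        · exact h
        · rcases hpt.dvd_or_dvd h with h | h
          · exact absurd h htb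
          · exact absurd (Ideal.mem_span_singleton.mpr h) hne
      obtain ⟨v', rfl⟩ := h4
      have h5 : y - u * a - w * (t ^ m' * e ^ (n' + 1)) = v' * (b * e) := by
        apply mul_left_cancel₀ hpt.ne_zero
        rw [h2]; ring
      have h6 : y = u * a + w * (t ^ m' * e ^ (n' + 1)) + v' * (b * e) := by
        rw [← h5]; ring
      rw [h6, hbe]
      refine Ideal.add_mem _ (Ideal.add_mem _ (Ideal.mul_mem_left _ _ (Ideal.subset_span (by simp)))
        (Ideal.mul_mem_left _ _ (Ideal.subset_span (by simp)))) (Ideal.mul_mem_left _ _ ?_)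
      exact Ideal.sub_mem _ (Ideal.mul_mem_left _ _ (Ideal.subset_span (by simp)))
        (Ideal.mul_mem_right _ _ (Ideal.subset_span (by simp))))
  have hsup : Ideal.span {a * t, b * e, t ^ (m' + 1) * e ^ (n' + 1)} ⊔ Ideal.span {t} =
      Ideal.span {e} * Ideal.span {b} ⊔ Ideal.span {t} := by
    apply le_antisymm
    · refine sup_le ?_ le_sup_right
      rw [Ideal.span_le]
      rintro x (rfl | rfl | rfl)
      · exact Ideal.mem_sup_right (Ideal.mul_mem_left _ _ (Ideal.subset_span rfl))
      · refine Ideal.mem_sup_left ?_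
        rw [mul_comm b e]
        exact Ideal.mul_mem_mul (Ideal.subset_span rfl) (Ideal.subset_span rfl)
      · refine Ideal.mem_sup_right ?_
        rw [pow_succ, mul_assoc]
        exact Ideal.mul_mem_left _ _ (Ideal.mul_mem_right _ _ (Ideal.subset_span rfl))
    · refine sup_le ?_ le_sup_right
      rw [Ideal.span_singleton_mul_span_singleton, Ideal.span_singleton_le_iff_mem]
      refine Ideal.mem_sup_left ?_
      rw [mul_comm e b]
      exact Ideal.subset_span (by simp)
  rw [hcolonD, hcolon, hsup, hLte]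
  have hαu : IsUnit (1 + D * a) := by rw [← hα_eq]; exact α.isUnit
  have hbα : b * (1 + D * a) = c * (t ^ m' * e ^ n') - a := by linear_combination hR
  by_cases hau : IsUnit a
  · -- `a` a unit
    rw [length_quotient_eq_zero_of_isUnit_mem hau (Ideal.subset_span (by simp)),
      length_quotient_eq_zero_of_isUnit_mem (I := Ideal.span {e, a}) hau
        (Ideal.subset_span (by simp))]
    rcases Nat.eq_zero_or_pos m' with rfl | hk
    · simp
    · have hbu : IsUnit b := by
        have h3 : IsUnit (c * (t ^ m' * e ^ n') - a) := by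
          by_contra hnu
          have h4 : c * (t ^ m' * e ^ n') - a ∈ maximalIdeal (ArLef.NodeAlg B π) := hnu
          have h5 : c * (t ^ m' * e ^ n') ∈ maximalIdeal (ArLef.NodeAlg B π) :=
            Ideal.mul_mem_left _ _ (Ideal.mul_mem_right _ _ (Ideal.pow_mem_of_mem _ htm m' hk))
          have h6 : a ∈ maximalIdeal (ArLef.NodeAlg B π) := by
            have := Ideal.sub_mem _ h5 h4
            rwa [sub_sub_cancel] at this
          exact h6 hau
        rw [← hbα] at h3
        exact isUnit_of_mul_isUnit_left h3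
      rw [length_quotient_eq_zero_of_isUnit_mem (I := Ideal.span {t, b}) hbu
        (Ideal.subset_span (by simp))]
      simp
  · have ham : a ∈ maximalIdeal (ArLef.NodeAlg B π) := hau
    rcases Nat.eq_zero_or_pos m' with rfl | hk
    · rw [hLa ham (fun h => absurd rfl h)]
      simp
      ring
    · have hpk' : t ^ m' * e ^ n' = t * (t ^ (m' - 1) * e ^ n') := by
        obtain ⟨k', rfl⟩ : ∃ k', m' = k' + 1 := ⟨m' - 1, by omega⟩
        rw [Nat.add_sub_cancel, pow_succ]
        ring
      have hta : ¬ t ∣ a := by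
        intro hdvd
        apply htb
        have h2 : t ∣ b * (1 + D * a) := by
          rw [hbα, hpk']
          exact dvd_sub ⟨c * (t ^ (m' - 1) * e ^ n'), by ring⟩ hdvd
        rcases hpt.dvd_or_dvd h2 with h | h
        · exact h
        · exact absurd (isUnit_of_dvd_unit h hαu) hpt.not_isUnit
      have hspan : Ideal.span {t, b} = Ideal.span {t, a} := by
        obtain ⟨w, hw⟩ := hαu.exists_left_inv
        apply le_antisymm
        · rw [Ideal.span_le]
          rintro x (rfl | rfl)
          · exact Ideal.subset_span (by simp)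
          · have h2 : x = w * (c * (t ^ m' * e ^ n') - a) := by
              rw [← hbα]
              linear_combination (-x) * hw
            rw [h2, hpk']
            refine Ideal.mul_mem_left _ _ (Ideal.sub_mem _ ?_ (Ideal.subset_span (by simp)))
            exact Ideal.mul_mem_left _ _ (Ideal.mul_mem_right _ _ (Ideal.subset_span (by simp)))
        · rw [Ideal.span_le]
          rintro x (rfl | rfl)
          · exact Ideal.subset_span (by simp)
          · have h2 : x = c * (t ^ m' * e ^ n') - b * (1 + D * x) := by rw [hbα]; ring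
            rw [h2, hpk']
            refine Ideal.sub_mem _ ?_ (Ideal.mul_mem_right _ _ (Ideal.subset_span (by simp)))
            exact Ideal.mul_mem_left _ _ (Ideal.mul_mem_right _ _ (Ideal.subset_span (by simp)))
      rw [hLa ham (fun _ => hta), hspan]
      push_cast
      ring

end Groth.Agent.Lib.R2Lead.NodeColon
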