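import Mathlib
import Groth.Prelude.Def_W4c2arithlefschetzNode
import Groth.Agent.Lib.R2LeadNodeColon

/-!
# Residual fixed-point ideals of branch-stabilizing automorphisms of the node algebra, II

The case where the second branch has the maximal multiplicity `j`.
-/

set_option autoImplicit false
universe u

namespace Groth.Agent.Lib.R2Lead.NodeColon

open IsLocalRing MvPowerSeries Groth.Agent.Lib.Helper19 Groth.Agent.Lib.Helper5
  Groth.Agent.Lib.R2H7.NodeAlgReg Groth.Agent.Lib.R2H7.NodeAlgFix

variable {B : Type u} [CommRing B] [IsDomain B] [IsDiscreteValuationRing B]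

/-- S19597. -/
theorem length_quot_fixIdeal_colon_pow_dvd (π : B) (hπ : Irreducible π)
    (j i₁ : ℕ) (h1 : i₁ < j) (γ : B) (hγ : IsUnit γ)
    (σ : ArLef.NodeAlg B π ≃+* ArLef.NodeAlg B π)
    (hσB : ∀ c : B, σ (algebraMap B (ArLef.NodeAlg B π) c) - algebraMap B (ArLef.NodeAlg B π) c ∈
      Ideal.span ({algebraMap B (ArLef.NodeAlg B π) (π ^ j)} : Set (ArLef.NodeAlg B π)))
    (hσπ : σ (algebraMap B (ArLef.NodeAlg B π) π) =
      algebraMap B (ArLef.NodeAlg B π) (π + γ * π ^ j))
    (α β : (ArLef.NodeAlg B π)ˣ)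
    (ht : σ (ArLef.NodeAlg.t π) = (α : ArLef.NodeAlg B π) * ArLef.NodeAlg.t π)
    (he : σ (ArLef.NodeAlg.e π) = (β : ArLef.NodeAlg B π) * ArLef.NodeAlg.e π)
    (a b : ArLef.NodeAlg B π)
    (ha : (α : ArLef.NodeAlg B π) - 1 = ArLef.NodeAlg.t π ^ i₁ * ArLef.NodeAlg.e π ^ j * a)
    (hb : (β : ArLef.NodeAlg B π) - 1 =
      ArLef.NodeAlg.t π ^ i₁ * ArLef.NodeAlg.e π ^ (j - 1) * b)
    (htb : ¬ (ArLef.NodeAlg.t π ∣ b)) :
    Module.length (ArLef.NodeAlg B π) (ArLef.NodeAlg B π ⧸ (ArLef.fixIdeal σ).colon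
        ({ArLef.NodeAlg.t π ^ i₁ * ArLef.NodeAlg.e π ^ j} : Set (ArLef.NodeAlg B π))) +
        ((j - 1 - i₁ : ℕ) : ℕ∞) =
      ((j - i₁ : ℕ) : ℕ∞) * Module.length (ArLef.NodeAlg B π) (ArLef.NodeAlg B π ⧸
        Ideal.span ({ArLef.NodeAlg.t π, b} : Set (ArLef.NodeAlg B π))) := by
  have hdom := isDomain_nodeAlg hπ
  have hloc := isLocalRing_nodeAlg hπ
  obtain ⟨k, rfl⟩ : ∃ k, j = k + 1 := ⟨j - 1, by omega⟩
  obtain ⟨m', hm'⟩ : ∃ m', k = i₁ + m' := ⟨k - i₁, by omega⟩
  have hjm : k + 1 - i₁ = m' + 1 := by omega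
  have hjm' : k + 1 - 1 - i₁ = m' := by omega
  rw [hjm, hjm']
  rw [Nat.add_sub_cancel] at hb
  have hte : ArLef.NodeAlg.t π * ArLef.NodeAlg.e π = algebraMap B (ArLef.NodeAlg B π) π :=
    Groth.Agent.Lib.Helper22.nodeAlg_t_mul_e π
  have htm := t_mem_maximalIdeal hπ
  have hem := e_mem_maximalIdeal hπ
  have hpt := prime_t hπ
  have hpe := prime_e hπ
  have hne := e_notMem_span_t hπ
  have hLte := length_quotient_t_mul_e hπ a
  have hLa := fun (ha : a ∈ maximalIdeal (ArLef.NodeAlg B π)) =>
    length_quotient_span_a_mul_pow' hπ a ha m' 0 (fun h => absurd rfl h)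
  have hfixle := fixIdeal_le_nodeAlg hπ σ
  have hte0 := te_ne_zero hπ
  generalize ArLef.NodeAlg.t π = t at *
  generalize ArLef.NodeAlg.e π = e at *
  have hcu : IsUnit (algebraMap B (ArLef.NodeAlg B π) γ) := hγ.map _
  have hσp : σ (algebraMap B (ArLef.NodeAlg B π) π) = algebraMap B (ArLef.NodeAlg B π) π +
      algebraMap B (ArLef.NodeAlg B π) γ * algebraMap B (ArLef.NodeAlg B π) π ^ (k + 1) := by
    rw [hσπ, map_add, map_mul, map_pow]
  have hσB' : ∀ b : B, σ (algebraMap B (ArLef.NodeAlg B π) b) -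
      algebraMap B (ArLef.NodeAlg B π) b ∈
      Ideal.span ({algebraMap B (ArLef.NodeAlg B π) π ^ (k + 1)} : Set (ArLef.NodeAlg B π)) := by
    intro b
    rw [← map_pow]
    exact hσB b
  generalize algebraMap B (ArLef.NodeAlg B π) γ = c at *
  generalize algebraMap B (ArLef.NodeAlg B π) π = p at *
  clear hσB hσπ
  have h1' : σ t * σ e = σ p := by rw [← map_mul, hte]
  have hαβ : (α : ArLef.NodeAlg B π) * β = 1 + c * p ^ k := by
    have h2 : ((α : ArLef.NodeAlg B π) * β) * p = (1 + c * p ^ k) * p := by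
      have h3 := h1'
      rw [ht, he, hσp] at h3
      linear_combination h3 - ((α : ArLef.NodeAlg B π) * β) * hte
    rw [← hte] at h2
    rw [← hte]
    exact mul_right_cancel₀ hte0 h2
  have ht0 : t ≠ 0 := hpt.ne_zero
  have he0 : e ≠ 0 := hpe.ne_zero
  obtain ⟨D', hD'⟩ : ∃ D', D' = t ^ i₁ * e ^ k := ⟨_, rfl⟩
  obtain ⟨D, hD⟩ : ∃ D, D = t ^ i₁ * e ^ (k + 1) := ⟨_, rfl⟩
  have hDD' : D = D' * e := by rw [hD, hD', pow_succ]; ring
  have hD0 : D ≠ 0 := by rw [hD]; exact mul_ne_zero (pow_ne_zero _ ht0) (pow_ne_zero _ he0)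
  have hD'0 : D' ≠ 0 := by rw [hD']; exact mul_ne_zero (pow_ne_zero _ ht0) (pow_ne_zero _ he0)
  rw [← hD] at ha ⊢
  rw [← hD'] at hb
  have hα_eq : (α : ArLef.NodeAlg B π) = 1 + D * a := by rw [← ha]; ring
  have hβ_eq : (β : ArLef.NodeAlg B π) = 1 + D' * b := by rw [← hb]; ring
  have hpk0 : p ^ k = D' * t ^ m' := by
    have e1 : t ^ k = t ^ i₁ * t ^ m' := by rw [← pow_add, ← hm']
    rw [hD', ← hte, mul_pow, e1]; ring
  have hR : e * a + b + D * a * b = c * t ^ m' := by
    apply mul_left_cancel₀ hD'0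
    rw [hα_eq, hβ_eq, hpk0, hDD'] at hαβ
    rw [hDD']
    linear_combination hαβ
  have hσt : σ t - t = D * (a * t) := by rw [ht, hα_eq]; ring
  have hσe : σ e - e = D * b := by rw [he, hβ_eq, hDD']; ring
  have hpk : p ^ (k + 1) = D * t ^ (m' + 1) := by
    rw [pow_succ, hpk0, ← hte, hDD']; ring
  -- the fixed-point ideal
  have hfix : ArLef.fixIdeal σ = Ideal.span {D * (a * t), D * b, p ^ (k + 1)} := by
    apply le_antisymm
    · apply hfixle
      · intro b'
        refine ((Ideal.span_singleton_le_iff_mem _).mpr ?_) (hσB' b')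
        exact Ideal.subset_span (by simp)
      · rw [hσt]
        exact Ideal.subset_span (by simp)
      · rw [hσe]
        exact Ideal.subset_span (by simp)
    · rw [Ideal.span_le]
      rintro x (rfl | rfl | rfl)
      · rw [← hσt]
        exact sub_mem_fixIdeal _ _
      · rw [← hσe]
        exact sub_mem_fixIdeal _ _
      · have h2 : c * p ^ (k + 1) ∈ ArLef.fixIdeal σ := by
          have h3 : c * p ^ (k + 1) = σ p - p := by rw [hσp]; ring
          rw [h3]
          exact sub_mem_fixIdeal _ _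
        exact (Ideal.unit_mul_mem_iff_mem _ hcu).mp h2
  -- the colon by `D`
  have hcolonD : (ArLef.fixIdeal σ).colon ({D} : Set (ArLef.NodeAlg B π)) =
      Ideal.span {a * t, b, t ^ (m' + 1)} := by
    ext x
    rw [Submodule.mem_colon_singleton, hfix, smul_eq_mul]
    constructor
    · intro hx
      obtain ⟨u, z, hz, hx⟩ := Ideal.mem_span_insert.mp hx
      obtain ⟨v, z', hz', rfl⟩ := Ideal.mem_span_insert.mp hz
      obtain ⟨w, rfl⟩ := Ideal.mem_span_singleton'.mp hz'
      have hx' : x = u * (a * t) + (v * b + w * t ^ (m' + 1)) := by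
        apply mul_left_cancel₀ hD0
        rw [hpk] at hx
        linear_combination hx
      rw [hx']
      exact Ideal.add_mem _ (Ideal.mul_mem_left _ _ (Ideal.subset_span (by simp)))
        (Ideal.add_mem _ (Ideal.mul_mem_left _ _ (Ideal.subset_span (by simp)))
          (Ideal.mul_mem_left _ _ (Ideal.subset_span (by simp))))
    · intro hx
      obtain ⟨u, z, hz, rfl⟩ := Ideal.mem_span_insert.mp hx
      obtain ⟨v, z', hz', rfl⟩ := Ideal.mem_span_insert.mp hz
      obtain ⟨w, rfl⟩ := Ideal.mem_span_singleton'.mp hz'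
      have : (u * (a * t) + (v * b + w * t ^ (m' + 1))) * D =
          u * (D * (a * t)) + (v * (D * b) + w * p ^ (k + 1)) := by
        rw [hpk]; ring
      rw [this]
      exact Ideal.add_mem _ (Ideal.mul_mem_left _ _ (Ideal.subset_span (by simp)))
        (Ideal.add_mem _ (Ideal.mul_mem_left _ _ (Ideal.subset_span (by simp)))
          (Ideal.mul_mem_left _ _ (Ideal.subset_span (by simp))))
  have hαu : IsUnit (1 + D * a) := by rw [← hα_eq]; exact α.isUnit
  obtain ⟨w, hw⟩ := hαu.exists_left_inv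
  have hbα : b * (1 + D * a) = c * t ^ m' - e * a := by linear_combination hR
  have hbw : b = w * (c * t ^ m' - e * a) := by
    rw [← hbα]
    linear_combination (-b) * hw
  -- the colon by `t`
  have hcolon := Groth.Agent.Lib.Helper5.HilbertRLR.length_eq_add_of_colon
    (Ideal.span {a, t ^ m' * e ^ 0})
    (Ideal.span {a * t, b, t ^ (m' + 1)}) t
    (by
      intro y hy
      obtain ⟨u, v, rfl⟩ := Ideal.mem_span_pair.mp hy
      have h2 : t * (u * a + v * (t ^ m' * e ^ 0)) =
          u * (a * t) + v * t ^ (m' + 1) := by ring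
      rw [h2]
      exact Ideal.add_mem _ (Ideal.mul_mem_left _ _ (Ideal.subset_span (by simp)))
        (Ideal.mul_mem_left _ _ (Ideal.subset_span (by simp))))
    (by
      intro y hy
      obtain ⟨u, z, hz, hy⟩ := Ideal.mem_span_insert.mp hy
      obtain ⟨v, w', rfl⟩ := Ideal.mem_span_pair.mp hz
      have h2 : t * (y - u * a - w' * t ^ m') = v * b := by
        linear_combination hy
      have h3 : t ∣ v * b := ⟨_, h2.symm⟩
      have h4 : t ∣ v := by
        rcases hpt.dvd_or_dvd h3 with h | h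
        · exact h
        · exact absurd h htb
      obtain ⟨v', rfl⟩ := h4
      have h5 : y - u * a - w' * t ^ m' = v' * b := by
        apply mul_left_cancel₀ hpt.ne_zero
        rw [h2]; ring
      have h6 : y = u * a + w' * (t ^ m' * e ^ 0) + v' * b := by
        rw [← h5]; ring
      rw [h6]
      refine Ideal.add_mem _ (Ideal.add_mem _ (Ideal.mul_mem_left _ _ (Ideal.subset_span (by simp)))
        (Ideal.mul_mem_left _ _ (Ideal.subset_span (by simp)))) (Ideal.mul_mem_left _ _ ?_)
      rw [hbw]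
      refine Ideal.mul_mem_left _ _ (Ideal.sub_mem _ ?_ ?_)
      · have : c * t ^ m' = c * (t ^ m' * e ^ 0) := by ring
        rw [this]
        exact Ideal.mul_mem_left _ _ (Ideal.subset_span (by simp))
      · exact Ideal.mul_mem_left _ _ (Ideal.subset_span (by simp)))
  have hsup : Ideal.span {a * t, b, t ^ (m' + 1)} ⊔ Ideal.span {t} = Ideal.span {t, b} := by
    apply le_antisymm
    · refine sup_le ?_ ?_
      · rw [Ideal.span_le]
        rintro x (rfl | rfl | rfl)
        · exact Ideal.mul_mem_left _ _ (Ideal.subset_span (by simp))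
        · exact Ideal.subset_span (by simp)
        · rw [pow_succ]
          exact Ideal.mul_mem_left _ _ (Ideal.subset_span (by simp))
      · rw [Ideal.span_singleton_le_iff_mem]
        exact Ideal.subset_span (by simp)
    · rw [Ideal.span_le]
      rintro x (rfl | rfl)
      · exact Ideal.mem_sup_right (Ideal.subset_span rfl)
      · exact Ideal.mem_sup_left (Ideal.subset_span (by simp))
  rw [hcolonD, hcolon, hsup]
  rcases Nat.eq_zero_or_pos m' with rfl | hk
  · have : Ideal.span {a, t ^ 0 * e ^ 0} = (⊤ : Ideal (ArLef.NodeAlg B π)) := by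
      rw [Ideal.eq_top_iff_one]
      exact Ideal.subset_span (by simp)
    rw [this]
    simp
  · have hpk' : t ^ m' = t * t ^ (m' - 1) := by
      obtain ⟨k', rfl⟩ : ∃ k', m' = k' + 1 := ⟨m' - 1, by omega⟩
      rw [Nat.add_sub_cancel, pow_succ]
      ring
    have hspan : Ideal.span {t, b} = Ideal.span {e} * Ideal.span {a} ⊔ Ideal.span {t} := by
      rw [Ideal.span_singleton_mul_span_singleton]
      apply le_antisymm
      · rw [Ideal.span_le]
        rintro x (rfl | rfl)
        · exact Ideal.mem_sup_right (Ideal.subset_span rfl)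
        · rw [hbw, hpk']
          refine Ideal.mul_mem_left _ _ (Ideal.sub_mem _ ?_ ?_)
          · refine Ideal.mem_sup_right ?_
            exact Ideal.mul_mem_left _ _ (Ideal.mul_mem_right _ _ (Ideal.subset_span rfl))
          · exact Ideal.mem_sup_left (Ideal.subset_span rfl)
      · refine sup_le ?_ ?_
        · rw [Ideal.span_singleton_le_iff_mem]
          have : e * a = c * (t * t ^ (m' - 1)) - b * (1 + D * a) := by rw [hbα, hpk']; ring
          rw [this]
          refine Ideal.sub_mem _ ?_ (Ideal.mul_mem_right _ _ (Ideal.subset_span (by simp)))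
          exact Ideal.mul_mem_left _ _ (Ideal.mul_mem_right _ _ (Ideal.subset_span (by simp)))
        · rw [Ideal.span_singleton_le_iff_mem]
          exact Ideal.subset_span (by simp)
    have hLta : Module.length (ArLef.NodeAlg B π) (ArLef.NodeAlg B π ⧸
        Ideal.span {a, t ^ m' * e ^ 0}) = (m' : ℕ∞) * Module.length (ArLef.NodeAlg B π)
          (ArLef.NodeAlg B π ⧸ Ideal.span {t, a}) := by
      by_cases hau : IsUnit a
      · rw [length_quotient_eq_zero_of_isUnit_mem hau (Ideal.subset_span (by simp)),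
          length_quotient_eq_zero_of_isUnit_mem (I := Ideal.span {t, a}) hau
            (Ideal.subset_span (by simp))]
        simp
      · have ham : a ∈ maximalIdeal (ArLef.NodeAlg B π) := hau
        have hta : ¬ t ∣ a := by
          intro hdvd
          apply htb
          have h2 : t ∣ b * (1 + D * a) := by
            rw [hbα, hpk']
            exact dvd_sub ⟨c * t ^ (m' - 1), by ring⟩ (Dvd.dvd.mul_left hdvd e)
          rcases hpt.dvd_or_dvd h2 with h | h
          · exact h
          · exact absurd (isUnit_of_dvd_unit h hαu) hpt.not_isUnit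
        rw [hLa ham (fun _ => hta)]
        simp
    rw [hLta, hspan, hLte]
    push_cast
    ring

end Groth.Agent.Lib.R2Lead.NodeColon
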