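import Mathlib
import Groth.Agent.Lib.R2LeadWEIntCl
import Groth.Agent.Lib.Helper14WEField
import Groth.Agent.S1964

set_option autoImplicit false

open TensorProduct IsLocalRing

universe u

namespace Groth.Agent.Lib.R2LeadOlivier

section piece1

/-- weakly étale is invariant under isomorphism -/
theorem weaklyEtale_of_algEquiv {R S S' : Type*} [CommRing R] [CommRing S] [CommRing S']
    [Algebra R S] [Algebra R S'] (e : S ≃ₐ[R] S') [Algebra.WeaklyEtale R S] :
    Algebra.WeaklyEtale R S' where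
  flat := Module.Flat.of_linearEquiv e.symm.toLinearEquiv
  flat_lmul' := by
    have h : Algebra.TensorProduct.lmul' R (S := S') =
        (e : S →ₐ[R] S').comp ((Algebra.TensorProduct.lmul' R (S := S)).comp
          (Algebra.TensorProduct.map (e.symm : S' →ₐ[R] S) (e.symm : S' →ₐ[R] S))) := by
      ext <;> simp
    rw [h]
    refine RingHom.Flat.comp (RingHom.Flat.comp ?_ (Algebra.WeaklyEtale.flat_lmul' R S)) ?_
    · exact RingHom.Flat.of_bijective
        (Algebra.TensorProduct.congr e.symm e.symm).bijective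
    · exact RingHom.Flat.of_bijective e.bijective

end piece1

section piece2

/-- residue field of a local weakly étale algebra over a local ring with separably closed
residue field is trivial -/
theorem exists_sub_mem_maximalIdeal (R S : Type u) [CommRing R] [CommRing S] [IsLocalRing R]
    [IsLocalRing S] [IsSepClosed (ResidueField R)] [Algebra R S] [IsLocalHom (algebraMap R S)]
    [Algebra.WeaklyEtale R S] (s : S) : ∃ r : R, s - algebraMap R S r ∈ maximalIdeal S := by
  obtain ⟨g, hg, hgs⟩ := Groth.Agent.Lib.Helper14.WEField.exists_separable_aeval_eq_zero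
    (ResidueField R) (ResidueField R ⊗[R] S) ((1 : ResidueField R) ⊗ₜ[R] s)
  let ρ : ResidueField R ⊗[R] S →ₐ[ResidueField R] ResidueField S :=
    Algebra.TensorProduct.lift (Algebra.ofId (ResidueField R) (ResidueField S))
      (IsScalarTower.toAlgHom R S (ResidueField S)) (fun _ _ => Commute.all _ _)
  have hρ : ρ ((1 : ResidueField R) ⊗ₜ[R] s) = residue S s := by
    show ρ ((1 : ResidueField R) ⊗ₜ[R] s) = _
    rw [Algebra.TensorProduct.lift_tmul, map_one, one_mul]
    rfl
  have hroot : Polynomial.aeval (residue S s) g = 0 := by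
    rw [← hρ, Polynomial.aeval_algHom_apply, hgs, map_zero]
  have hsplit : g.Splits := IsSepClosed.splits_of_separable g hg
  have hmem := hsplit.mem_range_of_isRoot hg.ne_zero
    (i := algebraMap (ResidueField R) (ResidueField S)) (x := residue S s) (by
      rw [Polynomial.IsRoot, Polynomial.eval_map_algebraMap]
      exact hroot)
  obtain ⟨c, hc⟩ := hmem
  obtain ⟨r, rfl⟩ := residue_surjective c
  refine ⟨r, ?_⟩
  rw [← residue_eq_zero_iff, map_sub, sub_eq_zero, ← hc]
  rfl

end piece2

section piece3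

variable (R S A' : Type u) [CommRing R] [CommRing S] [CommRing A'] [IsLocalRing R] [IsLocalRing S]
  [IsLocalRing A'] [Algebra R S] [Algebra R A'] [IsLocalHom (algebraMap R S)]
  [IsLocalHom (algebraMap R A')] [Algebra.IsIntegral R A'] [Module.Flat R S]

theorem includeRight_isIntegral :
    (Algebra.TensorProduct.includeRight : S →ₐ[R] A' ⊗[R] S).toRingHom.IsIntegral := by
  intro x
  obtain ⟨p, hp, hpx⟩ := Algebra.IsIntegral.isIntegral (R := S)
    ((Algebra.TensorProduct.comm R A' S) x)
  refine ⟨p, hp, ?_⟩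
  have h3 := Polynomial.hom_eval₂ p (algebraMap S (S ⊗[R] A'))
    (Algebra.TensorProduct.comm R A' S).symm.toAlgHom.toRingHom
    ((Algebra.TensorProduct.comm R A' S) x)
  rw [hpx, map_zero] at h3
  have h4 : (Algebra.TensorProduct.comm R A' S).symm.toAlgHom.toRingHom
      ((Algebra.TensorProduct.comm R A' S) x) = x :=
    (Algebra.TensorProduct.comm R A' S).symm_apply_apply x
  rw [h4] at h3
  rw [h3]
  congr 1

include R in
theorem isLocalRing_tensor (hres : ∀ s : S, ∃ r : R, s - algebraMap R S r ∈ maximalIdeal S) :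
    IsLocalRing (A' ⊗[R] S) := by
  haveI : Module.FaithfullyFlat R S := Module.FaithfullyFlat.of_flat_of_isLocalHom
  haveI : Nontrivial (A' ⊗[R] S) := inferInstance
  let iR : S →+* A' ⊗[R] S := (Algebra.TensorProduct.includeRight : S →ₐ[R] A' ⊗[R] S).toRingHom
  let iL : A' →+* A' ⊗[R] S := (Algebra.TensorProduct.includeLeft : A' →ₐ[R] A' ⊗[R] S).toRingHom
  have hR : ∀ 𝔫 : Ideal (A' ⊗[R] S), 𝔫.IsMaximal → 𝔫.comap iR = maximalIdeal S := by
    intro 𝔫 h𝔫
    haveI := h𝔫
    exact IsLocalRing.eq_maximalIdeal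
      (Ideal.isMaximal_comap_of_isIntegral_of_isMaximal' iR (includeRight_isIntegral R S A') 𝔫)
  have hL : ∀ 𝔫 : Ideal (A' ⊗[R] S), 𝔫.IsMaximal → 𝔫.comap iL = maximalIdeal A' := by
    intro 𝔫 h𝔫
    haveI := h𝔫
    haveI : (𝔫.comap iL).IsPrime := Ideal.comap_isPrime iL 𝔫
    have hle : maximalIdeal R ≤ (𝔫.comap iL).comap (algebraMap R A') := by
      intro r hr
      rw [Ideal.mem_comap, Ideal.mem_comap]
      have h1 : iL (algebraMap R A' r) = iR (algebraMap R S r) := by
        show (algebraMap R A' r) ⊗ₜ[R] (1 : S) = (1 : A') ⊗ₜ[R] (algebraMap R S r)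
        rw [Algebra.algebraMap_eq_smul_one, Algebra.algebraMap_eq_smul_one, TensorProduct.smul_tmul]
      rw [h1, ← Ideal.mem_comap, hR 𝔫 h𝔫]
      have hloc : Ideal.map (algebraMap R S) (maximalIdeal R) ≤ maximalIdeal S :=
        ((IsLocalRing.local_hom_TFAE (algebraMap R S)).out 0 2).mp
          (inferInstance : IsLocalHom (algebraMap R S))
      exact hloc (Ideal.mem_map_of_mem _ hr)
    have hmax : ((𝔫.comap iL).comap (algebraMap R A')).IsMaximal := by
      have hne : (𝔫.comap iL).comap (algebraMap R A') ≠ ⊤ :=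
        (Ideal.comap_isPrime (algebraMap R A') (𝔫.comap iL)).ne_top
      rw [← (IsLocalRing.maximalIdeal.isMaximal R).eq_of_le hne hle]
      infer_instance
    exact IsLocalRing.eq_maximalIdeal
      (Ideal.isMaximal_of_isIntegral_of_isMaximal_comap (R := R) (𝔫.comap iL) hmax)
  have hrep : ∀ x : A' ⊗[R] S, ∃ a : A', x - iL a ∈ Ideal.map iR (maximalIdeal S) := by
    intro x
    induction x using TensorProduct.induction_on with
    | zero => exact ⟨0, by simp⟩
    | tmul a s =>
      obtain ⟨r, hr⟩ := hres s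
      refine ⟨r • a, ?_⟩
      have h1 : a ⊗ₜ[R] s - iL (r • a) = iL a * iR (s - algebraMap R S r) := by
        show a ⊗ₜ[R] s - (r • a) ⊗ₜ[R] (1 : S) =
          (a ⊗ₜ[R] (1 : S)) * ((1 : A') ⊗ₜ[R] (s - algebraMap R S r))
        rw [Algebra.TensorProduct.tmul_mul_tmul, mul_one, one_mul, TensorProduct.tmul_sub,
          TensorProduct.smul_tmul, Algebra.algebraMap_eq_smul_one]
      rw [h1]
      exact Ideal.mul_mem_left _ _ (Ideal.mem_map_of_mem _ hr)
    | add x y hx hy =>
      obtain ⟨a, ha⟩ := hx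
      obtain ⟨b, hb⟩ := hy
      refine ⟨a + b, ?_⟩
      have : x + y - iL (a + b) = (x - iL a) + (y - iL b) := by
        rw [map_add]; ring
      rw [this]
      exact Ideal.add_mem _ ha hb
  have hle : ∀ 𝔫₁ 𝔫₂ : Ideal (A' ⊗[R] S), 𝔫₁.IsMaximal → 𝔫₂.IsMaximal → 𝔫₁ ≤ 𝔫₂ := by
    intro 𝔫₁ 𝔫₂ h1 h2 x hx
    obtain ⟨a, ha⟩ := hrep x
    have hm1 : Ideal.map iR (maximalIdeal S) ≤ 𝔫₁ := by
      rw [Ideal.map_le_iff_le_comap, hR 𝔫₁ h1]
    have hm2 : Ideal.map iR (maximalIdeal S) ≤ 𝔫₂ := by
      rw [Ideal.map_le_iff_le_comap, hR 𝔫₂ h2]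
    have ha1 : iL a ∈ 𝔫₁ := by
      have := Ideal.sub_mem _ hx (hm1 ha)
      simpa using this
    have ha2 : iL a ∈ 𝔫₂ := by
      rw [← Ideal.mem_comap, hL 𝔫₂ h2, ← hL 𝔫₁ h1, Ideal.mem_comap]
      exact ha1
    have := Ideal.add_mem _ (hm2 ha) ha2
    simpa using this
  obtain ⟨𝔫, h𝔫⟩ := Ideal.exists_maximal (A' ⊗[R] S)
  exact IsLocalRing.of_unique_max_ideal ⟨𝔫, h𝔫, fun 𝔫' h' => h'.eq_of_le h𝔫.ne_top (hle 𝔫' 𝔫 h' h𝔫)⟩

end piece3

section piece4

/-- a finite étale algebra over a separably closed field with a non-scalar element has a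
nontrivial idempotent -/
theorem exists_idempotent_of_not_mem_range (L Y : Type u) [Field L] [IsSepClosed L] [CommRing Y]
    [Algebra L Y] [Algebra.WeaklyEtale L Y] (γ : Y) (hγ : γ ∉ Set.range (algebraMap L Y)) :
    ∃ e : Y, e * e = e ∧ e ≠ 0 ∧ e ≠ 1 := by
  classical
  have hsep : Groth.Agent.Lib.Helper14.WEField.IsSepAlg L Y :=
    Groth.Agent.Lib.Helper14.WEField.exists_separable_aeval_eq_zero L Y
  let E : Subalgebra L Y := Algebra.adjoin L {γ}
  have hEfg : E.FG := by
    simpa using Subalgebra.fg_adjoin_finset (R := L) ({γ} : Finset Y)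
  haveI : Algebra.Etale L E := hsep.etale_of_fg E hEfg
  let θ : E ≃ₐ[L] (PrimeSpectrum E → L) := Algebra.FormallyEtale.equivPiOfIsSepClosed L E
  by_cases hsub : Subsingleton (PrimeSpectrum E)
  · exfalso
    let γE : E := ⟨γ, Algebra.subset_adjoin rfl⟩
    have : ∃ c : L, θ γE = θ (algebraMap L E c) := by
      by_cases hne : Nonempty (PrimeSpectrum E)
      · obtain ⟨pt⟩ := hne
        refine ⟨θ γE pt, ?_⟩
        funext q
        rw [Subsingleton.elim q pt, AlgEquiv.commutes]
        rfl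
      · refine ⟨0, ?_⟩
        funext q
        exact (hne ⟨q⟩).elim
    obtain ⟨c, hc⟩ := this
    have h2 : γE = algebraMap L E c := θ.injective hc
    exact hγ ⟨c, (congrArg Subtype.val h2).symm⟩
  · rw [not_subsingleton_iff_nontrivial] at hsub
    obtain ⟨x, y, hxy⟩ := hsub
    let e₀ : E := θ.symm (Pi.single x 1)
    refine ⟨(e₀ : Y), ?_, ?_, ?_⟩
    · have : e₀ * e₀ = e₀ := by
        apply θ.injective
        rw [map_mul, θ.apply_symm_apply]
        funext q
        by_cases hq : q = x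
        · subst hq; simp
        · simp [Pi.single_apply, hq]
      exact congrArg Subtype.val this
    · intro h0
      have : e₀ = 0 := Subtype.ext h0
      have h1 := congrFun (congrArg θ this) x
      rw [θ.apply_symm_apply, map_zero] at h1
      simp at h1
    · intro h1
      have : e₀ = 1 := Subtype.ext h1
      have h2 := congrFun (congrArg θ this) y
      rw [θ.apply_symm_apply, map_one] at h2
      simp [Pi.single_apply, hxy.symm] at h2

end piece4

section piece5

variable (R : Type u) [CommRing R] [IsDomain R] [HenselianLocalRing R]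
  [IsSepClosed (ResidueField R)] (K : Type u) [Field K] [Algebra R K] [IsFractionRing R K]
  (L : Type u) [Field L] [Algebra K L] [Algebra R L] [IsScalarTower R K L]
  [Algebra.IsAlgebraic K L] [IsSepClosed L]
  (S : Type u) [CommRing S] [IsLocalRing S] [Algebra R S] [IsLocalHom (algebraMap R S)]
  [Algebra.WeaklyEtale R S]

include K in
set_option maxHeartbeats 1000000 in
/-- the geometric generic fibre of a local weakly étale algebra over a strictly henselian local
domain is trivial -/
theorem surjective_algebraMap_sepClosure : Function.Surjective (algebraMap L (L ⊗[R] S)) := by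
  by_contra hns
  rw [Function.Surjective] at hns
  push_neg at hns
  obtain ⟨γ, hγ⟩ := hns
  obtain ⟨e, he, he0, he1⟩ := exists_idempotent_of_not_mem_range L (L ⊗[R] S) γ (by
    rintro ⟨l, hl⟩
    exact hγ l hl)
  haveI : Algebra.IsAlgebraic R L :=
    (IsFractionRing.comap_isAlgebraic_iff (A := R) (K := K) (C := L)).mpr inferInstance
  have hinj : ∀ x, algebraMap R L x = 0 → x = 0 := by
    intro x hx
    rw [IsScalarTower.algebraMap_apply R K L, map_eq_zero, IsFractionRing.to_map_eq_zero_iff] at hx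
    exact hx
  haveI : IsFractionRing (integralClosure R L) L :=
    integralClosure.isFractionRing_of_algebraic (A := R) (L := L) hinj
  haveI : IsIntegrallyClosed (integralClosure R L) :=
    (isIntegrallyClosed_iff_isIntegrallyClosedIn L).mpr inferInstance
  obtain ⟨hhens, hloc, -⟩ := Groth.Agent.S1964.result R (integralClosure R L)
  haveI := hhens
  haveI := hloc
  haveI : IsLocalRing ((integralClosure R L) ⊗[R] S) :=
    isLocalRing_tensor R S (integralClosure R L) (exists_sub_mem_maximalIdeal R S)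
  let c := Algebra.TensorProduct.cancelBaseChange R (integralClosure R L) (integralClosure R L) L S
  have hx2 : c.symm e * c.symm e = c.symm e := by rw [← map_mul, he]
  have hint : (Algebra.TensorProduct.includeRight : ((integralClosure R L) ⊗[R] S) →ₐ[integralClosure R L]
      L ⊗[integralClosure R L] ((integralClosure R L) ⊗[R] S)).toRingHom.IsIntegralElem (c.symm e) := by
    refine ⟨Polynomial.X ^ 2 - Polynomial.X, Polynomial.monic_X_pow_sub (by
      rw [Polynomial.degree_X]; norm_num), ?_⟩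
    rw [Polynomial.eval₂_sub, Polynomial.eval₂_X_pow, Polynomial.eval₂_X, pow_two, hx2, sub_self]
  obtain ⟨b, hb⟩ := Groth.Agent.Lib.R2LeadWEIntCl.main_right (integralClosure R L) L
    ((integralClosure R L) ⊗[R] S) (c.symm e) hint
  rcases IsLocalRing.isUnit_or_isUnit_one_sub_self b with hu | hu
  · have hxu : IsUnit (c.symm e) := by
      rw [← hb]
      exact hu.map (Algebra.TensorProduct.includeRight : ((integralClosure R L) ⊗[R] S) →ₐ[integralClosure R L]
        L ⊗[integralClosure R L] ((integralClosure R L) ⊗[R] S))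
    have h1 : c.symm e = 1 := hxu.mul_left_cancel (by rw [hx2, mul_one])
    apply he1
    have := congrArg c h1
    rwa [c.apply_symm_apply, map_one] at this
  · have hxu : IsUnit (1 - c.symm e) := by
      rw [← hb]
      have := hu.map (Algebra.TensorProduct.includeRight : ((integralClosure R L) ⊗[R] S) →ₐ[integralClosure R L]
        L ⊗[integralClosure R L] ((integralClosure R L) ⊗[R] S))
      rwa [map_sub, map_one] at this
    have h1 : 1 - c.symm e = 1 := hxu.mul_left_cancel (by
      rw [mul_one]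
      ring_nf
      rw [pow_two, hx2]
      ring)
    apply he0
    have h2 : c.symm e = 0 := by
      have := sub_eq_self.mp h1
      exact this
    have := congrArg c h2
    rwa [c.apply_symm_apply, map_zero] at this

end piece5

section piece6

variable {A B : Type u} [CommRing A] [CommRing B] [HenselianLocalRing A] [IsLocalRing B]
  [IsSepClosed (ResidueField A)] [Algebra A B] [IsLocalHom (algebraMap A B)]
  [Algebra.WeaklyEtale A B]

set_option maxHeartbeats 1600000 in
theorem map_tmul_one_eq (p : Ideal A) [p.IsPrime] (Ω : Type u) [Field Ω] [IsAlgClosed Ω]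
    (ι : B ⊗[A] B →+* Ω) (hι : ∀ a : A, ι (algebraMap A (B ⊗[A] B) a) = 0 ↔ a ∈ p) (b : B) :
    ι (b ⊗ₜ[A] 1) = ι (1 ⊗ₜ[A] b) := by
  -- the quotient domain
  haveI : Algebra.IsIntegral A (A ⧸ p) :=
    Algebra.isIntegral_of_surjective Ideal.Quotient.mk_surjective
  obtain ⟨hhens, hloc, hsep⟩ := Groth.Agent.S1964.result A (A ⧸ p)
  haveI := hhens
  haveI : IsSepClosed (ResidueField (A ⧸ p)) := (hsep inferInstance).1
  -- the quotient of `B`
  have hpB : p.map (algebraMap A B) ≤ maximalIdeal B := by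
    rw [Ideal.map_le_iff_le_comap]
    intro a ha
    rw [Ideal.mem_comap, mem_maximalIdeal, mem_nonunits_iff]
    intro hu
    have hu' : IsUnit a := (isUnit_map_iff (algebraMap A B) a).mp hu
    exact (Ideal.IsPrime.ne_top inferInstance) (Ideal.eq_top_of_isUnit_mem p ha hu')
  haveI : Nontrivial (B ⧸ p.map (algebraMap A B)) :=
    Ideal.Quotient.nontrivial_iff.mpr (fun h => by
      rw [h] at hpB
      exact (Ideal.IsPrime.ne_top (inferInstance : (maximalIdeal B).IsPrime)) (top_le_iff.mp hpB))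
  haveI : IsLocalRing (B ⧸ p.map (algebraMap A B)) :=
    IsLocalRing.of_surjective' (Ideal.Quotient.mk (p.map (algebraMap A B)))
      Ideal.Quotient.mk_surjective
  haveI : IsLocalHom (algebraMap (A ⧸ p) (B ⧸ p.map (algebraMap A B))) := by
    constructor
    intro x hx
    obtain ⟨a, rfl⟩ := Ideal.Quotient.mk_surjective x
    have h1 : IsUnit (algebraMap A B a) := by
      by_contra hnu
      have hm : algebraMap A B a ∈ maximalIdeal B := hnu
      have h2 : Ideal.Quotient.mk (p.map (algebraMap A B)) (algebraMap A B a) ∈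
          maximalIdeal (B ⧸ p.map (algebraMap A B)) := by
        have hle : Ideal.map (Ideal.Quotient.mk (p.map (algebraMap A B))) (maximalIdeal B) ≤
            maximalIdeal (B ⧸ p.map (algebraMap A B)) := by
          apply IsLocalRing.le_maximalIdeal
          intro htop
          have h3 := congrArg (Ideal.comap (Ideal.Quotient.mk (p.map (algebraMap A B)))) htop
          rw [Ideal.comap_map_of_surjective _ Ideal.Quotient.mk_surjective, Ideal.comap_top,
            ← RingHom.ker_eq_comap_bot, Ideal.mk_ker, sup_eq_left.mpr hpB] at h3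
          exact (Ideal.IsPrime.ne_top (inferInstance : (maximalIdeal B).IsPrime)) h3
        exact hle (Ideal.mem_map_of_mem _ hm)
      exact h2 hx
    exact ((isUnit_map_iff (algebraMap A B) a).mp h1).map (Ideal.Quotient.mk p)
  haveI : Algebra.WeaklyEtale (A ⧸ p) (B ⧸ p.map (algebraMap A B)) :=
    weaklyEtale_of_algEquiv (Algebra.TensorProduct.quotIdealMapEquivQuotTensor B p).symm
  -- apply the domain case
  have hsurj := surjective_algebraMap_sepClosure (A ⧸ p) (FractionRing (A ⧸ p))
    (AlgebraicClosure (FractionRing (A ⧸ p))) (B ⧸ p.map (algebraMap A B))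
  obtain ⟨l, hl⟩ := hsurj ((1 : AlgebraicClosure (FractionRing (A ⧸ p))) ⊗ₜ[A ⧸ p]
    (Ideal.Quotient.mk (p.map (algebraMap A B)) b))
  have hl' : l ⊗ₜ[A ⧸ p] (1 : B ⧸ p.map (algebraMap A B)) =
      (1 : AlgebraicClosure (FractionRing (A ⧸ p))) ⊗ₜ[A ⧸ p]
        (Ideal.Quotient.mk (p.map (algebraMap A B)) b) := hl
  -- maps to `Ω`
  let ιA : A →+* Ω := ι.comp (algebraMap A (B ⊗[A] B))
  let ιR : A ⧸ p →+* Ω := Ideal.Quotient.lift p ιA (fun a ha => (hι a).mpr ha)
  have hιR : Function.Injective ιR := by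
    rw [injective_iff_map_eq_zero]
    intro x hx
    obtain ⟨a, rfl⟩ := Ideal.Quotient.mk_surjective x
    rw [Ideal.Quotient.lift_mk] at hx
    exact Ideal.Quotient.eq_zero_iff_mem.mpr ((hι a).mp hx)
  let ιK : FractionRing (A ⧸ p) →+* Ω := IsFractionRing.lift hιR
  letI algKΩ : Algebra (FractionRing (A ⧸ p)) Ω := ιK.toAlgebra
  letI algRΩ : Algebra (A ⧸ p) Ω := ιR.toAlgebra
  haveI : IsScalarTower (A ⧸ p) (FractionRing (A ⧸ p)) Ω :=
    IsScalarTower.of_algebraMap_eq (fun x => (IsFractionRing.lift_algebraMap hιR x).symm)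
  let lam : AlgebraicClosure (FractionRing (A ⧸ p)) →ₐ[FractionRing (A ⧸ p)] Ω := IsAlgClosed.lift
  let lamR : AlgebraicClosure (FractionRing (A ⧸ p)) →ₐ[A ⧸ p] Ω := lam.restrictScalars (A ⧸ p)
  have hkill : ∀ (j : B →ₐ[A] B ⊗[A] B), ∀ x ∈ p.map (algebraMap A B), (ι.comp j.toRingHom) x = 0 := by
    intro j x hx
    have hle : p.map (algebraMap A B) ≤ RingHom.ker (ι.comp j.toRingHom) := by
      rw [Ideal.map_le_iff_le_comap]
      intro a ha
      rw [Ideal.mem_comap, RingHom.mem_ker]
      show ι (j (algebraMap A B a)) = 0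
      rw [AlgHom.commutes]
      exact (hι a).mpr ha
    exact hle hx
  have hmk : ∀ (j : B →ₐ[A] B ⊗[A] B), ∃ σ : (B ⧸ p.map (algebraMap A B)) →ₐ[A ⧸ p] Ω,
      ∀ y : B, σ (Ideal.Quotient.mk _ y) = ι (j y) := by
    intro j
    refine ⟨{ Ideal.Quotient.lift (p.map (algebraMap A B)) (ι.comp j.toRingHom) (hkill j) with
      commutes' := fun x => ?_ }, fun y => rfl⟩
    obtain ⟨a, rfl⟩ := Ideal.Quotient.mk_surjective x
    show ι (j (algebraMap A B a)) = ι (algebraMap A (B ⊗[A] B) a)
    rw [AlgHom.commutes]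
  obtain ⟨σ₁, hσ₁⟩ := hmk Algebra.TensorProduct.includeLeft
  obtain ⟨σ₂, hσ₂⟩ := hmk Algebra.TensorProduct.includeRight
  have h1 := congrArg (Algebra.TensorProduct.lift lamR σ₁ (fun _ _ => Commute.all _ _)) hl'
  have h2 := congrArg (Algebra.TensorProduct.lift lamR σ₂ (fun _ _ => Commute.all _ _)) hl'
  rw [Algebra.TensorProduct.lift_tmul, Algebra.TensorProduct.lift_tmul, map_one, map_one, mul_one,
    one_mul, hσ₁] at h1
  rw [Algebra.TensorProduct.lift_tmul, Algebra.TensorProduct.lift_tmul, map_one, map_one, mul_one,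
    one_mul, hσ₂] at h2
  exact h1.symm.trans h2

set_option maxHeartbeats 1000000 in
theorem main : Function.Bijective (algebraMap A B) := by
  haveI : Module.FaithfullyFlat A B := Module.FaithfullyFlat.of_flat_of_isLocalHom
  refine ⟨FaithfulSMul.algebraMap_injective A B, ?_⟩
  have hprime : ∀ (𝔓 : Ideal (B ⊗[A] B)) [𝔓.IsPrime] (b : B),
      b ⊗ₜ[A] (1 : B) - (1 : B) ⊗ₜ[A] b ∈ 𝔓 := by
    intro 𝔓 _ b
    let ι : B ⊗[A] B →+* AlgebraicClosure (FractionRing ((B ⊗[A] B) ⧸ 𝔓)) :=
      (algebraMap ((B ⊗[A] B) ⧸ 𝔓) (AlgebraicClosure (FractionRing ((B ⊗[A] B) ⧸ 𝔓)))).comp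
        (Ideal.Quotient.mk 𝔓)
    have hker : ∀ x, ι x = 0 ↔ x ∈ 𝔓 := by
      intro x
      show algebraMap ((B ⊗[A] B) ⧸ 𝔓) (AlgebraicClosure (FractionRing ((B ⊗[A] B) ⧸ 𝔓)))
        (Ideal.Quotient.mk 𝔓 x) = 0 ↔ _
      have hinj : Function.Injective (algebraMap ((B ⊗[A] B) ⧸ 𝔓)
          (AlgebraicClosure (FractionRing ((B ⊗[A] B) ⧸ 𝔓)))) := by
        rw [IsScalarTower.algebraMap_eq ((B ⊗[A] B) ⧸ 𝔓) (FractionRing ((B ⊗[A] B) ⧸ 𝔓))
          (AlgebraicClosure (FractionRing ((B ⊗[A] B) ⧸ 𝔓)))]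
        exact (algebraMap (FractionRing ((B ⊗[A] B) ⧸ 𝔓))
          (AlgebraicClosure (FractionRing ((B ⊗[A] B) ⧸ 𝔓)))).injective.comp
          (IsFractionRing.injective _ _)
      rw [map_eq_zero_iff _ hinj, Ideal.Quotient.eq_zero_iff_mem]
    have h1 := map_tmul_one_eq (𝔓.comap (algebraMap A (B ⊗[A] B)))
      (AlgebraicClosure (FractionRing ((B ⊗[A] B) ⧸ 𝔓))) ι (fun a => by rw [hker]; rfl) b
    rw [← hker, map_sub, h1, sub_self]
  have hnil : ∀ b : B, IsNilpotent (b ⊗ₜ[A] (1 : B) - (1 : B) ⊗ₜ[A] b) := by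
    intro b
    rw [← mem_nilradical, nilradical_eq_sInf, Ideal.mem_sInf]
    intro 𝔓 h𝔓
    haveI : 𝔓.IsPrime := h𝔓
    exact hprime 𝔓 b
  have hkernil : RingHom.ker (Algebra.TensorProduct.lmul' A (S := B)) ≤ nilradical (B ⊗[A] B) := by
    have h1 : RingHom.ker (Algebra.TensorProduct.lmul' A (S := B)) = KaehlerDifferential.ideal A B :=
      rfl
    rw [h1, ← KaehlerDifferential.span_range_eq_ideal, Ideal.span_le]
    rintro _ ⟨s, rfl⟩
    show (1 : B) ⊗ₜ[A] s - s ⊗ₜ[A] (1 : B) ∈ nilradical (B ⊗[A] B)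
    rw [mem_nilradical, ← neg_sub]
    exact (hnil s).neg
  have heq : ∀ b : B, b ⊗ₜ[A] (1 : B) = (1 : B) ⊗ₜ[A] b := by
    intro b
    obtain ⟨u, hu1, hu2⟩ := Groth.Agent.Lib.Helper14.WEField.exists_diag_unit A B b
    have hmem : (1 - u) ∈ RingHom.ker (Algebra.TensorProduct.lmul' A (S := B)) := by
      rw [RingHom.mem_ker, map_sub, map_one, hu1, sub_self]
    have hu : IsUnit u := by
      have := (mem_nilradical.mp (hkernil hmem)).isUnit_one_sub
      rwa [sub_sub_cancel] at this
    exact sub_eq_zero.mp (hu.mul_right_eq_zero.mp hu2)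
  intro b
  let N : Submodule A B := LinearMap.range (Algebra.linearMap A B)
  have h1 : (N.mkQ.lTensor B) (b ⊗ₜ[A] (1 : B)) = 0 := by
    rw [LinearMap.lTensor_tmul]
    have : N.mkQ (1 : B) = 0 := by
      rw [Submodule.mkQ_apply, Submodule.Quotient.mk_eq_zero]
      exact ⟨1, by simp⟩
    rw [this, TensorProduct.tmul_zero]
  rw [heq b, LinearMap.lTensor_tmul] at h1
  have h2 : N.mkQ b = 0 := by
    apply Module.FaithfullyFlat.tensorProduct_mk_injective (A := A) (B := B) (B ⧸ N)
    rw [map_zero]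
    exact h1
  rw [Submodule.mkQ_apply, Submodule.Quotient.mk_eq_zero] at h2
  obtain ⟨a, ha⟩ := h2
  exact ⟨a, ha⟩

end piece6

end Groth.Agent.Lib.R2LeadOlivier
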