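import Mathlib
import Groth.Prelude.Def_QFDual

/-!
# Base change of the relative dualizing module: general lemmas (lead)
-/

set_option autoImplicit false
open TensorProduct

namespace Groth.Agent.Lib.R2LeadOmBC1

universe u

open QFDual

section Trans

variable {A A₁ A₂ B' B'₁ B'₂ : Type u} [CommRing A] [CommRing A₁] [CommRing A₂] [CommRing B']
  [CommRing B'₁] [CommRing B'₂]
  [Algebra A B'] [Algebra A A₁] [Algebra B' B'₁] [Algebra A₁ B'₁] [Algebra A B'₁]
  [IsScalarTower A A₁ B'₁] [IsScalarTower A B' B'₁]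
  [Algebra A₁ A₂] [Algebra B'₁ B'₂] [Algebra A₂ B'₂] [Algebra A₁ B'₂]
  [IsScalarTower A₁ A₂ B'₂] [IsScalarTower A₁ B'₁ B'₂]
  [Algebra A A₂] [Algebra B' B'₂] [Algebra A B'₂] [IsScalarTower A A₂ B'₂] [IsScalarTower A B' B'₂]
  [IsScalarTower A A₁ A₂] [IsScalarTower B' B'₁ B'₂]

theorem bcFin_trans (h₁ : Algebra.IsPushout A A₁ B' B'₁) (h₂ : Algebra.IsPushout A₁ A₂ B'₁ B'₂)
    (h₁₂ : Algebra.IsPushout A A₂ B' B'₂) (φ : Disc.Omega A B') :
    bcFin h₁₂ φ = bcFin h₂ (bcFin h₁ φ) := by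
  apply Disc.Omega.ext
  refine h₁₂.out.algHom_ext _ _ fun x => ?_
  change (bcFin h₁₂ φ).toLinearMap (algebraMap B' B'₂ x) =
    (bcFin h₂ (bcFin h₁ φ)).toLinearMap (algebraMap B' B'₂ x)
  rw [bcFin_apply_algebraMap, IsScalarTower.algebraMap_apply B' B'₁ B'₂, bcFin_apply_algebraMap,
    bcFin_apply_algebraMap, ← IsScalarTower.algebraMap_apply]

variable {E : Type u} [CommRing E] [Algebra B'₂ E] [Algebra B'₁ E] [Algebra B' E]
  [IsScalarTower B' B'₁ E] [IsScalarTower B'₁ B'₂ E] [IsScalarTower B' B'₂ E]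

theorem omegaBC_trans (h₁ : Algebra.IsPushout A A₁ B' B'₁) (h₂ : Algebra.IsPushout A₁ A₂ B'₁ B'₂)
    (h₁₂ : Algebra.IsPushout A A₂ B' B'₂) (z : omega A B' E) :
    omegaBC (B₁ := E) h₁₂ z = omegaBC (B₁ := E) h₂ (omegaBC (B₁ := E) h₁ z) := by
  induction z using TensorProduct.induction_on with
  | zero => simp
  | add x y hx hy => rw [map_add, map_add, map_add, hx, hy]
  | tmul b φ => rw [omegaBC_tmul, omegaBC_tmul, omegaBC_tmul, bcFin_trans h₁ h₂ h₁₂]

end Trans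

section ChangeE

variable {A A₁ B' B'₁ : Type u} [CommRing A] [CommRing A₁] [CommRing B'] [CommRing B'₁]
  [Algebra A B'] [Algebra A A₁] [Algebra B' B'₁] [Algebra A₁ B'₁] [Algebra A B'₁]
  [IsScalarTower A A₁ B'₁] [IsScalarTower A B' B'₁]
  {B₁ E : Type u} [CommRing B₁] [CommRing E] [Algebra B'₁ B₁] [Algebra B' B₁]
  [IsScalarTower B' B'₁ B₁] [Algebra B₁ E] [Algebra B'₁ E] [Algebra B' E] [IsScalarTower B' B'₁ E]
  [IsScalarTower B'₁ B₁ E] [IsScalarTower B' B₁ E]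

theorem baseChange_omegaBC_bijective (h : Algebra.IsPushout A A₁ B' B'₁)
    (hE : Function.Bijective (omegaBC (B₁ := E) h)) :
    Function.Bijective ((omegaBC (B₁ := B₁) h).baseChange E) := by
  let c₁ : E ⊗[B₁] (B₁ ⊗[B'] Disc.Omega A B') ≃ₗ[E] E ⊗[B'] Disc.Omega A B' :=
    AlgebraTensorModule.cancelBaseChange B' B₁ E E (Disc.Omega A B')
  let c₂ : E ⊗[B₁] (B₁ ⊗[B'₁] Disc.Omega A₁ B'₁) ≃ₗ[E] E ⊗[B'₁] Disc.Omega A₁ B'₁ :=
    AlgebraTensorModule.cancelBaseChange B'₁ B₁ E E (Disc.Omega A₁ B'₁)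
  have hsq : ∀ z, c₂ ((omegaBC (B₁ := B₁) h).baseChange E z) = omegaBC (B₁ := E) h (c₁ z) := by
    intro z
    induction z using TensorProduct.induction_on with
    | zero => simp
    | add x y hx hy => rw [map_add, map_add, map_add, map_add, hx, hy]
    | tmul x w =>
      induction w using TensorProduct.induction_on with
      | zero => simp
      | add x' y' hx' hy' => rw [tmul_add, map_add, map_add, map_add, map_add, hx', hy']
      | tmul b φ =>
        rw [LinearMap.baseChange_tmul, omegaBC_tmul]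
        simp only [c₁, c₂, AlgebraTensorModule.cancelBaseChange_tmul, omegaBC_tmul]
  have : (omegaBC (B₁ := B₁) h).baseChange E =
      (c₂.symm.toLinearMap ∘ₗ (omegaBC (B₁ := E) h)) ∘ₗ c₁.toLinearMap := by
    refine LinearMap.ext fun z => ?_
    simp only [LinearMap.comp_apply, LinearEquiv.coe_coe]
    rw [← hsq, LinearEquiv.symm_apply_apply]
  rw [this]
  exact (c₂.symm.bijective.comp hE).comp c₁.bijective

end ChangeE

end Groth.Agent.Lib.R2LeadOmBC1
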