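import Mathlib

/-!
# Bijectivity can be checked on a jointly faithful family of flat algebras (lead)
-/

set_option autoImplicit false
open TensorProduct

namespace Groth.Agent.Lib.R2LeadOmBC2

universe u

variable {S : Type u} [CommRing S]

lemma not_subsingleton_tensor_quot (E : Type u) [CommRing E] [Algebra S E] (a : Ideal S)
    (ha : a.map (algebraMap S E) ≠ ⊤) : ¬ Subsingleton (E ⊗[S] (S ⧸ a)) := by
  intro hs
  have e := Algebra.TensorProduct.quotIdealMapEquivTensorQuot E a
  haveI : Subsingleton (E ⧸ a.map (algebraMap S E)) := e.toEquiv.subsingleton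
  exact ha (Ideal.Quotient.subsingleton_iff.mp inferInstance)

variable {M N : Type u} [AddCommGroup M] [AddCommGroup N] [Module S M] [Module S N]

theorem bijective_of_flat_family (u : M →ₗ[S] N)
    (h : ∀ (𝔪 : Ideal S), 𝔪.IsMaximal → ∃ (E : Type u) (_ : CommRing E) (_ : Algebra S E),
      Module.Flat S E ∧ 𝔪.map (algebraMap S E) ≠ ⊤ ∧ Function.Bijective (u.baseChange E)) :
    Function.Bijective u := by
  constructor
  · rw [injective_iff_map_eq_zero]
    intro x hx
    let t : S →ₗ[S] M := LinearMap.toSpanSingleton S M x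
    by_contra hne
    have hker : LinearMap.ker t ≠ ⊤ := by
      intro htop
      apply hne
      have h1 : (1 : S) ∈ LinearMap.ker t := htop ▸ Submodule.mem_top
      have h2 : t 1 = 0 := LinearMap.mem_ker.mp h1
      simpa [t] using h2
    obtain ⟨𝔪, h𝔪, hle⟩ := Ideal.exists_le_maximal (LinearMap.ker t) hker
    obtain ⟨E, _, _, hflat, htop, hbij⟩ := h 𝔪 h𝔪
    let j : (S ⧸ LinearMap.ker t) →ₗ[S] M := (LinearMap.ker t).liftQ t le_rfl
    have hj : Function.Injective j := by
      rw [← LinearMap.ker_eq_bot]
      exact Submodule.ker_liftQ_eq_bot _ _ _ le_rfl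
    have hjE : Function.Injective (j.baseChange E) :=
      Module.Flat.lTensor_preserves_injective_linearMap (M := E) j hj
    have hcomp : u ∘ₗ j = 0 := by
      refine LinearMap.ext fun s => ?_
      obtain ⟨s, rfl⟩ := Submodule.Quotient.mk_surjective _ s
      change u (t s) = 0
      simp [t, hx]
    apply not_subsingleton_tensor_quot E (LinearMap.ker t)
      (fun h' => htop (top_le_iff.mp (h' ▸ Ideal.map_mono hle)))
    refine ⟨fun w₁ w₂ => ?_⟩
    apply hjE
    apply hbij.1
    have h1 : ∀ w, (u.baseChange E) ((j.baseChange E) w) = 0 := by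
      intro w
      rw [← LinearMap.comp_apply, ← LinearMap.baseChange_comp, hcomp, LinearMap.baseChange_zero]
      rfl
    rw [h1, h1]
  · intro y
    let Q := N ⧸ LinearMap.range u
    let t : S →ₗ[S] Q := LinearMap.toSpanSingleton S Q (Submodule.Quotient.mk y)
    by_contra hne
    have hker : LinearMap.ker t ≠ ⊤ := by
      intro htop
      apply hne
      have h1 : (1 : S) ∈ LinearMap.ker t := htop ▸ Submodule.mem_top
      have h2 : t 1 = 0 := LinearMap.mem_ker.mp h1
      have h3 : (Submodule.Quotient.mk y : Q) = 0 := by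
        have h2' := h2
        simp only [t, LinearMap.toSpanSingleton_apply, one_smul] at h2'
        exact h2'
      exact LinearMap.mem_range.mp ((Submodule.Quotient.mk_eq_zero _).mp h3)
    obtain ⟨𝔪, h𝔪, hle⟩ := Ideal.exists_le_maximal (LinearMap.ker t) hker
    obtain ⟨E, _, _, hflat, htop, hbij⟩ := h 𝔪 h𝔪
    let j : (S ⧸ LinearMap.ker t) →ₗ[S] Q := (LinearMap.ker t).liftQ t le_rfl
    have hj : Function.Injective j := by
      rw [← LinearMap.ker_eq_bot]
      exact Submodule.ker_liftQ_eq_bot _ _ _ le_rfl
    have hjE : Function.Injective (j.baseChange E) :=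
      Module.Flat.lTensor_preserves_injective_linearMap (M := E) j hj
    have hQ : Subsingleton (E ⊗[S] Q) := by
      have hsurj : Function.Surjective ((LinearMap.range u).mkQ.baseChange E) :=
        LinearMap.lTensor_surjective E (Submodule.mkQ_surjective _)
      have hz : ∀ w, ((LinearMap.range u).mkQ.baseChange E) w = 0 := by
        intro w
        obtain ⟨z, rfl⟩ := hbij.2 w
        rw [← LinearMap.comp_apply, ← LinearMap.baseChange_comp]
        have : (LinearMap.range u).mkQ ∘ₗ u = 0 := by
          refine LinearMap.ext fun m => ?_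
          simp
        rw [this, LinearMap.baseChange_zero]
        rfl
      refine ⟨fun w₁ w₂ => ?_⟩
      obtain ⟨z₁, rfl⟩ := hsurj w₁
      obtain ⟨z₂, rfl⟩ := hsurj w₂
      rw [hz, hz]
    apply not_subsingleton_tensor_quot E (LinearMap.ker t)
      (fun h' => htop (top_le_iff.mp (h' ▸ Ideal.map_mono hle)))
    exact ⟨fun w₁ w₂ => hjE (Subsingleton.elim _ _)⟩

end Groth.Agent.Lib.R2LeadOmBC2
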