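import Mathlib
import Groth.Prelude.Def_QFDual

/-!
# Flatness of the relative dualizing module: the dual of a direct factor (lead)
-/

set_option autoImplicit false
open TensorProduct

namespace Groth.Agent.Lib.R2LeadOmFl1b

universe u

variable {R D : Type u} [CommRing R] [CommRing D] [Algebra R D] (e : D)

/-- the ideal generated by the complementary idempotent -/
abbrev Ie : Ideal D := Ideal.span ({1 - e} : Set D)

variable {e}

lemma e_mul_of_mem (he : IsIdempotentElem e) {d : D} (hd : d ∈ Ie e) : e * d = 0 := by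
  obtain ⟨d', rfl⟩ := Ideal.mem_span_singleton'.mp hd
  have h0 : e * (1 - e) = 0 := by rw [mul_sub, mul_one, he.eq, sub_self]
  rw [mul_left_comm, h0, mul_zero]

lemma mk_e : (Ideal.Quotient.mk (Ie e)) e = 1 := by
  rw [← map_one (Ideal.Quotient.mk (Ie e))]
  exact (Ideal.Quotient.eq.mpr (by
    have : e - 1 = -(1 - e) := by ring
    rw [this]
    exact (Ie e).neg_mem (Ideal.subset_span rfl)))

variable (R) in
/-- `φ ↦ (x̄ ↦ φ (e x))` -/
noncomputable def psi (he : IsIdempotentElem e) (φ : Disc.Omega R D) : (D ⧸ Ie e) →ₗ[R] R :=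
  (Submodule.liftQ ((Ie e).restrictScalars R) (φ.toLinearMap ∘ₗ LinearMap.mulLeft R e) (by
    intro d hd
    have hd' : d ∈ Ie e := hd
    refine LinearMap.mem_ker.mpr ?_
    rw [LinearMap.comp_apply, LinearMap.mulLeft_apply, e_mul_of_mem he hd', map_zero])) ∘ₗ
    (Submodule.Quotient.restrictScalarsEquiv R (Ie e)).symm.toLinearMap

lemma psi_mk (he : IsIdempotentElem e) (φ : Disc.Omega R D) (x : D) :
    psi R he φ (Ideal.Quotient.mk (Ie e) x) = φ.toLinearMap (e * x) := by
  unfold psi
  rw [LinearMap.comp_apply]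
  have : (Ideal.Quotient.mk (Ie e) x) = Submodule.Quotient.mk (p := Ie e) x := rfl
  rw [this, LinearEquiv.coe_coe, Submodule.Quotient.restrictScalarsEquiv_symm_mk,
    Submodule.liftQ_apply]
  rfl

lemma psi_add (he : IsIdempotentElem e) (φ₁ φ₂ : Disc.Omega R D) :
    psi R he (φ₁ + φ₂) = psi R he φ₁ + psi R he φ₂ := by
  refine LinearMap.ext fun c => ?_
  obtain ⟨x, rfl⟩ := Ideal.Quotient.mk_surjective c
  rw [LinearMap.add_apply, psi_mk, psi_mk, psi_mk]
  rfl

/-- the additive map `c ⊗ φ ↦ (c' ↦ φ (e · lift (c c')))`. -/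
noncomputable def alphaAdd (he : IsIdempotentElem e) :
    (D ⧸ Ie e) ⊗[D] Disc.Omega R D →+ Module.Dual R (D ⧸ Ie e) :=
  TensorProduct.liftAddHom
    { toFun := fun c =>
        { toFun := fun φ => psi R he φ ∘ₗ LinearMap.mulLeft R c
          map_zero' := by
            refine LinearMap.ext fun c' => ?_
            obtain ⟨x, hx⟩ := Ideal.Quotient.mk_surjective (c * c')
            rw [LinearMap.comp_apply, LinearMap.mulLeft_apply, ← hx, psi_mk]
            rfl
          map_add' := fun φ₁ φ₂ => by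
            rw [psi_add, LinearMap.add_comp] }
      map_zero' := by
        refine AddMonoidHom.ext fun φ => LinearMap.ext fun c' => ?_
        simp
      map_add' := fun c₁ c₂ => by
        refine AddMonoidHom.ext fun φ => LinearMap.ext fun c' => ?_
        simp [add_mul] }
    (by
      intro d c φ
      refine LinearMap.ext fun c' => ?_
      obtain ⟨x, hx⟩ := Ideal.Quotient.mk_surjective (c * c')
      change psi R he φ ((d • c) * c') = psi R he (d • φ) (c * c')
      have h1 : (d • c) * c' = Ideal.Quotient.mk (Ie e) (d * x) := by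
        rw [map_mul, hx, Algebra.smul_def, mul_assoc]
        rfl
      rw [h1, ← hx, psi_mk, psi_mk, Disc.Omega.smul_toLinearMap_apply, mul_left_comm])

lemma alphaAdd_tmul (he : IsIdempotentElem e) (c c' : D ⧸ Ie e) (φ : Disc.Omega R D) :
    alphaAdd he (c ⊗ₜ[D] φ) c' = psi R he φ (c * c') := rfl

/-- `alphaAdd` as an `R`-linear map. -/
noncomputable def alpha (he : IsIdempotentElem e) :
    (D ⧸ Ie e) ⊗[D] Disc.Omega R D →ₗ[R] Module.Dual R (D ⧸ Ie e) where
  toFun := alphaAdd he
  map_add' := map_add _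
  map_smul' := fun r z => by
    rw [RingHom.id_apply]
    induction z using TensorProduct.induction_on with
    | zero => simp
    | add x y hx hy => rw [smul_add, map_add, map_add, hx, hy, smul_add]
    | tmul c φ =>
      refine LinearMap.ext fun c' => ?_
      rw [TensorProduct.smul_tmul', LinearMap.smul_apply, alphaAdd_tmul, alphaAdd_tmul,
        smul_mul_assoc, map_smul]

/-- `ψ ↦ 1 ⊗ (ψ ∘ π)`. -/
noncomputable def beta :
    Module.Dual R (D ⧸ Ie e) →ₗ[R] (D ⧸ Ie e) ⊗[D] Disc.Omega R D where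
  toFun := fun ψ => (1 : D ⧸ Ie e) ⊗ₜ[D]
    (⟨ψ ∘ₗ (Ideal.Quotient.mkₐ R (Ie e)).toLinearMap⟩ : Disc.Omega R D)
  map_add' := fun ψ₁ ψ₂ => by
    rw [← TensorProduct.tmul_add]
    congr 1
  map_smul' := fun r ψ => by
    rw [RingHom.id_apply, TensorProduct.smul_tmul']
    have h1 : r • (1 : D ⧸ Ie e) = (algebraMap R D r) • (1 : D ⧸ Ie e) := by
      rw [algebraMap_smul]
    rw [h1, TensorProduct.smul_tmul]
    congr 1
    apply Disc.Omega.ext
    refine LinearMap.ext fun x => ?_
    rw [Disc.Omega.smul_toLinearMap_apply]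
    simp only [LinearMap.comp_apply, LinearMap.smul_apply, AlgHom.toLinearMap_apply,
      Ideal.Quotient.mkₐ_eq_mk]
    rw [← Algebra.smul_def, ← Ideal.Quotient.mkₐ_eq_mk R, map_smul, Ideal.Quotient.mkₐ_eq_mk,
      map_smul]

lemma beta_alpha (he : IsIdempotentElem e) :
    (beta (R := R) (e := e)).comp (alpha he) = LinearMap.id := by
  refine LinearMap.ext fun z => ?_
  rw [LinearMap.comp_apply, LinearMap.id_apply]
  induction z using TensorProduct.induction_on with
  | zero => simp
  | add x y hx hy => rw [map_add, map_add, hx, hy]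
  | tmul c φ =>
    obtain ⟨d, rfl⟩ := Ideal.Quotient.mk_surjective c
    have h1 : (⟨alpha he ((Ideal.Quotient.mk (Ie e)) d ⊗ₜ[D] φ) ∘ₗ
        (Ideal.Quotient.mkₐ R (Ie e)).toLinearMap⟩ : Disc.Omega R D) = (e * d) • φ := by
      apply Disc.Omega.ext
      refine LinearMap.ext fun x => ?_
      rw [Disc.Omega.smul_toLinearMap_apply]
      change alphaAdd he ((Ideal.Quotient.mk (Ie e)) d ⊗ₜ[D] φ) (Ideal.Quotient.mk (Ie e) x) = _
      rw [alphaAdd_tmul, ← map_mul, psi_mk, mul_assoc]
    change (1 : D ⧸ Ie e) ⊗ₜ[D] (⟨alpha he ((Ideal.Quotient.mk (Ie e)) d ⊗ₜ[D] φ) ∘ₗ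
        (Ideal.Quotient.mkₐ R (Ie e)).toLinearMap⟩ : Disc.Omega R D) = _
    rw [h1, ← TensorProduct.smul_tmul, Algebra.smul_def, mul_one]
    congr 1
    change Ideal.Quotient.mk (Ie e) (e * d) = _
    rw [map_mul, mk_e, one_mul]

/-- if the `R`-dual of the direct factor `D/(1-e)` is flat, then so is the corresponding part of
the dualizing module of `D`. -/
theorem flat_tensor_of_flat_dual (he : IsIdempotentElem e)
    [Module.Flat R (Module.Dual R (D ⧸ Ie e))] :
    Module.Flat R ((D ⧸ Ie e) ⊗[D] Disc.Omega R D) :=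
  Module.Flat.of_retract (alpha he) beta (beta_alpha he)

end Groth.Agent.Lib.R2LeadOmFl1b
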