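import Mathlib
import Groth.Prelude.Def_QFDual
import Groth.Agent.Lib.R2LeadOmFl1b

/-!
# Invertibility of the relative dualizing module: general lemmas (lead)
-/

set_option autoImplicit false
open TensorProduct

namespace Groth.Agent.Lib.R2LeadOmInvA

universe u

open Groth.Agent.Lib.R2LeadOmFl1b

section DirectFactor

variable {R D : Type u} [CommRing R] [CommRing D] [Algebra R D] {e : D}

/-- the dualizing module of a direct factor, as a module over the factor -/
noncomputable def omegaQuot (he : IsIdempotentElem e) :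
    (D ⧸ Ie e) ⊗[D] Disc.Omega R D →ₗ[D ⧸ Ie e] Disc.Omega R (D ⧸ Ie e) where
  toFun z := ⟨alphaAdd he z⟩
  map_add' z₁ z₂ := by
    apply Disc.Omega.ext
    rw [map_add]
    rfl
  map_smul' c₀ z := by
    rw [RingHom.id_apply]
    induction z using TensorProduct.induction_on with
    | zero =>
      rw [smul_zero, map_zero]
      apply Disc.Omega.ext
      refine LinearMap.ext fun x => ?_
      rw [Disc.Omega.smul_toLinearMap_apply]
      rfl
    | add x y hx hy =>
      rw [smul_add, map_add]
      have h1 : (⟨alphaAdd he (c₀ • x) + alphaAdd he (c₀ • y)⟩ : Disc.Omega R (D ⧸ Ie e)) =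
          ⟨alphaAdd he (c₀ • x)⟩ + ⟨alphaAdd he (c₀ • y)⟩ := rfl
      have h2 : (⟨alphaAdd he (x + y)⟩ : Disc.Omega R (D ⧸ Ie e)) =
          ⟨alphaAdd he x⟩ + ⟨alphaAdd he y⟩ := by
        apply Disc.Omega.ext
        rw [map_add]
        rfl
      rw [h1, h2, hx, hy, smul_add]
    | tmul c φ =>
      apply Disc.Omega.ext
      refine LinearMap.ext fun x => ?_
      rw [Disc.Omega.smul_toLinearMap_apply, TensorProduct.smul_tmul', alphaAdd_tmul,
        alphaAdd_tmul, smul_eq_mul]
      congr 1
      ring

lemma omegaQuot_toLinearMap (he : IsIdempotentElem e) (z : (D ⧸ Ie e) ⊗[D] Disc.Omega R D) :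
    (omegaQuot (R := R) he z).toLinearMap = alphaAdd he z := rfl

theorem omegaQuot_bijective (he : IsIdempotentElem e) :
    Function.Bijective (omegaQuot (R := R) he) := by
  constructor
  · intro z₁ z₂ h
    have h' : alpha he z₁ = alpha he z₂ := congrArg Disc.Omega.toLinearMap h
    have := congrArg (beta (R := R) (e := e)) h'
    have hb := fun z => LinearMap.congr_fun (beta_alpha (R := R) he) z
    simp only [LinearMap.comp_apply, LinearMap.id_apply] at hb
    rwa [hb, hb] at this
  · intro ω
    refine ⟨beta ω.toLinearMap, ?_⟩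
    apply Disc.Omega.ext
    refine LinearMap.ext fun c => ?_
    obtain ⟨x, rfl⟩ := Ideal.Quotient.mk_surjective c
    change alphaAdd he ((1 : D ⧸ Ie e) ⊗ₜ[D]
      (⟨ω.toLinearMap ∘ₗ (Ideal.Quotient.mkₐ R (Ie e)).toLinearMap⟩ : Disc.Omega R D))
      (Ideal.Quotient.mk (Ie e) x) = _
    rw [alphaAdd_tmul, one_mul, psi_mk]
    change ω.toLinearMap (Ideal.Quotient.mk (Ie e) (e * x)) = _
    rw [map_mul, mk_e, one_mul]

end DirectFactor

section Descent

/-- descent of "free of rank one" along a faithfully flat map out of a local ring -/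
theorem nonempty_linearEquiv_of_faithfullyFlat (L C M : Type u) [CommRing L] [CommRing C]
    [IsLocalRing L] [Algebra L C] [Module.FaithfullyFlat L C] [AddCommGroup M] [Module L M]
    [Module.FinitePresentation L M] (e : C ⊗[L] M ≃ₗ[C] C) : Nonempty (M ≃ₗ[L] L) := by
  haveI : Module.Flat C (C ⊗[L] M) := Module.Flat.of_linearEquiv e
  haveI : Module.Flat L M := Module.Flat.of_flat_tensorProduct L M C
  haveI : Module.Free L M := Module.free_of_flat_of_isLocalRing
  haveI : Nontrivial C :=
    (TensorProduct.rid L C).symm.toEquiv.nontrivial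
  have h1 : Module.finrank C (C ⊗[L] M) = Module.finrank L M := Module.finrank_baseChange
  have h2 : Module.finrank C (C ⊗[L] M) = 1 := by
    rw [LinearEquiv.finrank_eq e, Module.finrank_self]
  have h3 : Module.finrank L M = Module.finrank L L := by
    rw [← h1, h2, Module.finrank_self]
  exact FiniteDimensional.nonempty_linearEquiv_of_finrank_eq h3

end Descent

section FiniteOmega

theorem finite_omega (A B' : Type u) [CommRing A] [CommRing B'] [Algebra A B']
    [IsNoetherianRing A] [Module.Finite A B'] : Module.Finite B' (Disc.Omega A B') := by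
  classical
  haveI : IsNoetherian A (B' →ₗ[A] A) := isNoetherian_linearMap A A B'
  obtain ⟨s, hs⟩ := (inferInstance : Module.Finite A (B' →ₗ[A] A)).fg_top
  refine ⟨⟨s.image (fun φ => (⟨φ⟩ : Disc.Omega A B')), ?_⟩⟩
  rw [eq_top_iff]
  intro ω _
  have hmem : ω.toLinearMap ∈ Submodule.span A (s : Set (B' →ₗ[A] A)) := hs ▸ Submodule.mem_top
  have key : ∀ φ ∈ Submodule.span A (s : Set (B' →ₗ[A] A)),
      (⟨φ⟩ : Disc.Omega A B') ∈ Submodule.span B'
        ((s.image (fun φ => (⟨φ⟩ : Disc.Omega A B')) : Finset _) : Set (Disc.Omega A B')) := by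
    intro φ hφ
    induction hφ using Submodule.span_induction with
    | mem x hx =>
      exact Submodule.subset_span (Finset.mem_coe.mpr (Finset.mem_image.mpr ⟨x, hx, rfl⟩))
    | zero => exact Submodule.zero_mem _
    | add x y _ _ hx hy => exact Submodule.add_mem _ hx hy
    | smul a x _ hx =>
      have : (⟨a • x⟩ : Disc.Omega A B') = (algebraMap A B' a) • (⟨x⟩ : Disc.Omega A B') := by
        apply Disc.Omega.ext
        refine LinearMap.ext fun b => ?_
        rw [Disc.Omega.smul_toLinearMap_apply, LinearMap.smul_apply, ← Algebra.smul_def,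
          map_smul]
      rw [this]
      exact Submodule.smul_mem _ _ hx
  exact key _ hmem

end FiniteOmega

end Groth.Agent.Lib.R2LeadOmInvA
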