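import Mathlib
import Groth.Prelude.Def_QFDual
import Groth.Agent.Lib.Helper20QFDualBC4
import Groth.Agent.Lib.R2LeadOmFl1b
import Groth.Agent.Lib.R2LeadOmInvA

/-!
# Base change of the relative dualizing module: the case of a finite free direct factor (lead)
-/

set_option autoImplicit false
open TensorProduct

namespace Groth.Agent.Lib.R2LeadOmBC3

universe u

open QFDual Groth.Agent.Lib.R2LeadOmFl1b Groth.Agent.Lib.R2LeadOmInvA

variable {R₀ R₁ D₀ D₁ : Type u} [CommRing R₀] [CommRing R₁] [CommRing D₀] [CommRing D₁]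
  [Algebra R₀ D₀] [Algebra R₀ R₁] [Algebra D₀ D₁] [Algebra R₁ D₁] [Algebra R₀ D₁]
  [IsScalarTower R₀ R₁ D₁] [IsScalarTower R₀ D₀ D₁]
  {E : Type u} [CommRing E] [Algebra D₁ E] [Algebra D₀ E] [IsScalarTower D₀ D₁ E]

theorem omegaBC_bijective_of_directFactor (h₃ : Algebra.IsPushout R₀ R₁ D₀ D₁) {e : D₀}
    (he : IsIdempotentElem e) [Module.Finite R₀ (D₀ ⧸ Ie e)] [Module.Free R₀ (D₀ ⧸ Ie e)]
    (hE : algebraMap D₀ E e = 1) :
    Function.Bijective (omegaBC (B₁ := E) h₃) := by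
  classical
  let e₁ : D₁ := algebraMap D₀ D₁ e
  have he₁ : IsIdempotentElem e₁ := he.map _
  let C := D₀ ⧸ Ie e
  let C₁ := D₁ ⧸ Ie e₁
  have hle : Ie e ≤ (Ie e₁).comap (algebraMap D₀ D₁) := by
    rw [Ideal.span_le]
    intro x hx
    rw [Set.mem_singleton_iff] at hx
    subst hx
    change algebraMap D₀ D₁ (1 - e) ∈ Ie e₁
    rw [map_sub, map_one]
    exact Ideal.subset_span rfl
  letI algCC₁ : Algebra C C₁ := (Ideal.quotientMap (Ie e₁) (algebraMap D₀ D₁) hle).toAlgebra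
  have hCC₁ : ∀ d : D₀, algebraMap C C₁ (Ideal.Quotient.mk (Ie e) d) =
      Ideal.Quotient.mk (Ie e₁) (algebraMap D₀ D₁ d) := fun d => rfl
  haveI : IsScalarTower D₀ C C₁ := IsScalarTower.of_algebraMap_eq (fun x => rfl)
  haveI : IsScalarTower R₀ C C₁ := IsScalarTower.of_algebraMap_eq (fun r => by
    rw [IsScalarTower.algebraMap_apply R₀ D₀ C, Ideal.Quotient.algebraMap_eq, hCC₁,
      ← IsScalarTower.algebraMap_apply R₀ D₀ D₁, IsScalarTower.algebraMap_apply R₀ D₁ C₁,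
      Ideal.Quotient.algebraMap_eq])
  haveI locC : IsLocalization.Away e C := IsLocalization.Away.quotient_of_isIdempotentElem he
  haveI locC₁ : IsLocalization.Away e₁ C₁ :=
    IsLocalization.Away.quotient_of_isIdempotentElem he₁
  have P6 : Algebra.IsPushout D₀ D₁ C C₁ := by
    refine (Algebra.isLocalization_iff_isPushout (Submonoid.powers e) C).mp ?_
    have : Algebra.algebraMapSubmonoid D₁ (Submonoid.powers e) = Submonoid.powers e₁ := by
      simp [Algebra.algebraMapSubmonoid, Submonoid.map_powers, e₁]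
    rw [this]
    exact locC₁
  have P5 : Algebra.IsPushout R₀ R₁ C C₁ := by
    haveI := h₃.symm
    exact ((Algebra.IsPushout.comp_iff R₀ D₀ R₁ D₁).mpr P6.symm).symm
  -- `E` as an algebra over the factors
  letI algCE : Algebra C E := (Ideal.Quotient.lift (Ie e) (algebraMap D₀ E) (by
    intro x hx
    obtain ⟨y, rfl⟩ := Ideal.mem_span_singleton'.mp hx
    rw [map_mul, map_sub, map_one, hE, sub_self, mul_zero])).toAlgebra
  haveI : IsScalarTower D₀ C E := IsScalarTower.of_algebraMap_eq (fun x => rfl)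
  have hE₁ : algebraMap D₁ E e₁ = 1 := by
    rw [← hE]
    exact (IsScalarTower.algebraMap_apply D₀ D₁ E e).symm
  letI algC₁E : Algebra C₁ E := (Ideal.Quotient.lift (Ie e₁) (algebraMap D₁ E) (by
    intro x hx
    obtain ⟨y, rfl⟩ := Ideal.mem_span_singleton'.mp hx
    rw [map_mul, map_sub, map_one, hE₁, sub_self, mul_zero])).toAlgebra
  haveI : IsScalarTower D₁ C₁ E := IsScalarTower.of_algebraMap_eq (fun x => rfl)
  haveI : IsScalarTower C C₁ E := IsScalarTower.of_algebraMap_eq (fun c => by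
    obtain ⟨d, rfl⟩ := Ideal.Quotient.mk_surjective c
    rw [hCC₁]
    change algebraMap D₀ E d = algebraMap D₁ E (algebraMap D₀ D₁ d)
    exact IsScalarTower.algebraMap_apply D₀ D₁ E d)
  have hbot : Function.Bijective (omegaBC (B₁ := E) P5) :=
    Groth.Agent.Lib.Helper20.QFDualBC.omegaBC_bijective_of_isBaseChange P5 P5.out.dual E
  -- comparison maps
  let σ₀ : E ⊗[D₀] Disc.Omega R₀ D₀ ≃ₗ[E] E ⊗[C] Disc.Omega R₀ C :=
    (AlgebraTensorModule.cancelBaseChange D₀ C E E (Disc.Omega R₀ D₀)).symm ≪≫ₗ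
      AlgebraTensorModule.congr (LinearEquiv.refl E E)
        (LinearEquiv.ofBijective (omegaQuot (R := R₀) he) (omegaQuot_bijective he))
  let σ₁ : E ⊗[D₁] Disc.Omega R₁ D₁ ≃ₗ[E] E ⊗[C₁] Disc.Omega R₁ C₁ :=
    (AlgebraTensorModule.cancelBaseChange D₁ C₁ E E (Disc.Omega R₁ D₁)).symm ≪≫ₗ
      AlgebraTensorModule.congr (LinearEquiv.refl E E)
        (LinearEquiv.ofBijective (omegaQuot (R := R₁) he₁) (omegaQuot_bijective he₁))
  have hσ₀ : ∀ (x : E) (φ : Disc.Omega R₀ D₀),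
      σ₀ (x ⊗ₜ[D₀] φ) = x ⊗ₜ[C] omegaQuot (R := R₀) he ((1 : C) ⊗ₜ[D₀] φ) := by
    intro x φ
    simp only [σ₀, LinearEquiv.trans_apply, AlgebraTensorModule.cancelBaseChange_symm_tmul,
      AlgebraTensorModule.congr_tmul, LinearEquiv.refl_apply, LinearEquiv.ofBijective_apply]
  have hσ₁ : ∀ (x : E) (φ : Disc.Omega R₁ D₁),
      σ₁ (x ⊗ₜ[D₁] φ) = x ⊗ₜ[C₁] omegaQuot (R := R₁) he₁ ((1 : C₁) ⊗ₜ[D₁] φ) := by
    intro x φ
    simp only [σ₁, LinearEquiv.trans_apply, AlgebraTensorModule.cancelBaseChange_symm_tmul,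
      AlgebraTensorModule.congr_tmul, LinearEquiv.refl_apply, LinearEquiv.ofBijective_apply]
  have key : ∀ φ : Disc.Omega R₀ D₀,
      omegaQuot (R := R₁) he₁ ((1 : C₁) ⊗ₜ[D₁] bcFin h₃ φ) =
        bcFin P5 (omegaQuot (R := R₀) he ((1 : C) ⊗ₜ[D₀] φ)) := by
    intro φ
    apply Disc.Omega.ext
    refine P5.out.algHom_ext _ _ fun c => ?_
    obtain ⟨d, rfl⟩ := Ideal.Quotient.mk_surjective c
    change (omegaQuot (R := R₁) he₁ ((1 : C₁) ⊗ₜ[D₁] bcFin h₃ φ)).toLinearMap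
        (algebraMap C C₁ (Ideal.Quotient.mk (Ie e) d)) =
      (bcFin P5 (omegaQuot (R := R₀) he ((1 : C) ⊗ₜ[D₀] φ))).toLinearMap
        (algebraMap C C₁ (Ideal.Quotient.mk (Ie e) d))
    rw [bcFin_apply_algebraMap, hCC₁, omegaQuot_toLinearMap, omegaQuot_toLinearMap,
      alphaAdd_tmul, alphaAdd_tmul, one_mul, one_mul, psi_mk, psi_mk]
    change (bcFin h₃ φ).toLinearMap (algebraMap D₀ D₁ e * algebraMap D₀ D₁ d) = _
    rw [← map_mul, bcFin_apply_algebraMap]
  have hsq : ∀ z, σ₁ (omegaBC (B₁ := E) h₃ z) = omegaBC (B₁ := E) P5 (σ₀ z) := by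
    intro z
    induction z using TensorProduct.induction_on with
    | zero => simp
    | add x y hx hy => rw [map_add, map_add, map_add, map_add, hx, hy]
    | tmul x φ => rw [omegaBC_tmul, hσ₁, hσ₀, omegaBC_tmul, key]
  have : (omegaBC (B₁ := E) h₃ : _ →ₗ[E] _) =
      (σ₁.symm.toLinearMap ∘ₗ (omegaBC (B₁ := E) P5)) ∘ₗ σ₀.toLinearMap := by
    refine LinearMap.ext fun z => ?_
    simp only [LinearMap.comp_apply, LinearEquiv.coe_coe]
    rw [← hsq, LinearEquiv.symm_apply_apply]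
  rw [this]
  exact (σ₁.symm.bijective.comp hbot).comp σ₀.bijective

end Groth.Agent.Lib.R2LeadOmBC3
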