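import Mathlib
import Groth.Prelude.Def_QFDual
import Groth.Agent.Lib.Helper20QFDualBC4
import Groth.Agent.Lib.R2LeadOmFl1b
import Groth.Agent.Lib.R2LeadOmBC1
import Groth.Agent.Lib.R2LeadOmBC3

/-!
# Base change of the relative dualizing module: reduction to local data (lead)
-/

set_option autoImplicit false
open TensorProduct

namespace Groth.Agent.Lib.R2LeadOmBC4

universe u

open QFDual Groth.Agent.Lib.R2LeadOmFl1b

variable {A A₁ B' B'₁ : Type u} [CommRing A] [CommRing A₁] [CommRing B'] [CommRing B'₁]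
  [Algebra A B'] [Algebra A A₁] [Algebra B' B'₁] [Algebra A₁ B'₁] [Algebra A B'₁]
  [IsScalarTower A A₁ B'₁] [IsScalarTower A B' B'₁]

theorem omegaBC_bijective_of_local_data [IsNoetherianRing A] [IsNoetherianRing A₁]
    [Module.Finite A B'] (h : Algebra.IsPushout A A₁ B' B'₁)
    (R₀ : Type u) [CommRing R₀] [Algebra A R₀] [Module.Flat A R₀]
    (e₀ : R₀ ⊗[A] B') (he₀ : IsIdempotentElem e₀) [Module.Free R₀ ((R₀ ⊗[A] B') ⧸ Ie e₀)]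
    (E : Type u) [CommRing E] [Algebra B'₁ E] [Algebra B' E] [IsScalarTower B' B'₁ E]
    [Algebra (R₀ ⊗[A] B'₁) E]
    (hcompat : ∀ x : B'₁, algebraMap (R₀ ⊗[A] B'₁) E ((1 : R₀) ⊗ₜ[A] x) = algebraMap B'₁ E x)
    (he : algebraMap (R₀ ⊗[A] B'₁) E (Algebra.TensorProduct.map (AlgHom.id A R₀)
      (IsScalarTower.toAlgHom A B' B'₁) e₀) = 1) :
    Function.Bijective (omegaBC (B₁ := E) h) := by
  classical
  letI aB'D₀ : Algebra B' (R₀ ⊗[A] B') := Algebra.TensorProduct.rightAlgebra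
  letI aA₁R₁ : Algebra A₁ (R₀ ⊗[A] A₁) := Algebra.TensorProduct.rightAlgebra
  letI aB'₁D₁ : Algebra B'₁ (R₀ ⊗[A] B'₁) := Algebra.TensorProduct.rightAlgebra
  let μ : R₀ ⊗[A] A₁ →ₐ[R₀] R₀ ⊗[A] B'₁ :=
    Algebra.TensorProduct.map (AlgHom.id R₀ R₀) (IsScalarTower.toAlgHom A A₁ B'₁)
  let ν : R₀ ⊗[A] B' →ₐ[R₀] R₀ ⊗[A] B'₁ :=
    Algebra.TensorProduct.map (AlgHom.id R₀ R₀) (IsScalarTower.toAlgHom A B' B'₁)
  letI aR₁D₁ : Algebra (R₀ ⊗[A] A₁) (R₀ ⊗[A] B'₁) := μ.toRingHom.toAlgebra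
  letI aD₀D₁ : Algebra (R₀ ⊗[A] B') (R₀ ⊗[A] B'₁) := ν.toRingHom.toAlgebra
  letI aA₁D₁ : Algebra A₁ (R₀ ⊗[A] B'₁) :=
    ((algebraMap B'₁ (R₀ ⊗[A] B'₁)).comp (algebraMap A₁ B'₁)).toAlgebra
  letI aB'D₁ : Algebra B' (R₀ ⊗[A] B'₁) :=
    ((algebraMap B'₁ (R₀ ⊗[A] B'₁)).comp (algebraMap B' B'₁)).toAlgebra
  letI aD₀E : Algebra (R₀ ⊗[A] B') E :=
    ((algebraMap (R₀ ⊗[A] B'₁) E).comp (algebraMap (R₀ ⊗[A] B') (R₀ ⊗[A] B'₁))).toAlgebra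
  -- towers
  haveI t1 : IsScalarTower A₁ B'₁ (R₀ ⊗[A] B'₁) := IsScalarTower.of_algebraMap_eq (fun _ => rfl)
  haveI t2 : IsScalarTower B' B'₁ (R₀ ⊗[A] B'₁) := IsScalarTower.of_algebraMap_eq (fun _ => rfl)
  haveI t3 : IsScalarTower A₁ (R₀ ⊗[A] A₁) (R₀ ⊗[A] B'₁) :=
    IsScalarTower.of_algebraMap_eq (fun a => by
      change (1 : R₀) ⊗ₜ[A] algebraMap A₁ B'₁ a = μ ((1 : R₀) ⊗ₜ[A] a)
      simp [μ])
  haveI t4 : IsScalarTower R₀ (R₀ ⊗[A] A₁) (R₀ ⊗[A] B'₁) :=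
    IsScalarTower.of_algebraMap_eq (fun r => (μ.commutes r).symm)
  haveI t5 : IsScalarTower R₀ (R₀ ⊗[A] B') (R₀ ⊗[A] B'₁) :=
    IsScalarTower.of_algebraMap_eq (fun r => (ν.commutes r).symm)
  haveI t6 : IsScalarTower A (R₀ ⊗[A] A₁) (R₀ ⊗[A] B'₁) :=
    IsScalarTower.of_algebraMap_eq (fun a => by
      rw [IsScalarTower.algebraMap_apply A R₀ (R₀ ⊗[A] B'₁),
        IsScalarTower.algebraMap_apply A R₀ (R₀ ⊗[A] A₁),
        ← IsScalarTower.algebraMap_apply R₀ (R₀ ⊗[A] A₁) (R₀ ⊗[A] B'₁)])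
  haveI t7 : IsScalarTower A B' (R₀ ⊗[A] B'₁) :=
    IsScalarTower.of_algebraMap_eq (fun a => by
      rw [IsScalarTower.algebraMap_apply A B'₁ (R₀ ⊗[A] B'₁),
        IsScalarTower.algebraMap_apply A B' B'₁]
      rfl)
  haveI t8 : IsScalarTower A (R₀ ⊗[A] B') (R₀ ⊗[A] B'₁) :=
    IsScalarTower.of_algebraMap_eq (fun a => by
      rw [IsScalarTower.algebraMap_apply A R₀ (R₀ ⊗[A] B'₁),
        IsScalarTower.algebraMap_apply A R₀ (R₀ ⊗[A] B'),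
        ← IsScalarTower.algebraMap_apply R₀ (R₀ ⊗[A] B') (R₀ ⊗[A] B'₁)])
  haveI t9 : IsScalarTower B' (R₀ ⊗[A] B') (R₀ ⊗[A] B'₁) :=
    IsScalarTower.of_algebraMap_eq (fun b => by
      change (1 : R₀) ⊗ₜ[A] algebraMap B' B'₁ b = ν ((1 : R₀) ⊗ₜ[A] b)
      simp [ν])
  haveI t10 : IsScalarTower B'₁ (R₀ ⊗[A] B'₁) E :=
    IsScalarTower.of_algebraMap_eq (fun x => (hcompat x).symm)
  haveI t11 : IsScalarTower (R₀ ⊗[A] B') (R₀ ⊗[A] B'₁) E :=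
    IsScalarTower.of_algebraMap_eq (fun _ => rfl)
  haveI t12 : IsScalarTower B' (R₀ ⊗[A] B'₁) E :=
    IsScalarTower.of_algebraMap_eq (fun b => by
      rw [IsScalarTower.algebraMap_apply B' B'₁ E, IsScalarTower.algebraMap_apply B'₁ (R₀ ⊗[A] B'₁) E,
        ← IsScalarTower.algebraMap_apply B' B'₁ (R₀ ⊗[A] B'₁)])
  haveI t13 : IsScalarTower B' (R₀ ⊗[A] B') E :=
    IsScalarTower.of_algebraMap_eq (fun b => by
      rw [IsScalarTower.algebraMap_apply B' (R₀ ⊗[A] B'₁) E,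
        IsScalarTower.algebraMap_apply B' (R₀ ⊗[A] B') (R₀ ⊗[A] B'₁),
        ← IsScalarTower.algebraMap_apply (R₀ ⊗[A] B') (R₀ ⊗[A] B'₁) E])
  -- pushouts
  have P0 : Algebra.IsPushout A R₀ B' (R₀ ⊗[A] B') := inferInstance
  have Q : Algebra.IsPushout A R₀ B'₁ (R₀ ⊗[A] B'₁) := inferInstance
  have Q' : Algebra.IsPushout A R₀ A₁ (R₀ ⊗[A] A₁) := inferInstance
  have P2 : Algebra.IsPushout A₁ (R₀ ⊗[A] A₁) B'₁ (R₀ ⊗[A] B'₁) := by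
    haveI := Q'.symm
    exact ((Algebra.IsPushout.comp_iff A A₁ R₀ (R₀ ⊗[A] A₁)).mp Q.symm).symm
  have P4 : Algebra.IsPushout A (R₀ ⊗[A] A₁) B' (R₀ ⊗[A] B'₁) := by
    haveI := h
    exact (Algebra.IsPushout.comp_iff A A₁ B' B'₁).mpr P2
  have P3 : Algebra.IsPushout R₀ (R₀ ⊗[A] A₁) (R₀ ⊗[A] B') (R₀ ⊗[A] B'₁) := by
    haveI := P0
    exact (Algebra.IsPushout.comp_iff A R₀ B' (R₀ ⊗[A] B')).mp P4
  -- the three bijections
  have b0 : Function.Bijective (omegaBC (B₁ := E) P0) :=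
    Groth.Agent.Lib.Helper20.QFDualBC.omegaBC_bijective_of_flat_base P0 E
  haveI : Module.Finite A₁ B'₁ := Module.Finite.equiv h.out.equiv
  haveI : Module.Flat A₁ (R₀ ⊗[A] A₁) := Module.Flat.isBaseChange A A₁ R₀ (R₀ ⊗[A] A₁) Q'.symm.out
  have b2 : Function.Bijective (omegaBC (B₁ := E) P2) :=
    Groth.Agent.Lib.Helper20.QFDualBC.omegaBC_bijective_of_flat_base P2 E
  have b3 : Function.Bijective (omegaBC (B₁ := E) P3) := by
    refine Groth.Agent.Lib.R2LeadOmBC3.omegaBC_bijective_of_directFactor P3 he₀ ?_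
    exact he
  have hcomp : (omegaBC (B₁ := E) P2) ∘ (omegaBC (B₁ := E) h) =
      (omegaBC (B₁ := E) P3) ∘ (omegaBC (B₁ := E) P0) := by
    funext z
    simp only [Function.comp_apply]
    rw [← Groth.Agent.Lib.R2LeadOmBC1.omegaBC_trans h P2 P4 z,
      ← Groth.Agent.Lib.R2LeadOmBC1.omegaBC_trans P0 P3 P4 z]
  have hb : Function.Bijective ((omegaBC (B₁ := E) P2) ∘ (omegaBC (B₁ := E) h)) := by
    rw [hcomp]
    exact b3.comp b0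
  exact (Function.Bijective.of_comp_iff' b2 _).mp hb

end Groth.Agent.Lib.R2LeadOmBC4
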