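import Mathlib

/-!
# Flatness of localizations of a base change (lead)
-/

set_option autoImplicit false
open TensorProduct

namespace Groth.Agent.Lib.R2LeadOmFl2

universe u

/-- Let `𝔓` be a prime of `R₀ ⊗[A] B'` lying over the prime `q'` of `B'`.  If the localization of
`B'` at `q'` is flat over `A`, then the localization of `R₀ ⊗[A] B'` at `𝔓` is flat over `R₀`. -/
theorem flat_localization_tensor (A R₀ B' : Type u) [CommRing A] [CommRing R₀] [CommRing B']
    [Algebra A R₀] [Algebra A B'] (𝔓 : Ideal (R₀ ⊗[A] B')) [𝔓.IsPrime]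
    (q' : Ideal B') [q'.IsPrime]
    (hq : 𝔓.comap (Algebra.TensorProduct.includeRight (R := A) (A := R₀) (B := B')).toRingHom = q')
    (L : Type u) [CommRing L] [Algebra B' L] [Algebra A L] [IsScalarTower A B' L]
    [IsLocalization.AtPrime L q'] [Module.Flat A L]
    (T : Type u) [CommRing T] [Algebra (R₀ ⊗[A] B') T] [IsLocalization.AtPrime T 𝔓]
    [Algebra R₀ T] [IsScalarTower R₀ (R₀ ⊗[A] B') T] : Module.Flat R₀ T := by
  letI algDS : Algebra (R₀ ⊗[A] B') (R₀ ⊗[A] L) :=
    (Algebra.TensorProduct.map (AlgHom.id R₀ R₀) (IsScalarTower.toAlgHom A B' L)).toRingHom.toAlgebra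
  have halg : ∀ x, algebraMap (R₀ ⊗[A] B') (R₀ ⊗[A] L) x =
      Algebra.TensorProduct.map (AlgHom.id R₀ R₀) (IsScalarTower.toAlgHom A B' L) x := fun x => rfl
  haveI : IsScalarTower R₀ (R₀ ⊗[A] B') (R₀ ⊗[A] L) :=
    IsScalarTower.of_algebraMap_eq (fun r => by
      rw [halg, AlgHom.commutes])
  have H : (algebraMap (R₀ ⊗[A] B') (R₀ ⊗[A] L)).comp
      (Algebra.TensorProduct.includeRight (R := A) (A := R₀) (B := B')).toRingHom =
      (Algebra.TensorProduct.includeRight (R := A) (A := R₀) (B := L)).toRingHom.comp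
        (algebraMap B' L) := by
    refine RingHom.ext fun b => ?_
    simp [halg]
  haveI hloc1 : IsLocalization (q'.primeCompl.map
      (Algebra.TensorProduct.includeRight (R := A) (A := R₀) (B := B'))) (R₀ ⊗[A] L) :=
    IsLocalization.tensorProduct_tensorProduct_right A R₀ q'.primeCompl L H
  have hle : q'.primeCompl.map (Algebra.TensorProduct.includeRight (R := A) (A := R₀) (B := B')) ≤
      𝔓.primeCompl := by
    rintro _ ⟨b, hb, rfl⟩
    intro hmem
    apply hb
    rw [← hq]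
    exact hmem
  letI algST : Algebra (R₀ ⊗[A] L) T :=
    (IsLocalization.lift (M := q'.primeCompl.map
      (Algebra.TensorProduct.includeRight (R := A) (A := R₀) (B := B')))
      (g := algebraMap (R₀ ⊗[A] B') T)
      (fun y => IsLocalization.map_units T (⟨y.1, hle y.2⟩ : 𝔓.primeCompl))).toAlgebra
  haveI : IsScalarTower (R₀ ⊗[A] B') (R₀ ⊗[A] L) T :=
    IsScalarTower.of_algebraMap_eq (fun x => (IsLocalization.lift_eq _ x).symm)
  haveI hloc2 : IsLocalization (𝔓.primeCompl.map (algebraMap (R₀ ⊗[A] B') (R₀ ⊗[A] L))) T :=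
    IsLocalization.isLocalization_of_submonoid_le (R₀ ⊗[A] L) T _ 𝔓.primeCompl hle
  haveI : Module.Flat (R₀ ⊗[A] L) T :=
    IsLocalization.flat T (𝔓.primeCompl.map (algebraMap (R₀ ⊗[A] B') (R₀ ⊗[A] L)))
  haveI : IsScalarTower R₀ (R₀ ⊗[A] L) T :=
    IsScalarTower.of_algebraMap_eq (fun r => by
      rw [IsScalarTower.algebraMap_apply R₀ (R₀ ⊗[A] B') T,
        IsScalarTower.algebraMap_apply (R₀ ⊗[A] B') (R₀ ⊗[A] L) T,
        ← IsScalarTower.algebraMap_apply R₀ (R₀ ⊗[A] B') (R₀ ⊗[A] L)])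
  exact Module.Flat.trans R₀ (R₀ ⊗[A] L) T

end Groth.Agent.Lib.R2LeadOmFl2
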