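import Mathlib
import Groth.Prelude.Def_QFDual
import Groth.Agent.Lib.R2LeadOmFl1b
import Groth.Agent.Lib.R2LeadOmFl2

/-!
# Étale-local structure of a flat quasi-finite algebra at a prime (lead)

Extracted from `R2LeadOmFl3`: after a flat (étale local) base change `A → R₀`, the localisation
`L` of the finite algebra `B'` at `q'` is dominated, faithfully flatly, by a finite free direct
factor of `R₀ ⊗[A] B'`.
-/

set_option autoImplicit false
open TensorProduct

namespace Groth.Agent.Lib.R2LeadOmBC5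

universe u

open Groth.Agent.Lib.R2LeadOmFl1b

theorem exists_local_data (A B' : Type u) [CommRing A] [CommRing B'] [IsNoetherianRing A]
    [Algebra A B'] [Module.Finite A B'] (q' : Ideal B') [q'.IsPrime]
    (L : Type u) [CommRing L] [Algebra B' L] [Algebra A L] [IsScalarTower A B' L]
    [IsLocalization.AtPrime L q'] [Module.Flat A L] :
    ∃ (R₀ : Type u) (_ : CommRing R₀) (_ : Algebra A R₀), Module.Flat A R₀ ∧
      ∃ e₀ : R₀ ⊗[A] B', IsIdempotentElem e₀ ∧ Module.Free R₀ ((R₀ ⊗[A] B') ⧸ Ie e₀) ∧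
        ∃ (_ : Algebra L ((R₀ ⊗[A] B') ⧸ Ie e₀)),
          (∀ b' : B', algebraMap L ((R₀ ⊗[A] B') ⧸ Ie e₀) (algebraMap B' L b') =
            Ideal.Quotient.mk (Ie e₀) ((1 : R₀) ⊗ₜ[A] b')) ∧
          Module.FaithfullyFlat L ((R₀ ⊗[A] B') ⧸ Ie e₀) := by
  classical
  let p : Ideal A := q'.under A
  haveI : q'.LiesOver p := ⟨rfl⟩
  haveI : Algebra.QuasiFiniteAt A q' := inferInstance
  obtain ⟨R', _, _, _, P, _, _, e, he, P', _, _, hP'q, heP', -, -, huniq⟩ :=
    Algebra.exists_etale_isIdempotentElem_forall_liesOver_eq p q'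
  -- the local base
  let R₀ := Localization.AtPrime P
  haveI : IsNoetherianRing R' := Algebra.FiniteType.isNoetherianRing A R'
  haveI : IsNoetherianRing R₀ := IsLocalization.isNoetherianRing P.primeCompl R₀ inferInstance
  haveI : Module.Flat A R' := inferInstance
  haveI : Module.Flat A R₀ := inferInstance
  -- the base change and the idempotent
  let ρ : R' ⊗[A] B' →ₐ[A] R₀ ⊗[A] B' :=
    Algebra.TensorProduct.map (IsScalarTower.toAlgHom A R' R₀) (AlgHom.id A B')
  let e₀ : R₀ ⊗[A] B' := ρ e
  have he₀ : IsIdempotentElem e₀ := he.map ρ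
  letI algB'D₀ : Algebra B' (R₀ ⊗[A] B') := Algebra.TensorProduct.rightAlgebra
  have hpush : Algebra.IsPushout A R₀ B' (R₀ ⊗[A] B') := inferInstance
  let C := (R₀ ⊗[A] B') ⧸ Ie e₀
  haveI : Module.Finite R₀ C := inferInstance
  haveI : IsScalarTower A R₀ C := inferInstance
  haveI : IsScalarTower B' (R₀ ⊗[A] B') C := inferInstance
  haveI : IsScalarTower A B' C := inferInstance
  -- (N2): every maximal ideal of `C` lies over `q'`
  have hN2 : ∀ (𝔪 : Ideal C) [𝔪.IsMaximal], 𝔪.comap (algebraMap B' C) = q' := by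
    intro 𝔪 h𝔪
    let χ : R' ⊗[A] B' →+* C := (algebraMap (R₀ ⊗[A] B') C).comp ρ.toRingHom
    let 𝔓 : Ideal (R' ⊗[A] B') := 𝔪.comap χ
    haveI : 𝔓.IsPrime := Ideal.comap_isPrime χ 𝔪
    have hχR : χ.comp (algebraMap R' (R' ⊗[A] B')) = (algebraMap R₀ C).comp (algebraMap R' R₀) := by
      refine RingHom.ext fun r => ?_
      simp only [χ, ρ, RingHom.comp_apply, Algebra.TensorProduct.algebraMap_apply,
        AlgHom.toRingHom_eq_coe, RingHom.coe_coe, Algebra.TensorProduct.map_tmul, map_one]
      rw [IsScalarTower.algebraMap_apply R₀ (R₀ ⊗[A] B') C]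
      simp
    have hχB : χ.comp (Algebra.TensorProduct.includeRight (R := A) (A := R')).toRingHom =
        algebraMap B' C := by
      refine RingHom.ext fun b => ?_
      simp only [χ, ρ, RingHom.comp_apply, AlgHom.toRingHom_eq_coe, RingHom.coe_coe,
        Algebra.TensorProduct.includeRight_apply, Algebra.TensorProduct.map_tmul, map_one]
      rw [IsScalarTower.algebraMap_apply B' (R₀ ⊗[A] B') C]
      rfl
    haveI : 𝔓.LiesOver P := by
      constructor
      have h1 : (𝔪.comap (algebraMap R₀ C)).IsMaximal :=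
        Ideal.isMaximal_comap_of_isIntegral_of_isMaximal 𝔪
      have h2 : 𝔪.comap (algebraMap R₀ C) = IsLocalRing.maximalIdeal R₀ :=
        IsLocalRing.eq_maximalIdeal h1
      change P = (𝔪.comap χ).comap (algebraMap R' (R' ⊗[A] B'))
      rw [Ideal.comap_comap, hχR, ← Ideal.comap_comap, h2]
      exact (Localization.AtPrime.comap_maximalIdeal (I := P)).symm
    have heP : e ∉ 𝔓 := by
      intro hmem
      have h1 : χ e = 1 := mk_e
      have : (1 : C) ∈ 𝔪 := h1 ▸ hmem
      exact h𝔪.ne_top ((Ideal.eq_top_iff_one _).mpr this)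
    have h𝔓 : 𝔓 = P' := huniq 𝔓 inferInstance inferInstance heP
    rw [← hχB, ← Ideal.comap_comap]
    change 𝔓.comap _ = q'
    rw [h𝔓]
    exact hP'q
  -- (N3): `C` is nontrivial
  haveI hN3 : Nontrivial C := by
    let T' := Localization.AtPrime P'
    -- `R' → T'` inverts the complement of `P`
    let f₀ : R' →ₐ[A] T' := (IsScalarTower.toAlgHom A (R' ⊗[A] B') T').comp
      (Algebra.TensorProduct.includeLeft : R' →ₐ[A] R' ⊗[A] B')
    have hf₀ : ∀ y : P.primeCompl, IsUnit (f₀ y) := by
      intro y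
      have hy : (algebraMap R' (R' ⊗[A] B')) y.1 ∉ P' := by
        intro hmem
        apply y.2
        have hov := (Ideal.LiesOver.over (P := P') (p := P))
        have : y.1 ∈ Ideal.under R' P' := hmem
        rw [← hov] at this
        exact this
      exact IsLocalization.map_units T' (⟨_, hy⟩ : P'.primeCompl)
    let f : R₀ →ₐ[A] T' := IsLocalization.liftAlgHom (M := P.primeCompl) (f := f₀) hf₀
    let g : B' →ₐ[A] T' := (IsScalarTower.toAlgHom A (R' ⊗[A] B') T').comp
      (Algebra.TensorProduct.includeRight : B' →ₐ[A] R' ⊗[A] B')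
    let θ : R₀ ⊗[A] B' →ₐ[A] T' := Algebra.TensorProduct.lift f g (fun _ _ => Commute.all _ _)
    have hθρ : θ.comp ρ = IsScalarTower.toAlgHom A (R' ⊗[A] B') T' := by
      apply Algebra.TensorProduct.ext
      · refine AlgHom.ext fun r => ?_
        simp [θ, ρ, f, f₀]
      · refine AlgHom.ext fun b => ?_
        simp [θ, ρ, g]
    have hθe : θ e₀ = 1 := by
      have h1 : θ e₀ = algebraMap (R' ⊗[A] B') T' e := by
        change (θ.comp ρ) e = _
        rw [hθρ]
        rfl
      have h2 : IsUnit (algebraMap (R' ⊗[A] B') T' e) :=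
        IsLocalization.map_units T' (⟨e, heP'⟩ : P'.primeCompl)
      have h3 : IsIdempotentElem (algebraMap (R' ⊗[A] B') T' e) := he.map _
      rw [h1]
      exact (IsIdempotentElem.iff_eq_one_of_isUnit h2).mp h3
    refine Ideal.Quotient.nontrivial_iff.mpr ?_
    intro htop
    have h1 : (1 : R₀ ⊗[A] B') ∈ Ie e₀ := htop ▸ Submodule.mem_top
    obtain ⟨a, ha⟩ := Ideal.mem_span_singleton'.mp h1
    have h2 : θ 1 = 0 := by
      rw [← ha, map_mul, map_sub, map_one, hθe, sub_self, mul_zero]
    rw [map_one] at h2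
    exact one_ne_zero h2
  -- (N4): `C` is flat over `R₀`
  haveI hlocC : IsLocalization.Away e₀ C := IsLocalization.Away.quotient_of_isIdempotentElem he₀
  haveI hN4 : Module.Flat R₀ C := by
    refine Module.flat_of_isLocalized_maximal (R := R₀) C C
      (fun 𝔪 _ => Localization.AtPrime 𝔪)
      (fun 𝔪 _ => Algebra.linearMap C (Localization.AtPrime 𝔪)) ?_
    intro 𝔪 h𝔪
    haveI : IsLocalization.AtPrime (Localization.AtPrime 𝔪)
        (𝔪.comap (algebraMap (R₀ ⊗[A] B') C)) :=
      IsLocalization.isLocalization_isLocalization_atPrime_isLocalization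
        (Submonoid.powers e₀) (Localization.AtPrime 𝔪) 𝔪
    refine Groth.Agent.Lib.R2LeadOmFl2.flat_localization_tensor A R₀ B'
      (𝔪.comap (algebraMap (R₀ ⊗[A] B') C)) q' ?_ L (Localization.AtPrime 𝔪)
    rw [← hN2 𝔪, Ideal.comap_comap]
    rfl
  -- (b): `C` is a faithfully flat `L`-algebra
  have hunits : ∀ y : q'.primeCompl, IsUnit (algebraMap B' C y) := by
    intro y
    by_contra hnu
    obtain ⟨𝔪, h𝔪, hmem⟩ := exists_max_ideal_of_mem_nonunits hnu
    have : (y : B') ∈ 𝔪.comap (algebraMap B' C) := hmem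
    rw [hN2 𝔪] at this
    exact y.2 this
  letI algLC : Algebra L C := (IsLocalization.lift (M := q'.primeCompl) hunits).toAlgebra
  haveI : IsScalarTower B' L C :=
    IsScalarTower.of_algebraMap_eq (fun x => (IsLocalization.lift_eq hunits x).symm)
  haveI : IsScalarTower A L C := by
    refine IsScalarTower.of_algebraMap_eq (fun a => ?_)
    rw [IsScalarTower.algebraMap_apply A B' C, IsScalarTower.algebraMap_apply B' L C,
      ← IsScalarTower.algebraMap_apply A B' L]
  haveI : Module.Flat B' (R₀ ⊗[A] B') :=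
    Module.Flat.isBaseChange A B' R₀ (R₀ ⊗[A] B') hpush.symm.out
  haveI : Module.Flat (R₀ ⊗[A] B') C := IsLocalization.flat C (Submonoid.powers e₀)
  haveI : Module.Flat B' C := Module.Flat.trans B' (R₀ ⊗[A] B') C
  haveI : Module.Flat L C := (Module.flat_iff_of_isLocalization L q'.primeCompl C).mpr inferInstance
  haveI : IsLocalRing L := IsLocalization.AtPrime.isLocalRing L q'
  have hff : Module.FaithfullyFlat L C := by
    rw [Module.FaithfullyFlat.iff_flat_and_proper_ideal]
    refine ⟨inferInstance, fun I hI htop => ?_⟩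
    obtain ⟨𝔪, h𝔪⟩ := Ideal.exists_maximal C
    have h𝔫 : 𝔪.comap (algebraMap L C) = IsLocalRing.maximalIdeal L := by
      have h1 : (𝔪.comap (algebraMap L C)).comap (algebraMap B' L) =
          (IsLocalRing.maximalIdeal L).comap (algebraMap B' L) := by
        rw [Ideal.comap_comap, ← IsScalarTower.algebraMap_eq, hN2 𝔪]
        exact (IsLocalization.AtPrime.under_maximalIdeal L q').symm
      have h2 := IsLocalization.map_under q'.primeCompl L (𝔪.comap (algebraMap L C))
      have h3 := IsLocalization.map_under q'.primeCompl L (IsLocalRing.maximalIdeal L)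
      unfold Ideal.under at h2 h3
      rw [← h2, h1, h3]
    have hle : I ≤ 𝔪.comap (algebraMap L C) := h𝔫 ▸ IsLocalRing.le_maximalIdeal hI
    have h1 : (1 : C) ∈ (I • (⊤ : Submodule L C)) := by
      rw [htop]
      exact Submodule.mem_top
    have h2 : ∀ z ∈ (I • (⊤ : Submodule L C)), z ∈ 𝔪 := by
      intro z hz
      refine Submodule.smul_induction_on hz (fun r hr n _ => ?_) (fun x y hx hy => 𝔪.add_mem hx hy)
      rw [Algebra.smul_def]
      exact 𝔪.mul_mem_right _ (hle hr)
    exact h𝔪.ne_top ((Ideal.eq_top_iff_one _).mpr (h2 1 h1))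
  haveI : Module.FinitePresentation R₀ C := Module.finitePresentation_of_finite R₀ C
  haveI hfree : Module.Free R₀ C := Module.free_of_flat_of_isLocalRing
  refine ⟨R₀, inferInstance, inferInstance, inferInstance, e₀, he₀, hfree, algLC, ?_, hff⟩
  intro b'
  exact IsLocalization.lift_eq hunits b'

end Groth.Agent.Lib.R2LeadOmBC5
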