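import Mathlib
import Groth.Prelude.Def_QFDual
import Groth.Agent.Helper9QFAss
import Groth.Agent.Lib.R2LeadOmBC1
import Groth.Agent.Lib.R2LeadOmBC2
import Groth.Agent.Lib.R2LeadOmBC4
import Groth.Agent.Lib.R2LeadOmBC5

/-!
# Base change of the relative dualizing module of a flat quasi-finite algebra (lead)
-/

set_option autoImplicit false
open TensorProduct AlgebraicGeometry CategoryTheory

namespace Groth.Agent.Lib.R2LeadOmBC6

universe u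

open QFDual Groth.Agent.Lib.R2LeadOmFl1b

/-- a faithfully flat algebra over the local ring at the contraction of a maximal ideal does not
kill that maximal ideal after base change -/
theorem map_ne_top_tensor {B B₁ L C : Type u} [CommRing B] [CommRing B₁] [CommRing L] [CommRing C]
    [Algebra B B₁] (𝔪₁ : Ideal B₁) [𝔪₁.IsMaximal] (q : Ideal B) [q.IsPrime]
    (hq : 𝔪₁.comap (algebraMap B B₁) = q) [Algebra B L] [IsLocalization.AtPrime L q]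
    [Algebra L C] [Algebra B C] [IsScalarTower B L C] [Module.FaithfullyFlat L C] :
    𝔪₁.map (Algebra.TensorProduct.includeRight : B₁ →ₐ[B] C ⊗[B] B₁).toRingHom ≠ ⊤ := by
  letI : Field (B₁ ⧸ 𝔪₁) := Ideal.Quotient.field 𝔪₁
  let g : B →+* B₁ ⧸ 𝔪₁ := algebraMap B (B₁ ⧸ 𝔪₁)
  have hunits : ∀ y : q.primeCompl, IsUnit (g y) := by
    intro y
    rw [isUnit_iff_ne_zero]
    intro h0
    apply y.2
    have h0' : Ideal.Quotient.mk 𝔪₁ (algebraMap B B₁ (y : B)) = 0 := h0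
    have h1 : (y : B) ∈ Ideal.comap (algebraMap B B₁) 𝔪₁ :=
      Ideal.mem_comap.mpr (Ideal.Quotient.eq_zero_iff_mem.mp h0')
    rw [hq] at h1
    exact h1
  letI : Algebra L (B₁ ⧸ 𝔪₁) := (IsLocalization.lift hunits).toAlgebra
  haveI : IsScalarTower B L (B₁ ⧸ 𝔪₁) :=
    IsScalarTower.of_algebraMap_eq (fun x => (IsLocalization.lift_eq hunits x).symm)
  haveI : Nontrivial (C ⊗[L] (B₁ ⧸ 𝔪₁)) := inferInstance
  let Θ : C ⊗[B] B₁ →ₐ[B] C ⊗[L] (B₁ ⧸ 𝔪₁) :=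
    (Algebra.TensorProduct.mapOfCompatibleSMul L B B C (B₁ ⧸ 𝔪₁)).comp
      (Algebra.TensorProduct.map (AlgHom.id B C) (IsScalarTower.toAlgHom B B₁ (B₁ ⧸ 𝔪₁)))
  intro htop
  have hle : 𝔪₁.map (Algebra.TensorProduct.includeRight : B₁ →ₐ[B] C ⊗[B] B₁).toRingHom ≤
      RingHom.ker Θ.toRingHom := by
    rw [Ideal.map_le_iff_le_comap]
    intro m hm
    rw [Ideal.mem_comap, RingHom.mem_ker]
    change Θ ((1 : C) ⊗ₜ[B] m) = 0
    have h0 : (IsScalarTower.toAlgHom B B₁ (B₁ ⧸ 𝔪₁)) m = 0 :=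
      Ideal.Quotient.eq_zero_iff_mem.mpr hm
    simp only [Θ, AlgHom.comp_apply, Algebra.TensorProduct.map_tmul, h0, tmul_zero, map_zero]
  have h1 : (1 : C ⊗[B] B₁) ∈ RingHom.ker Θ.toRingHom := hle (htop ▸ Submodule.mem_top)
  rw [RingHom.mem_ker, map_one] at h1
  exact one_ne_zero h1

theorem main (A B' B A₁ B'₁ B₁ : Type u) [CommRing A] [CommRing B'] [CommRing B] [CommRing A₁]
    [CommRing B'₁] [CommRing B₁] [IsNoetherianRing A] [IsNoetherianRing B] [IsNoetherianRing A₁]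
    [Algebra A B'] [Algebra B' B] [Algebra A B] [IsScalarTower A B' B] [Module.Flat A B]
    (hf : QFDual.IsQFFactor A B' B) [Algebra A A₁] [Algebra B' B'₁] [Algebra A₁ B'₁] [Algebra A B'₁]
    [IsScalarTower A A₁ B'₁] [IsScalarTower A B' B'₁] (h : Algebra.IsPushout A A₁ B' B'₁)
    [Algebra B B₁] [Algebra A₁ B₁] [Algebra A B₁] [IsScalarTower A A₁ B₁] [IsScalarTower A B B₁]
    (hB : Algebra.IsPushout A A₁ B B₁) [Algebra B'₁ B₁] [Algebra B' B₁] [IsScalarTower B' B'₁ B₁]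
    [IsScalarTower B' B B₁] [IsScalarTower A₁ B'₁ B₁] :
    Function.Bijective (QFDual.omegaBC (B₁ := B₁) h) := by
  classical
  haveI : Module.Finite A B' := hf.finite
  have hopen := hf.isOpenImmersion
  refine Groth.Agent.Lib.R2LeadOmBC2.bijective_of_flat_family (omegaBC (B₁ := B₁) h) ?_
  intro 𝔪₁ h𝔪₁
  let q : Ideal B := 𝔪₁.comap (algebraMap B B₁)
  haveI hqprime : q.IsPrime := Ideal.comap_isPrime _ _
  let q' : Ideal B' := q.comap (algebraMap B' B)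
  haveI hq'prime : q'.IsPrime := Ideal.comap_isPrime _ _
  -- the local ring of `B` at `q` is the local ring of `B'` at `q'`
  let φ := Localization.localRingHom q' q (algebraMap B' B) rfl
  have hφ : Function.Bijective φ := Helper9QFAss.localRingHom_bijective hopen q
  let eL : Localization.AtPrime q' ≃ₐ[B'] Localization.AtPrime q :=
    AlgEquiv.ofBijective ⟨φ, fun x => Localization.localRingHom_to_map _ _ _ _ x⟩ hφ
  haveI : IsLocalization.AtPrime (Localization.AtPrime q) q' :=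
    IsLocalization.isLocalization_of_algEquiv q'.primeCompl eL
  haveI : IsScalarTower A B' (Localization.AtPrime q) := by
    refine IsScalarTower.of_algebraMap_eq (fun a => ?_)
    rw [IsScalarTower.algebraMap_apply A B (Localization.AtPrime q),
      IsScalarTower.algebraMap_apply B' B (Localization.AtPrime q),
      ← IsScalarTower.algebraMap_apply A B' B]
  haveI : Module.Flat A (Localization.AtPrime q) := Module.Flat.trans A B (Localization.AtPrime q)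
  obtain ⟨R₀, _, _, hR₀flat, e₀, he₀, hfree, algLC, hLC, hff⟩ :=
    Groth.Agent.Lib.R2LeadOmBC5.exists_local_data A B' q' (Localization.AtPrime q)
  -- `C` as a `B`-algebra
  letI algBC : Algebra B ((R₀ ⊗[A] B') ⧸ Ie e₀) :=
    ((algebraMap (Localization.AtPrime q) ((R₀ ⊗[A] B') ⧸ Ie e₀)).comp
      (algebraMap B (Localization.AtPrime q))).toAlgebra
  haveI : IsScalarTower B (Localization.AtPrime q) ((R₀ ⊗[A] B') ⧸ Ie e₀) :=
    IsScalarTower.of_algebraMap_eq (fun _ => rfl)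
  have hB'C : ∀ b' : B', algebraMap B ((R₀ ⊗[A] B') ⧸ Ie e₀) (algebraMap B' B b') =
      Ideal.Quotient.mk (Ie e₀) ((1 : R₀) ⊗ₜ[A] b') := by
    intro b'
    rw [← hLC b', IsScalarTower.algebraMap_apply B (Localization.AtPrime q),
      ← IsScalarTower.algebraMap_apply B' B (Localization.AtPrime q)]
  have hAC : ∀ a : A, algebraMap A ((R₀ ⊗[A] B') ⧸ Ie e₀) a =
      algebraMap B ((R₀ ⊗[A] B') ⧸ Ie e₀) (algebraMap A B a) := by
    intro a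
    rw [IsScalarTower.algebraMap_apply A B' B, hB'C,
      IsScalarTower.algebraMap_apply A (R₀ ⊗[A] B') ((R₀ ⊗[A] B') ⧸ Ie e₀),
      Ideal.Quotient.algebraMap_eq, Algebra.TensorProduct.algebraMap_apply,
      Algebra.algebraMap_eq_smul_one, Algebra.algebraMap_eq_smul_one (A := B'), smul_tmul]
  haveI : Module.Flat (Localization.AtPrime q) ((R₀ ⊗[A] B') ⧸ Ie e₀) := hff.toFlat
  haveI : Module.Flat B ((R₀ ⊗[A] B') ⧸ Ie e₀) :=
    Module.Flat.trans B (Localization.AtPrime q) ((R₀ ⊗[A] B') ⧸ Ie e₀)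
  -- the test algebra `E`
  letI aB₁E : Algebra B₁ (((R₀ ⊗[A] B') ⧸ Ie e₀) ⊗[B] B₁) := Algebra.TensorProduct.rightAlgebra
  letI aB'₁E : Algebra B'₁ (((R₀ ⊗[A] B') ⧸ Ie e₀) ⊗[B] B₁) :=
    ((algebraMap B₁ (((R₀ ⊗[A] B') ⧸ Ie e₀) ⊗[B] B₁)).comp (algebraMap B'₁ B₁)).toAlgebra
  letI aB'E : Algebra B' (((R₀ ⊗[A] B') ⧸ Ie e₀) ⊗[B] B₁) :=
    ((algebraMap B₁ (((R₀ ⊗[A] B') ⧸ Ie e₀) ⊗[B] B₁)).comp (algebraMap B' B₁)).toAlgebra
  haveI : IsScalarTower B'₁ B₁ (((R₀ ⊗[A] B') ⧸ Ie e₀) ⊗[B] B₁) :=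
    IsScalarTower.of_algebraMap_eq (fun _ => rfl)
  haveI : IsScalarTower B' B₁ (((R₀ ⊗[A] B') ⧸ Ie e₀) ⊗[B] B₁) :=
    IsScalarTower.of_algebraMap_eq (fun _ => rfl)
  haveI : IsScalarTower B' B'₁ (((R₀ ⊗[A] B') ⧸ Ie e₀) ⊗[B] B₁) :=
    IsScalarTower.of_algebraMap_eq (fun b => by
      change algebraMap B₁ (((R₀ ⊗[A] B') ⧸ Ie e₀) ⊗[B] B₁) (algebraMap B' B₁ b) =
        algebraMap B₁ (((R₀ ⊗[A] B') ⧸ Ie e₀) ⊗[B] B₁) (algebraMap B'₁ B₁ (algebraMap B' B'₁ b))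
      rw [← IsScalarTower.algebraMap_apply B' B'₁ B₁])
  letI aAE : Algebra A (((R₀ ⊗[A] B') ⧸ Ie e₀) ⊗[B] B₁) :=
    ((algebraMap B₁ (((R₀ ⊗[A] B') ⧸ Ie e₀) ⊗[B] B₁)).comp (algebraMap A B₁)).toAlgebra
  have hincl : ∀ (c : (R₀ ⊗[A] B') ⧸ Ie e₀) (x : B),
      (algebraMap B ((R₀ ⊗[A] B') ⧸ Ie e₀) x * c) ⊗ₜ[B] (1 : B₁) =
        c ⊗ₜ[B] (algebraMap B B₁ x) := by
    intro c x
    rw [← Algebra.smul_def, smul_tmul, Algebra.smul_def, mul_one]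
  let gE : B'₁ →ₐ[A] (((R₀ ⊗[A] B') ⧸ Ie e₀) ⊗[B] B₁) :=
    { toRingHom := algebraMap B'₁ (((R₀ ⊗[A] B') ⧸ Ie e₀) ⊗[B] B₁)
      commutes' := fun a => by
        change algebraMap B₁ (((R₀ ⊗[A] B') ⧸ Ie e₀) ⊗[B] B₁)
            (algebraMap B'₁ B₁ (algebraMap A B'₁ a)) =
          algebraMap B₁ (((R₀ ⊗[A] B') ⧸ Ie e₀) ⊗[B] B₁) (algebraMap A B₁ a)
        rw [IsScalarTower.algebraMap_apply A A₁ B'₁, ← IsScalarTower.algebraMap_apply A₁ B'₁ B₁,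
          ← IsScalarTower.algebraMap_apply A A₁ B₁] }
  let fE : R₀ →ₐ[A] (((R₀ ⊗[A] B') ⧸ Ie e₀) ⊗[B] B₁) :=
    { toRingHom := (Algebra.TensorProduct.includeLeft :
          ((R₀ ⊗[A] B') ⧸ Ie e₀) →ₐ[B] ((R₀ ⊗[A] B') ⧸ Ie e₀) ⊗[B] B₁).toRingHom.comp
        (algebraMap R₀ ((R₀ ⊗[A] B') ⧸ Ie e₀))
      commutes' := fun a => by
        change (algebraMap R₀ ((R₀ ⊗[A] B') ⧸ Ie e₀) (algebraMap A R₀ a)) ⊗ₜ[B] (1 : B₁) =
          (1 : (R₀ ⊗[A] B') ⧸ Ie e₀) ⊗ₜ[B] (algebraMap A B₁ a)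
        rw [← IsScalarTower.algebraMap_apply A R₀, hAC, IsScalarTower.algebraMap_apply A B B₁,
          ← hincl, mul_one] }
  let θ : R₀ ⊗[A] B'₁ →ₐ[A] (((R₀ ⊗[A] B') ⧸ Ie e₀) ⊗[B] B₁) :=
    Algebra.TensorProduct.lift fE gE (fun _ _ => Commute.all _ _)
  letI aD₁E : Algebra (R₀ ⊗[A] B'₁) (((R₀ ⊗[A] B') ⧸ Ie e₀) ⊗[B] B₁) := θ.toRingHom.toAlgebra
  have hcompat : ∀ x : B'₁, algebraMap (R₀ ⊗[A] B'₁) (((R₀ ⊗[A] B') ⧸ Ie e₀) ⊗[B] B₁)
      ((1 : R₀) ⊗ₜ[A] x) = algebraMap B'₁ (((R₀ ⊗[A] B') ⧸ Ie e₀) ⊗[B] B₁) x := by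
    intro x
    change θ ((1 : R₀) ⊗ₜ[A] x) = gE x
    rw [Algebra.TensorProduct.lift_tmul, map_one, one_mul]
  have hθ : ∀ z : R₀ ⊗[A] B', θ (Algebra.TensorProduct.map (AlgHom.id A R₀)
      (IsScalarTower.toAlgHom A B' B'₁) z) = (Ideal.Quotient.mk (Ie e₀) z) ⊗ₜ[B] (1 : B₁) := by
    intro z
    induction z using TensorProduct.induction_on with
    | zero => simp
    | add x y hx hy => rw [map_add, map_add, map_add, hx, hy, add_tmul]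
    | tmul r b' =>
      rw [Algebra.TensorProduct.map_tmul, Algebra.TensorProduct.lift_tmul]
      change ((algebraMap R₀ ((R₀ ⊗[A] B') ⧸ Ie e₀) r) ⊗ₜ[B] (1 : B₁)) *
        ((1 : (R₀ ⊗[A] B') ⧸ Ie e₀) ⊗ₜ[B] (algebraMap B'₁ B₁ (algebraMap B' B'₁ b'))) = _
      rw [Algebra.TensorProduct.tmul_mul_tmul, mul_one, one_mul,
        ← IsScalarTower.algebraMap_apply B' B'₁ B₁, IsScalarTower.algebraMap_apply B' B B₁,
        ← hincl, hB'C, IsScalarTower.algebraMap_apply R₀ (R₀ ⊗[A] B') ((R₀ ⊗[A] B') ⧸ Ie e₀),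
        Ideal.Quotient.algebraMap_eq, ← map_mul, Algebra.TensorProduct.algebraMap_apply,
        Algebra.TensorProduct.tmul_mul_tmul, one_mul, mul_one]
      rfl
  have he : algebraMap (R₀ ⊗[A] B'₁) (((R₀ ⊗[A] B') ⧸ Ie e₀) ⊗[B] B₁)
      (Algebra.TensorProduct.map (AlgHom.id A R₀) (IsScalarTower.toAlgHom A B' B'₁) e₀) = 1 := by
    change θ _ = 1
    rw [hθ, mk_e]
    rfl
  have hE : Function.Bijective (omegaBC (B₁ := ((R₀ ⊗[A] B') ⧸ Ie e₀) ⊗[B] B₁) h) :=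
    Groth.Agent.Lib.R2LeadOmBC4.omegaBC_bijective_of_local_data h R₀ e₀ he₀
      (((R₀ ⊗[A] B') ⧸ Ie e₀) ⊗[B] B₁) hcompat he
  refine ⟨((R₀ ⊗[A] B') ⧸ Ie e₀) ⊗[B] B₁, inferInstance, aB₁E, ?_, ?_, ?_⟩
  · have hpush : Algebra.IsPushout B ((R₀ ⊗[A] B') ⧸ Ie e₀) B₁
        (((R₀ ⊗[A] B') ⧸ Ie e₀) ⊗[B] B₁) := inferInstance
    exact Module.Flat.isBaseChange B B₁ ((R₀ ⊗[A] B') ⧸ Ie e₀)
      (((R₀ ⊗[A] B') ⧸ Ie e₀) ⊗[B] B₁) hpush.symm.out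
  · exact map_ne_top_tensor (L := Localization.AtPrime q) 𝔪₁ q rfl
  · exact Groth.Agent.Lib.R2LeadOmBC1.baseChange_omegaBC_bijective h hE

end Groth.Agent.Lib.R2LeadOmBC6
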