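import Mathlib
import Groth.Prelude.Def_QFDual

/-!
# Flatness of the relative dualizing module: general lemmas (lead)
-/

set_option autoImplicit false
open TensorProduct

namespace Groth.Agent.Lib.R2LeadOmFl1

universe u

section Descent

variable (A D C X : Type u) [CommRing A] [CommRing D] [CommRing C]
  [Algebra A D] [Algebra D C] [Algebra A C] [IsScalarTower A D C]
  [AddCommGroup X] [Module A X] [Module D X] [IsScalarTower A D X]

/-- descent of `A`-flatness of a `D`-module along a faithfully flat `D`-algebra `C`. -/
theorem flat_of_faithfullyFlat_tensor [Module.FaithfullyFlat D C]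
    [Module.Flat A (C ⊗[D] X)] : Module.Flat A X := by
  rw [Module.Flat.iff_lTensor_preserves_injective_linearMap]
  intro N P _ _ _ _ f hf
  let g : X ⊗[A] N →ₗ[D] X ⊗[A] P := AlgebraTensorModule.lTensor D X f
  have hg : ∀ z, g z = LinearMap.lTensor X f z := fun z => rfl
  have hinj : Function.Injective (LinearMap.lTensor C g) := by
    have key : ∀ z, LinearMap.lTensor C g (AlgebraTensorModule.assoc A D D C X N z) =
        AlgebraTensorModule.assoc A D D C X P (LinearMap.lTensor (C ⊗[D] X) f z) := by
      intro z
      induction z using TensorProduct.induction_on with
      | zero => simp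
      | add x y hx hy => simp only [map_add, hx, hy]
      | tmul w n =>
        induction w using TensorProduct.induction_on with
        | zero => simp
        | add x y hx hy => simp only [add_tmul, map_add, hx, hy]
        | tmul c x =>
          simp [g]
    have h2 : Function.Injective (LinearMap.lTensor (C ⊗[D] X) f) :=
      Module.Flat.lTensor_preserves_injective_linearMap f hf
    intro a b hab
    have ha := key ((AlgebraTensorModule.assoc A D D C X N).symm a)
    have hb := key ((AlgebraTensorModule.assoc A D D C X N).symm b)
    rw [LinearEquiv.apply_symm_apply] at ha hb
    rw [ha, hb] at hab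
    have := h2 ((AlgebraTensorModule.assoc A D D C X P).injective hab)
    exact (AlgebraTensorModule.assoc A D D C X N).symm.injective this
  have := (Module.FaithfullyFlat.lTensor_injective_iff_injective D C g).mp hinj
  intro a b hab
  exact this (by rw [hg, hg, hab])

end Descent

end Groth.Agent.Lib.R2LeadOmFl1
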