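import Mathlib
import Groth.Prelude.Def_QFDual
import Groth.Agent.Helper9QFAss
import Groth.Agent.Lib.R2LeadOmFl3

/-!
# Flatness of the relative dualizing module of a flat quasi-finite algebra (lead)
-/

set_option autoImplicit false
open TensorProduct AlgebraicGeometry CategoryTheory

namespace Groth.Agent.Lib.R2LeadOmFl4

universe u

theorem main (A B B' : Type u) [CommRing A] [CommRing B] [CommRing B'] [IsNoetherianRing A]
    [Algebra A B] [Module.Flat A B] [Algebra A B'] [Algebra B' B] [IsScalarTower A B' B]
    [Module.Finite A B']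
    (hopen : IsOpenImmersion (Spec.map (CommRingCat.ofHom (algebraMap B' B)))) :
    Module.Flat A (B ⊗[B'] Disc.Omega A B') := by
  let f : ∀ (q : Ideal B) [q.IsMaximal], B ⊗[B'] Disc.Omega A B' →ₗ[B]
      Localization.AtPrime q ⊗[B'] Disc.Omega A B' := fun q _ =>
    AlgebraTensorModule.map (Algebra.linearMap B (Localization.AtPrime q))
      (LinearMap.id : Disc.Omega A B' →ₗ[B'] Disc.Omega A B')
  haveI hloc : ∀ (q : Ideal B) [q.IsMaximal], IsLocalizedModule.AtPrime q (f q) := by
    intro q hq
    refine (isLocalizedModule_iff_isBaseChange q.primeCompl (Localization.AtPrime q) (f q)).mpr ?_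
    refine IsBaseChange.of_comp (TensorProduct.isBaseChange B' (Disc.Omega A B') B) ?_
    have h1 : ((f q).restrictScalars B') ∘ₗ (TensorProduct.mk B' B (Disc.Omega A B') 1) =
        TensorProduct.mk B' (Localization.AtPrime q) (Disc.Omega A B') 1 := by
      refine LinearMap.ext fun ω => ?_
      simp [f]
    rw [h1]
    exact TensorProduct.isBaseChange B' (Disc.Omega A B') (Localization.AtPrime q)
  refine @Module.flat_of_isLocalized_maximal A B _ _ _ (B ⊗[B'] Disc.Omega A B') _ _ _ _
    (fun q _ => Localization.AtPrime q ⊗[B'] Disc.Omega A B') _ _ _ _ f hloc ?_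
  intro q hq
  let φ := Localization.localRingHom (q.comap (algebraMap B' B)) q (algebraMap B' B) rfl
  have hφ : Function.Bijective φ := Helper9QFAss.localRingHom_bijective hopen q
  let e : Localization.AtPrime (q.comap (algebraMap B' B)) ≃ₐ[B'] Localization.AtPrime q :=
    AlgEquiv.ofBijective ⟨φ, fun x => Localization.localRingHom_to_map _ _ _ _ x⟩ hφ
  haveI : IsLocalization.AtPrime (Localization.AtPrime q) (q.comap (algebraMap B' B)) :=
    IsLocalization.isLocalization_of_algEquiv (q.comap (algebraMap B' B)).primeCompl e
  haveI : IsScalarTower A B' (Localization.AtPrime q) := by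
    refine IsScalarTower.of_algebraMap_eq (fun a => ?_)
    rw [IsScalarTower.algebraMap_apply A B (Localization.AtPrime q),
      IsScalarTower.algebraMap_apply B' B (Localization.AtPrime q),
      ← IsScalarTower.algebraMap_apply A B' B]
  exact Groth.Agent.Lib.R2LeadOmFl3.flat_localization_omega A B' (q.comap (algebraMap B' B))
    (Localization.AtPrime q)

end Groth.Agent.Lib.R2LeadOmFl4
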