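import Mathlib
import Groth.Prelude.Def_Disc
import Groth.Prelude.Def_CAlg
import Groth.Prelude.Def_QFDual
import Groth.Agent.Lib.R2LeadFrobAlg
import Groth.Agent.Lib.Helper20QFDualBC4
import Groth.Agent.S12080

/-!
# `ω_{B/A}` invertible iff the fibres are Gorenstein, for `B` finite free over `A` (lead)
-/

set_option autoImplicit false
universe u
open TensorProduct Matrix

namespace Groth.Agent.Lib.R2LeadOmegaInv
open Groth.Agent.Lib.R2LeadFrobAlg

section Local

variable {R : Type u} [CommRing R] {M : Type u} [AddCommGroup M] [Module R M]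

/-- If `r ↦ r • x` has kernel and cokernel killed by `s`, then `M_s ≅ R_s`. -/
theorem away_equiv_of (s : R) (x : M) (h1 : ∀ r : R, r • x = 0 → s * r = 0)
    (h2 : ∀ m : M, ∃ r : R, s • m = r • x) :
    Nonempty (LocalizedModule.Away s M ≃ₗ[Localization.Away s] Localization.Away s) := by
  let S := Submonoid.powers s
  let g : Localization.Away s →ₗ[Localization.Away s] LocalizedModule.Away s M :=
    LinearMap.toSpanSingleton _ _ (LocalizedModule.mk x (1 : S))
  have hg : ∀ (r : R) (t : S), g (Localization.mk r t) = LocalizedModule.mk (r • x) t := by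
    intro r t
    show Localization.mk r t • LocalizedModule.mk x (1 : S) = _
    rw [LocalizedModule.mk_smul_mk, mul_one]
  have hinj : Function.Injective g := by
    rw [injective_iff_map_eq_zero]
    intro t
    induction t using Localization.induction_on with
    | H y =>
      obtain ⟨r, t⟩ := y
      intro h0
      rw [hg, ← LocalizedModule.zero_mk (1 : S), LocalizedModule.mk_eq] at h0
      obtain ⟨u, hu⟩ := h0
      obtain ⟨k, hk⟩ := u.2
      rw [smul_zero, smul_zero, one_smul, Submonoid.smul_def, ← hk, smul_smul] at hu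
      have h3 := h1 _ hu
      rw [Localization.mk_eq_mk', IsLocalization.mk'_eq_zero_iff]
      refine ⟨⟨s ^ (k + 1), k + 1, rfl⟩, ?_⟩
      show s ^ (k + 1) * r = 0
      rw [pow_succ', mul_assoc, h3]
  have hsurj : Function.Surjective g := by
    intro y
    induction y using LocalizedModule.induction_on with
    | h m t =>
      obtain ⟨r, hr⟩ := h2 m
      refine ⟨Localization.mk r (⟨s, 1, pow_one s⟩ * t), ?_⟩
      rw [hg, LocalizedModule.mk_eq]
      refine ⟨1, ?_⟩
      rw [one_smul, one_smul, ← hr, Submonoid.smul_def, Submonoid.smul_def, Submonoid.coe_mul,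
        mul_smul, smul_comm]
  exact ⟨(LinearEquiv.ofBijective g ⟨hinj, hsurj⟩).symm⟩

/-- Local criterion for invertibility. -/
theorem invertible_of_local
    (h : ∀ Q : Ideal R, Q.IsMaximal → ∃ s ∉ Q, ∃ x : M,
      (∀ r : R, r • x = 0 → s * r = 0) ∧ (∀ m : M, ∃ r : R, s • m = r • x)) :
    Module.Invertible R M := by
  let T : Set R := {s | ∃ x : M, (∀ r : R, r • x = 0 → s * r = 0) ∧
    (∀ m : M, ∃ r : R, s • m = r • x)}
  have hT : Ideal.span T = ⊤ := by
    by_contra hne
    obtain ⟨Q, hQ, hle⟩ := Ideal.exists_le_maximal _ hne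
    obtain ⟨s, hsQ, x, hx⟩ := h Q hQ
    exact hsQ (hle (Ideal.subset_span ⟨x, hx⟩))
  refine Groth.Agent.S12080.result R M T hT ?_
  rintro f ⟨x, h1, h2⟩
  exact away_equiv_of f x h1 h2

end Local

section Main

variable {A B : Type u} [CommRing A] [CommRing B] [Algebra A B]

attribute [local instance] Algebra.TensorProduct.rightAlgebra

/-- Common denominators in the residue field. -/
theorem exists_common_denom (p : Ideal A) [p.IsPrime] {ι : Type*} [Finite ι]
    (v : ι → p.ResidueField) :
    ∃ s ∉ p, ∃ a : ι → A, ∀ i,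
      algebraMap A p.ResidueField s * v i = algebraMap A p.ResidueField (a i) := by
  have hx : ∀ i, ∃ x : Localization.AtPrime p, IsLocalRing.residue _ x = v i :=
    fun i => IsLocalRing.residue_surjective (v i)
  choose x hx using hx
  obtain ⟨b, hb⟩ := IsLocalization.exist_integer_multiples_of_finite p.primeCompl x
  choose a ha using hb
  refine ⟨b.1, b.2, a, fun i => ?_⟩
  rw [IsScalarTower.algebraMap_apply A (Localization.AtPrime p) p.ResidueField (a i), ha i,
    IsScalarTower.algebraMap_apply A (Localization.AtPrime p) p.ResidueField b.1,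
    ← hx i, Algebra.smul_def, map_mul]
  rfl

variable [Module.Finite A B] [Module.Free A B]

/-- `ω` invertible ⟹ Gorenstein fibres. -/
theorem gor_fiber_of_invertible [Module.Invertible B (Disc.Omega A B)] (p : Ideal A)
    [p.IsPrime] : LocCoh.IsGorensteinRing (p.Fiber B) := by
  have hB : Algebra.IsPushout A p.ResidueField B (p.Fiber B) := inferInstance
  have hbij := Groth.Agent.Lib.Helper20.QFDualBC.omegaBC_bijective_of_isBaseChange hB
    hB.out.dual (p.Fiber B)
  haveI : Module.Invertible (p.Fiber B) (p.Fiber B ⊗[B] Disc.Omega A B) := inferInstance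
  haveI : Module.Invertible (p.Fiber B) (Disc.Omega p.ResidueField (p.Fiber B)) :=
    Module.Invertible.congr ((LinearEquiv.ofBijective _ hbij).trans (TensorProduct.lid _ _))
  haveI : IsArtinianRing (p.Fiber B) := IsArtinianRing.of_finite p.ResidueField (p.Fiber B)
  haveI : Module.Free (p.Fiber B) (Disc.Omega p.ResidueField (p.Fiber B)) := inferInstance
  obtain ⟨e⟩ := Module.Invertible.free_iff_linearEquiv.mp this
  refine gor_of_exists ⟨e.symm 1, fun c c' h => ?_⟩
  have h' : e.symm c = e.symm c' := by
    have hc : ∀ d : p.Fiber B, e.symm d = d • e.symm 1 := fun d => by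
      rw [← map_smul, smul_eq_mul, mul_one]
    rw [hc c, hc c']
    exact h
  exact e.symm.injective h'

/-- Gorenstein fibre at `p` ⟹ `ω` is generated near `p` by one element, up to `a ∉ p`. -/
theorem exists_local_data (p : Ideal A) [p.IsPrime]
    (hG : LocCoh.IsGorensteinRing (p.Fiber B)) :
    ∃ lam : Disc.Omega A B, ∃ a ∉ p, (∀ x : B, x • lam = 0 → a • x = 0) ∧
      (∀ m : Disc.Omega A B, ∃ x : B, (algebraMap A B a) • m = x • lam) := by
  classical
  let ι := Module.Free.ChooseBasisIndex A B
  let b : Module.Basis ι A B := Module.Free.chooseBasis A B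
  obtain ⟨μ, hμ⟩ := exists_of_gor (κ := p.ResidueField) (C := p.Fiber B) hG
  let bC : Module.Basis ι p.ResidueField (p.Fiber B) := b.baseChange p.ResidueField
  obtain ⟨s, hs, a', ha'⟩ := exists_common_denom p
    (fun i => μ.toLinearMap ((1 : p.ResidueField) ⊗ₜ[A] b i))
  let lam : Disc.Omega A B := ⟨b.constr A a'⟩
  have hlam : ∀ i, lam.toLinearMap (b i) = a' i := fun i => b.constr_basis A a' i
  have F1 : ∀ x : B, algebraMap A p.ResidueField (lam.toLinearMap x) =
      algebraMap A p.ResidueField s * μ.toLinearMap ((1 : p.ResidueField) ⊗ₜ[A] x) := by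
    intro x
    let f1 : B →ₗ[A] p.ResidueField := (Algebra.linearMap A p.ResidueField) ∘ₗ lam.toLinearMap
    let f2 : B →ₗ[A] p.ResidueField := (algebraMap A p.ResidueField s) •
      ((μ.toLinearMap.restrictScalars A) ∘ₗ (TensorProduct.mk A p.ResidueField B 1))
    have : f1 = f2 := b.ext (fun i => by
      simp only [f1, f2, LinearMap.comp_apply, Algebra.linearMap_apply, hlam, LinearMap.smul_apply,
        LinearMap.restrictScalars_apply, TensorProduct.mk_apply, smul_eq_mul]
      exact (ha' i).symm)
    exact LinearMap.congr_fun this x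
  let G : Matrix ι ι A := fun i j => lam.toLinearMap (b i * b j)
  have hGsymm : ∀ i j, G i j = G j i := fun i j => by simp only [G, mul_comm]
  have gram : ∀ (x : B) (i : ι), lam.toLinearMap (x * b i) = (G *ᵥ (b.equivFun x)) i := by
    intro x i
    conv_lhs => rw [← b.sum_equivFun x, Finset.sum_mul, map_sum]
    simp only [Matrix.mulVec, dotProduct, G]
    refine Finset.sum_congr rfl fun j _ => ?_
    rw [smul_mul_assoc, map_smul, smul_eq_mul, mul_comm (b j) (b i), mul_comm]
  have F2 : G.det ∉ p := by
    intro hdet
    have h0 : (G.map (algebraMap A p.ResidueField)).det = 0 := by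
      rw [← RingHom.mapMatrix_apply, ← RingHom.map_det,
        Ideal.algebraMap_residueField_eq_zero.mpr hdet]
    obtain ⟨r, hr0, hr⟩ := Matrix.exists_mulVec_eq_zero_iff.mpr h0
    let c : p.Fiber B := bC.equivFun.symm r
    have hc0 : c ≠ 0 := fun h => hr0 (by
      have := congrArg bC.equivFun h
      rw [map_zero] at this
      rw [← this]
      exact (LinearEquiv.apply_symm_apply bC.equivFun r).symm)
    have hs0 : algebraMap A p.ResidueField s ≠ 0 :=
      fun h => hs (Ideal.algebraMap_residueField_eq_zero.mp h)
    have hcμ : c • μ = 0 := by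
      apply Disc.Omega.ext
      apply bC.ext
      intro i
      rw [Disc.Omega.smul_toLinearMap_apply, Disc.Omega.zero_toLinearMap, LinearMap.zero_apply]
      have hci : c * bC i = ∑ j, r j • ((1 : p.ResidueField) ⊗ₜ[A] (b j * b i)) := by
        simp only [c, Module.Basis.equivFun_symm_apply, Finset.sum_mul, bC,
          Module.Basis.baseChange_apply, smul_mul_assoc, Algebra.TensorProduct.tmul_mul_tmul,
          mul_one]
      rw [hci, map_sum]
      apply mul_right_injective₀ hs0
      simp only [mul_zero]
      rw [Finset.mul_sum]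
      have hri := congrFun hr i
      rw [Pi.zero_apply] at hri
      rw [← hri]
      simp only [Matrix.mulVec, dotProduct, Matrix.map_apply]
      refine Finset.sum_congr rfl fun j _ => ?_
      rw [map_smul, smul_eq_mul, mul_left_comm, ← F1, hGsymm i j, mul_comm]
    have : c = 0 := hμ (by simp only; rw [hcμ, zero_smul])
    exact hc0 this
  refine ⟨lam, G.det, F2, ?_, ?_⟩
  · intro x hx
    have hGx : G *ᵥ (b.equivFun x) = 0 := by
      funext i
      rw [← gram x i, ← Disc.Omega.smul_toLinearMap_apply, hx]
      rfl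
    have hdx : G.det • b.equivFun x = 0 := by
      calc G.det • b.equivFun x = (G.adjugate * G) *ᵥ (b.equivFun x) := by
            rw [Matrix.adjugate_mul, Matrix.smul_mulVec, Matrix.one_mulVec]
        _ = G.adjugate *ᵥ (G *ᵥ (b.equivFun x)) := (Matrix.mulVec_mulVec _ _ _).symm
        _ = 0 := by rw [hGx, Matrix.mulVec_zero]
    apply b.equivFun.injective
    rw [map_smul, hdx, map_zero]
  · intro m
    let v' : ι → A := fun i => m.toLinearMap (b i)
    let x : B := b.equivFun.symm (G.adjugate *ᵥ v')
    refine ⟨x, ?_⟩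
    apply Disc.Omega.ext
    apply b.ext
    intro i
    rw [Disc.Omega.smul_toLinearMap_apply, Disc.Omega.smul_toLinearMap_apply, gram x i]
    simp only [x, LinearEquiv.apply_symm_apply, Matrix.mulVec_mulVec, Matrix.mul_adjugate,
      Matrix.smul_mulVec, Matrix.one_mulVec, Pi.smul_apply, v']
    rw [← Algebra.smul_def, map_smul]

/-- Main theorem (S2217). -/
theorem main :
    (∀ (p : Ideal A) [p.IsPrime], LocCoh.IsGorensteinRing (p.Fiber B)) ↔
      Module.Invertible B (Disc.Omega A B) := by
  constructor
  · intro h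
    apply invertible_of_local
    intro Q hQ
    haveI : (Q.comap (algebraMap A B)).IsPrime := Ideal.comap_isPrime _ _
    obtain ⟨lam, a, ha, h1, h2⟩ := exists_local_data (Q.comap (algebraMap A B)) (h _)
    refine ⟨algebraMap A B a, fun hmem => ha (Ideal.mem_comap.mpr hmem), lam, ?_, h2⟩
    intro r hr
    rw [← Algebra.smul_def]
    exact h1 r hr
  · intro h p hp
    exact gor_fiber_of_invertible p

end Main

end Groth.Agent.Lib.R2LeadOmegaInv
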