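import Mathlib
import Groth.Prelude.Def_QFDual
import Groth.Agent.Lib.Helper5GorRing
import Groth.Agent.Lib.Helper29GorAnn
import Groth.Agent.Lib.R2LeadOmegaInv

/-!
# Invertibility of the relative dualizing module: Gorenstein transfer (lead)
-/

set_option autoImplicit false
open TensorProduct IsLocalRing

namespace Groth.Agent.Lib.R2LeadOmInvB

universe u

open Groth.Agent.Lib.Helper5 Groth.Agent.Lib.Helper5.GorRing Groth.Agent.Lib.Helper5.GorFlat
  Groth.Agent.Lib.Helper28 LocCoh

/-- Transfer of the Gorenstein property of the fibre along an "unramified" flat local map. -/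
theorem gor_quotient_of_unramified (A L R₀ C : Type u) [CommRing A] [CommRing L] [CommRing R₀]
    [CommRing C] [IsLocalRing L] [IsNoetherianRing L] [IsLocalRing R₀] [IsLocalRing C]
    [IsNoetherianRing C] [Algebra A L] [Algebra A R₀] [Algebra A C] [Algebra L C] [Algebra R₀ C]
    [IsScalarTower A L C] [IsScalarTower A R₀ C] [IsLocalHom (algebraMap L C)] [Module.Flat L C]
    (p : Ideal A)
    (U1 : p.map (algebraMap A R₀) = maximalIdeal R₀)
    (U2 : (maximalIdeal L).map (algebraMap L C) = maximalIdeal C)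
    (hG : IsGorensteinLocalRing (L ⧸ p.map (algebraMap A L))) :
    IsGorensteinLocalRing (C ⧸ (maximalIdeal R₀).map (algebraMap R₀ C)) := by
  let I : Ideal L := p.map (algebraMap A L)
  let J : Ideal C := I.map (algebraMap L C)
  have hJ : J = (maximalIdeal R₀).map (algebraMap R₀ C) := by
    rw [← U1, Ideal.map_map, ← IsScalarTower.algebraMap_eq]
    change (p.map (algebraMap A L)).map (algebraMap L C) = _
    rw [Ideal.map_map, ← IsScalarTower.algebraMap_eq]
  haveI : IsLocalRing (L ⧸ I) := hG.toIsLocalRing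
  have hI : I ≠ ⊤ := ne_top_of_isLocalRing_quotient I
  have hJne : J ≠ ⊤ := map_ne_top_of_isLocalHom (A' := C) I hI
  haveI : IsLocalRing (C ⧸ J) := isLocalRing_quotient hJne
  haveI := isLocalHom_quotient_map (A' := C) I
  haveI := flat_quotient_map' (A' := C) I
  haveI : IsNoetherianRing (L ⧸ I) := inferInstance
  haveI : IsNoetherianRing (C ⧸ J) := inferInstance
  have hker : RingHom.ker (IsLocalRing.residue (C ⧸ J)) =
      (maximalIdeal (L ⧸ I)).map (algebraMap (L ⧸ I) (C ⧸ J)) := by
    rw [IsLocalRing.ker_residue, maximalIdeal_quotient_eq_map, maximalIdeal_quotient_eq_map,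
      ← U2, Ideal.map_map, Ideal.map_map]
    rfl
  haveI : IsGorensteinLocalRing (C ⧸ J) :=
    (main (L ⧸ I) (C ⧸ J) (ResidueField (C ⧸ J)) (IsLocalRing.residue (C ⧸ J))
      IsLocalRing.residue_surjective hker).mpr ⟨hG, gorLocal_of_field _⟩
  exact gorLocal_of_ringEquiv (Ideal.quotEquivOfEq hJ)

/-- The closed fibre, as a quotient. -/
noncomputable def fiberEquivQuot (R₀ C : Type u) [CommRing R₀] [CommRing C] [IsLocalRing R₀]
    [Algebra R₀ C] :
    (maximalIdeal R₀).Fiber C ≃+* C ⧸ (maximalIdeal R₀).map (algebraMap R₀ C) := by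
  let e0 : (R₀ ⧸ maximalIdeal R₀) ≃ₐ[R₀] (maximalIdeal R₀).ResidueField :=
    AlgEquiv.ofBijective (IsScalarTower.toAlgHom R₀ (R₀ ⧸ maximalIdeal R₀) _)
      (Ideal.bijective_algebraMap_quotient_residueField (maximalIdeal R₀))
  exact ((Algebra.TensorProduct.congr e0.symm (AlgEquiv.refl (R := R₀) (A₁ := C))).toRingEquiv).trans
    (((Algebra.TensorProduct.comm R₀ (R₀ ⧸ maximalIdeal R₀) C).toRingEquiv).trans
      (Algebra.TensorProduct.quotIdealMapEquivTensorQuot C (maximalIdeal R₀)).symm.toRingEquiv)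

/-- If the closed fibre of a finite free algebra over a local ring is Gorenstein, the dualizing
module is free of rank one. -/
theorem nonempty_omega_equiv_of_gor (R₀ C : Type u) [CommRing R₀] [CommRing C] [IsLocalRing R₀]
    [Algebra R₀ C] [Module.Finite R₀ C] [Module.Free R₀ C]
    (hG : IsGorensteinLocalRing (C ⧸ (maximalIdeal R₀).map (algebraMap R₀ C))) :
    Nonempty (Disc.Omega R₀ C ≃ₗ[C] C) := by
  haveI : IsGorensteinRing (C ⧸ (maximalIdeal R₀).map (algebraMap R₀ C)) :=
    Groth.Agent.Lib.Helper29.GorAnn.isGorensteinRing_of_isGorensteinLocalRing _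
  have hG' : IsGorensteinRing ((maximalIdeal R₀).Fiber C) :=
    gorRing_of_ringEquiv (fiberEquivQuot R₀ C).symm
  obtain ⟨lam, a, ha, h1, h2⟩ :=
    Groth.Agent.Lib.R2LeadOmegaInv.exists_local_data (maximalIdeal R₀) hG'
  have hau : IsUnit a := by
    by_contra hnu
    exact ha ((mem_maximalIdeal a).mpr hnu)
  have hau' : IsUnit (algebraMap R₀ C a) := hau.map _
  let g : C →ₗ[C] Disc.Omega R₀ C := LinearMap.toSpanSingleton C _ lam
  have hinj : Function.Injective g := by
    rw [injective_iff_map_eq_zero]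
    intro x hx
    have h3 : a • x = 0 := h1 x hx
    rw [Algebra.smul_def] at h3
    exact (hau'.mul_right_eq_zero).mp h3
  have hsurj : Function.Surjective g := by
    intro m
    obtain ⟨x, hx⟩ := h2 m
    obtain ⟨u, hu⟩ := hau'
    refine ⟨(↑u⁻¹ : C) * x, ?_⟩
    change ((↑u⁻¹ : C) * x) • lam = m
    rw [mul_smul, ← hx, ← hu, smul_smul, Units.inv_mul, one_smul]
  exact ⟨(LinearEquiv.ofBijective g ⟨hinj, hsurj⟩).symm⟩

end Groth.Agent.Lib.R2LeadOmInvB
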