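import Mathlib
import Groth.Prelude.Def_QFDual
import Groth.Agent.Lib.R2LeadOmInvB

/-!
# Invertibility of the relative dualizing module: Gorenstein transfer, converse (lead)
-/

set_option autoImplicit false
open TensorProduct IsLocalRing

namespace Groth.Agent.Lib.R2LeadOmInvE

universe u

open Groth.Agent.Lib.Helper5 Groth.Agent.Lib.Helper5.GorRing Groth.Agent.Lib.Helper5.GorFlat
  Groth.Agent.Lib.Helper28 LocCoh Groth.Agent.Lib.R2LeadOmInvB

/-- A local Gorenstein ring is a Gorenstein local ring. -/
theorem gorLocal_of_gorRing (R : Type u) [CommRing R] [IsLocalRing R] [hR : IsGorensteinRing R] :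
    IsGorensteinLocalRing R := by
  have H : (maximalIdeal R).primeCompl ≤ IsUnit.submonoid R := by
    intro x hx
    exact notMem_maximalIdeal.mp hx
  have := hR.isGorensteinLocalRing_localization (maximalIdeal R)
  exact gorLocal_of_ringEquiv
    (IsLocalization.atUnits R (maximalIdeal R).primeCompl
      (S := Localization.AtPrime (maximalIdeal R)) H).symm.toRingEquiv

/-- Transfer of the Gorenstein property of the fibre along an "unramified" flat local map. -/
theorem gor_quotient_of_unramified_iff (A L R₀ C : Type u) [CommRing A] [CommRing L] [CommRing R₀]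
    [CommRing C] [IsLocalRing L] [IsNoetherianRing L] [IsLocalRing R₀] [IsLocalRing C]
    [IsNoetherianRing C] [Algebra A L] [Algebra A R₀] [Algebra A C] [Algebra L C] [Algebra R₀ C]
    [IsScalarTower A L C] [IsScalarTower A R₀ C] [IsLocalHom (algebraMap L C)] [Module.Flat L C]
    (p : Ideal A) (hI : p.map (algebraMap A L) ≠ ⊤)
    (U1 : p.map (algebraMap A R₀) = maximalIdeal R₀)
    (U2 : (maximalIdeal L).map (algebraMap L C) = maximalIdeal C) :
    IsGorensteinLocalRing (L ⧸ p.map (algebraMap A L)) ↔
      IsGorensteinLocalRing (C ⧸ (maximalIdeal R₀).map (algebraMap R₀ C)) := by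
  refine ⟨gor_quotient_of_unramified A L R₀ C p U1 U2, fun hG => ?_⟩
  let I : Ideal L := p.map (algebraMap A L)
  let J : Ideal C := I.map (algebraMap L C)
  have hJ : J = (maximalIdeal R₀).map (algebraMap R₀ C) := by
    rw [← U1, Ideal.map_map, ← IsScalarTower.algebraMap_eq]
    change (p.map (algebraMap A L)).map (algebraMap L C) = _
    rw [Ideal.map_map, ← IsScalarTower.algebraMap_eq]
  haveI : IsLocalRing (L ⧸ I) := isLocalRing_quotient hI
  have hJne : J ≠ ⊤ := map_ne_top_of_isLocalHom (A' := C) I hI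
  haveI : IsLocalRing (C ⧸ J) := isLocalRing_quotient hJne
  haveI := isLocalHom_quotient_map (A' := C) I
  haveI := flat_quotient_map' (A' := C) I
  haveI : IsNoetherianRing (L ⧸ I) := inferInstance
  haveI : IsNoetherianRing (C ⧸ J) := inferInstance
  have hker : RingHom.ker (IsLocalRing.residue (C ⧸ J)) =
      (maximalIdeal (L ⧸ I)).map (algebraMap (L ⧸ I) (C ⧸ J)) := by
    rw [IsLocalRing.ker_residue, maximalIdeal_quotient_eq_map, maximalIdeal_quotient_eq_map,
      ← U2, Ideal.map_map, Ideal.map_map]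
    rfl
  haveI : IsGorensteinLocalRing (C ⧸ J) := gorLocal_of_ringEquiv (Ideal.quotEquivOfEq hJ.symm)
  exact ((main (L ⧸ I) (C ⧸ J) (ResidueField (C ⧸ J)) (IsLocalRing.residue (C ⧸ J))
    IsLocalRing.residue_surjective hker).mp inferInstance).1

/-- The dualizing module of a finite free local algebra over a local ring is free of rank one iff
the closed fibre is Gorenstein. -/
theorem nonempty_omega_equiv_iff_gor (R₀ C : Type u) [CommRing R₀] [CommRing C] [IsLocalRing R₀]
    [IsLocalRing C] [Algebra R₀ C] [Module.Finite R₀ C] [Module.Free R₀ C]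
    (hne : (maximalIdeal R₀).map (algebraMap R₀ C) ≠ ⊤) :
    Nonempty (Disc.Omega R₀ C ≃ₗ[C] C) ↔
      IsGorensteinLocalRing (C ⧸ (maximalIdeal R₀).map (algebraMap R₀ C)) := by
  refine ⟨fun ⟨e⟩ => ?_, nonempty_omega_equiv_of_gor R₀ C⟩
  haveI : Module.Invertible C (Disc.Omega R₀ C) := Module.Invertible.congr e.symm
  have h1 : IsGorensteinRing ((maximalIdeal R₀).Fiber C) :=
    Groth.Agent.Lib.R2LeadOmegaInv.gor_fiber_of_invertible (maximalIdeal R₀)
  haveI : IsGorensteinRing (C ⧸ (maximalIdeal R₀).map (algebraMap R₀ C)) :=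
    gorRing_of_ringEquiv (fiberEquivQuot R₀ C)
  haveI : IsLocalRing (C ⧸ (maximalIdeal R₀).map (algebraMap R₀ C)) := isLocalRing_quotient hne
  exact gorLocal_of_gorRing _

end Groth.Agent.Lib.R2LeadOmInvE
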