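import Mathlib
import Groth.Prelude.Def_QFDual
import Groth.Agent.Lib.Helper20QFDualBC4
import Groth.Agent.Lib.R2LeadOmFl1
import Groth.Agent.Lib.R2LeadOmFl1b
import Groth.Agent.Lib.R2LeadOmFl2
import Groth.Agent.Lib.R2LeadOmInvA
import Groth.Agent.Lib.R2LeadOmInvB
import Groth.Agent.Lib.R2LeadOmInvE

/-!
# Invertibility of the relative dualizing module: the local step, as an equivalence (lead)
-/

set_option autoImplicit false
open TensorProduct

namespace Groth.Agent.Lib.R2LeadOmInvF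

universe u

open Groth.Agent.Lib.R2LeadOmFl1b

set_option maxHeartbeats 1600000 in
theorem gor_iff_nonempty_localization_omega_equiv (A B' : Type u) [CommRing A] [CommRing B']
    [IsNoetherianRing A]
    [Algebra A B'] [Module.Finite A B'] (q' : Ideal B') [q'.IsPrime]
    (L : Type u) [CommRing L] [Algebra B' L] [Algebra A L] [IsScalarTower A B' L]
    [IsLocalization.AtPrime L q'] [Module.Flat A L]
    (p₀ : Ideal A) (hp₀ : q'.under A = p₀) :
    LocCoh.IsGorensteinLocalRing (L ⧸ p₀.map (algebraMap A L)) ↔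
      Nonempty ((L ⊗[B'] Disc.Omega A B') ≃ₗ[L] L) := by
  classical
  subst hp₀
  let p : Ideal A := q'.under A
  haveI : q'.LiesOver p := ⟨rfl⟩
  haveI : Algebra.QuasiFiniteAt A q' := inferInstance
  obtain ⟨R', _, _, _, P, _, _, e, he, P', _, _, hP'q, heP', -, -, huniq⟩ :=
    Algebra.exists_etale_isIdempotentElem_forall_liesOver_eq p q'
  -- the local base
  let R₀ := Localization.AtPrime P
  haveI : IsNoetherianRing R' := Algebra.FiniteType.isNoetherianRing A R'
  haveI : IsNoetherianRing R₀ := IsLocalization.isNoetherianRing P.primeCompl R₀ inferInstance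
  haveI : Module.Flat A R' := inferInstance
  haveI : Module.Flat A R₀ := inferInstance
  -- the base change and the idempotent
  let ρ : R' ⊗[A] B' →ₐ[A] R₀ ⊗[A] B' :=
    Algebra.TensorProduct.map (IsScalarTower.toAlgHom A R' R₀) (AlgHom.id A B')
  let e₀ : R₀ ⊗[A] B' := ρ e
  have he₀ : IsIdempotentElem e₀ := he.map ρ
  letI algB'D₀ : Algebra B' (R₀ ⊗[A] B') := Algebra.TensorProduct.rightAlgebra
  have hpush : Algebra.IsPushout A R₀ B' (R₀ ⊗[A] B') := inferInstance
  let C := (R₀ ⊗[A] B') ⧸ Ie e₀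
  haveI : Module.Finite R₀ C := inferInstance
  haveI : IsScalarTower A R₀ C := inferInstance
  haveI : IsScalarTower B' (R₀ ⊗[A] B') C := inferInstance
  haveI : IsScalarTower A B' C := inferInstance
  -- (N2): every maximal ideal of `C` lies over `q'`
  have hN2 : ∀ (𝔪 : Ideal C) [𝔪.IsMaximal], 𝔪.comap (algebraMap B' C) = q' := by
    intro 𝔪 h𝔪
    let χ : R' ⊗[A] B' →+* C := (algebraMap (R₀ ⊗[A] B') C).comp ρ.toRingHom
    let 𝔓 : Ideal (R' ⊗[A] B') := 𝔪.comap χ
    haveI : 𝔓.IsPrime := Ideal.comap_isPrime χ 𝔪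
    have hχR : χ.comp (algebraMap R' (R' ⊗[A] B')) = (algebraMap R₀ C).comp (algebraMap R' R₀) := by
      refine RingHom.ext fun r => ?_
      simp only [χ, ρ, RingHom.comp_apply, Algebra.TensorProduct.algebraMap_apply,
        AlgHom.toRingHom_eq_coe, RingHom.coe_coe, Algebra.TensorProduct.map_tmul, map_one]
      rw [IsScalarTower.algebraMap_apply R₀ (R₀ ⊗[A] B') C]
      simp
    have hχB : χ.comp (Algebra.TensorProduct.includeRight (R := A) (A := R')).toRingHom =
        algebraMap B' C := by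
      refine RingHom.ext fun b => ?_
      simp only [χ, ρ, RingHom.comp_apply, AlgHom.toRingHom_eq_coe, RingHom.coe_coe,
        Algebra.TensorProduct.includeRight_apply, Algebra.TensorProduct.map_tmul, map_one]
      rw [IsScalarTower.algebraMap_apply B' (R₀ ⊗[A] B') C]
      rfl
    haveI : 𝔓.LiesOver P := by
      constructor
      have h1 : (𝔪.comap (algebraMap R₀ C)).IsMaximal :=
        Ideal.isMaximal_comap_of_isIntegral_of_isMaximal 𝔪
      have h2 : 𝔪.comap (algebraMap R₀ C) = IsLocalRing.maximalIdeal R₀ :=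
        IsLocalRing.eq_maximalIdeal h1
      change P = (𝔪.comap χ).comap (algebraMap R' (R' ⊗[A] B'))
      rw [Ideal.comap_comap, hχR, ← Ideal.comap_comap, h2]
      exact (Localization.AtPrime.comap_maximalIdeal (I := P)).symm
    have heP : e ∉ 𝔓 := by
      intro hmem
      have h1 : χ e = 1 := mk_e
      have : (1 : C) ∈ 𝔪 := h1 ▸ hmem
      exact h𝔪.ne_top ((Ideal.eq_top_iff_one _).mpr this)
    have h𝔓 : 𝔓 = P' := huniq 𝔓 inferInstance inferInstance heP
    rw [← hχB, ← Ideal.comap_comap]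
    change 𝔓.comap _ = q'
    rw [h𝔓]
    exact hP'q
  -- (N3): `C` is nontrivial
  haveI hN3 : Nontrivial C := by
    let T' := Localization.AtPrime P'
    -- `R' → T'` inverts the complement of `P`
    let f₀ : R' →ₐ[A] T' := (IsScalarTower.toAlgHom A (R' ⊗[A] B') T').comp
      (Algebra.TensorProduct.includeLeft : R' →ₐ[A] R' ⊗[A] B')
    have hf₀ : ∀ y : P.primeCompl, IsUnit (f₀ y) := by
      intro y
      have hy : (algebraMap R' (R' ⊗[A] B')) y.1 ∉ P' := by
        intro hmem
        apply y.2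
        have hov := (Ideal.LiesOver.over (P := P') (p := P))
        have : y.1 ∈ Ideal.under R' P' := hmem
        rw [← hov] at this
        exact this
      exact IsLocalization.map_units T' (⟨_, hy⟩ : P'.primeCompl)
    let f : R₀ →ₐ[A] T' := IsLocalization.liftAlgHom (M := P.primeCompl) (f := f₀) hf₀
    let g : B' →ₐ[A] T' := (IsScalarTower.toAlgHom A (R' ⊗[A] B') T').comp
      (Algebra.TensorProduct.includeRight : B' →ₐ[A] R' ⊗[A] B')
    let θ : R₀ ⊗[A] B' →ₐ[A] T' := Algebra.TensorProduct.lift f g (fun _ _ => Commute.all _ _)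
    have hθρ : θ.comp ρ = IsScalarTower.toAlgHom A (R' ⊗[A] B') T' := by
      apply Algebra.TensorProduct.ext
      · refine AlgHom.ext fun r => ?_
        simp [θ, ρ, f, f₀]
      · refine AlgHom.ext fun b => ?_
        simp [θ, ρ, g]
    have hθe : θ e₀ = 1 := by
      have h1 : θ e₀ = algebraMap (R' ⊗[A] B') T' e := by
        change (θ.comp ρ) e = _
        rw [hθρ]
        rfl
      have h2 : IsUnit (algebraMap (R' ⊗[A] B') T' e) :=
        IsLocalization.map_units T' (⟨e, heP'⟩ : P'.primeCompl)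
      have h3 : IsIdempotentElem (algebraMap (R' ⊗[A] B') T' e) := he.map _
      rw [h1]
      exact (IsIdempotentElem.iff_eq_one_of_isUnit h2).mp h3
    refine Ideal.Quotient.nontrivial_iff.mpr ?_
    intro htop
    have h1 : (1 : R₀ ⊗[A] B') ∈ Ie e₀ := htop ▸ Submodule.mem_top
    obtain ⟨a, ha⟩ := Ideal.mem_span_singleton'.mp h1
    have h2 : θ 1 = 0 := by
      rw [← ha, map_mul, map_sub, map_one, hθe, sub_self, mul_zero]
    rw [map_one] at h2
    exact one_ne_zero h2
  -- (N4): `C` is flat over `R₀`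
  haveI hlocC : IsLocalization.Away e₀ C := IsLocalization.Away.quotient_of_isIdempotentElem he₀
  haveI hN4 : Module.Flat R₀ C := by
    refine Module.flat_of_isLocalized_maximal (R := R₀) C C
      (fun 𝔪 _ => Localization.AtPrime 𝔪)
      (fun 𝔪 _ => Algebra.linearMap C (Localization.AtPrime 𝔪)) ?_
    intro 𝔪 h𝔪
    haveI : IsLocalization.AtPrime (Localization.AtPrime 𝔪)
        (𝔪.comap (algebraMap (R₀ ⊗[A] B') C)) :=
      IsLocalization.isLocalization_isLocalization_atPrime_isLocalization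
        (Submonoid.powers e₀) (Localization.AtPrime 𝔪) 𝔪
    refine Groth.Agent.Lib.R2LeadOmFl2.flat_localization_tensor A R₀ B'
      (𝔪.comap (algebraMap (R₀ ⊗[A] B') C)) q' ?_ L (Localization.AtPrime 𝔪)
    rw [← hN2 𝔪, Ideal.comap_comap]
    rfl
  -- (b): `C` is a faithfully flat `L`-algebra
  have hunits : ∀ y : q'.primeCompl, IsUnit (algebraMap B' C y) := by
    intro y
    by_contra hnu
    obtain ⟨𝔪, h𝔪, hmem⟩ := exists_max_ideal_of_mem_nonunits hnu
    have : (y : B') ∈ 𝔪.comap (algebraMap B' C) := hmem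
    rw [hN2 𝔪] at this
    exact y.2 this
  letI algLC : Algebra L C := (IsLocalization.lift (M := q'.primeCompl) hunits).toAlgebra
  haveI : IsScalarTower B' L C :=
    IsScalarTower.of_algebraMap_eq (fun x => (IsLocalization.lift_eq hunits x).symm)
  haveI : IsScalarTower A L C := by
    refine IsScalarTower.of_algebraMap_eq (fun a => ?_)
    rw [IsScalarTower.algebraMap_apply A B' C, IsScalarTower.algebraMap_apply B' L C,
      ← IsScalarTower.algebraMap_apply A B' L]
  haveI : Module.Flat B' (R₀ ⊗[A] B') :=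
    Module.Flat.isBaseChange A B' R₀ (R₀ ⊗[A] B') hpush.symm.out
  haveI : Module.Flat (R₀ ⊗[A] B') C := IsLocalization.flat C (Submonoid.powers e₀)
  haveI : Module.Flat B' C := Module.Flat.trans B' (R₀ ⊗[A] B') C
  haveI : Module.Flat L C := (Module.flat_iff_of_isLocalization L q'.primeCompl C).mpr inferInstance
  haveI : IsLocalRing L := IsLocalization.AtPrime.isLocalRing L q'
  have hcomapL : ∀ (𝔪 : Ideal C) [𝔪.IsMaximal],
      𝔪.comap (algebraMap L C) = IsLocalRing.maximalIdeal L := by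
    intro 𝔪 h𝔪
    have h1 : (𝔪.comap (algebraMap L C)).comap (algebraMap B' L) =
        (IsLocalRing.maximalIdeal L).comap (algebraMap B' L) := by
      rw [Ideal.comap_comap, ← IsScalarTower.algebraMap_eq, hN2 𝔪]
      exact (IsLocalization.AtPrime.under_maximalIdeal L q').symm
    have h2 := IsLocalization.map_under q'.primeCompl L (𝔪.comap (algebraMap L C))
    have h3 := IsLocalization.map_under q'.primeCompl L (IsLocalRing.maximalIdeal L)
    unfold Ideal.under at h2 h3
    rw [← h2, h1, h3]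
  have hff : Module.FaithfullyFlat L C := by
    rw [Module.FaithfullyFlat.iff_flat_and_proper_ideal]
    refine ⟨inferInstance, fun I hI htop => ?_⟩
    obtain ⟨𝔪, h𝔪⟩ := Ideal.exists_maximal C
    have hle : I ≤ 𝔪.comap (algebraMap L C) := hcomapL 𝔪 ▸ IsLocalRing.le_maximalIdeal hI
    have h1 : (1 : C) ∈ (I • (⊤ : Submodule L C)) := by
      rw [htop]
      exact Submodule.mem_top
    have h2 : ∀ z ∈ (I • (⊤ : Submodule L C)), z ∈ 𝔪 := by
      intro z hz
      refine Submodule.smul_induction_on hz (fun r hr n _ => ?_) (fun x y hx hy => 𝔪.add_mem hx hy)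
      rw [Algebra.smul_def]
      exact 𝔪.mul_mem_right _ (hle hr)
    exact h𝔪.ne_top ((Ideal.eq_top_iff_one _).mpr (h2 1 h1))
  -- `C` is free over `R₀`
  haveI : Module.FinitePresentation R₀ C := Module.finitePresentation_of_finite R₀ C
  haveI : Module.Free R₀ C := Module.free_of_flat_of_isLocalRing
  -- (L1): `C` is local
  have hfrac : ∀ d : R₀ ⊗[A] B', ∃ s : P.primeCompl, ∃ x : R' ⊗[A] B',
      (algebraMap R₀ (R₀ ⊗[A] B') (algebraMap R' R₀ s.1)) * d = ρ x := by
    intro d
    induction d using TensorProduct.induction_on with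
    | zero => exact ⟨1, 0, by simp⟩
    | tmul r b =>
      obtain ⟨⟨r', s⟩, hrs⟩ := IsLocalization.surj P.primeCompl r
      refine ⟨s, r' ⊗ₜ b, ?_⟩
      have h1 : ρ (r' ⊗ₜ[A] b) = (algebraMap R' R₀ r') ⊗ₜ[A] b := by simp [ρ]
      have h2 : algebraMap R₀ (R₀ ⊗[A] B') (algebraMap R' R₀ s.1) =
          (algebraMap R' R₀ s.1) ⊗ₜ[A] (1 : B') := by
        rw [Algebra.TensorProduct.algebraMap_apply]
        rfl
      rw [h1, h2, Algebra.TensorProduct.tmul_mul_tmul, one_mul, ← hrs, mul_comm]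
    | add x y hx hy =>
      obtain ⟨s₁, x₁, h₁⟩ := hx
      obtain ⟨s₂, x₂, h₂⟩ := hy
      refine ⟨s₁ * s₂, (algebraMap R' (R' ⊗[A] B') s₂.1) * x₁ +
        (algebraMap R' (R' ⊗[A] B') s₁.1) * x₂, ?_⟩
      have hρ : ∀ r : R', ρ (algebraMap R' (R' ⊗[A] B') r) =
          algebraMap R₀ (R₀ ⊗[A] B') (algebraMap R' R₀ r) := by
        intro r
        simp [ρ, Algebra.TensorProduct.algebraMap_apply]
      rw [map_add, map_mul, map_mul, hρ, hρ, ← h₁, ← h₂]
      simp only [Submonoid.coe_mul, map_mul]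
      ring
  have hχinj : ∀ (𝔪₁ 𝔪₂ : Ideal C), 𝔪₁.comap ((algebraMap (R₀ ⊗[A] B') C).comp ρ.toRingHom) =
      𝔪₂.comap ((algebraMap (R₀ ⊗[A] B') C).comp ρ.toRingHom) → 𝔪₁ ≤ 𝔪₂ := by
    intro 𝔪₁ 𝔪₂ h c hc
    obtain ⟨d, rfl⟩ := Ideal.Quotient.mk_surjective c
    obtain ⟨s, x, hx⟩ := hfrac d
    have hu : IsUnit (algebraMap (R₀ ⊗[A] B') C
        (algebraMap R₀ (R₀ ⊗[A] B') (algebraMap R' R₀ s.1))) :=
      ((IsLocalization.map_units R₀ s).map _).map _
    have h1 : (algebraMap (R₀ ⊗[A] B') C) (ρ x) ∈ 𝔪₁ := by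
      rw [← hx, map_mul]
      exact 𝔪₁.mul_mem_left _ hc
    have h2 : x ∈ 𝔪₂.comap ((algebraMap (R₀ ⊗[A] B') C).comp ρ.toRingHom) := by
      rw [← h]
      exact h1
    have h3 : (algebraMap (R₀ ⊗[A] B') C) (ρ x) ∈ 𝔪₂ := h2
    rw [← hx, map_mul] at h3
    exact (Ideal.unit_mul_mem_iff_mem 𝔪₂ hu).mp h3
  have hcomapχ : ∀ (𝔪 : Ideal C) [𝔪.IsMaximal],
      𝔪.comap ((algebraMap (R₀ ⊗[A] B') C).comp ρ.toRingHom) = P' := by
    intro 𝔪 h𝔪
    let χ : R' ⊗[A] B' →+* C := (algebraMap (R₀ ⊗[A] B') C).comp ρ.toRingHom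
    let 𝔓 : Ideal (R' ⊗[A] B') := 𝔪.comap χ
    haveI : 𝔓.IsPrime := Ideal.comap_isPrime χ 𝔪
    have hχR : χ.comp (algebraMap R' (R' ⊗[A] B')) = (algebraMap R₀ C).comp (algebraMap R' R₀) := by
      refine RingHom.ext fun r => ?_
      simp only [χ, ρ, RingHom.comp_apply, Algebra.TensorProduct.algebraMap_apply,
        AlgHom.toRingHom_eq_coe, RingHom.coe_coe, Algebra.TensorProduct.map_tmul, map_one]
      rw [IsScalarTower.algebraMap_apply R₀ (R₀ ⊗[A] B') C]
      simp
    haveI : 𝔓.LiesOver P := by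
      constructor
      have h1 : (𝔪.comap (algebraMap R₀ C)).IsMaximal :=
        Ideal.isMaximal_comap_of_isIntegral_of_isMaximal 𝔪
      have h2 : 𝔪.comap (algebraMap R₀ C) = IsLocalRing.maximalIdeal R₀ :=
        IsLocalRing.eq_maximalIdeal h1
      change P = (𝔪.comap χ).comap (algebraMap R' (R' ⊗[A] B'))
      rw [Ideal.comap_comap, hχR, ← Ideal.comap_comap, h2]
      exact (Localization.AtPrime.comap_maximalIdeal (I := P)).symm
    have heP : e ∉ 𝔓 := by
      intro hmem
      have h1 : χ e = 1 := mk_e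
      have : (1 : C) ∈ 𝔪 := h1 ▸ hmem
      exact h𝔪.ne_top ((Ideal.eq_top_iff_one _).mpr this)
    exact huniq 𝔓 inferInstance inferInstance heP
  haveI hlocalC : IsLocalRing C := by
    obtain ⟨𝔪₀, h𝔪₀⟩ := Ideal.exists_maximal C
    refine IsLocalRing.of_unique_max_ideal ⟨𝔪₀, h𝔪₀, fun 𝔪 h𝔪 => ?_⟩
    haveI : 𝔪.IsMaximal := h𝔪
    exact le_antisymm (hχinj _ _ ((hcomapχ 𝔪).trans (hcomapχ 𝔪₀).symm))
      (hχinj _ _ ((hcomapχ 𝔪₀).trans (hcomapχ 𝔪).symm))
  haveI : IsNoetherianRing (R₀ ⊗[A] B') := IsNoetherianRing.of_finite R₀ _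
  haveI : IsNoetherianRing C := inferInstance
  haveI : IsNoetherianRing B' := IsNoetherianRing.of_finite A B'
  haveI : IsNoetherianRing L := IsLocalization.isNoetherianRing q'.primeCompl L inferInstance
  haveI hlocalhom : IsLocalHom (algebraMap L C) :=
    ((IsLocalRing.local_hom_TFAE (algebraMap L C)).out 0 4).mpr
      (hcomapL (IsLocalRing.maximalIdeal C))
  -- (U1)
  have U1 : p.map (algebraMap A R₀) = IsLocalRing.maximalIdeal R₀ := by
    letI := Localization.AtPrime.algebraOfLiesOver p P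
    haveI : Algebra.IsUnramifiedAt A P := inferInstance
    exact ((Algebra.isUnramifiedAt_iff_map_eq A p P).mp inferInstance).2
  -- (U2)
  have U2 : (IsLocalRing.maximalIdeal L).map (algebraMap L C) = IsLocalRing.maximalIdeal C := by
    haveI : Algebra.FormallyUnramified A R₀ := Algebra.FormallyUnramified.comp A R' R₀
    haveI : Algebra.EssFiniteType A R₀ := Algebra.EssFiniteType.comp A R' R₀
    haveI h1 : Algebra.FormallyUnramified B' (R₀ ⊗[A] B') :=
      Algebra.FormallyUnramified.of_equiv (Algebra.TensorProduct.commRight A B' R₀)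
    haveI h2 : Algebra.EssFiniteType B' (R₀ ⊗[A] B') :=
      (Algebra.EssFiniteType.iff_of_algEquiv (Algebra.TensorProduct.commRight A B' R₀)).mp
        inferInstance
    haveI h3 : Algebra.FormallyUnramified B' C := inferInstance
    haveI h4 : Algebra.EssFiniteType B' C := inferInstance
    haveI h5 : Algebra.FormallyUnramified L C :=
      Algebra.FormallyUnramified.of_restrictScalars B' L C
    haveI h6 : Algebra.EssFiniteType L C := Algebra.EssFiniteType.of_comp B' L C
    exact Algebra.FormallyUnramified.map_maximalIdeal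
  -- Gorenstein transfer
  have hI : p.map (algebraMap A L) ≠ ⊤ := by
    intro htop
    have hle : p.map (algebraMap A L) ≤ IsLocalRing.maximalIdeal L := by
      rw [Ideal.map_le_iff_le_comap]
      intro a ha
      have h1 : algebraMap A B' a ∈ q' := ha
      rw [← IsLocalization.AtPrime.under_maximalIdeal L q'] at h1
      rw [Ideal.mem_comap, IsScalarTower.algebraMap_apply A B' L]
      exact h1
    rw [htop] at hle
    exact (IsLocalRing.maximalIdeal.isMaximal L).ne_top (top_le_iff.mp hle)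
  have hne : (IsLocalRing.maximalIdeal R₀).map (algebraMap R₀ C) ≠ ⊤ := by
    intro htop
    have hle : (IsLocalRing.maximalIdeal R₀).map (algebraMap R₀ C) ≤ IsLocalRing.maximalIdeal C := by
      rw [← U1, Ideal.map_map, ← IsScalarTower.algebraMap_eq,
        IsScalarTower.algebraMap_eq A L C, ← Ideal.map_map]
      refine le_trans (Ideal.map_mono (IsLocalRing.le_maximalIdeal hI)) ?_
      rw [U2]
    rw [htop] at hle
    exact (IsLocalRing.maximalIdeal.isMaximal C).ne_top (top_le_iff.mp hle)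
  have hiff1 := Groth.Agent.Lib.R2LeadOmInvE.gor_quotient_of_unramified_iff A L R₀ C p hI U1 U2
  have hiff2 := Groth.Agent.Lib.R2LeadOmInvE.nonempty_omega_equiv_iff_gor R₀ C hne
  -- (i): flat base change
  have hbij := Groth.Agent.Lib.Helper20.QFDualBC.omegaBC_bijective_of_flat_base hpush C
  let e₁ : (C ⊗[B'] Disc.Omega A B') ≃ₗ[C] (C ⊗[R₀ ⊗[A] B'] Disc.Omega R₀ (R₀ ⊗[A] B')) :=
    LinearEquiv.ofBijective (QFDual.omegaBC (B₁ := C) hpush) hbij
  let e₂ : (C ⊗[R₀ ⊗[A] B'] Disc.Omega R₀ (R₀ ⊗[A] B')) ≃ₗ[C] Disc.Omega R₀ C :=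
    LinearEquiv.ofBijective (Groth.Agent.Lib.R2LeadOmInvA.omegaQuot he₀)
      (Groth.Agent.Lib.R2LeadOmInvA.omegaQuot_bijective he₀)
  let e₃ : C ⊗[L] (L ⊗[B'] Disc.Omega A B') ≃ₗ[C] C ⊗[B'] Disc.Omega A B' :=
    AlgebraTensorModule.cancelBaseChange B' L C C (Disc.Omega A B')
  haveI : Module.Finite B' (Disc.Omega A B') := Groth.Agent.Lib.R2LeadOmInvA.finite_omega A B'
  haveI : Module.Finite L (L ⊗[B'] Disc.Omega A B') := inferInstance
  haveI : Module.FinitePresentation L (L ⊗[B'] Disc.Omega A B') :=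
    Module.finitePresentation_of_finite L _
  constructor
  · intro hG
    obtain ⟨e₀⟩ := hiff2.mpr (hiff1.mp hG)
    exact Groth.Agent.Lib.R2LeadOmInvA.nonempty_linearEquiv_of_faithfullyFlat L C
      (L ⊗[B'] Disc.Omega A B') (((e₃.trans e₁).trans e₂).trans e₀)
  · rintro ⟨eL⟩
    refine hiff1.mpr (hiff2.mp ⟨?_⟩)
    exact ((e₃.trans e₁).trans e₂).symm.trans
      ((TensorProduct.AlgebraTensorModule.congr (LinearEquiv.refl C C) eL).trans
        (TensorProduct.AlgebraTensorModule.rid L C C))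

end Groth.Agent.Lib.R2LeadOmInvF
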