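import Mathlib
import Groth.Prelude.Def_QFDual
import Groth.Prelude.Def_EGA4b
import Groth.Agent.Helper9QFAss
import Groth.Agent.S12080
import Groth.Agent.Lib.R2LeadOmInvF

/-!
# Invertibility of the relative dualizing module of a flat quasi-finite algebra is equivalent to
the fibre local rings being Gorenstein (lead)
-/

set_option autoImplicit false
open TensorProduct AlgebraicGeometry CategoryTheory

namespace Groth.Agent.Lib.R2LeadOmInvG

universe u

section

variable (A B' B : Type u) [CommRing A] [CommRing B'] [CommRing B] [IsNoetherianRing A]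
  [Algebra A B'] [Algebra B' B] [Algebra A B] [IsScalarTower A B' B] [Module.Flat A B]
  [Module.Finite A B']

/-- local form at a prime of `B` -/
theorem gor_iff_local (hopen : IsOpenImmersion (Spec.map (CommRingCat.ofHom (algebraMap B' B))))
    (q : Ideal B) [q.IsPrime] :
    LocCoh.IsGorensteinLocalRing (EGA4.FibLocRing A B q) ↔
      Nonempty ((Localization.AtPrime q ⊗[B'] Disc.Omega A B') ≃ₗ[Localization.AtPrime q]
        Localization.AtPrime q) := by
  let φ := Localization.localRingHom (q.comap (algebraMap B' B)) q (algebraMap B' B) rfl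
  have hφ : Function.Bijective φ := Helper9QFAss.localRingHom_bijective hopen q
  let e : Localization.AtPrime (q.comap (algebraMap B' B)) ≃ₐ[B'] Localization.AtPrime q :=
    AlgEquiv.ofBijective ⟨φ, fun x => Localization.localRingHom_to_map _ _ _ _ x⟩ hφ
  haveI : IsLocalization.AtPrime (Localization.AtPrime q) (q.comap (algebraMap B' B)) :=
    IsLocalization.isLocalization_of_algEquiv (q.comap (algebraMap B' B)).primeCompl e
  haveI : IsScalarTower A B' (Localization.AtPrime q) := by
    refine IsScalarTower.of_algebraMap_eq (fun a => ?_)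
    rw [IsScalarTower.algebraMap_apply A B (Localization.AtPrime q),
      IsScalarTower.algebraMap_apply B' B (Localization.AtPrime q),
      ← IsScalarTower.algebraMap_apply A B' B]
  have hp₀ : (q.comap (algebraMap B' B)).under A = q.comap (algebraMap A B) := by
    unfold Ideal.under
    rw [Ideal.comap_comap, ← IsScalarTower.algebraMap_eq]
  exact Groth.Agent.Lib.R2LeadOmInvF.gor_iff_nonempty_localization_omega_equiv A B'
    (q.comap (algebraMap B' B)) (Localization.AtPrime q) (q.comap (algebraMap A B)) hp₀

variable [IsNoetherianRing B]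

theorem invertible_of_gor (hopen : IsOpenImmersion (Spec.map (CommRingCat.ofHom (algebraMap B' B))))
    (hgorloc : ∀ (q : Ideal B) [q.IsMaximal],
      LocCoh.IsGorensteinLocalRing (EGA4.FibLocRing A B q)) :
    Module.Invertible B (B ⊗[B'] Disc.Omega A B') := by
  -- finite presentation of `ω`
  haveI : Module.Finite B' (Disc.Omega A B') := Groth.Agent.Lib.R2LeadOmInvA.finite_omega A B'
  haveI : Module.Finite B (B ⊗[B'] Disc.Omega A B') := inferInstance
  haveI : Module.FinitePresentation B (B ⊗[B'] Disc.Omega A B') :=
    Module.finitePresentation_of_finite B _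
  -- glue
  let T : Set B := {r | Nonempty (LocalizedModule.Away r (B ⊗[B'] Disc.Omega A B')
    ≃ₗ[Localization.Away r] Localization.Away r)}
  refine Groth.Agent.S12080.result B _ T ?_ (fun f hf => hf)
  by_contra hne
  obtain ⟨q, hq, hle⟩ := Ideal.exists_le_maximal _ hne
  let f : B ⊗[B'] Disc.Omega A B' →ₗ[B] Localization.AtPrime q ⊗[B'] Disc.Omega A B' :=
    AlgebraTensorModule.map (Algebra.linearMap B (Localization.AtPrime q))
      (LinearMap.id : Disc.Omega A B' →ₗ[B'] Disc.Omega A B')
  haveI hloc : IsLocalizedModule.AtPrime q f := by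
    refine (isLocalizedModule_iff_isBaseChange q.primeCompl (Localization.AtPrime q) f).mpr ?_
    refine IsBaseChange.of_comp (TensorProduct.isBaseChange B' (Disc.Omega A B') B) ?_
    have h1 : (f.restrictScalars B') ∘ₗ (TensorProduct.mk B' B (Disc.Omega A B') 1) =
        TensorProduct.mk B' (Localization.AtPrime q) (Disc.Omega A B') 1 := by
      refine LinearMap.ext fun ω => ?_
      simp [f]
    rw [h1]
    exact TensorProduct.isBaseChange B' (Disc.Omega A B') (Localization.AtPrime q)
  obtain ⟨eL⟩ := (gor_iff_local A B' B hopen q).mp (hgorloc q)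
  haveI : Module.Free (Localization.AtPrime q)
      (Localization.AtPrime q ⊗[B'] Disc.Omega A B') := Module.Free.of_equiv eL.symm
  obtain ⟨r, hr, hfree, hrank⟩ := Module.FinitePresentation.exists_free_localizedModule_powers
    q.primeCompl f (Localization.AtPrime q)
  have hrT : r ∈ T := by
    haveI := hfree
    haveI : Nontrivial (Localization.Away r) :=
      (show Localization (.powers r) →+* Localization.AtPrime q from
        IsLocalization.map (M := .powers r) (T := q.primeCompl) _ (RingHom.id _)
          (Submonoid.powers_le.mpr hr)).domain_nontrivial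
    have h1 : Module.finrank (Localization.AtPrime q)
        (Localization.AtPrime q ⊗[B'] Disc.Omega A B') = 1 := by
      rw [LinearEquiv.finrank_eq eL, Module.finrank_self]
    have h2 : Module.finrank (Localization.Away r)
        (LocalizedModule.Away r (B ⊗[B'] Disc.Omega A B')) =
        Module.finrank (Localization.Away r) (Localization.Away r) := by
      rw [hrank, h1, Module.finrank_self]
    exact FiniteDimensional.nonempty_linearEquiv_of_finrank_eq h2
  exact hr (hle (Ideal.subset_span hrT))

omit [IsNoetherianRing B] in
theorem gor_of_invertible (hopen : IsOpenImmersion (Spec.map (CommRingCat.ofHom (algebraMap B' B))))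
    [Module.Invertible B (B ⊗[B'] Disc.Omega A B')] (q : Ideal B) [q.IsPrime] :
    LocCoh.IsGorensteinLocalRing (EGA4.FibLocRing A B q) := by
  refine (gor_iff_local A B' B hopen q).mpr ?_
  haveI : Module.Invertible (Localization.AtPrime q)
      (Localization.AtPrime q ⊗[B] (B ⊗[B'] Disc.Omega A B')) := inferInstance
  haveI : Module.Free (Localization.AtPrime q)
      (Localization.AtPrime q ⊗[B] (B ⊗[B'] Disc.Omega A B')) := inferInstance
  obtain ⟨e⟩ := Module.Invertible.free_iff_linearEquiv.mp this
  exact ⟨(AlgebraTensorModule.cancelBaseChange B' B (Localization.AtPrime q)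
    (Localization.AtPrime q) (Disc.Omega A B')).symm.trans e⟩

theorem invertible_iff_gor
    (hopen : IsOpenImmersion (Spec.map (CommRingCat.ofHom (algebraMap B' B)))) :
    Module.Invertible B (B ⊗[B'] Disc.Omega A B') ↔
      ∀ (q : Ideal B) [q.IsPrime], LocCoh.IsGorensteinLocalRing (EGA4.FibLocRing A B q) :=
  ⟨fun _ q _ => gor_of_invertible A B' B hopen q,
    fun h => invertible_of_gor A B' B hopen (fun q hq => h q)⟩

end

end Groth.Agent.Lib.R2LeadOmInvG
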