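import Mathlib
import Groth.Prelude.Def_QFDual
import Groth.Prelude.Def_EGA4b
import Groth.Agent.Lib.Helper5GorRing
import Groth.Agent.Lib.Helper28FibreTrans
import Groth.Agent.Lib.R2LeadOmInvG

/-!
# Invertibility of the relative dualizing module is a fibrewise condition (lead)
-/

set_option autoImplicit false
open TensorProduct AlgebraicGeometry CategoryTheory

namespace Groth.Agent.Lib.R2LeadOmInvH

universe u

open Groth.Agent.Lib.Helper5.GorRing LocCoh

/-- Over a field the fibre local ring is the local ring. -/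
noncomputable def fibLocRingFieldEquiv (κ F : Type u) [Field κ] [CommRing F] [Algebra κ F]
    (q : Ideal F) [q.IsPrime] : EGA4.FibLocRing κ F q ≃+* Localization.AtPrime q := by
  have h1 : q.comap (algebraMap κ F) = ⊥ := by
    have hp : (q.comap (algebraMap κ F)).IsPrime := Ideal.comap_isPrime _ _
    exact (Ideal.eq_bot_or_top _).resolve_right hp.ne_top
  have hbot : (q.comap (algebraMap κ F)).map (algebraMap κ (Localization.AtPrime q)) = ⊥ := by
    rw [h1, Ideal.map_bot]
  exact (Ideal.quotEquivOfEq hbot).trans (RingEquiv.quotientBot _)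

theorem gor_fibLocRing_field_iff (κ F : Type u) [Field κ] [CommRing F] [Algebra κ F]
    (q : Ideal F) [q.IsPrime] :
    IsGorensteinLocalRing (EGA4.FibLocRing κ F q) ↔
      IsGorensteinLocalRing (Localization.AtPrime q) :=
  ⟨fun _ => gorLocal_of_ringEquiv (fibLocRingFieldEquiv κ F q),
    fun _ => gorLocal_of_ringEquiv (fibLocRingFieldEquiv κ F q).symm⟩

section Fibre

variable (A B' B : Type u) [CommRing A] [CommRing B'] [CommRing B] [IsNoetherianRing A]
  [IsNoetherianRing B] [Algebra A B'] [Algebra B' B] [Algebra A B] [IsScalarTower A B' B]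

theorem invertible_fibre_iff (hf : QFDual.IsQFFactor A B' B)
    (p : Ideal A) [p.IsPrime] (B'₁ B₁ : Type u) [CommRing B'₁] [CommRing B₁] [Algebra B' B'₁]
    [Algebra p.ResidueField B'₁] [Algebra A B'₁] [IsScalarTower A p.ResidueField B'₁]
    [IsScalarTower A B' B'₁] [Algebra B B₁] [Algebra p.ResidueField B₁] [Algebra A B₁]
    [IsScalarTower A p.ResidueField B₁] [IsScalarTower A B B₁] [Algebra B'₁ B₁] [Algebra B' B₁]
    [IsScalarTower B' B'₁ B₁] [IsScalarTower B' B B₁] [IsScalarTower p.ResidueField B'₁ B₁]
    (h' : Algebra.IsPushout A p.ResidueField B' B'₁) (h : Algebra.IsPushout A p.ResidueField B B₁) :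
    Module.Invertible B₁ (QFDual.omega p.ResidueField B'₁ B₁) ↔
      IsGorensteinRing (p.Fiber B) := by
  haveI := hf.finite
  have hopen := hf.isOpenImmersion
  -- finiteness of `B'₁`
  haveI : Module.Finite p.ResidueField B'₁ :=
    Module.Finite.equiv (Algebra.IsPushout.equiv A p.ResidueField B' B'₁).toLinearEquiv
  -- `B₁` is Noetherian
  let eB : p.Fiber B ≃+* B₁ := (Algebra.IsPushout.equiv A p.ResidueField B B₁).toRingEquiv
  haveI : IsNoetherianRing (p.Fiber B) := Groth.Agent.Lib.Helper28.isNoetherianRing_fiber p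
  haveI : IsNoetherianRing B₁ := isNoetherianRing_of_ringEquiv _ eB
  -- the open immersion
  haveI : IsScalarTower A B'₁ B₁ := by
    refine IsScalarTower.of_algebraMap_eq (fun a => ?_)
    rw [IsScalarTower.algebraMap_apply A B' B'₁, ← IsScalarTower.algebraMap_apply B' B'₁ B₁,
      IsScalarTower.algebraMap_apply B' B B₁, ← IsScalarTower.algebraMap_apply A B' B,
      ← IsScalarTower.algebraMap_apply A B B₁]
  haveI hL : Algebra.IsPushout A B' p.ResidueField B'₁ := h'.symm
  haveI hBig : Algebra.IsPushout A B p.ResidueField B₁ := h.symm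
  haveI hR : Algebra.IsPushout B' B B'₁ B₁ :=
    (Algebra.IsPushout.comp_iff A B' p.ResidueField B'₁).mp hBig
  have hpo := CommRingCat.isPushout_of_isPushout B' B B'₁ B₁
  have hpb := AlgebraicGeometry.isPullback_SpecMap_of_isPushout _ _ _ _ hpo
  have hopen₁ : IsOpenImmersion (Spec.map (CommRingCat.ofHom (algebraMap B'₁ B₁))) :=
    MorphismProperty.of_isPullback (P := @IsOpenImmersion) hpb hopen
  -- the criterion over the field
  refine Iff.trans
    (Groth.Agent.Lib.R2LeadOmInvG.invertible_iff_gor p.ResidueField B'₁ B₁ hopen₁) ?_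
  constructor
  · intro hg
    haveI : IsGorensteinRing B₁ :=
      { isGorensteinLocalRing_localization := fun q _ =>
          (gor_fibLocRing_field_iff p.ResidueField B₁ q).mp (hg q) }
    exact gorRing_of_ringEquiv eB.symm
  · intro hg q hq
    haveI : IsGorensteinRing B₁ := gorRing_of_ringEquiv eB
    exact (gor_fibLocRing_field_iff p.ResidueField B₁ q).mpr
      (IsGorensteinRing.isGorensteinLocalRing_localization q)

end Fibre

end Groth.Agent.Lib.R2LeadOmInvH
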