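import Mathlib
import Groth.Prelude.Def_QFDual
import Groth.Agent.Lib.R2LeadOmInvH

/-!
# Invertibility of the relative dualizing module is a fibrewise condition: the statement (lead)
-/

set_option autoImplicit false
open TensorProduct AlgebraicGeometry CategoryTheory

namespace Groth.Agent.Lib.R2LeadOmInvI

universe u

open Groth.Agent.Lib.Helper5.GorRing LocCoh

theorem main (A B' B : Type u) [CommRing A] [CommRing B'] [CommRing B] [IsNoetherianRing A]
    [IsNoetherianRing B] [Algebra A B'] [Algebra B' B] [Algebra A B] [IsScalarTower A B' B]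
    [Module.Flat A B] (hf : QFDual.IsQFFactor A B' B) :
    Module.Invertible B (QFDual.omega A B' B) ↔
      ∀ (p : Ideal A) [p.IsPrime] (B'₁ B₁ : Type u) [CommRing B'₁] [CommRing B₁] [Algebra B' B'₁]
        [Algebra p.ResidueField B'₁] [Algebra A B'₁] [IsScalarTower A p.ResidueField B'₁]
        [IsScalarTower A B' B'₁] [Algebra B B₁] [Algebra p.ResidueField B₁] [Algebra A B₁]
        [IsScalarTower A p.ResidueField B₁] [IsScalarTower A B B₁] [Algebra B'₁ B₁]
        [Algebra B' B₁] [IsScalarTower B' B'₁ B₁] [IsScalarTower B' B B₁]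
        [IsScalarTower p.ResidueField B'₁ B₁],
        Algebra.IsPushout A p.ResidueField B' B'₁ → Algebra.IsPushout A p.ResidueField B B₁ →
          Module.Invertible B₁ (QFDual.omega p.ResidueField B'₁ B₁) := by
  haveI := hf.finite
  have hopen := hf.isOpenImmersion
  have key : Module.Invertible B (QFDual.omega A B' B) ↔
      ∀ (p : Ideal A) [p.IsPrime], IsGorensteinRing (p.Fiber B) :=
    Iff.trans (Groth.Agent.Lib.R2LeadOmInvG.invertible_iff_gor A B' B hopen)
      (forall_gor_fiber_iff (A := A) (B := B)).symm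
  rw [key]
  constructor
  · intro hg p hp B'₁ B₁ _ _ _ _ _ _ _ _ _ _ _ _ _ _ _ _ _ h' h
    exact (Groth.Agent.Lib.R2LeadOmInvH.invertible_fibre_iff A B' B hf p B'₁ B₁ h' h).mpr (hg p)
  · intro H p hp
    letI i1 : Algebra B' (p.ResidueField ⊗[A] B') := Algebra.TensorProduct.rightAlgebra
    letI i2 : Algebra B (p.ResidueField ⊗[A] B) := Algebra.TensorProduct.rightAlgebra
    letI i3 : Algebra (p.ResidueField ⊗[A] B') (p.ResidueField ⊗[A] B) :=
      (Algebra.TensorProduct.map (AlgHom.id p.ResidueField p.ResidueField)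
        (IsScalarTower.toAlgHom A B' B)).toRingHom.toAlgebra
    letI i4 : Algebra B' (p.ResidueField ⊗[A] B) :=
      ((algebraMap B (p.ResidueField ⊗[A] B)).comp (algebraMap B' B)).toAlgebra
    haveI t1 : IsScalarTower B' B (p.ResidueField ⊗[A] B) :=
      IsScalarTower.of_algebraMap_eq (fun _ => rfl)
    haveI t2 : IsScalarTower B' (p.ResidueField ⊗[A] B') (p.ResidueField ⊗[A] B) := by
      refine IsScalarTower.of_algebraMap_eq (fun b => ?_)
      change (1 : p.ResidueField) ⊗ₜ[A] (algebraMap B' B b) =
        Algebra.TensorProduct.map (AlgHom.id p.ResidueField p.ResidueField)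
          (IsScalarTower.toAlgHom A B' B) ((1 : p.ResidueField) ⊗ₜ[A] b)
      simp
    haveI t3 : IsScalarTower p.ResidueField (p.ResidueField ⊗[A] B') (p.ResidueField ⊗[A] B) := by
      refine IsScalarTower.of_algebraMap_eq (fun x => ?_)
      change x ⊗ₜ[A] (1 : B) =
        Algebra.TensorProduct.map (AlgHom.id p.ResidueField p.ResidueField)
          (IsScalarTower.toAlgHom A B' B) (x ⊗ₜ[A] (1 : B'))
      simp
    have h' : Algebra.IsPushout A p.ResidueField B' (p.ResidueField ⊗[A] B') := inferInstance
    have h : Algebra.IsPushout A p.ResidueField B (p.ResidueField ⊗[A] B) := inferInstance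
    have hinv := H p (p.ResidueField ⊗[A] B') (p.ResidueField ⊗[A] B) h' h
    exact (Groth.Agent.Lib.R2LeadOmInvH.invertible_fibre_iff A B' B hf p
      (p.ResidueField ⊗[A] B') (p.ResidueField ⊗[A] B) h' h).mp hinv

end Groth.Agent.Lib.R2LeadOmInvI
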