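import Mathlib
import Groth.Prelude.Def_RefHull
import Groth.Agent.S0020
import Groth.Agent.Lib.R2LeadLFHart
import Groth.Agent.Lib.R2LeadExtReg
import Groth.Agent.Lib.R2LeadHartE
import Groth.Agent.Lib.R2LeadFTDepth
import Groth.Agent.Lib.R2H1VBSub
import Groth.Agent.Lib.Helper23StalkLin
import Groth.Agent.Lib.R2H2HomLimE
import Groth.Agent.Lib.R2H2NilFilt

set_option autoImplicit false
set_option linter.style.haveILetI false
universe u

open AlgebraicGeometry CategoryTheory CategoryTheory.Limits TopologicalSpace Opposite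

namespace Groth.Agent.Lib.R2LeadOrdSurfA

open Groth.Agent.Lib.Helper4.NormDelta Groth.Agent.Lib.Helper23.StalkLin
  Groth.Agent.Lib.Helper20.ZClosLib

variable {X : Scheme.{u}}

theorem stalkF_map_eq_stalkLin {F G : X.Modules} (φ : F ⟶ G) (x : X) (v : F.presheaf.stalk x) :
    (stalkF x).map φ v = stalkLin φ x v := by
  obtain ⟨V, hxV, t, rfl⟩ := F.presheaf.exists_germ_eq v
  rw [stalkLin_germ]
  exact stalkF_map_germ φ x hxV t

/-- a monomorphism with vanishing cokernel stalk is bijective on that stalk. -/
theorem bijective_stalk_of_not_mem_support {M N : X.Modules} (φ : M ⟶ N) [Mono φ] (x : X)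
    (hx : x ∉ CohB1.support (cokernel φ)) : Function.Bijective ((stalkF x).map φ) := by
  have hsub : Subsingleton ((cokernel φ).presheaf.stalk x) := by
    by_contra h
    exact hx h
  let S : ShortComplex X.Modules := ShortComplex.mk φ (cokernel.π φ) (cokernel.condition φ)
  have hS : S.ShortExact :=
    { exact := ShortComplex.exact_cokernel φ
      mono_f := inferInstanceAs (Mono φ)
      epi_g := inferInstanceAs (Epi (cokernel.π φ)) }
  have hex := stalkLin_exact S hS x
  have hfun : ((stalkF x).map φ : M.presheaf.stalk x → N.presheaf.stalk x) = stalkLin φ x :=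
    funext (stalkF_map_eq_stalkLin φ x)
  rw [hfun]
  refine ⟨stalkLin_injective φ x, fun w => ?_⟩
  exact (hex w).1 (Subsingleton.elim _ _)

/-- a monomorphism of finite locally free modules on a regular integral scheme is an isomorphism
as soon as its cokernel has no point of codimension at most one in its support. -/
theorem main [IsIntegral X] [IsLocallyNoetherian X]
    (hreg : ∀ x : X, IsRegularLocalRing (X.presheaf.stalk x))
    (M N : X.Modules) (hM : FlatMod.IsFinLocFree M) (hN : FlatMod.IsFinLocFree N)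
    (φ : M ⟶ N) [Mono φ] :
    IsIso φ ∨ ∃ x : X, x ∈ CohB1.support (cokernel φ) ∧ ringKrullDim (X.presheaf.stalk x) ≤ 1 := by
  by_contra hcon
  rw [not_or] at hcon
  obtain ⟨hniso, hnex⟩ := hcon
  apply hniso
  have hMc := Groth.Agent.Lib.R2H2.HomLimE.isCoh_of_isFinLocFree M hM
  have hNc := Groth.Agent.Lib.R2H2.HomLimE.isCoh_of_isFinLocFree N hN
  have hQc : Coh.IsCoh (cokernel φ) := Groth.Agent.Lib.R2H2.NilFilt.isCoh_cokernel hMc hNc φ
  have hcl : IsClosed (CohB1.support (cokernel φ)) := Groth.Agent.S0020.result X _ hQc.2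
  let U : X.Opens := ⟨(CohB1.support (cokernel φ))ᶜ, hcl.isOpen_compl⟩
  have hnorm := Groth.Agent.Lib.R2LeadHartE.isNormalScheme_of_regular hreg
  have hdepth : ∀ x : X, x ∉ U →
      (2 : ℕ∞) ≤ LocCoh.depth (X.presheaf.stalk x) (X.presheaf.stalk x) := by
    intro x hx
    have hxs : x ∈ CohB1.support (cokernel φ) := by
      by_contra h
      exact hx h
    obtain ⟨hdom, hic⟩ := hnorm x
    haveI := hdom
    haveI := hic
    apply Groth.Agent.Lib.Helper28.two_le_depth_of_isIntegrallyClosed_of_two_le_dim
    by_contra hdim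
    exact hnex ⟨x, hxs, Groth.Agent.Lib.R2LeadFTDepth.le_one_of_not_two_le hdim⟩
  haveI h1 := Groth.Agent.Lib.R2LeadLFHart.isIso_unit_of_isReflexive U hdepth M
    (Groth.Agent.Lib.R2LeadLFHart.isReflexive_of_isFinLocFree M hM)
  haveI h2 := Groth.Agent.Lib.R2LeadLFHart.isIso_unit_of_isReflexive U hdepth N
    (Groth.Agent.Lib.R2LeadLFHart.isReflexive_of_isFinLocFree N hN)
  haveI h3 := Groth.Agent.Lib.R2LeadExtReg.isIso_restrict_map_of_stalk_bijective φ U
    (fun x hx => bijective_stalk_of_not_mem_support φ x hx)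
  have hnat := (Scheme.Modules.restrictAdjunction U.ι).unit.naturality φ
  have h4 : IsIso (φ ≫ (Scheme.Modules.restrictAdjunction U.ι).unit.app N) := by
    have : φ ≫ (Scheme.Modules.restrictAdjunction U.ι).unit.app N =
        (Scheme.Modules.restrictAdjunction U.ι).unit.app M ≫
          ((Scheme.Modules.restrictFunctor U.ι) ⋙ (Scheme.Modules.pushforward U.ι)).map φ :=
      hnat
    rw [this]
    haveI : IsIso (((Scheme.Modules.restrictFunctor U.ι) ⋙
        (Scheme.Modules.pushforward U.ι)).map φ) := by
      change IsIso ((Scheme.Modules.pushforward U.ι).map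
        ((Scheme.Modules.restrictFunctor U.ι).map φ))
      infer_instance
    infer_instance
  exact IsIso.of_isIso_comp_right φ ((Scheme.Modules.restrictAdjunction U.ι).unit.app N)

end Groth.Agent.Lib.R2LeadOrdSurfA
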