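import Mathlib
import Groth.Agent.S0563
import Groth.Agent.Lib.Helper29ExtSes

set_option autoImplicit false
set_option linter.style.haveILetI false
universe u

open CategoryTheory

namespace Groth.Agent.Lib.R2LeadSyz2

section Algebra

variable (R : Type u) [CommRing R] [IsRegularLocalRing R]
  (M : Type u) [AddCommGroup M] [Module R M] [Module.Finite R M] [Module.IsReflexive R M]

/-- a finitely generated reflexive module over a regular local ring of dimension at most two is
free (it is a second syzygy). -/
theorem free_of_isReflexive_of_dim_le_two (hdim : ringKrullDim R ≤ 2) : Module.Free R M := by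
  classical
  -- the dimension as a natural number
  obtain ⟨n, hn⟩ : ∃ n : ℕ, ringKrullDim R = n := by
    have h0 : 0 ≤ ringKrullDim R := ringKrullDim_nonneg_of_nontrivial
    cases h : ringKrullDim R with
    | bot => rw [h] at h0; exact absurd h0 (by simp)
    | coe m =>
      rw [h] at hdim
      have hm : m ≤ 2 := by
        have h2 : ((m : ℕ∞) : WithBot ℕ∞) ≤ ((2 : ℕ∞) : WithBot ℕ∞) := hdim
        exact WithBot.coe_le_coe.1 h2
      lift m to ℕ using (ne_top_of_le_ne_top (by simp) hm)
      exact ⟨m, rfl⟩
  have hn2 : n ≤ 2 := by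
    rw [hn] at hdim
    exact_mod_cast hdim
  -- presentation of the dual
  haveI : Module.Finite R (Module.Dual R M) := Module.IsNoetherian.finite R _
  obtain ⟨a, π, hπ⟩ := Module.Finite.exists_fin' R (Module.Dual R M)
  haveI : Module.Finite R (LinearMap.ker π) := Module.IsNoetherian.finite R _
  obtain ⟨b, ρ', hρ'⟩ := Module.Finite.exists_fin' R (LinearMap.ker π)
  let ρ : (Fin b → R) →ₗ[R] (Fin a → R) := (LinearMap.ker π).subtype ∘ₗ ρ'
  have hρπ : ∀ v, π (ρ v) = 0 := fun v => (ρ' v).2
  have hker : ∀ w, π w = 0 → ∃ v, ρ v = w := by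
    intro w hw
    obtain ⟨v, hv⟩ := hρ' ⟨w, hw⟩
    exact ⟨v, congrArg Subtype.val hv⟩
  -- dualize
  have hinj : Function.Injective π.dualMap := LinearMap.dualMap_injective_of_surjective hπ
  have hex : Function.Exact π.dualMap ρ.dualMap := by
    intro g
    constructor
    · intro hg
      have hle : LinearMap.ker π ≤ LinearMap.ker g := by
        intro w hw
        obtain ⟨v, rfl⟩ := hker w hw
        have : ρ.dualMap g v = 0 := by rw [hg]; rfl
        exact this
      refine ⟨(LinearMap.ker π).liftQ g hle ∘ₗ (π.quotKerEquivOfSurjective hπ).symm.toLinearMap, ?_⟩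
      refine LinearMap.ext fun w => ?_
      change (LinearMap.ker π).liftQ g hle ((π.quotKerEquivOfSurjective hπ).symm (π w)) = g w
      have h1 : (π.quotKerEquivOfSurjective hπ).symm (π w) = Submodule.Quotient.mk w := by
        rw [LinearEquiv.symm_apply_eq]
        rfl
      rw [h1]
      rfl
    · rintro ⟨f, rfl⟩
      refine LinearMap.ext fun v => ?_
      change f (π (ρ v)) = 0
      rw [hρπ, map_zero]
  -- the two short exact sequences
  let K : Submodule R (Module.Dual R (Fin b → R)) := LinearMap.range ρ.dualMap
  have hex₂ : Function.Exact K.subtype K.mkQ := LinearMap.exact_subtype_mkQ K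
  have hinj₂ : Function.Injective K.subtype := K.injective_subtype
  have hsurj₂ : Function.Surjective K.mkQ := K.mkQ_surjective
  have hS₂ := Groth.Agent.Lib.Helper29ExtSes.ses_shortExact (A := R) (K := ↥K)
    (M := Module.Dual R (Fin b → R)) (Q := Module.Dual R (Fin b → R) ⧸ K) K.subtype K.mkQ
    hinj₂ hsurj₂ hex₂
  have hex₁ : Function.Exact π.dualMap ρ.dualMap.rangeRestrict := by
    intro g
    rw [← hex g]
    constructor
    · intro h
      exact congrArg Subtype.val h
    · intro h
      exact Subtype.ext h
  have hsurj₁ : Function.Surjective ρ.dualMap.rangeRestrict := ρ.dualMap.surjective_rangeRestrict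
  have hS₁ := Groth.Agent.Lib.Helper29ExtSes.ses_shortExact (A := R)
    (K := Module.Dual R (Module.Dual R M)) (M := Module.Dual R (Fin a → R)) (Q := ↥K)
    π.dualMap ρ.dualMap.rangeRestrict hinj hsurj₁ hex₁
  -- projective dimensions
  have h3 : HasProjectiveDimensionLT (ModuleCat.of R (Module.Dual R (Fin b → R) ⧸ K)) (n + 1) :=
    Groth.Agent.S0563.result R n hn _
  have h3' : HasProjectiveDimensionLT (ModuleCat.of R (Module.Dual R (Fin b → R) ⧸ K)) 3 :=
    hasProjectiveDimensionLT_of_ge _ (n + 1) 3 (by omega)
  haveI : Projective (ModuleCat.of R (Module.Dual R (Fin b → R))) :=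
    (IsProjective.iff_projective.{u, u} _).mp inferInstance
  haveI : Projective (ModuleCat.of R (Module.Dual R (Fin a → R))) :=
    (IsProjective.iff_projective.{u, u} _).mp inferInstance
  have hP₀ : HasProjectiveDimensionLT (ModuleCat.of R (Module.Dual R (Fin b → R))) 2 :=
    hasProjectiveDimensionLT_of_ge _ 1 2 (by omega)
  have hK : HasProjectiveDimensionLT (ModuleCat.of R K) 2 :=
    hS₂.hasProjectiveDimensionLT_X₁ 2 hP₀ h3'
  have hP₁ : HasProjectiveDimensionLT (ModuleCat.of R (Module.Dual R (Fin a → R))) 1 :=
    inferInstance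
  have hD : HasProjectiveDimensionLT (ModuleCat.of R (Module.Dual R (Module.Dual R M))) 1 :=
    hS₁.hasProjectiveDimensionLT_X₁ 1 hP₁ hK
  have hproj : Projective (ModuleCat.of R (Module.Dual R (Module.Dual R M))) :=
    projective_iff_hasProjectiveDimensionLT_one.2 hD
  haveI : Module.Projective R (Module.Dual R (Module.Dual R M)) :=
    (IsProjective.iff_projective.{u, u} _).mpr hproj
  haveI : Module.Projective R M := Module.Projective.of_equiv (Module.evalEquiv R M).symm
  exact Module.free_of_flat_of_isLocalRing

end Algebra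

end Groth.Agent.Lib.R2LeadSyz2
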