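import Mathlib
import Groth.Prelude.Def_RefHull
import Groth.Prelude.Def_TorSh
import Groth.Agent.S6872
import Groth.Agent.S2821
import Groth.Agent.Lib.R2LeadLFHart
import Groth.Agent.Lib.R2LeadHartE
import Groth.Agent.Lib.R2LeadSyz2
import Groth.Agent.Lib.R2LeadReflC
import Groth.Agent.Lib.Helper23StalkLin
import Groth.Agent.Lib.R2H2HomLimE
import Groth.Agent.Lib.R2H2PdSheaf
import Groth.Agent.Lib.Helper4FibDimL
import Groth.Agent.Lib.Helper2LocFree

set_option autoImplicit false
set_option linter.style.haveILetI false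
universe u

open AlgebraicGeometry CategoryTheory CategoryTheory.Limits TopologicalSpace Opposite

namespace Groth.Agent.Lib.R2LeadOrdSurfB

open Groth.Agent.Lib.Helper4.NormDelta Groth.Agent.Lib.Helper23.StalkLin

variable {X : Scheme.{u}}

/-- on a regular integral scheme of dimension at most two, the kernel of an epimorphism from a
finite locally free module onto a coherent torsion-free module is finite locally free. -/
theorem main [IsIntegral X] [IsLocallyNoetherian X]
    (hreg : ∀ x : X, IsRegularLocalRing (X.presheaf.stalk x))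
    (hdim : topologicalKrullDim X ≤ 2)
    (N : X.Modules) (hN : Coh.IsCoh N) (hNtf : TorSh.IsTorsionFree N)
    (M : X.Modules) (hM : FlatMod.IsFinLocFree M) (φ : M ⟶ N) [Epi φ] :
    FlatMod.IsFinLocFree (kernel φ) := by
  have hMc := Groth.Agent.Lib.R2H2.HomLimE.isCoh_of_isFinLocFree M hM
  have hKc : Coh.IsCoh (kernel φ) := Groth.Agent.Lib.R2H2.PdSheaf.isCoh_kernel hMc hN φ
  let S : ShortComplex X.Modules := ShortComplex.mk (kernel.ι φ) φ (kernel.condition φ)
  have hS : S.ShortExact :=
    { exact := ShortComplex.exact_kernel φ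
      mono_f := inferInstanceAs (Mono (kernel.ι φ))
      epi_g := inferInstanceAs (Epi φ) }
  intro x
  haveI := hreg x
  obtain ⟨hdom, -⟩ := Groth.Agent.S2821.result (X.presheaf.stalk x)
  haveI := hdom
  haveI : Module.Finite (X.presheaf.stalk x) ((kernel φ).presheaf.stalk x) :=
    Groth.Agent.Lib.R2Lead.ReflC.finite_stalk _ hKc x
  haveI : Module.Finite (X.presheaf.stalk x) (M.presheaf.stalk x) :=
    Groth.Agent.Lib.R2Lead.ReflC.finite_stalk _ hMc x
  haveI : Module.Finite (X.presheaf.stalk x) (N.presheaf.stalk x) :=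
    Groth.Agent.Lib.R2Lead.ReflC.finite_stalk _ hN x
  haveI : Module.IsReflexive (X.presheaf.stalk x) (M.presheaf.stalk x) :=
    Groth.Agent.Lib.R2LeadHartE.reflexive_stalks M hMc
      (Groth.Agent.Lib.R2LeadLFHart.isReflexive_of_isFinLocFree M hM) x
  haveI : Module.IsTorsionFree (X.presheaf.stalk x) (N.presheaf.stalk x) := hNtf x
  haveI : Module.IsReflexive (X.presheaf.stalk x) ((kernel φ).presheaf.stalk x) :=
    Groth.Agent.S6872.result (X.presheaf.stalk x) (stalkLin (kernel.ι φ) x) (stalkLin φ x)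
      (stalkLin_injective (kernel.ι φ) x) (stalkLin_exact S hS x)
  have hd : ringKrullDim (X.presheaf.stalk x) ≤ 2 :=
    (Groth.Agent.Lib.Helper4.FibDim.ringKrullDim_stalk_le_topologicalKrullDim X x).trans hdim
  haveI : Module.Free (X.presheaf.stalk x) ((kernel φ).presheaf.stalk x) :=
    Groth.Agent.Lib.R2LeadSyz2.free_of_isReflexive_of_dim_le_two _ _ hd
  have hflat : FlatMod.IsFlatAt (kernel φ) x := Module.Flat.of_free
  have hfp : CohB1.IsFP (kernel φ) := Groth.Agent.Lib.R2Lead.ReflB.isFP_of_isCoh _ hKc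
  obtain ⟨D, m, hxD, he⟩ :=
    @Groth.Agent.Lib.Helper2.LocFree.exists_restrict_iso_freeMod_of_isFlatAt X (kernel φ) hKc.1 hfp
      x hflat
  exact ⟨D, m, hxD, he⟩

end Groth.Agent.Lib.R2LeadOrdSurfB
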