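import Mathlib

namespace Groth.Agent.Lib.R2Lead.PCurvLin

open Finset Polynomial

section general

variable {R M : Type*} [CommRing R] [AddCommGroup M] [Module R M]

/-- generalized Leibniz rule for a "connection-like" additive operator. -/
theorem iterate_smul (θ : R →+ R) (T : M →+ M)
    (hT : ∀ (r : R) (m : M), T (r • m) = θ r • m + r • T m) (n : ℕ) (r : R) (m : M) :
    T^[n] (r • m) = ∑ ij ∈ antidiagonal n, n.choose ij.1 • ((θ^[ij.1] r) • T^[ij.2] m) := by
  induction n with
  | zero => simp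
  | succ n ih =>
    rw [sum_antidiagonal_choose_succ_nsmul (M := M) (fun i j => (θ^[i] r) • T^[j] m) n]
    simp only [Function.iterate_succ_apply', ih, map_sum, map_nsmul, hT, smul_add,
      sum_add_distrib]
    rw [add_comm]
    refine congrArg₂ (· + ·) rfl (sum_congr rfl fun ⟨i, j⟩ hij ↦ ?_)
    rw [n.choose_symm_of_eq_add (mem_antidiagonal.1 hij).symm]

theorem iterate_prime_smul (p : ℕ) (hp : p.Prime) (hpM : ∀ m : M, p • m = 0)
    (θ : R →+ R) (T : M →+ M)
    (hT : ∀ (r : R) (m : M), T (r • m) = θ r • m + r • T m) (r : R) (m : M) :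
    T^[p] (r • m) = r • T^[p] m + (θ^[p] r) • m := by
  rw [iterate_smul θ T hT]
  rw [Finset.sum_eq_add_of_mem (0, p) (p, 0) (by simp) (by simp)
    (by simp [hp.ne_zero])]
  · simp
  · rintro ⟨i, j⟩ hij ⟨h1, h2⟩
    have hij' : i + j = p := mem_antidiagonal.1 hij
    have hi0 : i ≠ 0 := by
      rintro rfl
      apply h1
      simp only [zero_add] at hij'
      rw [hij']
    have hip : i < p := by
      rcases Nat.lt_or_ge i p with h | h
      · exact h
      · exfalso
        apply h2
        have : i = p := by omega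
        have hj : j = 0 := by omega
        rw [this, hj]
    obtain ⟨c, hc⟩ := hp.dvd_choose_self hi0 hip
    show p.choose i • _ = 0
    rw [hc, mul_nsmul, hpM, smul_zero]

/-- universal coefficients of `(g T)^n = ∑ cc n k T^k`. -/
def cc (θ : R →+ R) (g : R) : ℕ → ℕ → R
  | 0, 0 => 1
  | 0, (_ + 1) => 0
  | (n + 1), 0 => g * θ (cc θ g n 0)
  | (n + 1), (k + 1) => g * θ (cc θ g n (k + 1)) + g * cc θ g n k

theorem cc_eq_zero_of_lt (θ : R →+ R) (g : R) : ∀ n k, n < k → cc θ g n k = 0 := by
  intro n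
  induction n with
  | zero =>
    intro k hk
    obtain ⟨k, rfl⟩ := Nat.exists_eq_succ_of_ne_zero (Nat.pos_iff_ne_zero.1 hk)
    rfl
  | succ n ih =>
    intro k hk
    obtain ⟨k, rfl⟩ := Nat.exists_eq_succ_of_ne_zero (Nat.pos_iff_ne_zero.1 (by omega : 0 < k))
    show g * θ (cc θ g n (k + 1)) + g * cc θ g n k = 0
    rw [ih (k + 1) (by omega), ih k (by omega), map_zero, mul_zero, add_zero]

theorem cc_self (θ : R →+ R) (g : R) : ∀ n, cc θ g n n = g ^ n := by
  intro n
  induction n with
  | zero => exact (pow_zero g).symm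
  | succ n ih =>
    show g * θ (cc θ g n (n + 1)) + g * cc θ g n n = g ^ (n + 1)
    rw [cc_eq_zero_of_lt θ g n (n + 1) (Nat.lt_succ_self n), ih, map_zero, mul_zero, zero_add,
      pow_succ']

theorem theta_one (θ : R →+ R) (hθ : ∀ a b, θ (a * b) = θ a * b + a * θ b) : θ 1 = 0 := by
  have h := hθ 1 1
  rw [mul_one, mul_one, one_mul] at h
  exact (add_eq_left (a := θ 1)).1 h.symm

theorem cc_succ_zero (θ : R →+ R) (hθ : ∀ a b, θ (a * b) = θ a * b + a * θ b) (g : R) :
    ∀ n, cc θ g (n + 1) 0 = 0 := by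
  intro n
  induction n with
  | zero =>
    show g * θ 1 = 0
    rw [theta_one θ hθ, mul_zero]
  | succ n ih =>
    show g * θ (cc θ g (n + 1) 0) = 0
    rw [ih, map_zero, mul_zero]

theorem iterate_gT (θ : R →+ R) (T : M →+ M)
    (hT : ∀ (r : R) (m : M), T (r • m) = θ r • m + r • T m) (g : R) (X : M →+ M)
    (hX : ∀ m, X m = g • T m) (n : ℕ) (m : M) :
    X^[n] m = ∑ k ∈ range (n + 1), cc θ g n k • T^[k] m := by
  induction n with
  | zero => simp [cc]
  | succ n ih =>
    have hA : ∑ k ∈ range (n + 1), (g * θ (cc θ g n k)) • T^[k] m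
        = ∑ k ∈ range (n + 1), (g * θ (cc θ g n (k + 1))) • T^[k + 1] m
          + (g * θ (cc θ g n 0)) • m := by
      rw [sum_range_succ (fun k => (g * θ (cc θ g n (k + 1))) • T^[k + 1] m) n,
        cc_eq_zero_of_lt θ g n (n + 1) (Nat.lt_succ_self n), map_zero, mul_zero, zero_smul,
        add_zero, sum_range_succ' (fun k => (g * θ (cc θ g n k)) • T^[k] m) n]
      rfl
    calc X^[n + 1] m = X (X^[n] m) := Function.iterate_succ_apply' _ _ _
      _ = g • T (∑ k ∈ range (n + 1), cc θ g n k • T^[k] m) := by rw [ih, hX]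
      _ = ∑ k ∈ range (n + 1), ((g * θ (cc θ g n k)) • T^[k] m
            + (g * cc θ g n k) • T^[k + 1] m) := by
          rw [map_sum, smul_sum]
          refine sum_congr rfl fun k _ => ?_
          rw [hT, smul_add, smul_smul, smul_smul, Function.iterate_succ_apply']
      _ = ∑ k ∈ range (n + 1), (g * θ (cc θ g n k)) • T^[k] m
            + ∑ k ∈ range (n + 1), (g * cc θ g n k) • T^[k + 1] m := sum_add_distrib
      _ = ∑ k ∈ range (n + 1 + 1), cc θ g (n + 1) k • T^[k] m := by
          rw [hA, sum_range_succ' (fun k => cc θ g (n + 1) k • T^[k] m) (n + 1)]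
          have h1 : ∀ k, cc θ g (n + 1) (k + 1) • T^[k + 1] m
              = (g * θ (cc θ g n (k + 1))) • T^[k + 1] m + (g * cc θ g n k) • T^[k + 1] m := by
            intro k
            rw [← add_smul]
            rfl
          simp only [h1, sum_add_distrib]
          have h0 : cc θ g (n + 1) 0 • T^[0] m = (g * θ (cc θ g n 0)) • m := rfl
          rw [h0]
          abel

end general

section vanishing

variable {R : Type*} [CommRing R]

theorem cc_prime_mul_factorial (p : ℕ) (hp : p.Prime) (hpR : (p : R) = 0)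
    (θ : R →+ R) (hθ : ∀ a b, θ (a * b) = θ a * b + a * θ b) (g : R) (m : ℕ) (hm : 2 ≤ m)
    (hmp : m ≤ p) :
    cc θ g p m * (m.factorial : R) = 0 := by
  classical
  letI : Differential R := ⟨Derivation.mk' θ.toIntLinearMap (fun a b => by
    show θ (a * b) = a • θ b + b • θ a
    rw [hθ, smul_eq_mul, smul_eq_mul]; ring)⟩
  let D' : Derivation ℤ R[X] R[X] := Differential.implicitDeriv 1
  have hDC : ∀ b : R, D' (C b) = C (θ b) := fun b => Differential.implicitDeriv_C 1 b
  have hDX : D' X = 1 := Differential.implicitDeriv_X 1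
  let T : R[X] →+ R[X] := D'.toLinearMap.toAddMonoidHom
  have hTapp : ∀ f, T f = D' f := fun f => rfl
  have hT : ∀ (r : R) (f : R[X]), T (r • f) = θ r • f + r • T f := by
    intro r f
    rw [hTapp, hTapp, Polynomial.smul_eq_C_mul, D'.leibniz, hDC, smul_eq_mul, smul_eq_mul,
      Polynomial.smul_eq_C_mul, Polynomial.smul_eq_C_mul]
    ring
  let δ : R[X] →+ R[X] := (AddMonoidHom.mulLeft (C g)).comp T
  have hδapp : ∀ f, δ f = C g * D' f := fun f => rfl
  have hδ : ∀ f, δ f = g • T f := fun f => by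
    rw [hδapp, hTapp, Polynomial.smul_eq_C_mul]
  have hδleib : ∀ (a b : R[X]), δ (a * b) = δ a * b + a * δ b := by
    intro a b
    rw [hδapp, hδapp, hδapp, D'.leibniz, smul_eq_mul, smul_eq_mul]
    ring
  have hpS : ∀ f : R[X], p • f = 0 := by
    intro f
    rw [nsmul_eq_mul]
    have : (p : R[X]) = C (p : R) := by simp
    rw [this, hpR, map_zero, zero_mul]
  have hE : ∀ a b : R[X], δ^[p] (a * b) = a * δ^[p] b + δ^[p] a * b := by
    intro a b
    have := iterate_prime_smul (R := R[X]) (M := R[X]) p hp hpS δ δ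
      (fun a b => by simpa only [smul_eq_mul] using hδleib a b) a b
    simpa only [smul_eq_mul] using this
  have hEpow : ∀ n : ℕ, δ^[p] (X ^ (n + 1)) = ((n + 1 : ℕ) : R[X]) * X ^ n * δ^[p] X := by
    intro n
    induction n with
    | zero => simp
    | succ n ih =>
      rw [pow_succ, hE, ih]
      push_cast
      ring
  have hexp : ∀ f : R[X], δ^[p] f = ∑ k ∈ range (p + 1), cc θ g p k • T^[k] f :=
    fun f => iterate_gT θ T hT g δ hδ p f
  have hTk : ∀ (k n : ℕ), T^[k] (X ^ n) = ((n.descFactorial k : ℕ) : R[X]) * X ^ (n - k) := by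
    intro k
    induction k with
    | zero => intro n; simp
    | succ k ih =>
      intro n
      rw [Function.iterate_succ_apply', ih, hTapp, D'.leibniz, D'.map_natCast, smul_zero,
        add_zero, D'.leibniz_pow, hDX, Nat.descFactorial_succ]
      have e : n - (k + 1) = n - k - 1 := by omega
      rw [e]
      simp only [smul_eq_mul, nsmul_eq_mul, mul_one, Nat.cast_mul]
      ring
  -- evaluate at 0
  obtain ⟨n, rfl⟩ : ∃ n, m = n + 1 := ⟨m - 1, by omega⟩
  have h1 : eval 0 (δ^[p] (X ^ (n + 1))) = 0 := by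
    rw [hEpow]
    have : n ≠ 0 := by omega
    simp [this]
  rw [hexp] at h1
  rw [eval_finset_sum] at h1
  rw [Finset.sum_eq_single_of_mem (n + 1) (by simp; omega)] at h1
  · rw [hTk, Nat.sub_self, pow_zero, mul_one, Nat.descFactorial_self] at h1
    simpa [eval_smul] using h1
  · intro k hk hkn
    rw [hTk, eval_smul, eval_mul, eval_natCast, eval_pow, eval_X]
    rcases Nat.lt_or_gt_of_ne hkn with h | h
    · have : n + 1 - k ≠ 0 := by omega
      simp [this]
    · rw [(Nat.descFactorial_eq_zero_iff_lt).2 h]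
      simp

theorem cc_prime_eq_zero (p : ℕ) (hp : p.Prime) (hpR : (p : R) = 0)
    (θ : R →+ R) (hθ : ∀ a b, θ (a * b) = θ a * b + a * θ b) (g : R) (m : ℕ) (hm : 2 ≤ m)
    (hmp : m < p) :
    cc θ g p m = 0 := by
  have h := cc_prime_mul_factorial p hp hpR θ hθ g m hm hmp.le
  have hcop : Nat.Coprime p m.factorial :=
    (Nat.Prime.coprime_iff_not_dvd hp).2 (fun hd => absurd ((hp.dvd_factorial).1 hd) (not_le.2 hmp))
  obtain ⟨a, b, hab⟩ := Nat.isCoprime_iff_coprime.2 hcop
  have hab' := congrArg (Int.cast : ℤ → R) hab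
  push_cast at hab'
  rw [hpR, mul_zero, zero_add] at hab'
  calc cc θ g p m = cc θ g p m * ((b : R) * (m.factorial : R)) := by rw [hab', mul_one]
    _ = (b : R) * (cc θ g p m * (m.factorial : R)) := by ring
    _ = 0 := by rw [h, mul_zero]

end vanishing

section main

variable {R M : Type*} [CommRing R] [AddCommGroup M] [Module R M]

/-- Deligne's identity: `(gT)^p = g^p T^p + c T` in characteristic `p`, with `c` depending only on
`(R, θ, g)`. -/
theorem iterate_gT_prime (p : ℕ) (hp : p.Prime) (hpR : (p : R) = 0)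
    (θ : R →+ R) (hθ : ∀ a b, θ (a * b) = θ a * b + a * θ b) (T : M →+ M)
    (hT : ∀ (r : R) (m : M), T (r • m) = θ r • m + r • T m) (g : R) (X : M →+ M)
    (hX : ∀ m, X m = g • T m) (m : M) :
    X^[p] m = g ^ p • T^[p] m + cc θ g p 1 • T m := by
  rw [iterate_gT θ T hT g X hX p m]
  have hp2 := hp.two_le
  rw [Finset.sum_eq_add_of_mem p 1 (by simp) (by simp; omega) (by omega)]
  · rw [cc_self, Function.iterate_one]
  · intro k hk ⟨hkp, hk1⟩
    have hk' : k < p + 1 := Finset.mem_range.1 hk
    rcases Nat.eq_zero_or_pos k with rfl | hpos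
    · obtain ⟨q, rfl⟩ : ∃ q, p = q + 1 := ⟨p - 1, by omega⟩
      rw [cc_succ_zero θ hθ g q, zero_smul]
    · rw [cc_prime_eq_zero p hp hpR θ hθ g k (by omega) (by omega), zero_smul]

end main

end Groth.Agent.Lib.R2Lead.PCurvLin
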