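import Mathlib
import Groth.Agent.Lib.Helper3IndEtFP
import Groth.Agent.Lib.Helper26PairHzHens

set_option autoImplicit false

open TensorProduct

universe u

namespace Groth.Agent.Lib.R2LeadPairHzIndEt

open Groth.Agent.Lib.Helper3.IndEt Groth.Agent.Lib.Helper26 Groth.Agent.Lib.Helper26.PairHz

variable (A : Type u) [CommRing A] (I : Ideal A)

theorem factor_Hz : Obj.Factor A (PairHz.Hz A I) := by
  intro P _ _ _ ψ
  obtain ⟨i, ψi, hψi⟩ := exists_factor_of_directed (K := PairHz.Idx A I) (fun i => i.L)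
    (fun i j h => PairHz.fmap i j h) (fun i => PairHz.ofLₐ i)
    (fun i j h x => PairHz.ofL_fmap h x)
    (fun i j k h1 h2 x => DirectedSystem.map_map
      (f := fun _ _ h => PairHz.fmap' (A := A) (I := I) _ _ h) h1 h2 x)
    (fun x => PairHz.exists_ofL x)
    (fun i y hy => PairHz.ofL_eq_zero hy) ψ
  obtain ⟨s, ψs, hψs⟩ := exists_factor_localization (R := A) (C := i.C) (L := i.L)
    (oneAdd (I.map (algebraMap A i.C))) ψi
  exact ⟨Localization.Away (s : i.C), inferInstance, inferInstance, inferInstance, ψs,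
    (PairHz.ofLₐ i).comp (awayTo _ s), by rw [AlgHom.comp_assoc, hψs, hψi]⟩

theorem isIndEtale_Hz : EtPBC.IsIndEtale A (PairHz.Hz A I) := isIndEtale_of_factor (factor_Hz A I)

end Groth.Agent.Lib.R2LeadPairHzIndEt

namespace Groth.Agent.Lib.R2LeadPairHzIndEt

open CategoryTheory CategoryTheory.Limits

theorem etale_of_isLocalIso (R S : Type u) [CommRing R] [CommRing S] [Algebra R S]
    [Algebra.IsLocalIso R S] : Algebra.Etale R S := by
  rw [← RingHom.etale_algebraMap]
  apply RingHom.Etale.ofLocalizationSpanTarget (algebraMap R S)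
    {g : S | Algebra.IsStandardOpenImmersion R (Localization.Away g)}
    (Algebra.IsLocalIso.span_isStandardOpenImmersion_eq_top R S)
  rintro ⟨g, hg⟩
  rw [← IsScalarTower.algebraMap_eq, RingHom.etale_algebraMap]
  obtain ⟨r, hr⟩ := hg.exists_away
  exact Algebra.Etale.of_isLocalizationAway r

theorem isIndEtale_of_isIndZariski (A B : Type u) [CommRing A] [CommRing B] [Algebra A B]
    (h : EtPBC.IsIndZariski A B) : EtPBC.IsIndEtale A B := by
  obtain ⟨J, i1, i2, D, c, hc, hD, e⟩ := h
  refine ⟨J, i1, i2, D, c, hc, fun j => ?_, e⟩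
  letI := (D.obj j).hom.hom.toAlgebra
  haveI := hD j
  exact etale_of_isLocalIso A (D.obj j).right

end Groth.Agent.Lib.R2LeadPairHzIndEt
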