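import Mathlib
import Groth.Agent.S14262
import Groth.Agent.Lib.Helper13TorBC3
import Groth.Agent.Lib.Helper13TorMore
import Groth.Agent.Lib.Helper13TorColim
import Groth.Agent.Lib.Helper13Devissage
import Groth.Agent.Lib.Helper8TorFlip

set_option autoImplicit false
set_option linter.unusedVariables false
set_option linter.unusedSectionVars false
set_option linter.style.haveILetI false
universe u
open CategoryTheory Limits TensorProduct

namespace Groth.Agent.Lib.R2Lead.PerfTor

/-- A (possibly trivial) commutative ring of characteristic `p` with bijective `p`-th power map. -/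
structure Perf (p : ℕ) (R : Type*) [CommRing R] : Prop where
  cast : (p : R) = 0
  bij : Function.Bijective (fun x : R => x ^ p)

section basic

variable {p : ℕ} [hp : Fact p.Prime] {R : Type*} [CommRing R]

theorem add_pow_of_cast (h : (p : R) = 0) (x y : R) : (x + y) ^ p = x ^ p + y ^ p := by
  rcases subsingleton_or_nontrivial R with hs | hn
  · exact Subsingleton.elim _ _
  · haveI : CharP R p := (CharP.charP_iff_prime_eq_zero hp.out).2 h
    exact add_pow_char x y p

theorem sub_pow_of_cast (h : (p : R) = 0) (x y : R) : (x - y) ^ p = x ^ p - y ^ p := by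
  rcases subsingleton_or_nontrivial R with hs | hn
  · exact Subsingleton.elim _ _
  · haveI : CharP R p := (CharP.charP_iff_prime_eq_zero hp.out).2 h
    exact sub_pow_char x y

theorem sum_pow_of_cast (h : (p : R) = 0) {ι : Type*} (s : Finset ι) (f : ι → R) :
    (∑ i ∈ s, f i) ^ p = ∑ i ∈ s, f i ^ p := by
  rcases subsingleton_or_nontrivial R with hs | hn
  · exact Subsingleton.elim _ _
  · haveI : CharP R p := (CharP.charP_iff_prime_eq_zero hp.out).2 h
    exact sum_pow_char p s f

namespace Perf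

variable (h : Perf p R)
include h

theorem eq_zero_of_pow_eq_zero {x : R} (hx : x ^ p = 0) : x = 0 := by
  apply h.bij.1
  show x ^ p = 0 ^ p
  rw [hx, zero_pow hp.out.ne_zero]

theorem eq_zero_of_pow_pow_eq_zero {x : R} (n : ℕ) (hx : x ^ p ^ n = 0) : x = 0 := by
  induction n generalizing x with
  | zero => simpa using hx
  | succ n ih =>
    apply ih
    apply h.eq_zero_of_pow_eq_zero
    rw [← pow_mul, ← pow_succ]
    exact hx

theorem eq_zero_of_pow_eq_zero' {x : R} (n : ℕ) (hx : x ^ n = 0) : x = 0 := by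
  apply h.eq_zero_of_pow_pow_eq_zero n
  have hle : n ≤ p ^ n := (Nat.lt_pow_self hp.out.one_lt).le
  obtain ⟨k, hk⟩ := Nat.exists_eq_add_of_le hle
  rw [hk, pow_add, hx, zero_mul]

/-- the `p`-th root. -/
noncomputable def root (x : R) : R := (Equiv.ofBijective _ h.bij).symm x

theorem root_pow (x : R) : h.root x ^ p = x :=
  (Equiv.ofBijective _ h.bij).apply_symm_apply x

theorem root_unique {x y : R} (hy : y ^ p = x) : h.root x = y := by
  apply h.bij.1
  show h.root x ^ p = y ^ p
  rw [h.root_pow, hy]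

theorem root_add (x y : R) : h.root (x + y) = h.root x + h.root y := by
  apply h.root_unique
  rw [add_pow_of_cast h.cast, h.root_pow, h.root_pow]

theorem root_mul (x y : R) : h.root (x * y) = h.root x * h.root y := by
  apply h.root_unique
  rw [mul_pow, h.root_pow, h.root_pow]

theorem root_zero : h.root 0 = 0 := by
  apply h.root_unique
  exact zero_pow hp.out.ne_zero

end Perf

end basic

section constructions

variable {p : ℕ} [hp : Fact p.Prime]

theorem Perf.quotient {P : Type*} [CommRing P] (h : Perf p P) (I : Ideal P) (hI : I.IsRadical) :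
    Perf p (P ⧸ I) where
  cast := by
    rw [← map_natCast (Ideal.Quotient.mk I) p, h.cast, map_zero]
  bij := by
    constructor
    · intro x y hxy
      obtain ⟨x, rfl⟩ := Ideal.Quotient.mk_surjective x
      obtain ⟨y, rfl⟩ := Ideal.Quotient.mk_surjective y
      have h1 : Ideal.Quotient.mk I (x ^ p) = Ideal.Quotient.mk I (y ^ p) := by
        rw [map_pow, map_pow]; exact hxy
      rw [Ideal.Quotient.eq, ← sub_pow_of_cast h.cast] at h1
      rw [Ideal.Quotient.eq]
      exact hI ⟨p, h1⟩
    · intro y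
      obtain ⟨y, rfl⟩ := Ideal.Quotient.mk_surjective y
      refine ⟨Ideal.Quotient.mk I (h.root y), ?_⟩
      show Ideal.Quotient.mk I (h.root y) ^ p = _
      rw [← map_pow, h.root_pow]

theorem Perf.root_algebraMap {K X : Type*} [CommRing K] [CommRing X] [Algebra K X]
    (hK : Perf p K) (hX : Perf p X) (r : K) :
    hX.root (algebraMap K X r) = algebraMap K X (hK.root r) := by
  apply hX.root_unique
  rw [← map_pow, hK.root_pow]

theorem Perf.root_smul {K X : Type*} [CommRing K] [CommRing X] [Algebra K X]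
    (hK : Perf p K) (hX : Perf p X) (r : K) (x : X) :
    hX.root (r • x) = hK.root r • hX.root x := by
  rw [Algebra.smul_def, hX.root_mul, hK.root_algebraMap hX, Algebra.smul_def]

/-- the additive inverse of Frobenius on a tensor product of perfect rings. -/
noncomputable def Perf.tensorRoot {K X Y : Type*} [CommRing K] [CommRing X] [CommRing Y]
    [Algebra K X] [Algebra K Y] (hK : Perf p K) (hX : Perf p X) (hY : Perf p Y) :
    X ⊗[K] Y →+ X ⊗[K] Y :=
  TensorProduct.liftAddHom
    { toFun := fun x =>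
        { toFun := fun y => hX.root x ⊗ₜ[K] hY.root y
          map_zero' := by rw [hY.root_zero, TensorProduct.tmul_zero]
          map_add' := fun y y' => by rw [hY.root_add, TensorProduct.tmul_add] }
      map_zero' := by
        ext y
        show hX.root 0 ⊗ₜ[K] hY.root y = 0
        rw [hX.root_zero, TensorProduct.zero_tmul]
      map_add' := fun x x' => by
        ext y
        show hX.root (x + x') ⊗ₜ[K] hY.root y = hX.root x ⊗ₜ[K] hY.root y + hX.root x' ⊗ₜ[K] hY.root y
        rw [hX.root_add, TensorProduct.add_tmul] }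
    (fun r x y => by
      show hX.root (r • x) ⊗ₜ[K] hY.root y = hX.root x ⊗ₜ[K] hY.root (r • y)
      rw [hK.root_smul hX, hK.root_smul hY, TensorProduct.smul_tmul])

theorem Perf.tensorRoot_tmul {K X Y : Type*} [CommRing K] [CommRing X] [CommRing Y]
    [Algebra K X] [Algebra K Y] (hK : Perf p K) (hX : Perf p X) (hY : Perf p Y) (x : X) (y : Y) :
    Perf.tensorRoot hK hX hY (x ⊗ₜ[K] y) = hX.root x ⊗ₜ[K] hY.root y := rfl

theorem Perf.tensor {K X Y : Type*} [CommRing K] [CommRing X] [CommRing Y]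
    [Algebra K X] [Algebra K Y] (hK : Perf p K) (hX : Perf p X) (hY : Perf p Y) :
    Perf p (X ⊗[K] Y) := by
  have hcast : (p : X ⊗[K] Y) = 0 := by
    rw [← map_natCast (algebraMap K (X ⊗[K] Y)) p, hK.cast, map_zero]
  have hψ : ∀ z : X ⊗[K] Y, Perf.tensorRoot hK hX hY (z ^ p) = z := by
    intro z
    induction z using TensorProduct.induction_on with
    | zero => rw [zero_pow hp.out.ne_zero, map_zero]
    | tmul x y =>
      rw [Algebra.TensorProduct.tmul_pow, Perf.tensorRoot_tmul, hX.root_unique rfl,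
        hY.root_unique rfl]
    | add a b ha hb => rw [add_pow_of_cast hcast, map_add, ha, hb]
  refine ⟨hcast, ?_, ?_⟩
  · intro z w hzw
    have : z ^ p = w ^ p := hzw
    rw [← hψ z, ← hψ w, this]
  · intro z
    induction z using TensorProduct.induction_on with
    | zero => exact ⟨0, zero_pow hp.out.ne_zero⟩
    | tmul x y =>
      refine ⟨hX.root x ⊗ₜ[K] hY.root y, ?_⟩
      show (hX.root x ⊗ₜ[K] hY.root y) ^ p = _
      rw [Algebra.TensorProduct.tmul_pow, hX.root_pow, hY.root_pow]
    | add a b ha hb =>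
      obtain ⟨a', ha'⟩ := ha
      obtain ⟨b', hb'⟩ := hb
      refine ⟨a' + b', ?_⟩
      show (a' + b') ^ p = _
      rw [add_pow_of_cast hcast]
      exact congrArg₂ (· + ·) ha' hb'

theorem Perf.zmod : Perf p (ZMod p) where
  cast := CharP.cast_eq_zero (ZMod p) p
  bij := by
    have : (fun x : ZMod p => x ^ p) = id := by
      ext x
      exact ZMod.pow_card x
    rw [this]
    exact Function.bijective_id

end constructions

section iter

variable {p : ℕ} [hp : Fact p.Prime] {R : Type*} [CommRing R] (h : Perf p R)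
include h

theorem Perf.pow_pow_injective (n : ℕ) {x y : R} (hxy : x ^ p ^ n = y ^ p ^ n) : x = y := by
  induction n generalizing x y with
  | zero => simpa using hxy
  | succ n ih =>
    apply ih
    apply h.bij.1
    show (x ^ p ^ n) ^ p = (y ^ p ^ n) ^ p
    rw [← pow_mul, ← pow_mul, ← pow_succ]
    exact hxy

theorem Perf.exists_pow_pow_eq (n : ℕ) (d : R) : ∃ d' : R, d' ^ p ^ n = d := by
  induction n generalizing d with
  | zero => exact ⟨d, by simp⟩
  | succ n ih =>
    obtain ⟨e, he⟩ := ih (h.root d)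
    refine ⟨e, ?_⟩
    rw [pow_succ, pow_mul, he, h.root_pow]

/-- the compatible system of `p`-power roots of `f`. -/
noncomputable def Perf.g (f : R) (n : ℕ) : R := (h.root)^[n] f

theorem Perf.g_zero (f : R) : h.g f 0 = f := rfl

theorem Perf.g_succ_pow (f : R) (n : ℕ) : h.g f (n + 1) ^ p = h.g f n := by
  show ((h.root)^[n + 1] f) ^ p = _
  rw [Function.iterate_succ_apply', h.root_pow]
  rfl

theorem Perf.g_pow_pow (f : R) (n : ℕ) : h.g f n ^ p ^ n = f := by
  induction n with
  | zero => simp [Perf.g_zero]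
  | succ n ih => rw [pow_succ', pow_mul, h.g_succ_pow, ih]

theorem Perf.g_mem (f : R) (n : ℕ) : h.g f n ∈ (Ideal.span {f}).radical :=
  ⟨p ^ n, by rw [h.g_pow_pow]; exact Ideal.subset_span rfl⟩

theorem Perf.g_eq_mul (f : R) (n : ℕ) : h.g f n = h.g f (n + 1) ^ (p - 1) * h.g f (n + 1) := by
  rw [← pow_succ, Nat.sub_add_cancel hp.out.one_le, h.g_succ_pow]

theorem Perf.exists_eq_mul_g (f : R) {x : R} (hx : x ∈ (Ideal.span {f}).radical) :
    ∃ (n : ℕ) (c : R), x = c * h.g f n := by
  obtain ⟨m, hm⟩ := hx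
  obtain ⟨c, hc⟩ := Ideal.mem_span_singleton'.1 hm
  have hmle : m ≤ p ^ m := (Nat.lt_pow_self hp.out.one_lt).le
  obtain ⟨d', hd'⟩ := h.exists_pow_pow_eq m (x ^ (p ^ m - m) * c)
  refine ⟨m, d', ?_⟩
  apply h.pow_pow_injective m
  rw [mul_pow, hd', h.g_pow_pow, mul_assoc, hc, ← pow_add, Nat.sub_add_cancel hmle]

end iter

section principal

variable {p : ℕ} [hp : Fact p.Prime] {P : Type u} [CommRing P] (h : Perf p P)
  {C : Type u} [CommRing C] [Algebra P C] (hC : Perf p C) (f : P)

include h in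
theorem flat_radical_span : Module.Flat P ((Ideal.span {f}).radical) := by
  rcases subsingleton_or_nontrivial P with hs | hn
  · infer_instance
  · haveI : CharP P p := (CharP.charP_iff_prime_eq_zero hp.out).2 h.cast
    haveI : PerfectRing P p := ⟨h.bij⟩
    exact Groth.Agent.S14262.result p P f

/-- the element `g n` of the radical ideal. -/
noncomputable def gI (n : ℕ) : ((Ideal.span {f}).radical : Ideal P) := ⟨h.g f n, h.g_mem f n⟩

theorem gI_eq_smul (n : ℕ) : gI h f n = (h.g f (n + 1) ^ (p - 1)) • gI h f (n + 1) := by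
  apply Subtype.ext
  show h.g f n = h.g f (n + 1) ^ (p - 1) * h.g f (n + 1)
  exact h.g_eq_mul f n

theorem tmul_gI_succ (c : C) (n : ℕ) :
    c ⊗ₜ[P] gI h f n = ((h.g f (n + 1) ^ (p - 1)) • c) ⊗ₜ[P] gI h f (n + 1) := by
  rw [gI_eq_smul, TensorProduct.tmul_smul, TensorProduct.smul_tmul']

theorem tmul_gI_le (c : C) (n m : ℕ) (hnm : n ≤ m) :
    ∃ c' : C, c ⊗ₜ[P] gI h f n = c' ⊗ₜ[P] gI h f m := by
  induction m, hnm using Nat.le_induction with
  | base => exact ⟨c, rfl⟩
  | succ m _ ih =>
    obtain ⟨c', hc'⟩ := ih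
    exact ⟨_, hc'.trans (tmul_gI_succ h f c' m)⟩

theorem exists_eq_tmul_gI (z : C ⊗[P] ((Ideal.span {f}).radical : Ideal P)) :
    ∃ (n : ℕ) (c : C), z = c ⊗ₜ[P] gI h f n := by
  induction z using TensorProduct.induction_on with
  | zero => exact ⟨0, 0, (TensorProduct.zero_tmul _ _).symm⟩
  | tmul c x =>
    obtain ⟨n, d, hd⟩ := h.exists_eq_mul_g f x.2
    refine ⟨n, d • c, ?_⟩
    have hx : x = d • gI h f n := Subtype.ext hd
    rw [hx, TensorProduct.tmul_smul, TensorProduct.smul_tmul']
  | add z w hz hw =>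
    obtain ⟨n, c, rfl⟩ := hz
    obtain ⟨m, d, rfl⟩ := hw
    obtain ⟨c', hc'⟩ := tmul_gI_le h f c n (max n m) (le_max_left _ _)
    obtain ⟨d', hd'⟩ := tmul_gI_le h f d m (max n m) (le_max_right _ _)
    exact ⟨max n m, c' + d', by rw [hc', hd', TensorProduct.add_tmul]⟩

include h hC in
theorem lTensor_subtype_injective :
    Function.Injective (LinearMap.lTensor C
      ((Ideal.span {f}).radical : Ideal P).subtype) := by
  rw [injective_iff_map_eq_zero]
  intro z hz
  obtain ⟨n, c, rfl⟩ := exists_eq_tmul_gI h f z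
  rw [LinearMap.lTensor_tmul] at hz
  have h1 : h.g f n • c = 0 := by
    have := congrArg (TensorProduct.rid P C) hz
    rw [map_zero] at this
    exact this
  have h2 : h.g f (n + 1) • c = 0 := by
    apply hC.eq_zero_of_pow_eq_zero
    rw [Algebra.smul_def, mul_pow, ← map_pow, h.g_succ_pow]
    have hcp : c ^ p = c ^ (p - 1) * c := by
      rw [← pow_succ, Nat.sub_add_cancel hp.out.one_le]
    rw [hcp, ← mul_assoc, mul_comm _ (c ^ (p - 1)), mul_assoc, ← Algebra.smul_def, h1, mul_zero]
  rw [tmul_gI_succ]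
  have h3 : (h.g f (n + 1) ^ (p - 1)) • c = 0 := by
    obtain ⟨q, hq⟩ : ∃ q, p - 1 = q + 1 := ⟨p - 2, by have := hp.out.two_le; omega⟩
    rw [hq, pow_succ, mul_smul, h2, smul_zero]
  rw [h3, TensorProduct.zero_tmul]

end principal

section Qdef

/-- `Tor`-independence of `P ⧸ I` from all perfect `P`-algebras. -/
def Q (p : ℕ) (P : Type u) [CommRing P] (I : Ideal P) : Prop :=
  ∀ (C : Type u) [CommRing C] [Algebra P C], Perf p C → ∀ i : ℕ, 0 < i →
    IsZero (((Tor (ModuleCat.{u} P) i).obj (ModuleCat.of P C)).obj (ModuleCat.of P (P ⧸ I)))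

variable {p : ℕ} [hp : Fact p.Prime] {P : Type u} [CommRing P]

/-- the short exact sequence `0 → I → P → P ⧸ I → 0`. -/
theorem ses_quot (I : Ideal P) :
    (ShortComplex.mk (ModuleCat.ofHom (Submodule.subtype I))
      (ModuleCat.ofHom (Submodule.mkQ I))
      (by ext x; exact (Submodule.Quotient.mk_eq_zero I).2 x.2)).ShortExact :=
  Groth.Agent.Helper13Devissage.shortExact_mk (A := P) (Submodule.subtype I) (Submodule.mkQ I)
    (Submodule.injective_subtype _) (Submodule.mkQ_surjective _)
    (LinearMap.exact_subtype_mkQ I)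

theorem Q_principal (h : Perf p P) (f : P) : Q p P (Ideal.span {f}).radical := by
  intro C _ _ hC i hi
  have hS := ses_quot (P := P) (Ideal.span {f}).radical
  haveI : Module.Flat P ((Ideal.span {f}).radical) := flat_radical_span h f
  obtain ⟨n, rfl⟩ : ∃ n, i = n + 1 := ⟨i - 1, by omega⟩
  rcases Nat.eq_zero_or_pos n with rfl | hn
  · refine (Groth.Agent.Helper13Tor.isZero_tor_one_iff_lTensor_injective (ModuleCat.of P C) _ hS
      ?_).2 ?_
    · exact Groth.Agent.Helper13Tor.isZero_tor_of_flat_right (ModuleCat.of P C)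
        (ModuleCat.of P P) 1 (by omega)
    · exact lTensor_subtype_injective h hC f
  · obtain ⟨m, rfl⟩ : ∃ m, n = m + 1 := ⟨n - 1, by omega⟩
    refine Groth.Agent.Helper13Tor.isZero_tor₂_X₃ (ModuleCat.of P C) _ hS (m + 1) ?_ ?_
    · exact Groth.Agent.Helper13Tor.isZero_tor_of_flat_right (ModuleCat.of P C)
        (ModuleCat.of P P) (m + 1 + 1) (by omega)
    · exact Groth.Agent.Helper13Tor.isZero_tor_of_flat_right (ModuleCat.of P C)
        (ModuleCat.of P ((Ideal.span {f}).radical : Ideal P)) (m + 1) (by omega)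


/-- `P ⧸ comap J' ≃ (P ⧸ I) ⧸ J'` as `P`-modules. -/
noncomputable def quotComapEquiv (I : Ideal P) (J' : Ideal (P ⧸ I)) :
    (P ⧸ J'.comap (Ideal.Quotient.mk I)) ≃ₗ[P] ((P ⧸ I) ⧸ J') := by
  let φ : P →ₗ[P] ((P ⧸ I) ⧸ J') :=
    ((Submodule.mkQ J').restrictScalars P) ∘ₗ (Submodule.mkQ I)
  have hφ : Function.Surjective φ :=
    (Submodule.mkQ_surjective J').comp (Submodule.mkQ_surjective I)
  have hker : LinearMap.ker φ = J'.comap (Ideal.Quotient.mk I) := by
    ext x
    rw [LinearMap.mem_ker, Ideal.mem_comap]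
    show Submodule.Quotient.mk (Submodule.Quotient.mk x) = 0 ↔ _
    rw [Submodule.Quotient.mk_eq_zero]
    rfl
  exact (Submodule.quotEquivOfEq _ _ hker.symm) ≪≫ₗ (LinearMap.quotKerEquivOfSurjective φ hφ)

theorem Q_trans (h : Perf p P) (I : Ideal P) (hI : I.IsRadical) (hQI : Q p P I)
    (J' : Ideal (P ⧸ I)) (hQJ : Q p (P ⧸ I) J') : Q p P (J'.comap (Ideal.Quotient.mk I)) := by
  intro C _ _ hC n hn
  obtain ⟨e⟩ := Groth.Agent.Helper13TorBC.nonempty_restrict_tor_iso (A := P) (P ⧸ I)
    ((P ⧸ I) ⧸ J') (ModuleCat.of P C) (fun q hq => hQI C hC q hq) n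
  have hC₁ : Perf p ((P ⧸ I) ⊗[P] C) := Perf.tensor h (h.quotient I hI) hC
  have h1 := hQJ ((P ⧸ I) ⊗[P] C) hC₁ n hn
  let b : (Groth.Agent.Helper13TorBC.E P (P ⧸ I)).obj (ModuleCat.of P C) ≅
      ModuleCat.of (P ⧸ I) ((P ⧸ I) ⊗[P] C) :=
    (Groth.Agent.S2380.bridge P (P ⧸ I) (ModuleCat.of P C)).toModuleIso
  have h2 : IsZero (((Tor (ModuleCat.{u} (P ⧸ I)) n).obj
      ((Groth.Agent.Helper13TorBC.E P (P ⧸ I)).obj (ModuleCat.of P C))).obj
      (ModuleCat.of (P ⧸ I) ((P ⧸ I) ⧸ J'))) :=
    IsZero.of_iso h1 (((Tor (ModuleCat.{u} (P ⧸ I)) n).mapIso b).app _)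
  have h3 : IsZero (((Tor (ModuleCat.{u} P) n).obj (ModuleCat.of P C)).obj
      (ModuleCat.of P ((P ⧸ I) ⧸ J'))) :=
    IsZero.of_iso ((Groth.Agent.Helper13TorBC.ρ P (P ⧸ I)).map_isZero h2) e.symm
  exact IsZero.of_iso h3 (((Tor (ModuleCat.{u} P) n).obj (ModuleCat.of P C)).mapIso
    (quotComapEquiv I J').toModuleIso)


theorem comap_radical_span_singleton (I : Ideal P) (a : P) :
    ((Ideal.span {Ideal.Quotient.mk I a}).radical).comap (Ideal.Quotient.mk I) =
      (Ideal.span {a} ⊔ I).radical := by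
  rw [Ideal.comap_radical]
  congr 1
  have h1 : Ideal.span {Ideal.Quotient.mk I a} = (Ideal.span {a}).map (Ideal.Quotient.mk I) := by
    rw [Ideal.map_span, Set.image_singleton]
  rw [h1, Ideal.comap_map_of_surjective _ Ideal.Quotient.mk_surjective, ← RingHom.ker_eq_comap_bot,
    Ideal.mk_ker]

theorem Q_finset (h : Perf p P) (S : Finset P) : Q p P (Ideal.span (S : Set P)).radical := by
  classical
  induction S using Finset.induction_on with
  | empty =>
    have : (Ideal.span ((∅ : Finset P) : Set P)) = Ideal.span {(0 : P)} := by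
      rw [Finset.coe_empty, Ideal.span_empty, Ideal.span_singleton_eq_bot.2 rfl]
    rw [this]
    exact Q_principal h 0
  | insert a S ha ih =>
    have hQJ := Q_principal (h.quotient _ (Ideal.radical_isRadical (Ideal.span (S : Set P))))
      (Ideal.Quotient.mk (Ideal.span (S : Set P)).radical a)
    have := Q_trans h _ (Ideal.radical_isRadical _) ih _ hQJ
    rw [comap_radical_span_singleton] at this
    have e : (Ideal.span {a} ⊔ (Ideal.span (S : Set P)).radical).radical =
        (Ideal.span ((insert a S : Finset P) : Set P)).radical := by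
      rw [Ideal.radical_sup, Ideal.radical_idem, ← Ideal.radical_sup, ← Ideal.span_union,
        Finset.coe_insert, Set.insert_eq]
    rw [e] at this
    exact this

end Qdef


end Groth.Agent.Lib.R2Lead.PerfTor
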