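import Groth.Agent.Lib.R2LeadPerfTor

set_option autoImplicit false
set_option linter.unusedVariables false
set_option linter.unusedSectionVars false
set_option linter.style.haveILetI false
universe u
open CategoryTheory Limits TensorProduct

namespace Groth.Agent.Lib.R2Lead.PerfTor

section colim

variable {P : Type u} [CommRing P] (I : Ideal P)

/-- index category: finite subsets of `I`. -/
abbrev finJ : Type u := {S : Finset P // ∀ x ∈ S, x ∈ I}

instance : Nonempty (finJ I) := ⟨⟨∅, fun _ hx => absurd hx (Finset.notMem_empty _)⟩⟩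

instance : IsDirected (finJ I) (· ≤ ·) := by
  classical
  refine ⟨fun S T => ⟨⟨S.1 ∪ T.1, fun x hx => ?_⟩, ?_, ?_⟩⟩
  · rcases Finset.mem_union.1 hx with h | h
    · exact S.2 x h
    · exact T.2 x h
  · exact Finset.subset_union_left
  · exact Finset.subset_union_right

theorem radical_span_mono {S T : finJ I} (hST : S ≤ T) :
    (Ideal.span (S.1 : Set P)).radical ≤ (Ideal.span (T.1 : Set P)).radical :=
  Ideal.radical_mono (Ideal.span_mono (by exact_mod_cast hST))

/-- the diagram `S ↦ P ⧸ √(S)`. -/
noncomputable def finDiagram : finJ I ⥤ ModuleCat.{u} P where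
  obj S := ModuleCat.of P (P ⧸ (Ideal.span (S.1 : Set P)).radical)
  map {S T} f := ModuleCat.ofHom (Submodule.mapQ _ _ LinearMap.id
    (by
      intro x hx
      exact radical_span_mono I (leOfHom f) hx))
  map_id S := by
    apply ModuleCat.hom_ext
    apply LinearMap.ext
    intro x
    obtain ⟨x, rfl⟩ := Submodule.Quotient.mk_surjective _ x
    rfl
  map_comp f g := by
    apply ModuleCat.hom_ext
    apply LinearMap.ext
    intro x
    obtain ⟨x, rfl⟩ := Submodule.Quotient.mk_surjective _ x
    rfl

variable (hI : I.IsRadical)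

include hI in
theorem radical_span_le (S : finJ I) : (Ideal.span (S.1 : Set P)).radical ≤ I := by
  rw [hI.radical_le_iff, Ideal.span_le]
  intro x hx
  exact S.2 x (by exact_mod_cast hx)

/-- the cocone with vertex `P ⧸ I`. -/
noncomputable def finCocone : Cocone (finDiagram I) where
  pt := ModuleCat.of P (P ⧸ I)
  ι :=
    { app := fun S => ModuleCat.ofHom (Submodule.mapQ _ _ LinearMap.id
        (by
          intro x hx
          exact radical_span_le I hI S hx))
      naturality := fun S T f => by
        apply ModuleCat.hom_ext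
        apply LinearMap.ext
        intro x
        obtain ⟨x, rfl⟩ := Submodule.Quotient.mk_surjective _ x
        rfl }


/-- the empty finite subset. -/
def finBot : finJ I := ⟨∅, fun _ hx => absurd hx (Finset.notMem_empty _)⟩

theorem finBot_le (S : finJ I) : finBot I ≤ S := Finset.empty_subset _

/-- singleton. -/
def finSingle (x : P) (hx : x ∈ I) : finJ I := ⟨{x}, fun y hy => by
  rw [Finset.mem_singleton] at hy; rw [hy]; exact hx⟩

theorem finDiagram_map_mk {S T : finJ I} (f : S ⟶ T) (x : P) :
    ((finDiagram I).map f).hom (Submodule.Quotient.mk x) = Submodule.Quotient.mk x := rfl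

theorem finCocone_ι_mk (S : finJ I) (x : P) :
    ((finCocone I hI).ι.app S).hom (Submodule.Quotient.mk x) = Submodule.Quotient.mk x := rfl

theorem cocone_bot_mk (s : Cocone (finDiagram I)) (S : finJ I) (x : P) :
    (s.ι.app (finBot I)).hom (Submodule.Quotient.mk x) =
      (s.ι.app S).hom (Submodule.Quotient.mk x) := by
  have h := s.w (homOfLE (finBot_le I S))
  rw [← h]
  rfl

theorem cocone_bot_mk_eq_zero (s : Cocone (finDiagram I)) (x : P) (hx : x ∈ I) :
    (s.ι.app (finBot I)).hom (Submodule.Quotient.mk x) = 0 := by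
  rw [cocone_bot_mk I s (finSingle I x hx)]
  have : (Submodule.Quotient.mk x : P ⧸ (Ideal.span ((finSingle I x hx).1 : Set P)).radical) = 0 := by
    rw [Submodule.Quotient.mk_eq_zero]
    apply Ideal.le_radical
    apply Ideal.subset_span
    show x ∈ ((({x} : Finset P)) : Set P)
    simp
  rw [this]
  exact map_zero _

/-- `P ⧸ I` is the filtered colimit of the `P ⧸ √(S)`. -/
noncomputable def finIsColimit : IsColimit (finCocone I hI) where
  desc s := ModuleCat.ofHom (Submodule.liftQ I
    ((s.ι.app (finBot I)).hom ∘ₗ Submodule.mkQ _)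
    (by
      intro x hx
      rw [LinearMap.mem_ker]
      exact cocone_bot_mk_eq_zero I s x hx))
  fac s j := by
    apply ModuleCat.hom_ext
    apply LinearMap.ext
    intro x
    obtain ⟨x, rfl⟩ := Submodule.Quotient.mk_surjective _ x
    exact cocone_bot_mk I s j x
  uniq s m hm := by
    apply ModuleCat.hom_ext
    apply LinearMap.ext
    intro x
    obtain ⟨x, rfl⟩ := Submodule.Quotient.mk_surjective _ x
    have h := hm (finBot I)
    exact congrArg (fun f => f.hom (Submodule.Quotient.mk x)) h

end colim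

section final

variable {p : ℕ} [hp : Fact p.Prime]

theorem Q_radical {P : Type u} [CommRing P] (h : Perf p P) (I : Ideal P) (hI : I.IsRadical) :
    Q p P I := by
  intro C _ _ hC i hi
  haveI := Groth.Agent.Helper13Tor.preservesColimitsOfShape_tor (ModuleCat.of P C) i (finJ I)
  have hc := isColimitOfPreserves ((Tor (ModuleCat.{u} P) i).obj (ModuleCat.of P C))
    (finIsColimit I hI)
  rw [IsZero.iff_id_eq_zero]
  refine hc.hom_ext fun j => ?_
  exact (Q_finset h j.1 C hC i hi).eq_of_src _ _

theorem tor_perfect_aux (A B C : Type u) [CommRing A] [CommRing B] [CommRing C]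
    [Algebra A B] [Algebra A C] [CharP A p]
    (hA : Perf p A) (hB : Perf p B) (hC : Perf p C) (i : ℕ) (hi : 0 < i) :
    IsZero (((Tor (ModuleCat.{u} A) i).obj (ModuleCat.of A B)).obj (ModuleCat.of A C)) := by
  letI : Algebra (ZMod p) A := ZMod.algebra A p
  letI : Algebra (ZMod p) B := ((algebraMap A B).comp (algebraMap (ZMod p) A)).toAlgebra
  haveI : IsScalarTower (ZMod p) A B := IsScalarTower.of_algebraMap_eq (fun _ => rfl)
  let P := A ⊗[ZMod p] B
  have hP : Perf p P := Perf.tensor Perf.zmod hA hB
  let π : P →ₐ[A] B := Algebra.TensorProduct.lift (Algebra.ofId A B) (AlgHom.id (ZMod p) B)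
    (fun _ _ => Commute.all _ _)
  have hπ : Function.Surjective π := by
    intro b
    refine ⟨1 ⊗ₜ b, ?_⟩
    show (Algebra.TensorProduct.lift (Algebra.ofId A B) (AlgHom.id (ZMod p) B)
      (fun _ _ => Commute.all _ _)) (1 ⊗ₜ[ZMod p] b) = b
    rw [Algebra.TensorProduct.lift_tmul, map_one, one_mul]
    rfl
  let I : Ideal P := RingHom.ker π.toRingHom
  have hI : I.IsRadical := by
    rintro x ⟨n, hn⟩
    rw [RingHom.mem_ker] at hn ⊢
    rw [map_pow] at hn
    exact hB.eq_zero_of_pow_eq_zero' n hn
  have hC' : Perf p (P ⊗[A] C) := Perf.tensor hA hP hC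
  have h1 := Q_radical hP I hI (P ⊗[A] C) hC' i hi
  have h2 : IsZero (((Tor (ModuleCat.{u} P) i).obj (ModuleCat.of P (P ⧸ I))).obj
      (ModuleCat.of P (P ⊗[A] C))) :=
    IsZero.of_iso h1 (((Groth.Agent.Lib.Helper8.TorFlip.torFlipIso i).app _).app _)
  obtain ⟨e⟩ := Groth.Agent.Helper13TorBC.nonempty_restrict_tor_iso_left (A := A) P (P ⧸ I)
    (ModuleCat.of A C) i
  let b : (Groth.Agent.Helper13TorBC.E A P).obj (ModuleCat.of A C) ≅
      ModuleCat.of P (P ⊗[A] C) :=
    (Groth.Agent.S2380.bridge A P (ModuleCat.of A C)).toModuleIso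
  have h3 : IsZero (((Tor (ModuleCat.{u} P) i).obj (ModuleCat.of P (P ⧸ I))).obj
      ((Groth.Agent.Helper13TorBC.E A P).obj (ModuleCat.of A C))) :=
    IsZero.of_iso h2 (((Tor (ModuleCat.{u} P) i).obj (ModuleCat.of P (P ⧸ I))).mapIso b)
  have h4 : IsZero (((Tor (ModuleCat.{u} A) i).obj (ModuleCat.of A (P ⧸ I))).obj
      (ModuleCat.of A C)) :=
    IsZero.of_iso ((Groth.Agent.Helper13TorBC.ρ A P).map_isZero h3) e.symm
  let eB : (P ⧸ I) ≃ₗ[A] B := (Ideal.quotientKerAlgEquivOfSurjective hπ).toLinearEquiv
  exact IsZero.of_iso h4 (((Tor (ModuleCat.{u} A) i).mapIso eB.toModuleIso.symm).app _)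

end final

end Groth.Agent.Lib.R2Lead.PerfTor
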