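import Mathlib
import Groth.Prelude.Def_HTop
import Groth.Agent.Lib.R2H3ChowApprox
import Groth.Agent.S9705
import Groth.Agent.S9693

set_option autoImplicit false
universe v w u
open CategoryTheory CategoryTheory.Limits AlgebraicGeometry TopologicalSpace Opposite

namespace Groth.Agent.Lib.R2LeadPh1

/-- the copairing of two proper morphisms is proper. -/
theorem isProper_coprodDesc {X Y U : Scheme.{u}} (f : X ⟶ U) (g : Y ⟶ U) [IsProper f]
    [IsProper g] : IsProper (coprod.desc f g) := by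
  have h1 : IsProper (coprod.map f g) := IsZariskiLocalAtTarget.coprodMap f g ‹_› ‹_›
  have h2 : IsFinite (coprod.desc (𝟙 U) (𝟙 U)) := inferInstance
  have e : coprod.desc f g = coprod.map f g ≫ coprod.desc (𝟙 U) (𝟙 U) := by simp
  rw [e]
  infer_instance

/-- finite fibre products of proper surjective morphisms. -/
theorem exists_common {U : Scheme.{u}} {J : Type w} [Finite J] (V : J → Scheme.{u})
    (q : ∀ j, V j ⟶ U) (hq : ∀ j, IsProper (q j)) (hs : ∀ j, Surjective (q j)) :
    ∃ (P : Scheme.{u}) (p : P ⟶ U) (pr : ∀ j, P ⟶ V j), IsProper p ∧ Surjective p ∧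
      ∀ j, pr j ≫ q j = p := by
  induction J using Finite.induction_empty_option with
  | of_equiv e ih =>
    obtain ⟨P, p, pr, h1, h2, h3⟩ := ih (fun a => V (e a)) (fun a => q (e a))
      (fun a => hq _) (fun a => hs _)
    refine ⟨P, p, fun b => pr (e.symm b) ≫ eqToHom (by rw [e.apply_symm_apply]), h1, h2, ?_⟩
    intro b
    have : ∀ (b' : _) (hb : e (e.symm b) = b'),
        (pr (e.symm b) ≫ eqToHom (by rw [hb])) ≫ q b' = p := by
      intro b' hb
      subst hb
      simpa using h3 (e.symm b)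
    exact this b (e.apply_symm_apply b)
  | h_empty =>
    exact ⟨U, 𝟙 U, fun j => j.elim, inferInstance, inferInstance, fun j => j.elim⟩
  | h_option ih =>
    obtain ⟨P, p, pr, h1, h2, h3⟩ := ih (fun a => V (some a)) (fun a => q (some a))
      (fun a => hq _) (fun a => hs _)
    have := hq none
    have := hs none
    refine ⟨pullback (q none) p, pullback.fst (q none) p ≫ q none,
      fun j => Option.rec (pullback.fst (q none) p) (fun a => pullback.snd (q none) p ≫ pr a) j,
      inferInstance, inferInstance, ?_⟩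
    intro j
    cases j with
    | none => rfl
    | some a =>
      change (pullback.snd (q none) p ≫ pr a) ≫ q (some a) = _
      rw [Category.assoc, h3 a, pullback.condition]

/-- a point of the scheme-theoretic image of `jm ≫ oi` (closed immersion then open immersion)
lying over the open is in the range. -/
theorem mem_range_toImage {W P₀ P : Scheme.{u}} (jm : W ⟶ P₀) (oi : P₀ ⟶ P)
    [IsClosedImmersion jm] [IsOpenImmersion oi] [QuasiCompact (jm ≫ oi)]
    (y : (jm ≫ oi).image) (hy : (jm ≫ oi).imageι y ∈ Set.range ⇑oi) :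
    y ∈ Set.range (jm ≫ oi).toImage := by
  obtain ⟨z, hz⟩ := hy
  have h1 : (jm ≫ oi).imageι y ∈ closure (Set.range (jm ≫ oi)) := by
    rw [← Scheme.Hom.support_ker, ← Scheme.IdealSheafData.range_subschemeι]
    exact ⟨y, rfl⟩
  have h2 : z ∈ closure (Set.range jm) := by
    rw [oi.isOpenEmbedding.isEmbedding.closure_eq_preimage_closure_image]
    have : oi '' Set.range jm = Set.range (jm ≫ oi) := by
      rw [Scheme.Hom.comp_base, TopCat.coe_comp, Set.range_comp]
    rw [this]
    change oi z ∈ closure (Set.range (jm ≫ oi))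
    rw [hz]
    exact h1
  rw [jm.isClosedEmbedding.isClosed_range.closure_eq] at h2
  obtain ⟨w, hw⟩ := h2
  refine ⟨w, ?_⟩
  apply (jm ≫ oi).imageι.isClosedEmbedding.injective
  rw [← Scheme.Hom.comp_apply, Scheme.Hom.toImage_imageι, ← hz, ← hw]
  rfl

/-- extension of a proper surjective morphism over an open to the whole scheme. -/
theorem exists_extension {U U₀ W : Scheme.{u}} (ι : U₀ ⟶ U) [IsOpenImmersion ι] [QuasiCompact ι]
    [CompactSpace U₀] [QuasiSeparatedSpace U₀] (g : W ⟶ U₀) [IsProper g] [Surjective g] :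
    ∃ (V : Scheme.{u}) (q : V ⟶ U) (O : V.Opens) (r : O.toScheme ⟶ W), IsProper q ∧
      Surjective q ∧ (∀ v : V, q v ∈ Set.range ι → v ∈ O) ∧ r ≫ g ≫ ι = O.ι ≫ q := by
  obtain ⟨n, W', π, jm, hjm, hcomm, hπ, hπs⟩ := Groth.Agent.Lib.R2H3.ChowApprox.chow_ft g
  have hpU₀ := Groth.Agent.S9705.isProper_toBase n U₀
  have hpU := Groth.Agent.S9705.isProper_toBase n U
  have hjm' : IsClosedImmersion jm := by
    have : IsProper (jm ≫ CohB1.ProjSpaceOver.toBase n U₀) := by rw [hcomm]; infer_instance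
    have : IsProper jm := IsProper.of_comp jm (CohB1.ProjSpaceOver.toBase n U₀)
    exact IsClosedImmersion.of_isPreimmersion jm (jm.isClosedMap.isClosed_range)
  obtain ⟨oi, hoi⟩ := Groth.Agent.S9693.projSpaceOver_isPullback n ι
  have hoi1 : IsOpenImmersion oi :=
    MorphismProperty.of_isPullback (P := @IsOpenImmersion) hoi.flip inferInstance
  have hoi2 : QuasiCompact oi :=
    MorphismProperty.of_isPullback (P := @QuasiCompact) hoi.flip inferInstance
  have hk : QuasiCompact (jm ≫ oi) := inferInstance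
  -- the closed complement
  let Zc : Closeds U := ⟨(Set.range ι)ᶜ, ι.isOpenEmbedding.isOpen_range.isClosed_compl⟩
  let I := Scheme.IdealSheafData.vanishingIdeal Zc
  have hIr : Set.range I.subschemeι = (Set.range ι)ᶜ := by
    rw [Scheme.IdealSheafData.range_subschemeι]
    exact Scheme.IdealSheafData.coe_support_vanishingIdeal Zc
  let pW : (jm ≫ oi).image ⟶ U := (jm ≫ oi).imageι ≫ CohB1.ProjSpaceOver.toBase n U
  have hpW : IsProper pW := inferInstance
  have hq : IsProper (coprod.desc pW I.subschemeι) := isProper_coprodDesc _ _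
  have hkb : ∀ w : W', pW ((jm ≫ oi).toImage w) = ι (g (π w)) := by
    intro w
    change ((jm ≫ oi).toImage ≫ (jm ≫ oi).imageι ≫ CohB1.ProjSpaceOver.toBase n U) w = _
    rw [← Category.assoc, Scheme.Hom.toImage_imageι, Category.assoc, hoi.w, ← Category.assoc,
      hcomm, Category.assoc]
    rfl
  let em : W' ⟶ (jm ≫ oi).image ⨿ I.subscheme := (jm ≫ oi).toImage ≫ coprod.inl
  have hem : IsOpenImmersion em := inferInstance
  refine ⟨(jm ≫ oi).image ⨿ I.subscheme, coprod.desc pW I.subschemeι, em.opensRange,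
    em.isoOpensRange.inv ≫ π, hq, ⟨fun u => ?_⟩, ?_, ?_⟩
  · by_cases hu : u ∈ Set.range ι
    · obtain ⟨u₀, rfl⟩ := hu
      obtain ⟨w₀, rfl⟩ := g.surjective u₀
      obtain ⟨w, rfl⟩ := π.surjective w₀
      refine ⟨em w, ?_⟩
      rw [← hkb w]
      change ((jm ≫ oi).toImage ≫ coprod.inl ≫ coprod.desc pW I.subschemeι) w = _
      rw [coprod.inl_desc]
      rfl
    · have : u ∈ Set.range I.subschemeι := by rw [hIr]; exact hu
      obtain ⟨z, rfl⟩ := this
      refine ⟨(coprod.inr : I.subscheme ⟶ _) z, ?_⟩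
      rw [← Scheme.Hom.comp_apply, coprod.inr_desc]
  · intro v hv
    obtain ⟨(y | z), rfl⟩ := (coprodMk (jm ≫ oi).image I.subscheme).surjective v
    · rw [coprodMk_inl] at hv ⊢
      rw [← Scheme.Hom.comp_apply, coprod.inl_desc] at hv
      have hy : (jm ≫ oi).imageι y ∈ Set.range oi := by
        obtain ⟨u₀, hu₀⟩ := hv
        obtain ⟨p, hp1, hp2⟩ := Scheme.exists_preimage_of_isPullback hoi
          ((jm ≫ oi).imageι y) u₀ hu₀.symm
        exact ⟨p, hp1⟩
      obtain ⟨w, rfl⟩ := mem_range_toImage jm oi y hy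
      exact ⟨w, rfl⟩
    · exfalso
      rw [coprodMk_inr, ← Scheme.Hom.comp_apply, coprod.inr_desc] at hv
      have : I.subschemeι z ∈ (Set.range ι)ᶜ := by rw [← hIr]; exact ⟨z, rfl⟩
      exact this hv
  · rw [← Scheme.Hom.isoOpensRange_inv_comp em]
    simp only [Category.assoc]
    congr 1
    change _ = (jm ≫ oi).toImage ≫ coprod.inl ≫ coprod.desc pW I.subschemeι
    rw [coprod.inl_desc]
    change _ = (jm ≫ oi).toImage ≫ (jm ≫ oi).imageι ≫ CohB1.ProjSpaceOver.toBase n U
    rw [← Category.assoc _ (jm ≫ oi).imageι, Scheme.Hom.toImage_imageι, Category.assoc, hoi.w,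
      reassoc_of% hcomm]

/-- a proper surjective morphism onto an affine scheme, with local factorizations through a
family, gives a standard ph covering refining the family. -/
theorem exists_standardPh_of_local {T T₀ : Scheme.{u}} [IsAffine T] (g : T ⟶ T₀)
    (E : PreZeroHypercover.{w} T₀) {P : Scheme.{u}} (p : P ⟶ T) [IsProper p] [Surjective p]
    (H : ∀ x : P, ∃ (A : P.Opens), IsAffineOpen A ∧ x ∈ A ∧
      ∃ (i : E.I₀) (h : A.toScheme ⟶ E.X i), h ≫ E.f i = A.ι ≫ p ≫ g) :
    ∃ F : PreZeroHypercover.{0} T, HTop.IsStandardPh F ∧ HTop.RefinesOver g F E := by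
  choose A hA hxA i h hh using H
  have : CompactSpace P := QuasiCompact.compactSpace_of_compactSpace p
  obtain ⟨t, ht⟩ := CompactSpace.elim_nhds_subcover (fun x => ((A x : P.Opens) : Set P))
    (fun x => (A x).2.mem_nhds (hxA x))
  let pt : Fin t.card → P := fun k => (t.equivFin.symm k).1
  refine ⟨{ I₀ := Fin t.card, X := fun k => (A (pt k)).toScheme, f := fun k => (A (pt k)).ι ≫ p },
    ⟨inferInstance, inferInstance, fun k => hA (pt k), P, p, fun k => (A (pt k)).ι, inferInstance,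
      inferInstance, fun k => inferInstance, fun k => rfl, fun x => ?_⟩, fun k => ?_⟩
  · have hx : x ∈ ⋃ y ∈ t, ((A y : P.Opens) : Set P) := by rw [ht]; trivial
    simp only [Set.mem_iUnion] at hx
    obtain ⟨y, hy, hxy⟩ := hx
    refine ⟨t.equivFin ⟨y, hy⟩, ?_⟩
    have : pt (t.equivFin ⟨y, hy⟩) = y := by simp [pt]
    change x ∈ Set.range ⇑(A (pt (t.equivFin ⟨y, hy⟩))).ι
    rw [this]
    simpa using hxy
  · exact ⟨i (pt k), h (pt k), by rw [hh (pt k)]; simp⟩

/-- from `RefinesOver (𝟙 T)` to a refinement morphism. -/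
theorem nonempty_hom_of_refinesOver {T : Scheme.{u}} (F : PreZeroHypercover.{0} T)
    (E : PreZeroHypercover.{w} T) (h : HTop.RefinesOver (𝟙 T) F E) : Nonempty (F.Hom E) := by
  choose i m hm using h
  exact ⟨{ s₀ := i, h₀ := m, w₀ := fun j => by rw [hm j, Category.comp_id] }⟩


/-- every open covering of an affine scheme is refined by a standard ph covering. -/
theorem part1 {T : Scheme.{u}} [IsAffine T] (𝒰 : Scheme.OpenCover.{v} T) :
    ∃ F : PreZeroHypercover.{0} T, HTop.IsStandardPh F ∧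
      Nonempty (F.Hom 𝒰.toPreZeroHypercover) := by
  obtain ⟨F, hF, hr⟩ := exists_standardPh_of_local (𝟙 T) 𝒰.toPreZeroHypercover (𝟙 T) (fun x => by
    obtain ⟨A, hA, hxA, hAs⟩ := exists_isAffineOpen_mem_and_subset
      (x := x) (U := (𝒰.f (𝒰.idx x)).opensRange) (𝒰.covers x)
    refine ⟨A, hA, hxA, 𝒰.idx x, IsOpenImmersion.lift (𝒰.f (𝒰.idx x)) A.ι ?_, ?_⟩
    · rw [Scheme.Opens.range_ι]; exact hAs
    · change IsOpenImmersion.lift (𝒰.f (𝒰.idx x)) A.ι _ ≫ 𝒰.f (𝒰.idx x) = _
      rw [IsOpenImmersion.lift_fac]; simp)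
  exact ⟨F, hF, nonempty_hom_of_refinesOver F _ hr⟩

/-- composition of standard ph coverings is refined by a standard ph covering. -/
theorem part2 {T : Scheme.{u}} [IsAffine T] (E : PreZeroHypercover.{w} T)
    (hE : HTop.IsStandardPh E) (F : ∀ j, PreZeroHypercover.{w} (E.X j))
    (hF : ∀ j, HTop.IsStandardPh (F j)) :
    ∃ F' : PreZeroHypercover.{0} T, HTop.IsStandardPh F' ∧ Nonempty (F'.Hom (E.bind F)) := by
  obtain ⟨U, f, ι, hf, hfs, hι, hιf, hcov⟩ := hE.exists_proper
  have hEaff := hE.isAffine_obj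
  have := hE.finite_index
  choose W g κ hg hgs hκ hκg hWcov using fun j => (hF j).exists_proper
  have hUqs : QuasiSeparatedSpace U := quasiSeparatedSpace_of_quasiSeparated f
  have hext : ∀ j, ∃ (V : Scheme.{u}) (q : V ⟶ U) (O : V.Opens) (r : O.toScheme ⟶ W j),
      IsProper q ∧ Surjective q ∧ (∀ v : V, q v ∈ Set.range (ι j) → v ∈ O) ∧
      r ≫ g j ≫ ι j = O.ι ≫ q := fun j => by
    have := hEaff j
    have := hι j
    have := hg j
    have := hgs j
    exact exists_extension (ι j) (g j)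
  choose V q O r hq hqs hO hr using hext
  obtain ⟨P, p, pr, hp, hps, hpr⟩ := exists_common V q hq hqs
  obtain ⟨F', hF', hr'⟩ := exists_standardPh_of_local (𝟙 T) (E.bind F) (p ≫ f) (fun x => by
    obtain ⟨j, hj⟩ := hcov (p x)
    have hx1 : pr j x ∈ O j := by
      apply hO j
      rw [← Scheme.Hom.comp_apply, hpr j]
      exact hj
    -- the morphism from the preimage of `O j` to `W j`
    let m : ((pr j) ⁻¹ᵁ (O j)).toScheme ⟶ W j := (pr j ∣_ O j) ≫ r j
    let x' : ((pr j) ⁻¹ᵁ (O j)).toScheme := ⟨x, hx1⟩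
    obtain ⟨i, hi⟩ := hWcov j (m x')
    have := hκ j i
    let N' : ((pr j) ⁻¹ᵁ (O j)).toScheme.Opens := m ⁻¹ᵁ (κ j i).opensRange
    have hxN : x ∈ ((pr j) ⁻¹ᵁ (O j)).ι ''ᵁ N' := ⟨x', hi, rfl⟩
    obtain ⟨A, hA, hxA, hAs⟩ := exists_isAffineOpen_mem_and_subset hxN
    have hAle : A ≤ (pr j) ⁻¹ᵁ (O j) := by
      intro y hy
      obtain ⟨y', -, rfl⟩ := hAs hy
      exact y'.2
    let a₁ : A.toScheme ⟶ ((pr j) ⁻¹ᵁ (O j)).toScheme := P.homOfLE hAle
    have ha₁ : a₁ ≫ ((pr j) ⁻¹ᵁ (O j)).ι = A.ι := P.homOfLE_ι hAle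
    have hrange : Set.range ⇑(a₁ ≫ m) ⊆ Set.range ⇑(κ j i) := by
      rintro _ ⟨y, rfl⟩
      obtain ⟨y', hy', hyy⟩ := hAs y.2
      have : a₁ y = y' := by
        apply ((pr j) ⁻¹ᵁ (O j)).ι.isOpenEmbedding.injective
        have e1 : ((pr j) ⁻¹ᵁ (O j)).ι (a₁ y) = A.ι y := by rw [← Scheme.Hom.comp_apply, ha₁]
        exact e1.trans hyy.symm
      rw [Scheme.Hom.comp_apply, this]
      exact hy'
    let h' : A.toScheme ⟶ (F j).X i := IsOpenImmersion.lift (κ j i) (a₁ ≫ m) hrange
    have hh' : h' ≫ κ j i = a₁ ≫ m := IsOpenImmersion.lift_fac _ _ _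
    refine ⟨A, hA, hxA, ⟨j, i⟩, h', ?_⟩
    change h' ≫ (F j).f i ≫ E.f j = _
    rw [← hκg j i, ← hιf j, Category.assoc, reassoc_of% hh']
    simp only [m, Category.assoc]
    rw [reassoc_of% hr j, morphismRestrict_ι_assoc, reassoc_of% ha₁, reassoc_of% hpr j]
    simp)
  exact ⟨F', hF', nonempty_hom_of_refinesOver F' _ hr'⟩

end Groth.Agent.Lib.R2LeadPh1
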