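import Mathlib
import Groth.Prelude.Def_HTop
import Groth.Agent.Lib.R2LeadPh1

set_option autoImplicit false
universe v w u
open CategoryTheory CategoryTheory.Limits AlgebraicGeometry TopologicalSpace Opposite

namespace Groth.Agent.Lib.R2LeadPh2

open Groth.Agent.Lib.R2LeadPh1

/-- a morphism from an affine scheme that factors through an affine open of `T` admits a standard
ph covering refining a given ph covering of `T`. -/
theorem exists_refines_of_factors {T : Scheme.{u}} (E : PreZeroHypercover.{w} T)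
    (hE : HTop.IsPhCover E) {A : Scheme.{u}} [IsAffine A] (a : A ⟶ T) (U : T.affineOpens)
    (a' : A ⟶ (U : T.Opens).toScheme) (ha : a' ≫ (U : T.Opens).ι = a) :
    ∃ G : PreZeroHypercover.{0} A, HTop.IsStandardPh G ∧ HTop.RefinesOver a G E := by
  obtain ⟨F, hF, hFE⟩ := hE.2 U
  obtain ⟨P, p, ι, hp, hps, hι, hιp, hcov⟩ := hF.exists_proper
  refine exists_standardPh_of_local a E (pullback.fst a' p) (fun y => ?_)
  obtain ⟨k, hk⟩ := hcov (pullback.snd a' p y)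
  have := hι k
  obtain ⟨A', hA', hyA', hAs⟩ := exists_isAffineOpen_mem_and_subset (x := y)
    (U := (pullback.snd a' p) ⁻¹ᵁ (ι k).opensRange) hk
  obtain ⟨i, h, hh⟩ := hFE k
  have hrange : Set.range ⇑(A'.ι ≫ pullback.snd a' p) ⊆ Set.range ⇑(ι k) := by
    rintro _ ⟨z, rfl⟩
    exact hAs z.2
  let l : A'.toScheme ⟶ F.X k := IsOpenImmersion.lift (ι k) (A'.ι ≫ pullback.snd a' p) hrange
  have hl : l ≫ ι k = A'.ι ≫ pullback.snd a' p := IsOpenImmersion.lift_fac _ _ _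
  refine ⟨A', hA', hyA', i, l ≫ h, ?_⟩
  rw [Category.assoc, hh, ← hιp k, ← ha, Category.assoc, reassoc_of% hl, pullback.condition_assoc]

/-- every morphism from an affine scheme admits a standard ph covering refining a given ph
covering of the target. -/
theorem exists_refines {T : Scheme.{u}} (E : PreZeroHypercover.{w} T) (hE : HTop.IsPhCover E)
    {A : Scheme.{u}} [IsAffine A] (a : A ⟶ T) :
    ∃ G : PreZeroHypercover.{0} A, HTop.IsStandardPh G ∧ HTop.RefinesOver a G E := by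
  have hcov : ∀ x : A, ∃ U : T.Opens, IsAffineOpen U ∧ a x ∈ U := fun x => by
    obtain ⟨U, hU, hx, -⟩ := exists_isAffineOpen_mem_and_subset (x := a x) (U := ⊤) trivial
    exact ⟨U, hU, hx⟩
  choose U hU hxU using hcov
  let 𝒰 : A.OpenCover := A.openCoverOfIsOpenCover (fun x => a ⁻¹ᵁ U x) (by
    rw [IsOpenCover, eq_top_iff]
    intro x _
    exact Opens.mem_iSup.mpr ⟨x, hxU x⟩)
  obtain ⟨F₁, hF₁, ⟨φ⟩⟩ := part1 𝒰
  have key : ∀ k, ∃ G : PreZeroHypercover.{0} (F₁.X k), HTop.IsStandardPh G ∧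
      HTop.RefinesOver (F₁.f k ≫ a) G E := fun k => by
    have := hF₁.isAffine_obj k
    let b : F₁.X k ⟶ (a ⁻¹ᵁ U (φ.s₀ k)).toScheme := φ.h₀ k
    have hb : b ≫ (a ⁻¹ᵁ U (φ.s₀ k)).ι = F₁.f k := φ.w₀ k
    refine exists_refines_of_factors E hE (F₁.f k ≫ a) ⟨U (φ.s₀ k), hU _⟩
      (b ≫ (a ∣_ U (φ.s₀ k))) ?_
    rw [Category.assoc, morphismRestrict_ι, reassoc_of% hb]
  choose G hG hGE using key
  obtain ⟨F', hF', ⟨ψ⟩⟩ := part2 F₁ hF₁ G hG
  refine ⟨F', hF', fun m => ?_⟩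
  obtain ⟨i, h, hh⟩ := hGE (ψ.s₀ m).1 (ψ.s₀ m).2
  let c : F'.X m ⟶ (G (ψ.s₀ m).1).X (ψ.s₀ m).2 := ψ.h₀ m
  have hc : c ≫ (G (ψ.s₀ m).1).f (ψ.s₀ m).2 ≫ F₁.f (ψ.s₀ m).1 = F'.f m := ψ.w₀ m
  exact ⟨i, c ≫ h, by rw [Category.assoc, hh, ← hc]; simp⟩

/-- ph coverings are stable under base change. -/
theorem isPhCover_pullback {T T' : Scheme.{u}} (g : T' ⟶ T) (E : PreZeroHypercover.{w} T)
    (hE : HTop.IsPhCover E) : HTop.IsPhCover (E.pullback₁ g) := by
  refine ⟨fun i => ?_, fun U' => ?_⟩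
  · have := hE.1 i
    change LocallyOfFiniteType (pullback.fst g (E.f i))
    infer_instance
  · have : IsAffine (U' : T'.Opens).toScheme := U'.2
    obtain ⟨G, hG, hGE⟩ := exists_refines E hE ((U' : T'.Opens).ι ≫ g)
    refine ⟨G, hG, fun m => ?_⟩
    obtain ⟨i, h, hh⟩ := hGE m
    let l : G.X m ⟶ pullback g (E.f i) :=
      pullback.lift (G.f m ≫ (U' : T'.Opens).ι) h (by rw [Category.assoc, hh])
    have hl : l ≫ pullback.fst g (E.f i) = G.f m ≫ (U' : T'.Opens).ι := pullback.lift_fst _ _ _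
    exact ⟨i, l, hl⟩

/-- ph coverings are stable under composition. -/
theorem isPhCover_bind {T : Scheme.{u}} (E : PreZeroHypercover.{w} T) (hE : HTop.IsPhCover E)
    (F : ∀ i, PreZeroHypercover.{w} (E.X i)) (hF : ∀ i, HTop.IsPhCover (F i)) :
    HTop.IsPhCover (E.bind F) := by
  refine ⟨fun ij => ?_, fun U => ?_⟩
  · have := hE.1 ij.1
    have := (hF ij.1).1 ij.2
    change LocallyOfFiniteType ((F ij.1).f ij.2 ≫ E.f ij.1)
    infer_instance
  · obtain ⟨G, hG, hGE⟩ := hE.2 U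
    choose i h hh using hGE
    have key : ∀ k, ∃ H : PreZeroHypercover.{0} (G.X k), HTop.IsStandardPh H ∧
        HTop.RefinesOver (h k) H (F (i k)) := fun k => by
      have := hG.isAffine_obj k
      exact exists_refines (F (i k)) (hF (i k)) (h k)
    choose H hH hHF using key
    have : IsAffine (U : T.Opens).toScheme := U.2
    obtain ⟨F', hF', ⟨ψ⟩⟩ := part2 G hG H hH
    refine ⟨F', hF', fun m => ?_⟩
    obtain ⟨j, l, hl⟩ := hHF (ψ.s₀ m).1 (ψ.s₀ m).2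
    let c : F'.X m ⟶ (H (ψ.s₀ m).1).X (ψ.s₀ m).2 := ψ.h₀ m
    have hc : c ≫ (H (ψ.s₀ m).1).f (ψ.s₀ m).2 ≫ G.f (ψ.s₀ m).1 = F'.f m := ψ.w₀ m
    let d : F'.X m ⟶ (F (i (ψ.s₀ m).1)).X j := c ≫ l
    refine ⟨⟨i (ψ.s₀ m).1, j⟩, d, ?_⟩
    change (c ≫ l) ≫ (F (i (ψ.s₀ m).1)).f j ≫ E.f (i (ψ.s₀ m).1) = _
    rw [Category.assoc, reassoc_of% hl, hh, ← hc]
    simp

end Groth.Agent.Lib.R2LeadPh2
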