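import Mathlib
import Groth.Prelude.Def_HTop
import Groth.Agent.Lib.R2LeadPh1
import Groth.Agent.Lib.R2H4ValLift2
import Groth.Agent.Lib.R2H4ValLift
import Groth.Agent.Lib.Helper6LfpComp

set_option autoImplicit false
universe v w u
open CategoryTheory CategoryTheory.Limits AlgebraicGeometry TopologicalSpace Opposite

namespace Groth.Agent.Lib.R2LeadPh3

section abstract

variable {C : Type*} [Category C] (J : GrothendieckTopology C) (F : Cᵒᵖ ⥤ Type v)
  (hF : Presieve.IsSheaf J F)
  {X Y Z E P Q : C} (f : X ⟶ Y) (i : Z ⟶ Y) [Mono i] (e : E ⟶ X) (π : E ⟶ Z)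
  (p₁ p₂ : P ⟶ X) (d : X ⟶ P) (m : Q ⟶ P) (q₁ q₂ : Q ⟶ E)

/-- the two-member family `{f, i}`. -/
def fam (X Z : C) : Bool → C := fun b => cond b X Z

/-- the arrows of the two-member family. -/
def famHom {X Y Z : C} (f : X ⟶ Y) (i : Z ⟶ Y) : ∀ b, fam X Z b ⟶ Y := fun b =>
  match b with
  | true => f
  | false => i

include hF in
/-- A sheaf turns a square `E → X → Y`, `E → Z → Y` (with `i : Z → Y` mono) into a cartesian square
of sections as soon as `{f, i}` is covering and `{diagonal, E ×_Z E}` covers `X ×_Y X`. -/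
theorem existsUnique_section
    (hE : ∀ (W : C) (g₁ : W ⟶ X) (g₂ : W ⟶ Z), g₁ ≫ f = g₂ ≫ i →
      ∃ w : W ⟶ E, w ≫ e = g₁ ∧ w ≫ π = g₂)
    (hP : ∀ (W : C) (g₁ g₂ : W ⟶ X), g₁ ≫ f = g₂ ≫ f → ∃ w : W ⟶ P, w ≫ p₁ = g₁ ∧ w ≫ p₂ = g₂)
    (hd₁ : d ≫ p₁ = 𝟙 X) (hd₂ : d ≫ p₂ = 𝟙 X)
    (hm₁ : m ≫ p₁ = q₁ ≫ e) (hm₂ : m ≫ p₂ = q₂ ≫ e) (hq : q₁ ≫ π = q₂ ≫ π)
    (H1 : Sieve.generate (Presieve.ofArrows (fam X Z) (famHom f i)) ∈ J Y)
    (H2 : Sieve.generate (Presieve.ofArrows (fam X Q) (famHom d m)) ∈ J P)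
    (t : F.obj (op Z)) (s' : F.obj (op X)) (hts : F.map π.op t = F.map e.op s') :
    ∃! s : F.obj (op Y), F.map i.op s = t ∧ F.map f.op s = s' := by
  have h1 : Presieve.IsSheafFor F (Presieve.ofArrows (fam X Z) (famHom f i)) := by
    rw [Presieve.isSheafFor_iff_generate]; exact hF _ H1
  have h2 : Presieve.IsSeparatedFor F (Presieve.ofArrows (fam X Q) (famHom d m)) := by
    have : Presieve.IsSheafFor F (Presieve.ofArrows (fam X Q) (famHom d m)) := by
      rw [Presieve.isSheafFor_iff_generate]; exact hF _ H2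
    exact this.isSeparatedFor
  -- the two pullbacks of `s'` to `P` agree
  have hpp : F.map p₁.op s' = F.map p₂.op s' := by
    apply h2.ext
    rintro _ _ ⟨b⟩
    cases b with
    | true =>
      change F.map d.op (F.map p₁.op s') = F.map d.op (F.map p₂.op s')
      rw [← FunctorToTypes.map_comp_apply, ← FunctorToTypes.map_comp_apply, ← op_comp, ← op_comp,
        hd₁, hd₂]
    | false =>
      change F.map m.op (F.map p₁.op s') = F.map m.op (F.map p₂.op s')
      rw [← FunctorToTypes.map_comp_apply, ← FunctorToTypes.map_comp_apply, ← op_comp, ← op_comp,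
        hm₁, hm₂, op_comp, op_comp, FunctorToTypes.map_comp_apply, FunctorToTypes.map_comp_apply,
        ← hts, ← FunctorToTypes.map_comp_apply, ← FunctorToTypes.map_comp_apply, ← op_comp,
        ← op_comp, hq]
  rw [Presieve.isSheafFor_arrows_iff] at h1
  let x : ∀ b, F.obj (op (fam X Z b)) := fun b =>
    match b with
    | true => s'
    | false => t
  have hx : Presieve.Arrows.Compatible F (famHom f i) x := by
    intro b₁ b₂
    cases b₁ <;> cases b₂
    · intro W (g₁ : W ⟶ Z) (g₂ : W ⟶ Z) (hg : g₁ ≫ i = g₂ ≫ i)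
      have : g₁ = g₂ := (cancel_mono i).1 hg
      rw [this]
    · intro W (g₁ : W ⟶ Z) (g₂ : W ⟶ X) (hg : g₁ ≫ i = g₂ ≫ f)
      obtain ⟨w, hw1, hw2⟩ := hE W g₂ g₁ hg.symm
      change F.map g₁.op t = F.map g₂.op s'
      rw [← hw1, ← hw2, op_comp, op_comp, FunctorToTypes.map_comp_apply,
        FunctorToTypes.map_comp_apply, hts]
    · intro W (g₁ : W ⟶ X) (g₂ : W ⟶ Z) (hg : g₁ ≫ f = g₂ ≫ i)
      obtain ⟨w, hw1, hw2⟩ := hE W g₁ g₂ hg
      change F.map g₁.op s' = F.map g₂.op t
      rw [← hw1, ← hw2, op_comp, op_comp, FunctorToTypes.map_comp_apply,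
        FunctorToTypes.map_comp_apply, hts]
    · intro W (g₁ : W ⟶ X) (g₂ : W ⟶ X) (hg : g₁ ≫ f = g₂ ≫ f)
      obtain ⟨w, hw1, hw2⟩ := hP W g₁ g₂ hg
      change F.map g₁.op s' = F.map g₂.op s'
      rw [← hw1, ← hw2, op_comp, op_comp, FunctorToTypes.map_comp_apply,
        FunctorToTypes.map_comp_apply, hpp]
  obtain ⟨s, hs, hs'⟩ := h1 x hx
  refine ⟨s, ⟨hs false, hs true⟩, fun s₂ hs₂ => hs' s₂ (fun b => ?_)⟩
  cases b
  · exact hs₂.1
  · exact hs₂.2

end abstract

open Groth.Agent.Lib.R2LeadPh1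

/-- membership of the sieve generated by a family in a topology over `S`. -/
theorem generate_ofArrows_mem_over {S : Scheme.{u}} (K : Precoverage Scheme.{u})
    {Y : Over S} {I : Type*} (X : I → Over S) (π : ∀ i, X i ⟶ Y)
    (h : Presieve.ofArrows (fun i => (X i).left) (fun i => (π i).left) ∈ K Y.left) :
    Sieve.generate (Presieve.ofArrows X π) ∈ (K.toGrothendieck.over S) Y := by
  rw [GrothendieckTopology.mem_over_iff, Sieve.overEquiv_generate]
  refine GrothendieckTopology.superset_covering _ ?_ (Precoverage.generate_mem_toGrothendieck h)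
  apply Sieve.generate_mono
  rintro Z g ⟨i⟩
  exact ⟨X i, π i, 𝟙 _, Presieve.ofArrows.mk i, by simp⟩

/-- the two-member family as a pre-0-hypercover. -/
def twoCover {X Y Z : Scheme.{u}} (f : X ⟶ Y) (i : Z ⟶ Y) : PreZeroHypercover.{0} Y where
  I₀ := Bool
  X := fam X Z
  f := famHom f i

/-- two jointly surjective proper morphisms: standard ph refinements over affine opens. -/
theorem exists_standardPh_twoCover {X Y Z : Scheme.{u}} (f : X ⟶ Y) (i : Z ⟶ Y) [IsProper f]
    [IsProper i] (hsurj : ∀ y : Y, y ∈ Set.range ⇑f ∨ y ∈ Set.range ⇑i) (U : Y.affineOpens) :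
    ∃ F : PreZeroHypercover.{0} ((U : Y.Opens) : Scheme.{u}), HTop.IsStandardPh F ∧
      HTop.RefinesOver (U : Y.Opens).ι F (twoCover f i) := by
  have hc : IsProper (coprod.desc f i) := isProper_coprodDesc f i
  have hcs : Surjective (coprod.desc f i) := ⟨fun y => by
    rcases hsurj y with ⟨x, rfl⟩ | ⟨z, rfl⟩
    · exact ⟨(coprod.inl : X ⟶ X ⨿ Z) x, by rw [← Scheme.Hom.comp_apply, coprod.inl_desc]⟩
    · exact ⟨(coprod.inr : Z ⟶ X ⨿ Z) z, by rw [← Scheme.Hom.comp_apply, coprod.inr_desc]⟩⟩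
  have : IsAffine ((U : Y.Opens) : Scheme.{u}) := U.2
  have : IsProper (coprod.desc f i ∣_ (U : Y.Opens)) :=
    IsZariskiLocalAtTarget.restrict (P := @IsProper) hc _
  have : Surjective (coprod.desc f i ∣_ (U : Y.Opens)) :=
    IsZariskiLocalAtTarget.restrict (P := @Surjective) hcs _
  refine exists_standardPh_of_local (U : Y.Opens).ι (twoCover f i)
    (coprod.desc f i ∣_ (U : Y.Opens)) (fun x => ?_)
  obtain ⟨(x₀ | z₀), hx⟩ := (coprodMk X Z).surjective x.1
  · rw [coprodMk_inl] at hx
    obtain ⟨A, hA, hxA, hAs⟩ := exists_isAffineOpen_mem_and_subset (x := x)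
      (U := ((coprod.desc f i) ⁻¹ᵁ (U : Y.Opens)).ι ⁻¹ᵁ (coprod.inl : X ⟶ X ⨿ Z).opensRange)
      ⟨x₀, hx⟩
    have hrange : Set.range ⇑(A.ι ≫ ((coprod.desc f i) ⁻¹ᵁ (U : Y.Opens)).ι) ⊆
        Set.range ⇑(coprod.inl : X ⟶ X ⨿ Z) := by
      rintro _ ⟨a, rfl⟩
      exact hAs a.2
    let h : A.toScheme ⟶ X :=
      IsOpenImmersion.lift (coprod.inl : X ⟶ X ⨿ Z)
        (A.ι ≫ ((coprod.desc f i) ⁻¹ᵁ (U : Y.Opens)).ι) hrange
    have hh : h ≫ (coprod.inl : X ⟶ X ⨿ Z) = A.ι ≫ ((coprod.desc f i) ⁻¹ᵁ (U : Y.Opens)).ι :=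
      IsOpenImmersion.lift_fac _ _ _
    let h' : A.toScheme ⟶ (twoCover f i).X true := h
    refine ⟨A, hA, hxA, true, h', ?_⟩
    change h ≫ f = _
    have e1 : h ≫ f = h ≫ coprod.inl ≫ coprod.desc f i := by rw [coprod.inl_desc]
    rw [e1, reassoc_of% hh, morphismRestrict_ι]
  · rw [coprodMk_inr] at hx
    obtain ⟨A, hA, hxA, hAs⟩ := exists_isAffineOpen_mem_and_subset (x := x)
      (U := ((coprod.desc f i) ⁻¹ᵁ (U : Y.Opens)).ι ⁻¹ᵁ (coprod.inr : Z ⟶ X ⨿ Z).opensRange)
      ⟨z₀, hx⟩
    have hrange : Set.range ⇑(A.ι ≫ ((coprod.desc f i) ⁻¹ᵁ (U : Y.Opens)).ι) ⊆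
        Set.range ⇑(coprod.inr : Z ⟶ X ⨿ Z) := by
      rintro _ ⟨a, rfl⟩
      exact hAs a.2
    let h : A.toScheme ⟶ Z :=
      IsOpenImmersion.lift (coprod.inr : Z ⟶ X ⨿ Z)
        (A.ι ≫ ((coprod.desc f i) ⁻¹ᵁ (U : Y.Opens)).ι) hrange
    have hh : h ≫ (coprod.inr : Z ⟶ X ⨿ Z) = A.ι ≫ ((coprod.desc f i) ⁻¹ᵁ (U : Y.Opens)).ι :=
      IsOpenImmersion.lift_fac _ _ _
    let h' : A.toScheme ⟶ (twoCover f i).X false := h
    refine ⟨A, hA, hxA, false, h', ?_⟩
    change h ≫ i = _
    have e1 : h ≫ i = h ≫ coprod.inr ≫ coprod.desc f i := by rw [coprod.inr_desc]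
    rw [e1, reassoc_of% hh, morphismRestrict_ι]

theorem isPhCover_twoCover {X Y Z : Scheme.{u}} (f : X ⟶ Y) (i : Z ⟶ Y) [IsProper f]
    [IsProper i] (hsurj : ∀ y : Y, y ∈ Set.range ⇑f ∨ y ∈ Set.range ⇑i) :
    HTop.IsPhCover (twoCover f i) := by
  refine ⟨fun b => ?_, fun U => exists_standardPh_twoCover f i hsurj U⟩
  cases b
  · change LocallyOfFiniteType i; infer_instance
  · change LocallyOfFiniteType f; infer_instance

theorem isHCover_twoCover {X Y Z : Scheme.{u}} (f : X ⟶ Y) (i : Z ⟶ Y) [IsProper f]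
    [IsProper i] [LocallyOfFinitePresentation f] [LocallyOfFinitePresentation i]
    (hsurj : ∀ y : Y, y ∈ Set.range ⇑f ∨ y ∈ Set.range ⇑i) :
    HTop.IsHCover (twoCover f i) := by
  refine ⟨fun b => ?_, fun U => ?_⟩
  · cases b
    · change LocallyOfFinitePresentation i; infer_instance
    · change LocallyOfFinitePresentation f; infer_instance
  · obtain ⟨F, hF, hr⟩ := exists_standardPh_twoCover f i hsurj U
    exact ⟨F, Groth.Agent.Lib.R2H4.ValLift.isStandardV_of_isStandardPh F hF, hr⟩

theorem presieve_eq {S : Scheme.{u}} {X Y Z : Over S} (f : X ⟶ Y) (i : Z ⟶ Y) :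
    (Presieve.ofArrows (fun b => (fam X Z b).left) fun b => (famHom f i b).left) =
      (twoCover f.left i.left).presieve₀ := by
  funext W
  ext g
  constructor
  · rintro ⟨b⟩
    cases b
    · exact Presieve.ofArrows.mk (ι := Bool) (Y := (twoCover f.left i.left).X)
        (f := (twoCover f.left i.left).f) false
    · exact Presieve.ofArrows.mk (ι := Bool) (Y := (twoCover f.left i.left).X)
        (f := (twoCover f.left i.left).f) true
  · rintro ⟨b⟩
    cases b
    · exact Presieve.ofArrows.mk (ι := Bool) (Y := fun b => (fam X Z b).left)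
        (f := fun b => (famHom f i b).left) false
    · exact Presieve.ofArrows.mk (ι := Bool) (Y := fun b => (fam X Z b).left)
        (f := fun b => (famHom f i b).left) true

/-- covering sieve in the big ph site from two jointly surjective proper morphisms. -/
theorem generate_mem_Jph {S : Scheme.{u}} {X Y Z : Over S} (f : X ⟶ Y) (i : Z ⟶ Y)
    [IsProper f.left] [IsProper i.left]
    (hsurj : ∀ y : Y.left, y ∈ Set.range ⇑f.left ∨ y ∈ Set.range ⇑i.left) :
    Sieve.generate (Presieve.ofArrows (fam X Z) (famHom f i)) ∈ HTop.Jph S Y := by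
  apply generate_ofArrows_mem_over
  have h1 := (HTop.presieve₀_mem_phPrecoverage_iff (twoCover f.left i.left)).2
    (isPhCover_twoCover f.left i.left hsurj)
  convert h1 using 1
  exact presieve_eq f i

/-- (helper9) two morphisms into `X` agreeing after `f`, landing over an open over which `f` is an
isomorphism, are equal. -/
theorem eq_of_comp_eq_of_isIso_restrict {X S P : Scheme.{u}} (f : X ⟶ S) (U : S.Opens)
    [IsIso (f ∣_ U)] (a₁ a₂ : P ⟶ X) (h : a₁ ≫ f = a₂ ≫ f) (hU : ∀ p, (a₁ ≫ f) p ∈ U) :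
    a₁ = a₂ := by
  have hr : ∀ (a : P ⟶ X), (∀ p, (a ≫ f) p ∈ U) → Set.range a ⊆ Set.range (f ⁻¹ᵁ U).ι := by
    intro a ha
    rintro _ ⟨p, rfl⟩
    rw [Scheme.Opens.range_ι]
    exact ha p
  have hU2 : ∀ p, (a₂ ≫ f) p ∈ U := by rw [← h]; exact hU
  have e₁ : IsOpenImmersion.lift (f ⁻¹ᵁ U).ι a₁ (hr a₁ hU) ≫ (f ⁻¹ᵁ U).ι = a₁ :=
    IsOpenImmersion.lift_fac _ _ _
  have e₂ : IsOpenImmersion.lift (f ⁻¹ᵁ U).ι a₂ (hr a₂ hU2) ≫ (f ⁻¹ᵁ U).ι = a₂ :=
    IsOpenImmersion.lift_fac _ _ _
  have key : IsOpenImmersion.lift (f ⁻¹ᵁ U).ι a₁ (hr a₁ hU) ≫ (f ∣_ U) =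
      IsOpenImmersion.lift (f ⁻¹ᵁ U).ι a₂ (hr a₂ hU2) ≫ (f ∣_ U) := by
    rw [← cancel_mono U.ι, Category.assoc, Category.assoc, morphismRestrict_ι, reassoc_of% e₁,
      reassoc_of% e₂, h]
  rw [← e₁, ← e₂, (cancel_mono (f ∣_ U)).mp key]

/-- a point of `X ×_Y X` lying over an open over which `f` is an isomorphism is on the diagonal. -/
theorem mem_range_diagonal {X Y : Scheme.{u}} (f : X ⟶ Y) (U : Y.Opens) [IsIso (f ∣_ U)]
    (w : ↑(pullback f f)) (hw : (pullback.fst f f ≫ f) w ∈ U) :
    w ∈ Set.range ⇑(pullback.diagonal f) := by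
  let ρ := (pullback f f).fromSpecResidueField w
  have h12 : ρ ≫ pullback.fst f f = ρ ≫ pullback.snd f f := by
    apply eq_of_comp_eq_of_isIso_restrict f U
    · rw [Category.assoc, Category.assoc, pullback.condition]
    · intro p
      have : ρ p = w := by
        have := Scheme.range_fromSpecResidueField w
        have hp : ρ p ∈ Set.range ⇑ρ := ⟨p, rfl⟩
        rw [this] at hp
        exact hp
      rw [Category.assoc, Scheme.Hom.comp_apply, this]
      exact hw
  have hfac : ρ = (ρ ≫ pullback.fst f f) ≫ pullback.diagonal f := by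
    apply pullback.hom_ext
    · rw [Category.assoc, pullback.diagonal_fst, Category.comp_id]
    · rw [Category.assoc, pullback.diagonal_snd, Category.comp_id, h12]
  obtain ⟨p⟩ : Nonempty ↑(Spec ((pullback f f).residueField w)) := inferInstance
  have hp : ρ p = w := by
    have := Scheme.range_fromSpecResidueField w
    have hp : ρ p ∈ Set.range ⇑ρ := ⟨p, rfl⟩
    rw [this] at hp
    exact hp
  refine ⟨(ρ ≫ pullback.fst f f) p, ?_⟩
  rw [← Scheme.Hom.comp_apply, ← hfac, hp]

section key

variable {S : Scheme.{u}} {E Z X Y : Over S} (e : E ⟶ X) (π : E ⟶ Z) (f : X ⟶ Y) (i : Z ⟶ Y)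

/-- `X ×_Y X` over `S`. -/
noncomputable def PP : Over S := Over.mk (pullback.fst f.left f.left ≫ X.hom)

noncomputable def pp₁ : PP f ⟶ X := Over.homMk (pullback.fst f.left f.left) rfl

noncomputable def pp₂ : PP f ⟶ X := Over.homMk (pullback.snd f.left f.left) (by
  change pullback.snd f.left f.left ≫ X.hom = pullback.fst f.left f.left ≫ X.hom
  rw [← Over.w f, ← Category.assoc, ← Category.assoc, pullback.condition])

noncomputable def dd : X ⟶ PP f := Over.homMk (pullback.diagonal f.left) (by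
  change pullback.diagonal f.left ≫ pullback.fst f.left f.left ≫ X.hom = X.hom
  rw [← Category.assoc, pullback.diagonal_fst, Category.id_comp])

/-- the preimage of `Z` in `X ×_Y X`, over `S`. -/
noncomputable def QQ : Over S :=
  Over.mk (pullback.fst (pullback.fst f.left f.left ≫ f.left) i.left ≫ (PP f).hom)

noncomputable def mm : QQ f i ⟶ PP f :=
  Over.homMk (pullback.fst (pullback.fst f.left f.left ≫ f.left) i.left) rfl

variable {e π f i}

noncomputable def qq₁ (hsq : IsPullback e.left π.left f.left i.left) : QQ f i ⟶ E :=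
  Over.homMk (hsq.lift (pullback.fst (pullback.fst f.left f.left ≫ f.left) i.left ≫
      pullback.fst f.left f.left) (pullback.snd (pullback.fst f.left f.left ≫ f.left) i.left)
      (by rw [Category.assoc]; exact pullback.condition)) (by
    have key := hsq.lift_fst (pullback.fst (pullback.fst f.left f.left ≫ f.left) i.left ≫
      pullback.fst f.left f.left) (pullback.snd (pullback.fst f.left f.left ≫ f.left) i.left)
      (by rw [Category.assoc]; exact pullback.condition)
    have h2 : ∀ l : (QQ f i).left ⟶ E.left, l ≫ E.hom = (l ≫ e.left) ≫ X.hom := fun l => by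
      rw [Category.assoc, Over.w e]
    rw [h2]
    exact (congrArg (fun l => l ≫ X.hom) key).trans (Category.assoc _ _ _))

noncomputable def qq₂ (hsq : IsPullback e.left π.left f.left i.left) : QQ f i ⟶ E :=
  Over.homMk (hsq.lift (pullback.fst (pullback.fst f.left f.left ≫ f.left) i.left ≫
      pullback.snd f.left f.left) (pullback.snd (pullback.fst f.left f.left ≫ f.left) i.left)
      (by
        rw [Category.assoc, ← pullback.condition (f := f.left) (g := f.left)]
        exact pullback.condition)) (by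
    have key := hsq.lift_fst (pullback.fst (pullback.fst f.left f.left ≫ f.left) i.left ≫
      pullback.snd f.left f.left) (pullback.snd (pullback.fst f.left f.left ≫ f.left) i.left)
      (by
        rw [Category.assoc, ← pullback.condition (f := f.left) (g := f.left)]
        exact pullback.condition)
    have h2 : ∀ l : (QQ f i).left ⟶ E.left, l ≫ E.hom = (l ≫ e.left) ≫ X.hom := fun l => by
      rw [Category.assoc, Over.w e]
    rw [h2]
    refine (congrArg (fun l => l ≫ X.hom) key).trans ((Category.assoc _ _ _).trans ?_)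
    change _ = pullback.fst (pullback.fst f.left f.left ≫ f.left) i.left ≫
      pullback.fst f.left f.left ≫ X.hom
    congr 1
    rw [← Over.w f, ← Category.assoc, ← Category.assoc, pullback.condition])

/-- the cartesian square of sections, abstractly over `S`. -/
theorem existsUnique_section_over (J : GrothendieckTopology (Over S)) (F : (Over S)ᵒᵖ ⥤ Type v)
    (hF : Presieve.IsSheaf J F) (hsq : IsPullback e.left π.left f.left i.left) [Mono i.left]
    (H1 : Sieve.generate (Presieve.ofArrows (fam X Z) (famHom f i)) ∈ J Y)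
    (H2 : Sieve.generate (Presieve.ofArrows (fam X (QQ f i)) (famHom (dd f) (mm f i))) ∈
      J (PP f))
    (t : F.obj (op Z)) (s' : F.obj (op X)) (hts : F.map π.op t = F.map e.op s') :
    ∃! s : F.obj (op Y), F.map i.op s = t ∧ F.map f.op s = s' := by
  haveI : Mono i := (Over.forget S).mono_of_mono_map (inferInstanceAs (Mono i.left))
  refine existsUnique_section J F hF f i e π (pp₁ f) (pp₂ f) (dd f) (mm f i) (qq₁ hsq) (qq₂ hsq)
    ?_ ?_ ?_ ?_ ?_ ?_ ?_ H1 H2 t s' hts
  · intro W g₁ g₂ hg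
    have hg' : g₁.left ≫ f.left = g₂.left ≫ i.left := by
      rw [← Over.comp_left, ← Over.comp_left, hg]
    refine ⟨Over.homMk (hsq.lift g₁.left g₂.left hg') ?_, ?_, ?_⟩
    · rw [← Over.w e, ← Category.assoc, hsq.lift_fst, Over.w g₁]
    · ext; exact hsq.lift_fst _ _ _
    · ext; exact hsq.lift_snd _ _ _
  · intro W g₁ g₂ hg
    have hg' : g₁.left ≫ f.left = g₂.left ≫ f.left := by
      rw [← Over.comp_left, ← Over.comp_left, hg]
    refine ⟨Over.homMk (pullback.lift g₁.left g₂.left hg') ?_, ?_, ?_⟩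
    · change pullback.lift g₁.left g₂.left hg' ≫ pullback.fst f.left f.left ≫ X.hom = W.hom
      rw [← Category.assoc, pullback.lift_fst, Over.w g₁]
    · ext; exact pullback.lift_fst _ _ _
    · ext; exact pullback.lift_snd _ _ _
  · ext; exact pullback.diagonal_fst _
  · ext; exact pullback.diagonal_snd _
  · ext; exact (hsq.lift_fst _ _ _).symm
  · ext; exact (hsq.lift_fst _ _ _).symm
  · ext
    change (qq₁ hsq).left ≫ π.left = (qq₂ hsq).left ≫ π.left
    exact (hsq.lift_snd _ _ _).trans (hsq.lift_snd _ _ _).symm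

end key

/-- covering sieve in the big h site from two jointly surjective proper morphisms of finite
presentation. -/
theorem generate_mem_Jh {S : Scheme.{u}} {X Y Z : Over S} (f : X ⟶ Y) (i : Z ⟶ Y)
    [IsProper f.left] [IsProper i.left] [LocallyOfFinitePresentation f.left]
    [LocallyOfFinitePresentation i.left]
    (hsurj : ∀ y : Y.left, y ∈ Set.range ⇑f.left ∨ y ∈ Set.range ⇑i.left) :
    Sieve.generate (Presieve.ofArrows (fam X Z) (famHom f i)) ∈ HTop.Jh S Y := by
  apply generate_ofArrows_mem_over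
  have h1 := (HTop.presieve₀_mem_hPrecoverage_iff (twoCover f.left i.left)).2
    (isHCover_twoCover f.left i.left hsurj)
  convert h1 using 1
  exact presieve_eq f i

section concrete

variable {S : Scheme.{u}} {E Z X Y : Over S} (e : E ⟶ X) (π : E ⟶ Z) (f : X ⟶ Y) (i : Z ⟶ Y)

theorem hsurj_one (U : Y.left.Opens) (hU : (U : Set Y.left) = (Set.range ⇑i.left)ᶜ)
    [IsIso (f.left ∣_ U)] (y : Y.left) : y ∈ Set.range ⇑f.left ∨ y ∈ Set.range ⇑i.left := by
  by_cases hy : y ∈ Set.range ⇑i.left
  · exact Or.inr hy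
  · left
    have hyU : y ∈ U := by
      change y ∈ (U : Set Y.left)
      rw [hU]; exact hy
    obtain ⟨x, hx⟩ := (f.left ∣_ U).surjective ⟨y, hyU⟩
    refine ⟨(f.left ⁻¹ᵁ U).ι x, ?_⟩
    rw [← Scheme.Hom.comp_apply, ← morphismRestrict_ι, Scheme.Hom.comp_apply, hx]
    rfl

theorem hsurj_two (U : Y.left.Opens) (hU : (U : Set Y.left) = (Set.range ⇑i.left)ᶜ)
    [IsIso (f.left ∣_ U)] (w : (PP f).left) :
    w ∈ Set.range ⇑(dd f).left ∨ w ∈ Set.range ⇑(mm f i).left := by
  change w ∈ Set.range ⇑(pullback.diagonal f.left) ∨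
    w ∈ Set.range ⇑(pullback.fst (pullback.fst f.left f.left ≫ f.left) i.left)
  by_cases hy : (pullback.fst f.left f.left ≫ f.left) w ∈ Set.range ⇑i.left
  · right
    rw [Scheme.Pullback.range_fst]
    exact hy
  · left
    apply mem_range_diagonal f.left U w
    change _ ∈ (U : Set Y.left)
    rw [hU]; exact hy

/-- ph sheaves: cartesian square of sections for a proper morphism that is an isomorphism away
from a closed subscheme. -/
theorem existsUnique_section_ph (F : HTop.ShPh S) [IsProper f.left] [IsClosedImmersion i.left]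
    (hsq : IsPullback e.left π.left f.left i.left) (U : Y.left.Opens)
    (hU : (U : Set Y.left) = (Set.range ⇑i.left)ᶜ) [IsIso (f.left ∣_ U)]
    (t : F.obj.obj (op Z)) (s' : F.obj.obj (op X)) (hts : F.obj.map π.op t = F.obj.map e.op s') :
    ∃! s : F.obj.obj (op Y), F.obj.map i.op s = t ∧ F.obj.map f.op s = s' := by
  have hs : Presieve.IsSheaf (HTop.Jph S) F.obj := (isSheaf_iff_isSheaf_of_type _ F.obj).1 F.property
  have : IsProper (dd f).left := by
    change IsProper (pullback.diagonal f.left); infer_instance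
  have : IsProper (mm f i).left := by
    change IsProper (pullback.fst (pullback.fst f.left f.left ≫ f.left) i.left); infer_instance
  exact existsUnique_section_over (HTop.Jph S) F.obj hs hsq
    (generate_mem_Jph f i (hsurj_one f i U hU))
    (generate_mem_Jph (dd f) (mm f i) (hsurj_two f i U hU)) t s' hts

/-- h sheaves: cartesian square of sections for a proper morphism of finite presentation that is
an isomorphism away from a closed subscheme of finite presentation. -/
theorem existsUnique_section_h (F : HTop.ShH S) [IsProper f.left] [IsClosedImmersion i.left]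
    [LocallyOfFinitePresentation f.left] [LocallyOfFinitePresentation i.left]
    (hsq : IsPullback e.left π.left f.left i.left) (U : Y.left.Opens)
    (hU : (U : Set Y.left) = (Set.range ⇑i.left)ᶜ) [IsIso (f.left ∣_ U)]
    (t : F.obj.obj (op Z)) (s' : F.obj.obj (op X)) (hts : F.obj.map π.op t = F.obj.map e.op s') :
    ∃! s : F.obj.obj (op Y), F.obj.map i.op s = t ∧ F.obj.map f.op s = s' := by
  have hs : Presieve.IsSheaf (HTop.Jh S) F.obj := (isSheaf_iff_isSheaf_of_type _ F.obj).1 F.property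
  have : IsProper (dd f).left := by
    change IsProper (pullback.diagonal f.left); infer_instance
  have : IsProper (mm f i).left := by
    change IsProper (pullback.fst (pullback.fst f.left f.left ≫ f.left) i.left); infer_instance
  have : LocallyOfFinitePresentation (dd f).left := by
    change LocallyOfFinitePresentation (pullback.diagonal f.left)
    exact Groth.Agent.Lib.Helper6.locallyOfFinitePresentation_diagonal f.left
  have : LocallyOfFinitePresentation (mm f i).left := by
    change LocallyOfFinitePresentation (pullback.fst (pullback.fst f.left f.left ≫ f.left) i.left)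
    infer_instance
  exact existsUnique_section_over (HTop.Jh S) F.obj hs hsq
    (generate_mem_Jh f i (hsurj_one f i U hU))
    (generate_mem_Jh (dd f) (mm f i) (hsurj_two f i U hU)) t s' hts

end concrete

end Groth.Agent.Lib.R2LeadPh3
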