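import Mathlib
import Groth.Prelude.Def_HTop
import Groth.Prelude.Def_HTop3
import Groth.Prelude.Def_BlowUp2
import Groth.Agent.Lib.R2LeadPh3
import Groth.Agent.Lib.H9BlowProper
import Groth.Agent.Lib.Helper20BlowUp
import Groth.Agent.Lib.Helper6ClosedLfp

set_option autoImplicit false
universe v w u
open CategoryTheory CategoryTheory.Limits AlgebraicGeometry TopologicalSpace Opposite

namespace Groth.Agent.Lib.R2LeadPh4

open Groth.Agent.Lib.R2LeadPh3

theorem isFiniteTypeIdeal_ker {Z X : Scheme.{u}} (i : Z ⟶ X) [IsClosedImmersion i]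
    [LocallyOfFinitePresentation i] : BlowUp.IsFiniteTypeIdeal i.ker := by
  intro U
  have h := (Groth.Agent.Lib.Helper6.locallyOfFinitePresentation_iff_ker_fg_of_isClosedImmersion
    i).1 inferInstance U
  rw [Scheme.Hom.ker_apply]
  exact h

theorem coe_compl_ker {Z X : Scheme.{u}} (i : Z ⟶ X) [IsClosedImmersion i] :
    ((Groth.Agent.Lib.Helper20.BlowUpBasic.compl i.ker : X.Opens) : Set X) =
      (Set.range ⇑i)ᶜ := by
  change ((i.ker.support : Set X))ᶜ = _
  rw [Scheme.Hom.support_ker, i.isClosedEmbedding.isClosed_range.closure_eq]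

/-- S8990: ph sheaves and blow up squares. -/
theorem phSheaf_blowUp (S : Scheme.{u}) (F : HTop.ShPh S) {E Z X' X : Over S} (e : E ⟶ X')
    (π : E ⟶ Z) (b : X' ⟶ X) (i : Z ⟶ X) [IsClosedImmersion i.left]
    [LocallyOfFinitePresentation i.left] (hb : BlowUp.IsBlowUp b.left i.left.ker)
    (hE : IsPullback e.left π.left b.left i.left) (t : F.obj.obj (op Z))
    (s' : F.obj.obj (op X')) (hts : F.obj.map π.op t = F.obj.map e.op s') :
    ∃! s : F.obj.obj (op X), F.obj.map i.op s = t ∧ F.obj.map b.op s = s' := by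
  haveI : IsProper b.left := Groth.Agent.Lib.H9BlowProper.isProper_of_isBlowUp b.left i.left.ker
    (isFiniteTypeIdeal_ker i.left) hb
  haveI := Groth.Agent.Lib.Helper20.BlowUpBasic.isIso_morphismRestrict i.left.ker b.left hb
  exact existsUnique_section_ph e π b i F hE _ (coe_compl_ker i.left) t s' hts

/-- the closed subscheme cut out by the sections supported on the complement of an open `V` is
everything over opens inside `V`. -/
theorem isIso_restrict_subschemeι_ker {X : Scheme.{u}} (V W : X.Opens) (hWV : W ≤ V) :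
    IsIso (V.ι.ker.subschemeι ∣_ W) := by
  set c := V.ι.ker.subschemeι with hc
  have htc : V.ι.toImage ≫ c = V.ι := V.ι.toImage_imageι
  have hrange : Set.range ⇑(X.homOfLE hWV ≫ V.ι.toImage) ⊆ Set.range ⇑(c ⁻¹ᵁ W).ι := by
    rintro _ ⟨x, rfl⟩
    rw [Scheme.Opens.range_ι]
    change c ((X.homOfLE hWV ≫ V.ι.toImage) x) ∈ W
    rw [← Scheme.Hom.comp_apply, Category.assoc, htc, X.homOfLE_ι]
    exact x.2
  let σ : W.toScheme ⟶ (c ⁻¹ᵁ W).toScheme :=
    IsOpenImmersion.lift (c ⁻¹ᵁ W).ι (X.homOfLE hWV ≫ V.ι.toImage) hrange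
  have hσ : σ ≫ (c ⁻¹ᵁ W).ι = X.homOfLE hWV ≫ V.ι.toImage := IsOpenImmersion.lift_fac _ _ _
  have h1 : σ ≫ (c ∣_ W) = 𝟙 _ := by
    rw [← cancel_mono W.ι, Category.assoc, morphismRestrict_ι, reassoc_of% hσ, htc, X.homOfLE_ι,
      Category.id_comp]
  have hmono : Mono (c ∣_ W) := by
    have : IsClosedImmersion (c ∣_ W) :=
      IsZariskiLocalAtTarget.restrict (P := @IsClosedImmersion) inferInstance _
    infer_instance
  have h2 : (c ∣_ W) ≫ σ = 𝟙 _ := by
    rw [← cancel_mono (c ∣_ W), Category.assoc, h1, Category.comp_id, Category.id_comp]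
  exact ⟨σ, h2, h1⟩

/-- in an almost blow up square, `b` is an isomorphism over the complement of the centre. -/
theorem isIso_restrict_of_isAlmostBlowUpSquare {E Z X' X : Scheme.{u}} {e : E ⟶ X'} {π : E ⟶ Z}
    {b : X' ⟶ X} {i : Z ⟶ X} (h : HTop.IsAlmostBlowUpSquare e π b i) :
    IsIso (b ∣_ Groth.Agent.Lib.Helper20.BlowUpBasic.compl i.ker) := by
  set U := Groth.Agent.Lib.Helper20.BlowUpBasic.compl i.ker with hU
  have hle : b ⁻¹ᵁ U ≤ HTop.awayFrom (i.ker.comap b) := by
    intro x hx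
    change x ∈ ((i.ker.comap b).support : Set X')ᶜ
    rw [Scheme.IdealSheafData.support_comap]
    exact hx
  have h1 : IsIso ((HTop.supportedOn (i.ker.comap b)).subschemeι ∣_ (b ⁻¹ᵁ U)) :=
    isIso_restrict_subschemeι_ker _ _ hle
  have h2 : IsIso (((HTop.supportedOn (i.ker.comap b)).subschemeι ≫ b) ∣_ U) :=
    Groth.Agent.Lib.Helper20.BlowUpBasic.isIso_morphismRestrict i.ker _ h.isBlowUp
  rw [morphismRestrict_comp] at h2
  exact @IsIso.of_isIso_comp_left _ _ _ _ _
    ((HTop.supportedOn (i.ker.comap b)).subschemeι ∣_ (b ⁻¹ᵁ U)) (b ∣_ U) h1 h2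

/-- S8987: h sheaves and almost blow up squares. -/
theorem hSheaf_almostBlowUp (S : Scheme.{u}) (F : HTop.ShH S) {E Z X' X : Over S} (e : E ⟶ X')
    (π : E ⟶ Z) (b : X' ⟶ X) (i : Z ⟶ X)
    (h : HTop.IsAlmostBlowUpSquare e.left π.left b.left i.left) (t : F.obj.obj (op Z))
    (s' : F.obj.obj (op X')) (hts : F.obj.map π.op t = F.obj.map e.op s') :
    ∃! s : F.obj.obj (op X), F.obj.map i.op s = t ∧ F.obj.map b.op s = s' := by
  haveI := h.isClosedImmersion
  haveI := h.finitePresentation_base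
  haveI := h.isProper
  haveI := h.finitePresentation
  haveI := isIso_restrict_of_isAlmostBlowUpSquare h
  exact existsUnique_section_h e π b i F h.isPullback _ (coe_compl_ker i.left) t s' hts

end Groth.Agent.Lib.R2LeadPh4
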