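import Mathlib
import Groth.Agent.Lib.R2LeadVNR
import Groth.Agent.Lib.R2LeadHensVNR
import Groth.Agent.Lib.R2LeadPairHzIndEt
import Groth.Agent.Lib.Helper26PairHzMore
import Groth.Agent.S0694
import Groth.Agent.S0693
import Groth.Agent.S0755
import Groth.Agent.S0734
import Groth.Agent.S0736
import Groth.Agent.S0675

set_option autoImplicit false

open TensorProduct

universe u

namespace Groth.Agent.Lib.R2LeadWLocSqC

open Groth.Agent.Lib.R2LeadVNR Groth.Agent.Lib.R2LeadHensVNR Groth.Agent.Lib.R2LeadPairHzIndEt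
open Groth.Agent.Lib.Helper26 Groth.Agent.Lib.Helper26.PairHz

/-- residue fields at maximal ideals are separably closed, if a quotient has étale retractions -/
theorem isSepClosed_quotient {C Cb : Type u} [CommRing C] [CommRing Cb] (θ : C →+* Cb)
    (hθ : Function.Surjective θ) (hret : ProEtW.HasEtaleRetractions Cb) (m : Ideal C)
    [hm : m.IsMaximal] (hkm : RingHom.ker θ ≤ m) :
    letI := Ideal.Quotient.field m; IsSepClosed (C ⧸ m) := by
  letI := Ideal.Quotient.field m
  have hc : (m.map θ).comap θ = m := by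
    rw [Ideal.comap_map_of_surjective θ hθ]
    have : Ideal.comap θ ⊥ = RingHom.ker θ := rfl
    rw [this]
    exact sup_eq_left.mpr hkm
  haveI hmb : (m.map θ).IsMaximal := by
    rcases Ideal.map_eq_top_or_isMaximal_of_surjective θ hθ hm with h | h
    · exfalso
      rw [h, Ideal.comap_top] at hc
      exact hm.ne_top hc.symm
    · exact h
  letI := Ideal.Quotient.field (m.map θ)
  obtain ⟨_, hS⟩ := Groth.Agent.S0675.result Cb hret (m.map θ)
  haveI := hS
  let e1 : (Cb ⧸ m.map θ) ≃+* (m.map θ).ResidueField :=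
    RingEquiv.ofBijective (algebraMap (Cb ⧸ m.map θ) (m.map θ).ResidueField)
      (Ideal.bijective_algebraMap_quotient_residueField (m.map θ))
  let ψ : C →+* Cb ⧸ m.map θ := (Ideal.Quotient.mk (m.map θ)).comp θ
  have hψ : Function.Surjective ψ := Ideal.Quotient.mk_surjective.comp hθ
  have hkψ : m = RingHom.ker ψ := by
    refine hc.symm.trans ?_
    ext x
    rw [Ideal.mem_comap, RingHom.mem_ker]
    show _ ↔ Ideal.Quotient.mk (m.map θ) (θ x) = 0
    rw [Ideal.Quotient.eq_zero_iff_mem]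
  let e2 : (C ⧸ m) ≃+* (Cb ⧸ m.map θ) :=
    (Ideal.quotEquivOfEq hkψ).trans (RingHom.quotientKerEquivOfSurjective hψ)
  exact Groth.Agent.Lib.Helper3.ShQuot.isSepClosed_of_ringEquiv (e2.trans e1).symm

/-- Step 1a: the w-localization with the radical ideal of its closed points. -/
theorem exists_Aw (A : Type u) [CommRing A] :
    ∃ (Aw : Type u) (_ : CommRing Aw) (_ : Algebra A Aw) (Iw : Ideal Aw),
      Module.Flat A Aw ∧ EtPBC.IsIndEtale A Aw ∧ IsVNR (Aw ⧸ Iw) ∧
      ∀ p : PrimeSpectrum A, ∃ q : PrimeSpectrum Aw,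
        Iw ≤ q.asIdeal ∧ PrimeSpectrum.comap (algebraMap A Aw) q = p := by
  obtain ⟨Aw, _, _, hff, hZ, hW, hbij⟩ := Groth.Agent.S0694.result A
  let Iw : Ideal Aw := PrimeSpectrum.vanishingIdeal (ProEtW.closedPoints (PrimeSpectrum Aw))
  have hzero : PrimeSpectrum.zeroLocus (Iw : Set Aw) = ProEtW.closedPoints (PrimeSpectrum Aw) := by
    rw [PrimeSpectrum.zeroLocus_vanishingIdeal_eq_closure]
    exact IsClosed.closure_eq hW.2.1
  refine ⟨Aw, inferInstance, inferInstance, Iw, inferInstance,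
    isIndEtale_of_isIndZariski A Aw hZ, ?_, ?_⟩
  · haveI : IsReduced (Aw ⧸ Iw) :=
      (Ideal.isRadical_iff_quotient_reduced Iw).mp (PrimeSpectrum.isRadical_vanishingIdeal _)
    apply isVNR_of_isReduced_of_forall_isMaximal
    intro p hp
    haveI := hp
    have hcm : (p.comap (Ideal.Quotient.mk Iw)).IsMaximal := by
      have hmem : (⟨p.comap (Ideal.Quotient.mk Iw), inferInstance⟩ : PrimeSpectrum Aw) ∈
          PrimeSpectrum.zeroLocus (Iw : Set Aw) := by
        rw [PrimeSpectrum.mem_zeroLocus]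
        intro x hx
        show x ∈ p.comap (Ideal.Quotient.mk Iw)
        rw [Ideal.mem_comap, Ideal.Quotient.eq_zero_iff_mem.mpr hx]
        exact p.zero_mem
      rw [hzero] at hmem
      exact (PrimeSpectrum.isClosed_singleton_iff_isMaximal _).mp hmem
    obtain ⟨q, hq, hpq⟩ := Ideal.exists_le_maximal p hp.ne_top
    have h1 : p.comap (Ideal.Quotient.mk Iw) = q.comap (Ideal.Quotient.mk Iw) :=
      hcm.eq_of_le (Ideal.comap_ne_top _ hq.ne_top) (Ideal.comap_mono hpq)
    have h2 : p = q :=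
      Ideal.comap_injective_of_surjective _ Ideal.Quotient.mk_surjective h1
    rw [h2]
    exact hq
  · intro p
    obtain ⟨q, hq, hqp⟩ := hbij.surjOn (Set.mem_univ p)
    refine ⟨q, ?_, hqp⟩
    rw [← hzero, PrimeSpectrum.mem_zeroLocus] at hq
    exact hq

/-- Step 1b: the henselian cover over a ring with von Neumann regular quotient. -/
theorem exists_hens_cover (R : Type u) [CommRing R] (I : Ideal R) (hV : IsVNR (R ⧸ I)) :
    ∃ (C : Type u) (_ : CommRing C) (_ : Algebra R C) (Cb : Type u) (_ : CommRing Cb)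
      (θ : C →+* Cb),
      Module.Flat R C ∧ EtPBC.IsIndEtale R C ∧ HenselianRing C (I.map (algebraMap R C)) ∧
      Function.Surjective θ ∧ RingHom.ker θ = I.map (algebraMap R C) ∧ IsVNR Cb ∧
      ProEtW.HasEtaleRetractions Cb ∧
      ∀ q : PrimeSpectrum R, I ≤ q.asIdeal → ∃ Q : PrimeSpectrum C,
        I.map (algebraMap R C) ≤ Q.asIdeal ∧ PrimeSpectrum.comap (algebraMap R C) Q = q := by
  obtain ⟨Cb, _, _, hffb, hieb, hret⟩ := Groth.Agent.S0693.result (R ⧸ I)
  obtain ⟨C', _, _, hie', ⟨e₁⟩⟩ := Groth.Agent.S0755.result R I Cb hieb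
  let K : Ideal C' := I.map (algebraMap R C')
  let C := PairHz.Hz C' K
  letI : Algebra R C := ((algebraMap C' C).comp (algebraMap R C')).toAlgebra
  haveI : IsScalarTower R C' C := IsScalarTower.of_algebraMap_eq (fun _ => rfl)
  have hPH : Hens2.IsPairHenselization C' K C := isPairHenselization_Hz
  obtain ⟨e₂⟩ := nonempty_algEquiv_quotient (A := R) (I := I) (R := C') (B := C) hPH
  have hmap : K.map (algebraMap C' C) = I.map (algebraMap R C) := by
    rw [Ideal.map_map, ← IsScalarTower.algebraMap_eq]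
  have hH : HenselianRing C (I.map (algebraMap R C)) :=
    hmap ▸ henselianRing_Hz (A := C') (I := K)
  let θ : C →+* Cb := (e₁.toRingEquiv.toRingHom).comp
    ((e₂.symm.toRingEquiv.toRingHom).comp (Ideal.Quotient.mk (I.map (algebraMap R C))))
  have hθ : Function.Surjective θ :=
    e₁.surjective.comp (e₂.symm.surjective.comp Ideal.Quotient.mk_surjective)
  have hker : RingHom.ker θ = I.map (algebraMap R C) := by
    ext x
    rw [RingHom.mem_ker]
    show e₁ (e₂.symm (Ideal.Quotient.mk _ x)) = 0 ↔ _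
    rw [map_eq_zero_iff e₁ e₁.injective, map_eq_zero_iff e₂.symm e₂.symm.injective,
      Ideal.Quotient.eq_zero_iff_mem]
  have hcompat : ∀ r : R, θ (algebraMap R C r) = algebraMap (R ⧸ I) Cb (Ideal.Quotient.mk I r) := by
    intro r
    show e₁ (e₂.symm (Ideal.Quotient.mk _ (algebraMap R C r))) = _
    have h1 : Ideal.Quotient.mk (I.map (algebraMap R C)) (algebraMap R C r) =
        algebraMap R (C ⧸ I.map (algebraMap R C)) r := rfl
    rw [h1, e₂.symm.commutes r,
      IsScalarTower.algebraMap_apply R (R ⧸ I) (C' ⧸ I.map (algebraMap R C')) r,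
      e₁.commutes]
    rfl
  haveI hWEb : Algebra.WeaklyEtale (R ⧸ I) Cb := Groth.Agent.S0736.result (R ⧸ I) Cb hieb
  have hVb : IsVNR Cb := hV.of_weaklyEtale Cb
  haveI hWE' : Algebra.WeaklyEtale R C' := Groth.Agent.S0736.result R C' hie'
  haveI : Module.Flat C' C := flat_Hz
  have hflat : Module.Flat R C := Module.Flat.trans R C' C
  have hie : EtPBC.IsIndEtale R C :=
    Groth.Agent.S0734.result R C' C hie' (isIndEtale_Hz C' K)
  refine ⟨C, inferInstance, inferInstance, Cb, inferInstance, θ, hflat, hie, hH, hθ, hker, hVb,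
    hret, ?_⟩
  intro q hq
  haveI := hffb
  haveI hqb : (q.asIdeal.map (Ideal.Quotient.mk I)).IsPrime :=
    Ideal.map_isPrime_of_surjective Ideal.Quotient.mk_surjective (by
      rw [Ideal.mk_ker]; exact hq)
  obtain ⟨P, hP⟩ := PrimeSpectrum.comap_surjective_of_faithfullyFlat (A := R ⧸ I) (B := Cb)
    ⟨q.asIdeal.map (Ideal.Quotient.mk I), hqb⟩
  refine ⟨PrimeSpectrum.comap θ P, ?_, ?_⟩
  · rw [← hker]
    intro x hx
    show θ x ∈ P.asIdeal
    rw [RingHom.mem_ker.mp hx]
    exact P.asIdeal.zero_mem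
  · apply PrimeSpectrum.ext
    ext r
    show θ (algebraMap R C r) ∈ P.asIdeal ↔ r ∈ q.asIdeal
    rw [hcompat]
    have h2 := congrArg PrimeSpectrum.asIdeal hP
    have h3 : algebraMap (R ⧸ I) Cb (Ideal.Quotient.mk I r) ∈ P.asIdeal ↔
        Ideal.Quotient.mk I r ∈ (PrimeSpectrum.comap (algebraMap (R ⧸ I) Cb) P).asIdeal := Iff.rfl
    rw [h3, h2]
    show Ideal.Quotient.mk I r ∈ q.asIdeal.map (Ideal.Quotient.mk I) ↔ _
    rw [Ideal.mem_map_iff_of_surjective _ Ideal.Quotient.mk_surjective]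
    constructor
    · rintro ⟨r', hr', hrr'⟩
      have : r' - r ∈ I := Ideal.Quotient.eq.mp hrr'
      have h4 : r = r' - (r' - r) := by ring
      rw [h4]
      exact q.asIdeal.sub_mem hr' (hq this)
    · intro hr
      exact ⟨r, hr, rfl⟩

/-- The `C`-part of the w-local ind-étale square. -/
theorem exists_C (A : Type u) [CommRing A] :
    ∃ (C : Type u) (_ : CommRing C) (_ : Algebra A C) (𝔍 : Ideal C),
      Module.Flat A C ∧ EtPBC.IsIndEtale A C ∧ 𝔍.IsRadical ∧
      ProEtW.IsWLocal (PrimeSpectrum C) ∧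
      PrimeSpectrum.zeroLocus (𝔍 : Set C) = ProEtW.closedPoints (PrimeSpectrum C) ∧
      (∀ p : PrimeSpectrum A, ∃ q ∈ ProEtW.closedPoints (PrimeSpectrum C),
        PrimeSpectrum.comap (algebraMap A C) q = p) ∧
      ∀ (m : Ideal C) [m.IsMaximal],
        EtCoh.IsStrictlyHenselianLocalRing (Localization.AtPrime m) := by
  obtain ⟨Aw, _, _, Iw, hfl, hie, hV, hsurj⟩ := exists_Aw A
  obtain ⟨C, _, _, Cb, _, θ, hfl', hie', hH, hθ, hker, hVb, hret, hsurj'⟩ :=
    exists_hens_cover Aw Iw hV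
  letI : Algebra A C := ((algebraMap Aw C).comp (algebraMap A Aw)).toAlgebra
  haveI : IsScalarTower A Aw C := IsScalarTower.of_algebraMap_eq (fun _ => rfl)
  haveI := hH
  have hcp := closedPoints_eq (Iw.map (algebraMap Aw C)) θ hθ hker hVb
  refine ⟨C, inferInstance, inferInstance, Iw.map (algebraMap Aw C), Module.Flat.trans A Aw C,
    Groth.Agent.S0734.result A Aw C hie hie', isRadical _ θ hθ hker hVb,
    isWLocal _ θ hθ hker hVb, hcp.symm, ?_, ?_⟩
  · intro p
    obtain ⟨q, hq, hqp⟩ := hsurj p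
    obtain ⟨Q, hQ, hQq⟩ := hsurj' q hq
    refine ⟨Q, ?_, ?_⟩
    · rw [hcp, PrimeSpectrum.mem_zeroLocus]; exact hQ
    · rw [← hqp, ← hQq]
      apply PrimeSpectrum.ext
      rfl
  · intro m hm
    exact isStrictlyHenselian_localization _ θ hθ hker hVb m
      (isSepClosed_quotient θ hθ hret m (hker.le.trans (le_of_isMaximal _ m)))

end Groth.Agent.Lib.R2LeadWLocSqC
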