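import Mathlib
import Groth.Agent.Lib.R2LeadWLocSqC
import Groth.Agent.Lib.R2LeadPrimeTensor
import Groth.Agent.S0737
import Groth.Agent.S0733

set_option autoImplicit false

open TensorProduct

universe u

namespace Groth.Agent.Lib.R2LeadWLocSqD

open Groth.Agent.Lib.R2LeadPairHzIndEt Groth.Agent.Lib.R2LeadWLocSqC

/-- field-valued points of `S` and `T` with the same kernel on `R` glue to a prime of `S ⊗[R] T` -/
theorem exists_prime_of_fields₂ {R S T K₁ K₂ : Type*} [CommRing R] [CommRing S] [CommRing T]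
    [Algebra R S] [Algebra R T] [Field K₁] [Field K₂] (φ₁ : S →+* K₁) (φ₂ : T →+* K₂)
    (p : Ideal R) [p.IsPrime]
    (hp₁ : ∀ r, φ₁ (algebraMap R S r) = 0 ↔ r ∈ p)
    (hp₂ : ∀ r, φ₂ (algebraMap R T r) = 0 ↔ r ∈ p) :
    ∃ 𝔓 : PrimeSpectrum (S ⊗[R] T),
      (∀ s, s ⊗ₜ[R] (1 : T) ∈ 𝔓.asIdeal ↔ φ₁ s = 0) ∧
      (∀ t, (1 : S) ⊗ₜ[R] t ∈ 𝔓.asIdeal ↔ φ₂ t = 0) := by
  let ψ₁ : R ⧸ p →+* K₁ :=
    Ideal.Quotient.lift p (φ₁.comp (algebraMap R S)) (fun r hr => (hp₁ r).mpr hr)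
  let ψ₂ : R ⧸ p →+* K₂ :=
    Ideal.Quotient.lift p (φ₂.comp (algebraMap R T)) (fun r hr => (hp₂ r).mpr hr)
  have hψ₁ : Function.Injective ψ₁ := by
    rw [injective_iff_map_eq_zero]
    intro x hx
    obtain ⟨r, rfl⟩ := Ideal.Quotient.mk_surjective x
    rw [Ideal.Quotient.eq_zero_iff_mem]
    exact (hp₁ r).mp hx
  have hψ₂ : Function.Injective ψ₂ := by
    rw [injective_iff_map_eq_zero]
    intro x hx
    obtain ⟨r, rfl⟩ := Ideal.Quotient.mk_surjective x
    rw [Ideal.Quotient.eq_zero_iff_mem]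
    exact (hp₂ r).mp hx
  letI : Algebra (R ⧸ p) K₁ := ψ₁.toAlgebra
  letI : Algebra (R ⧸ p) K₂ := ψ₂.toAlgebra
  haveI : FaithfulSMul (R ⧸ p) K₂ := (faithfulSMul_iff_algebraMap_injective _ _).mpr hψ₂
  letI := FractionRing.liftAlgebra (R ⧸ p) K₂
  haveI := FractionRing.isScalarTower_liftAlgebra (R ⧸ p) K₂
  haveI : Module.Flat (R ⧸ p) K₂ := Module.Flat.trans (R ⧸ p) (FractionRing (R ⧸ p)) K₂
  haveI : Nontrivial (K₁ ⊗[R ⧸ p] K₂) :=
    Algebra.TensorProduct.nontrivial_of_algebraMap_injective_of_flat_right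
      (R := R ⧸ p) (A := K₁) (B := K₂) hψ₁
  obtain ⟨𝔪, h𝔪⟩ := Ideal.exists_maximal (K₁ ⊗[R ⧸ p] K₂)
  let f : S →+* (K₁ ⊗[R ⧸ p] K₂) ⧸ 𝔪 :=
    ((Ideal.Quotient.mk 𝔪).comp Algebra.TensorProduct.includeLeftRingHom).comp φ₁
  let g : T →+* (K₁ ⊗[R ⧸ p] K₂) ⧸ 𝔪 :=
    ((Ideal.Quotient.mk 𝔪).comp
      (Algebra.TensorProduct.includeRight : K₂ →ₐ[R ⧸ p] _).toRingHom).comp φ₂
  have hfg : ∀ r, g (algebraMap R T r) = f (algebraMap R S r) := by
    intro r
    show Ideal.Quotient.mk 𝔪 ((1 : K₁) ⊗ₜ[R ⧸ p] φ₂ (algebraMap R T r)) =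
      Ideal.Quotient.mk 𝔪 (φ₁ (algebraMap R S r) ⊗ₜ[R ⧸ p] (1 : K₂))
    have e1 : φ₂ (algebraMap R T r) = (Ideal.Quotient.mk p r) • (1 : K₂) := by
      rw [Algebra.smul_def, mul_one]
      rfl
    have e2 : φ₁ (algebraMap R S r) = (Ideal.Quotient.mk p r) • (1 : K₁) := by
      rw [Algebra.smul_def, mul_one]
      rfl
    rw [e1, e2, TensorProduct.tmul_smul, TensorProduct.smul_tmul']
  letI : Algebra R ((K₁ ⊗[R ⧸ p] K₂) ⧸ 𝔪) := (f.comp (algebraMap R S)).toAlgebra
  let fA : S →ₐ[R] (K₁ ⊗[R ⧸ p] K₂) ⧸ 𝔪 := { f with commutes' := fun r => rfl }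
  let gA : T →ₐ[R] (K₁ ⊗[R ⧸ p] K₂) ⧸ 𝔪 := { g with commutes' := fun r => hfg r }
  let F := Algebra.TensorProduct.lift fA gA (fun _ _ => Commute.all _ _)
  letI := Ideal.Quotient.field 𝔪
  refine ⟨⟨RingHom.ker F, RingHom.ker_isPrime F⟩, ?_, ?_⟩
  · intro s
    show F (s ⊗ₜ[R] (1 : T)) = 0 ↔ _
    rw [Algebra.TensorProduct.lift_tmul, map_one, mul_one]
    show ((Ideal.Quotient.mk 𝔪).comp Algebra.TensorProduct.includeLeftRingHom) (φ₁ s) = 0 ↔ _
    rw [map_eq_zero_iff _ (RingHom.injective _)]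
  · intro t
    show F ((1 : S) ⊗ₜ[R] t) = 0 ↔ _
    rw [Algebra.TensorProduct.lift_tmul, map_one, one_mul]
    show ((Ideal.Quotient.mk 𝔪).comp
      (Algebra.TensorProduct.includeRight : K₂ →ₐ[R ⧸ p] _).toRingHom) (φ₂ t) = 0 ↔ _
    rw [map_eq_zero_iff _ (RingHom.injective _)]


/-- primes `P` of `S` and `Q` of `T` over the same prime of `R` come from a prime of `S ⊗[R] T` -/
theorem exists_prime_tensor₂ {R S T : Type*} [CommRing R] [CommRing S] [CommRing T]
    [Algebra R S] [Algebra R T] (P : PrimeSpectrum S) (Q : PrimeSpectrum T)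
    (h : PrimeSpectrum.comap (algebraMap R S) P = PrimeSpectrum.comap (algebraMap R T) Q) :
    ∃ 𝔓 : PrimeSpectrum (S ⊗[R] T),
      PrimeSpectrum.comap (Algebra.TensorProduct.includeLeftRingHom) 𝔓 = P ∧
      PrimeSpectrum.comap (Algebra.TensorProduct.includeRight : T →ₐ[R] S ⊗[R] T).toRingHom 𝔓
        = Q := by
  have hφ₁ : ∀ s, (algebraMap S P.asIdeal.ResidueField) s = 0 ↔ s ∈ P.asIdeal := fun s =>
    Ideal.algebraMap_residueField_eq_zero
  have hφ₂ : ∀ s, (algebraMap T Q.asIdeal.ResidueField) s = 0 ↔ s ∈ Q.asIdeal := fun s =>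
    Ideal.algebraMap_residueField_eq_zero
  obtain ⟨𝔓, h𝔓₁, h𝔓₂⟩ := exists_prime_of_fields₂ (R := R) (algebraMap S P.asIdeal.ResidueField)
    (algebraMap T Q.asIdeal.ResidueField) (PrimeSpectrum.comap (algebraMap R S) P).asIdeal
    (fun r => hφ₁ _)
    (fun r => by
      rw [hφ₂, h]
      rfl)
  refine ⟨𝔓, ?_, ?_⟩
  · ext s
    show s ⊗ₜ[R] (1 : T) ∈ 𝔓.asIdeal ↔ _
    rw [h𝔓₁, hφ₁]
  · ext t
    show (1 : S) ⊗ₜ[R] t ∈ 𝔓.asIdeal ↔ _
    rw [h𝔓₂, hφ₂]

attribute [local instance] Algebra.TensorProduct.rightAlgebra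

/-- algebraic residue field extensions are stable under base change -/
theorem algebraicResidueExtensions_tensor (A B C : Type u) [CommRing A] [CommRing B]
    [CommRing C] [Algebra A B] [Algebra A C] (h : ProEtW.AlgebraicResidueExtensions A B) :
    ProEtW.AlgebraicResidueExtensions C (B ⊗[A] C) := by
  intro Q hQ
  let T := B ⊗[A] C
  let P : Ideal C := Q.comap (algebraMap C T)
  let q : Ideal B := Q.comap (algebraMap B T)
  let p : Ideal A := q.comap (algebraMap A B)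
  haveI : q.IsPrime := Ideal.comap_isPrime _ _
  haveI : P.IsPrime := Ideal.comap_isPrime _ _
  have hcomp : (algebraMap B T).comp (algebraMap A B) = (algebraMap C T).comp (algebraMap A C) := by
    ext a
    show (algebraMap A B a) ⊗ₜ[A] (1 : C) = (1 : B) ⊗ₜ[A] (algebraMap A C a)
    rw [Algebra.algebraMap_eq_smul_one, Algebra.algebraMap_eq_smul_one, TensorProduct.smul_tmul]
  have hpP : p = P.comap (algebraMap A C) := by
    show (Q.comap (algebraMap B T)).comap (algebraMap A B) =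
      (Q.comap (algebraMap C T)).comap (algebraMap A C)
    rw [Ideal.comap_comap, Ideal.comap_comap, hcomp]
  let φ : A ⧸ p →+* C ⧸ P := Ideal.quotientMap P (algebraMap A C) hpP.le
  have hφ : Function.Injective φ := Ideal.quotientMap_injective' hpP.ge
  let ψ : B ⧸ q →+* T ⧸ Q := algebraMap (B ⧸ q) (T ⧸ Q)
  have hcompat : ψ.comp (algebraMap (A ⧸ p) (B ⧸ q)) = (algebraMap (C ⧸ P) (T ⧸ Q)).comp φ := by
    apply Ideal.Quotient.ringHom_ext
    ext a
    show Ideal.Quotient.mk Q (algebraMap B T (algebraMap A B a)) =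
      Ideal.Quotient.mk Q (algebraMap C T (algebraMap A C a))
    have := congrArg (fun f => f a) hcomp
    simp only [RingHom.comp_apply] at this
    rw [this]
  have hB := h q
  refine ⟨fun x => ?_⟩
  obtain ⟨t, rfl⟩ := Ideal.Quotient.mk_surjective x
  let S := Subalgebra.algebraicClosure (C ⧸ P) (T ⧸ Q)
  show Ideal.Quotient.mk Q t ∈ S
  induction t using TensorProduct.induction_on with
  | zero => rw [map_zero]; exact S.zero_mem
  | add x y hx hy => rw [map_add]; exact S.add_mem hx hy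
  | tmul b c =>
    have h1 : b ⊗ₜ[A] c = (b ⊗ₜ[A] (1 : C)) * ((1 : B) ⊗ₜ[A] c) := by
      rw [Algebra.TensorProduct.tmul_mul_tmul, mul_one, one_mul]
    rw [h1, map_mul]
    refine S.mul_mem ?_ ?_
    · obtain ⟨f, hf0, hf⟩ := hB.isAlgebraic (Ideal.Quotient.mk q b)
      refine ⟨f.map φ, ?_, ?_⟩
      · exact (Polynomial.map_ne_zero_iff hφ).mpr hf0
      · rw [Polynomial.aeval_def, Polynomial.eval₂_map, ← hcompat]
        have h2 : Ideal.Quotient.mk Q (b ⊗ₜ[A] (1 : C)) = ψ (Ideal.Quotient.mk q b) := rfl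
        rw [h2, ← Polynomial.hom_eval₂, ← Polynomial.aeval_def, hf, map_zero]
    · have h2 : Ideal.Quotient.mk Q ((1 : B) ⊗ₜ[A] c) =
          algebraMap (C ⧸ P) (T ⧸ Q) (Ideal.Quotient.mk P c) := rfl
      rw [h2]
      exact S.algebraMap_mem _

/-- a prime of the target of a ring map inducing a bijection on quotients -/
theorem exists_prime_over_of_bijective {R S : Type u} [CommRing R] [CommRing S] [Algebra R S]
    (J : Ideal R)
    (hbij : Function.Bijective (Ideal.quotientMap (J.map (algebraMap R S)) (algebraMap R S)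
      Ideal.le_comap_map))
    (P : PrimeSpectrum R) (hJP : J ≤ P.asIdeal) :
    ∃ Q : PrimeSpectrum S, PrimeSpectrum.comap (algebraMap R S) Q = P := by
  let e := RingEquiv.ofBijective _ hbij
  let χ : S →+* R ⧸ P.asIdeal :=
    (Ideal.Quotient.factor hJP).comp
      (e.symm.toRingHom.comp (Ideal.Quotient.mk (J.map (algebraMap R S))))
  have hχ : ∀ x : R, χ (algebraMap R S x) = Ideal.Quotient.mk P.asIdeal x := by
    intro x
    show Ideal.Quotient.factor hJP (e.symm (Ideal.Quotient.mk _ (algebraMap R S x))) = _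
    have h1 : Ideal.Quotient.mk (J.map (algebraMap R S)) (algebraMap R S x) =
        e (Ideal.Quotient.mk J x) := by
      show _ = Ideal.quotientMap (J.map (algebraMap R S)) (algebraMap R S)
        Ideal.le_comap_map (Ideal.Quotient.mk J x)
      rw [Ideal.quotientMap_mk]
    rw [h1, RingEquiv.symm_apply_apply, Ideal.Quotient.factor_mk]
  refine ⟨⟨RingHom.ker χ, RingHom.ker_isPrime χ⟩, ?_⟩
  apply PrimeSpectrum.ext
  ext x
  show χ (algebraMap R S x) = 0 ↔ _
  rw [hχ, Ideal.Quotient.eq_zero_iff_mem]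

theorem main (A B : Type u) [CommRing A] [CommRing B] [Algebra A B]
    (h : ProEtW.AlgebraicResidueExtensions A B) :
    ∃ (C D : Type u) (_ : CommRing C) (_ : CommRing D) (_ : Algebra A C) (_ : Algebra B D)
      (_ : Algebra C D) (_ : Algebra A D) (_ : IsScalarTower A C D) (_ : IsScalarTower A B D),
      Module.FaithfullyFlat A C ∧ EtPBC.IsIndEtale A C ∧ Module.FaithfullyFlat B D ∧
      EtPBC.IsIndEtale B D ∧ ProEtW.IsWLocal (PrimeSpectrum C) ∧
      ProEtW.IsWLocal (PrimeSpectrum D) ∧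
      ProEtW.IsWLocalMap (PrimeSpectrum.comap (algebraMap C D)) ∧
      ProEtW.closedPoints (PrimeSpectrum D) =
        PrimeSpectrum.comap (algebraMap C D) ⁻¹' ProEtW.closedPoints (PrimeSpectrum C) ∧
      PrimeSpectrum.comap (algebraMap A C) '' ProEtW.closedPoints (PrimeSpectrum C) = Set.univ ∧
      PrimeSpectrum.comap (algebraMap B D) '' ProEtW.closedPoints (PrimeSpectrum D) = Set.univ ∧
      ∀ (m : Ideal C) [m.IsMaximal],
        EtCoh.IsStrictlyHenselianLocalRing (Localization.AtPrime m) := by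
  obtain ⟨C, _, _, 𝔍, hflC, hieC, hrad, hWC, hzero, hsurjC, hSH⟩ := exists_C A
  have hARE : ProEtW.AlgebraicResidueExtensions C (B ⊗[A] C) :=
    algebraicResidueExtensions_tensor A B C h
  obtain ⟨-, D, _, _, _, _, hZ, hbij, hWD, hWmap, hcpD⟩ :=
    Groth.Agent.S0737.result C (B ⊗[A] C) hWC 𝔍 hrad hzero hARE
  letI : Algebra B D := ((algebraMap (B ⊗[A] C) D).comp (algebraMap B (B ⊗[A] C))).toAlgebra
  haveI : IsScalarTower B (B ⊗[A] C) D := IsScalarTower.of_algebraMap_eq (fun _ => rfl)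
  letI : Algebra A D := ((algebraMap C D).comp (algebraMap A C)).toAlgebra
  haveI : IsScalarTower A C D := IsScalarTower.of_algebraMap_eq (fun _ => rfl)
  have hcomp : ∀ a : A, algebraMap C (B ⊗[A] C) (algebraMap A C a) =
      algebraMap B (B ⊗[A] C) (algebraMap A B a) := by
    intro a
    show (1 : B) ⊗ₜ[A] (algebraMap A C a) = (algebraMap A B a) ⊗ₜ[A] (1 : C)
    rw [Algebra.algebraMap_eq_smul_one, Algebra.algebraMap_eq_smul_one, TensorProduct.smul_tmul]
  haveI : IsScalarTower A B D := IsScalarTower.of_algebraMap_eq (fun a => by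
    show algebraMap C D (algebraMap A C a) =
      algebraMap (B ⊗[A] C) D (algebraMap B (B ⊗[A] C) (algebraMap A B a))
    rw [IsScalarTower.algebraMap_apply C (B ⊗[A] C) D, hcomp])
  -- ind-étaleness
  have hie1 : EtPBC.IsIndEtale B (B ⊗[A] C) := Groth.Agent.S0733.result A C B hieC
  have hie2 : EtPBC.IsIndEtale (B ⊗[A] C) D := isIndEtale_of_isIndZariski _ _ hZ
  have hieD : EtPBC.IsIndEtale B D := Groth.Agent.S0734.result B (B ⊗[A] C) D hie1 hie2
  -- flatness
  haveI := hflC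
  haveI : Algebra.WeaklyEtale (B ⊗[A] C) D := Groth.Agent.S0736.result _ _ hie2
  haveI hflD : Module.Flat B D := Module.Flat.trans B (B ⊗[A] C) D
  -- surjectivity on closed points
  have hsurjD : ∀ q : PrimeSpectrum B, ∃ Q ∈ ProEtW.closedPoints (PrimeSpectrum D),
      PrimeSpectrum.comap (algebraMap B D) Q = q := by
    intro q
    obtain ⟨m, hm, hmq⟩ := hsurjC (PrimeSpectrum.comap (algebraMap A B) q)
    obtain ⟨𝔓, h𝔓₁, h𝔓₂⟩ := exists_prime_tensor₂ (R := A) q m hmq.symm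
    have hJm : 𝔍 ≤ m.asIdeal := by
      rw [← hzero, PrimeSpectrum.mem_zeroLocus] at hm
      exact hm
    have hJ𝔓 : 𝔍.map (algebraMap C (B ⊗[A] C)) ≤ 𝔓.asIdeal := by
      rw [Ideal.map_le_iff_le_comap]
      intro x hx
      have : x ∈ (PrimeSpectrum.comap
        (Algebra.TensorProduct.includeRight : C →ₐ[A] B ⊗[A] C).toRingHom 𝔓).asIdeal := by
        rw [h𝔓₂]; exact hJm hx
      exact this
    obtain ⟨Q, hQ⟩ := exists_prime_over_of_bijective _ hbij 𝔓 hJ𝔓
    refine ⟨Q, ?_, ?_⟩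
    · rw [hcpD]
      show PrimeSpectrum.comap (algebraMap C D) Q ∈ ProEtW.closedPoints (PrimeSpectrum C)
      have : PrimeSpectrum.comap (algebraMap C D) Q = m := by
        rw [← h𝔓₂, ← hQ]
        apply PrimeSpectrum.ext
        ext x
        show algebraMap C D x ∈ Q.asIdeal ↔ algebraMap (B ⊗[A] C) D
          ((Algebra.TensorProduct.includeRight : C →ₐ[A] B ⊗[A] C) x) ∈ Q.asIdeal
        rw [IsScalarTower.algebraMap_apply C (B ⊗[A] C) D]
        rfl
      rw [this]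
      exact hm
    · rw [← h𝔓₁, ← hQ]
      apply PrimeSpectrum.ext
      rfl
  refine ⟨C, D, inferInstance, inferInstance, inferInstance, inferInstance, inferInstance,
    inferInstance, inferInstance, inferInstance, ?_, hieC, ?_, hieD, hWC, hWD, hWmap, hcpD,
    ?_, ?_, hSH⟩
  · apply Module.FaithfullyFlat.of_comap_surjective
    intro p
    obtain ⟨q, -, hq⟩ := hsurjC p
    exact ⟨q, hq⟩
  · apply Module.FaithfullyFlat.of_comap_surjective
    intro p
    obtain ⟨q, -, hq⟩ := hsurjD p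
    exact ⟨q, hq⟩
  · apply Set.eq_univ_of_forall
    intro p
    obtain ⟨q, hq1, hq⟩ := hsurjC p
    exact ⟨q, hq1, hq⟩
  · apply Set.eq_univ_of_forall
    intro p
    obtain ⟨q, hq1, hq⟩ := hsurjD p
    exact ⟨q, hq1, hq⟩

end Groth.Agent.Lib.R2LeadWLocSqD
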