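import Mathlib
import Groth.Agent.Lib.Helper14WEField
import Groth.Agent.Lib.R2LeadWLocSqD
import Groth.Agent.S0427
import Groth.Agent.S7127
import Groth.Agent.S0700

set_option autoImplicit false

open TensorProduct Polynomial

universe u

namespace Groth.Agent.Lib.R2LeadWECover

section alg

/-- a criterion for `B ⧸ q` to be algebraic over `A ⧸ p` through the fibre ring -/
theorem isAlgebraic_quotient_of_tensor {A B : Type u} [CommRing A] [CommRing B] [Algebra A B]
    (q : Ideal B) [q.IsPrime] (K : Type u) [Field K] [Algebra A K]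
    [Algebra (A ⧸ q.comap (algebraMap A B)) K]
    [IsScalarTower A (A ⧸ q.comap (algebraMap A B)) K]
    [IsFractionRing (A ⧸ q.comap (algebraMap A B)) K]
    (L : Type u) [Field L] (γ : B ⧸ q →+* L) (hγ : Function.Injective γ)
    (H : ∀ b : B, ∃ f : K[X], f ≠ 0 ∧ aeval ((1 : K) ⊗ₜ[A] b) f = 0) :
    Algebra.IsAlgebraic (A ⧸ q.comap (algebraMap A B)) (B ⧸ q) := by
  let ι : A ⧸ q.comap (algebraMap A B) →+* B ⧸ q := algebraMap _ _
  have hι : Function.Injective ι := Ideal.algebraMap_quotient_injective
  let σ : K →+* L := IsFractionRing.lift (g := γ.comp ι) (hγ.comp hι)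
  have hσ : ∀ x, σ (algebraMap (A ⧸ q.comap (algebraMap A B)) K x) = γ (ι x) :=
    fun x => IsFractionRing.lift_algebraMap _ x
  letI : Algebra A L := ((γ.comp (Ideal.Quotient.mk q)).comp (algebraMap A B)).toAlgebra
  have hσA : ∀ a : A, σ (algebraMap A K a) = algebraMap A L a := by
    intro a
    show σ (algebraMap A K a) = γ (Ideal.Quotient.mk q (algebraMap A B a))
    rw [IsScalarTower.algebraMap_apply A (A ⧸ q.comap (algebraMap A B)) K, hσ]
    rfl
  let σA : K →ₐ[A] L := { σ with commutes' := hσA }
  let βA : B →ₐ[A] L := { γ.comp (Ideal.Quotient.mk q) with commutes' := fun a => rfl }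
  let ψ : K ⊗[A] B →ₐ[A] L := Algebra.TensorProduct.lift σA βA (fun _ _ => Commute.all _ _)
  have hψK : (ψ : K ⊗[A] B →+* L).comp (algebraMap K (K ⊗[A] B)) = σ := by
    ext k
    show ψ (k ⊗ₜ[A] (1 : B)) = σ k
    rw [Algebra.TensorProduct.lift_tmul, map_one, mul_one]
    rfl
  refine ⟨fun x => ?_⟩
  obtain ⟨b, rfl⟩ := Ideal.Quotient.mk_surjective x
  obtain ⟨f, hf0, hf⟩ := H b
  have h1 : f.eval₂ σ (γ (Ideal.Quotient.mk q b)) = 0 := by
    have h := congrArg (ψ : K ⊗[A] B →+* L) hf
    rw [map_zero, aeval_def, hom_eval₂, hψK] at h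
    have h2 : (ψ : K ⊗[A] B →+* L) ((1 : K) ⊗ₜ[A] b) = γ (Ideal.Quotient.mk q b) := by
      show ψ ((1 : K) ⊗ₜ[A] b) = _
      rw [Algebra.TensorProduct.lift_tmul, map_one, one_mul]
      rfl
    rwa [h2] at h
  let F := IsLocalization.integerNormalization (nonZeroDivisors (A ⧸ q.comap (algebraMap A B))) f
  have hF0 : F ≠ 0 := fun h0 => hf0 (IsFractionRing.integerNormalization_eq_zero_iff.mp h0)
  have h2 : F.eval₂ (σ.comp (algebraMap (A ⧸ q.comap (algebraMap A B)) K))
      (γ (Ideal.Quotient.mk q b)) = 0 :=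
    IsLocalization.integerNormalization_eval₂_eq_zero _ σ f h1
  have h3 : σ.comp (algebraMap (A ⧸ q.comap (algebraMap A B)) K) = γ.comp ι := RingHom.ext hσ
  rw [h3, ← hom_eval₂] at h2
  refine ⟨F, hF0, hγ ?_⟩
  rw [map_zero, aeval_def]
  exact h2

theorem algebraicResidueExtensions_of_weaklyEtale (A B : Type u) [CommRing A] [CommRing B]
    [Algebra A B] [Algebra.WeaklyEtale A B] : ProEtW.AlgebraicResidueExtensions A B := by
  intro q hq
  haveI : (q.comap (algebraMap A B)).IsPrime := Ideal.comap_isPrime _ _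
  refine isAlgebraic_quotient_of_tensor q (q.comap (algebraMap A B)).ResidueField
    q.ResidueField (algebraMap (B ⧸ q) q.ResidueField)
    (Ideal.injective_algebraMap_quotient_residueField q) ?_
  intro b
  obtain ⟨f, hf, hfb⟩ := Groth.Agent.Lib.Helper14.WEField.exists_separable_aeval_eq_zero
    (q.comap (algebraMap A B)).ResidueField
    ((q.comap (algebraMap A B)).ResidueField ⊗[A] B) ((1 : _) ⊗ₜ[A] b)
  exact ⟨f, hf.ne_zero, hfb⟩

end alg

section gen

variable {R S : Type u} [CommRing R] [CommRing S] [Algebra R S]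

/-- if `R_m → S_n` is bijective, so is `R_p → S_q` for every prime `q ≤ n` -/
theorem bijective_localRingHom_of_le (n q : Ideal S) [hnp : n.IsPrime] [hqp : q.IsPrime]
    (hqn : q ≤ n)
    (hn : Function.Bijective
      (Localization.localRingHom (n.comap (algebraMap R S)) n (algebraMap R S) rfl)) :
    Function.Bijective
      (Localization.localRingHom (q.comap (algebraMap R S)) q (algebraMap R S) rfl) := by
  have hS : ∀ y : S, ∃ a b : R, ∃ u : S, b ∉ n.comap (algebraMap R S) ∧ u ∉ n ∧
      u * (y * algebraMap R S b - algebraMap R S a) = 0 := by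
    intro y
    obtain ⟨z, hz⟩ := hn.2 (algebraMap S (Localization.AtPrime n) y)
    obtain ⟨a, b, rfl⟩ := IsLocalization.exists_mk'_eq (n.comap (algebraMap R S)).primeCompl z
    rw [Localization.localRingHom_mk', IsLocalization.mk'_eq_iff_eq_mul, ← map_mul,
      IsLocalization.eq_iff_exists n.primeCompl] at hz
    obtain ⟨u, hu⟩ := hz
    exact ⟨a, b, u, b.2, u.2, by rw [mul_sub, sub_eq_zero]; exact hu.symm⟩
  have hI : ∀ x : R, (∃ u : S, u ∉ n ∧ u * algebraMap R S x = 0) →
      ∃ c : R, c ∉ n.comap (algebraMap R S) ∧ c * x = 0 := by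
    rintro x ⟨u, hu, hux⟩
    have h1 : Localization.localRingHom (n.comap (algebraMap R S)) n (algebraMap R S) rfl
        (algebraMap R _ x) = 0 := by
      rw [Localization.localRingHom_to_map, IsLocalization.map_eq_zero_iff n.primeCompl]
      exact ⟨⟨u, hu⟩, hux⟩
    have h0 := hn.1 (h1.trans (map_zero _).symm)
    obtain ⟨c, hc⟩ := (IsLocalization.map_eq_zero_iff
      (n.comap (algebraMap R S)).primeCompl _ _).mp h0
    exact ⟨c, c.2, hc⟩
  have hK : ∀ t : S, t ∉ q → ∃ a b : R, ∃ u : S, a ∉ q.comap (algebraMap R S) ∧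
      b ∉ n.comap (algebraMap R S) ∧ u ∉ n ∧
      u * (t * algebraMap R S b - algebraMap R S a) = 0 := by
    intro t ht
    obtain ⟨a, b, u, hb, hu, h⟩ := hS t
    refine ⟨a, b, u, ?_, hb, hu, h⟩
    intro ha
    have h1 : u * (t * algebraMap R S b) ∈ q := by
      have h2 : u * (t * algebraMap R S b) = u * algebraMap R S a := by
        rw [mul_sub, sub_eq_zero] at h; exact h
      rw [h2]
      exact q.mul_mem_left _ ha
    rcases hqp.mem_or_mem h1 with h2 | h2
    · exact hu (hqn h2)
    · rcases hqp.mem_or_mem h2 with h3 | h3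
      · exact ht h3
      · exact hb (hqn h3)
  constructor
  · rw [injective_iff_map_eq_zero]
    intro z hz
    obtain ⟨x, s, rfl⟩ := IsLocalization.exists_mk'_eq (q.comap (algebraMap R S)).primeCompl z
    rw [Localization.localRingHom_mk', IsLocalization.mk'_eq_zero_iff] at hz
    obtain ⟨t, ht⟩ := hz
    obtain ⟨a, b, u, ha, hb, hu, h⟩ := hK t t.2
    have h1 : u * algebraMap R S (a * x) = 0 := by
      rw [map_mul]
      have h2 : u * algebraMap R S a = u * (t * algebraMap R S b) := by
        rw [mul_sub, sub_eq_zero] at h; exact h.symm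
      calc u * (algebraMap R S a * algebraMap R S x)
          = (u * algebraMap R S a) * algebraMap R S x := by ring
        _ = u * (t * algebraMap R S b) * algebraMap R S x := by rw [h2]
        _ = u * algebraMap R S b * (t * algebraMap R S x) := by ring
        _ = 0 := by rw [ht, mul_zero]
    obtain ⟨c, hc, hcx⟩ := hI (a * x) ⟨u, hu, h1⟩
    rw [IsLocalization.mk'_eq_zero_iff]
    refine ⟨⟨c * a, ?_⟩, ?_⟩
    · intro hca
      haveI : (q.comap (algebraMap R S)).IsPrime := Ideal.comap_isPrime _ _
      rcases Ideal.IsPrime.mem_or_mem inferInstance hca with h3 | h3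
      · exact hc (Ideal.comap_mono hqn h3)
      · exact ha h3
    · show c * a * x = 0
      rw [mul_assoc]; exact hcx
  · intro z
    obtain ⟨y, t, rfl⟩ := IsLocalization.exists_mk'_eq q.primeCompl z
    obtain ⟨a', b', u', hb', hu', h'⟩ := hS y
    obtain ⟨a, b, u, ha, hb, hu, h⟩ := hK t t.2
    have hden : b' * a ∈ (q.comap (algebraMap R S)).primeCompl := by
      intro hba
      haveI : (q.comap (algebraMap R S)).IsPrime := Ideal.comap_isPrime _ _
      rcases Ideal.IsPrime.mem_or_mem inferInstance hba with h3 | h3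
      · exact hb' (Ideal.comap_mono hqn h3)
      · exact ha h3
    refine ⟨IsLocalization.mk' _ (a' * b) ⟨b' * a, hden⟩, ?_⟩
    rw [Localization.localRingHom_mk', IsLocalization.mk'_eq_iff_eq,
      IsLocalization.eq_iff_exists q.primeCompl]
    refine ⟨⟨u * u', ?_⟩, ?_⟩
    · intro huu
      rcases hqp.mem_or_mem huu with h3 | h3
      · exact hu (hqn h3)
      · exact hu' (hqn h3)
    · show u * u' * (t * algebraMap R S (a' * b)) = u * u' * (algebraMap R S (b' * a) * y)
      rw [map_mul, map_mul]
      linear_combination (u' * algebraMap R S a') * h - (u * algebraMap R S a) * h'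

end gen

section main

open Groth.Agent.Lib.Helper14.WEField

theorem identifiesLocalRings_of_strictlyHenselian (C D : Type u) [CommRing C] [CommRing D]
    [Algebra C D] [Algebra.WeaklyEtale C D]
    (hmax : ∀ (n : Ideal D) [n.IsMaximal], (n.comap (algebraMap C D)).IsMaximal)
    (hSH : ∀ (m : Ideal C) [m.IsMaximal],
      EtCoh.IsStrictlyHenselianLocalRing (Localization.AtPrime m)) :
    EtPBC.IdentifiesLocalRings C D := by
  intro q
  obtain ⟨n, hn, hqn⟩ := Ideal.exists_le_maximal q.asIdeal q.2.ne_top
  haveI := hn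
  haveI := hn.isPrime
  apply bijective_localRingHom_of_le n q.asIdeal hqn
  haveI hm : (n.comap (algebraMap C D)).IsMaximal := hmax n
  obtain ⟨hH, hS⟩ := hSH (n.comap (algebraMap C D))
  haveI := hH
  haveI := hS
  letI : Algebra (Localization.AtPrime (n.comap (algebraMap C D))) (Localization.AtPrime n) :=
    (Localization.localRingHom (n.comap (algebraMap C D)) n (algebraMap C D) rfl).toAlgebra
  haveI : IsLocalHom (algebraMap (Localization.AtPrime (n.comap (algebraMap C D)))
      (Localization.AtPrime n)) :=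
    Localization.isLocalHom_localRingHom _ _ _ rfl
  haveI : IsScalarTower C (Localization.AtPrime (n.comap (algebraMap C D)))
      (Localization.AtPrime n) :=
    IsScalarTower.of_algebraMap_eq (fun x => by
      rw [IsScalarTower.algebraMap_apply C D (Localization.AtPrime n)]
      exact (Localization.localRingHom_to_map (n.comap (algebraMap C D)) n _ rfl x).symm)
  haveI : Algebra.WeaklyEtale D (Localization.AtPrime n) :=
    weaklyEtale_of_isLocalization n.primeCompl _
  haveI : Algebra.WeaklyEtale C (Localization.AtPrime n) := Algebra.WeaklyEtale.trans C D _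
  haveI : Algebra.WeaklyEtale C (Localization.AtPrime (n.comap (algebraMap C D))) :=
    weaklyEtale_of_isLocalization (n.comap (algebraMap C D)).primeCompl _
  haveI : Algebra.WeaklyEtale (Localization.AtPrime (n.comap (algebraMap C D)))
      (Localization.AtPrime n) := Groth.Agent.S7127.result C _ _
  exact Groth.Agent.S0427.result (A := Localization.AtPrime (n.comap (algebraMap C D)))
    (B := Localization.AtPrime n)

theorem main (A B : Type u) [CommRing A] [CommRing B] [Algebra A B] [Algebra.WeaklyEtale A B] :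
    ∃ (B' : Type u) (_ : CommRing B') (_ : Algebra B B') (_ : Algebra A B')
      (_ : IsScalarTower A B B'),
      Module.FaithfullyFlat B B' ∧ EtPBC.IsIndEtale B B' ∧ EtPBC.IsIndEtale A B' := by
  obtain ⟨C, D, _, _, _, _, _, _, _, _, hffC, hieC, hffD, hieD, hWC, hWD, hWmap, hcp, -, -, hSH⟩ :=
    Groth.Agent.Lib.R2LeadWLocSqD.main A B (algebraicResidueExtensions_of_weaklyEtale A B)
  haveI : Algebra.WeaklyEtale A C := Groth.Agent.S0736.result A C hieC
  haveI : Algebra.WeaklyEtale B D := Groth.Agent.S0736.result B D hieD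
  haveI : Algebra.WeaklyEtale A D := Algebra.WeaklyEtale.trans A B D
  haveI : Algebra.WeaklyEtale C D := Groth.Agent.S7127.result A C D
  have hmax : ∀ (n : Ideal D) [n.IsMaximal], (n.comap (algebraMap C D)).IsMaximal := by
    intro n hn
    have h1 := hWmap.2 ⟨n, hn.isPrime⟩ ((PrimeSpectrum.isClosed_singleton_iff_isMaximal _).mpr hn)
    exact (PrimeSpectrum.isClosed_singleton_iff_isMaximal _).mp h1
  have hId := identifiesLocalRings_of_strictlyHenselian C D hmax hSH
  have hZ := Groth.Agent.S0700.result C D hId hWC hWD hWmap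
  exact ⟨D, inferInstance, inferInstance, inferInstance, inferInstance, hffD, hieD,
    Groth.Agent.S0734.result A C D hieC
      (Groth.Agent.Lib.R2LeadPairHzIndEt.isIndEtale_of_isIndZariski C D hZ)⟩

end main

end Groth.Agent.Lib.R2LeadWECover
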