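import Mathlib
import Groth.Agent.Lib.R2LeadWECover
import Groth.Agent.S0678
import Groth.Agent.S0675
import Groth.Agent.S0737

set_option autoImplicit false

open TensorProduct

universe u

namespace Groth.Agent.Lib.R2LeadWContr

open Groth.Agent.Lib.R2LeadWECover Groth.Agent.Lib.R2LeadPairHzIndEt Groth.Agent.Lib.R2LeadWLocSqD

/-- flat + every maximal ideal is the contraction of a prime ⇒ faithfully flat -/
theorem faithfullyFlat_of_maximal {A D : Type u} [CommRing A] [CommRing D] [Algebra A D]
    [Module.Flat A D]
    (h : ∀ (m : Ideal A) [m.IsMaximal], ∃ Q : PrimeSpectrum D,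
      Q.asIdeal.comap (algebraMap A D) = m) : Module.FaithfullyFlat A D := by
  refine ⟨?_⟩
  intro m hm htop
  obtain ⟨Q, hQ⟩ := h m
  rw [Ideal.smul_top_eq_map] at htop
  have h1 : m.map (algebraMap A D) = ⊤ := by
    apply Submodule.restrictScalars_injective A D D
    rw [htop]
    rfl
  have h2 : m.map (algebraMap A D) ≤ Q.asIdeal := by
    rw [Ideal.map_le_iff_le_comap, hQ]
  rw [h1, top_le_iff] at h2
  exact Q.2.ne_top h2

theorem main (A : Type u) [CommRing A] :
    EtPBC.IsWContractible A ↔
      (ProEtW.IsWLocal (PrimeSpectrum A) ∧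
        ExtremallyDisconnected (_root_.ConnectedComponents (PrimeSpectrum A)) ∧
        ∀ (m : Ideal A) [m.IsMaximal],
          EtCoh.IsStrictlyHenselianLocalRing (Localization.AtPrime m)) := by
  constructor
  · intro h
    have hZ : ProEtW.HasIndZariskiRetractions A := fun B _ _ hff hiz =>
      h B hff (Groth.Agent.S0736.result A B (isIndEtale_of_isIndZariski A B hiz))
    have h1 := (Groth.Agent.S0678.result A).mp hZ
    refine ⟨h1.1, h1.2, ?_⟩
    intro m hm
    exact Groth.Agent.S0675.result A (fun B _ _ hff het => by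
      haveI := het
      exact h B hff inferInstance) m
  · rintro ⟨hW, hE, hSH⟩ B _ _ hff hwe
    haveI := hff
    haveI := hwe
    have hZ : ProEtW.HasIndZariskiRetractions A := (Groth.Agent.S0678.result A).mpr ⟨hW, hE⟩
    let I : Ideal A := PrimeSpectrum.vanishingIdeal (ProEtW.closedPoints (PrimeSpectrum A))
    have hrad : I.IsRadical := PrimeSpectrum.isRadical_vanishingIdeal _
    have hzero : PrimeSpectrum.zeroLocus (I : Set A) = ProEtW.closedPoints (PrimeSpectrum A) := by
      rw [PrimeSpectrum.zeroLocus_vanishingIdeal_eq_closure]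
      exact IsClosed.closure_eq hW.2.1
    obtain ⟨-, D, _, _, _, _, hiz, hbij, hWD, hWmap, hcpD⟩ :=
      Groth.Agent.S0737.result A B hW I hrad hzero (algebraicResidueExtensions_of_weaklyEtale A B)
    haveI : Algebra.WeaklyEtale B D :=
      Groth.Agent.S0736.result B D (isIndEtale_of_isIndZariski B D hiz)
    haveI : Algebra.WeaklyEtale A D := Algebra.WeaklyEtale.trans A B D
    have hmax : ∀ (n : Ideal D) [n.IsMaximal], (n.comap (algebraMap A D)).IsMaximal := by
      intro n hn
      have h1 := hWmap.2 ⟨n, hn.isPrime⟩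
        ((PrimeSpectrum.isClosed_singleton_iff_isMaximal _).mpr hn)
      exact (PrimeSpectrum.isClosed_singleton_iff_isMaximal _).mp h1
    have hId := identifiesLocalRings_of_strictlyHenselian A D hmax hSH
    have hizA := Groth.Agent.S0700.result A D hId hW hWD hWmap
    have hffD : Module.FaithfullyFlat A D := by
      apply faithfullyFlat_of_maximal
      intro m hm
      obtain ⟨P, hP⟩ := PrimeSpectrum.comap_surjective_of_faithfullyFlat (A := A) (B := B)
        ⟨m, hm.isPrime⟩
      have hIm : I ≤ m := by
        have : (⟨m, hm.isPrime⟩ : PrimeSpectrum A) ∈ PrimeSpectrum.zeroLocus (I : Set A) := by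
          rw [hzero]
          exact (PrimeSpectrum.isClosed_singleton_iff_isMaximal _).mpr hm
        exact (PrimeSpectrum.mem_zeroLocus _ _).mp this
      have hIP : I.map (algebraMap A B) ≤ P.asIdeal := by
        rw [Ideal.map_le_iff_le_comap]
        intro x hx
        have h2 := congrArg PrimeSpectrum.asIdeal hP
        have h3 : x ∈ (PrimeSpectrum.comap (algebraMap A B) P).asIdeal := by
          rw [h2]; exact hIm hx
        exact h3
      obtain ⟨Q, hQ⟩ := exists_prime_over_of_bijective _ hbij P hIP
      refine ⟨Q, ?_⟩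
      have h2 := congrArg PrimeSpectrum.asIdeal hP
      have h3 := congrArg PrimeSpectrum.asIdeal hQ
      show Q.asIdeal.comap (algebraMap A D) = m
      rw [IsScalarTower.algebraMap_eq A B D, ← Ideal.comap_comap]
      exact (congrArg (Ideal.comap (algebraMap A B)) h3).trans h2
    obtain ⟨r⟩ := hZ D hffD hizA
    exact ⟨r.comp (IsScalarTower.toAlgHom A B D)⟩

end Groth.Agent.Lib.R2LeadWContr
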