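import Mathlib
import Groth.Agent.Lib.R2LeadWContr
import Groth.Agent.Lib.R2LeadWLocExtr

set_option autoImplicit false

universe u

namespace Groth.Agent.Lib.R2LeadWContrCover

open Groth.Agent.Lib.R2LeadWLocCons Groth.Agent.Lib.Helper10.Spectral
  Groth.Agent.Lib.R2LeadWLocalization Groth.Agent.Lib.R2LeadWLocExtr

section cover

variable (C : Type u) [CommRing C]

instance : ExtremallyDisconnected (Ultrafilter (ProEtW.closedPoints (PrimeSpectrum C))) := by
  have h1 : CategoryTheory.Projective
      (CompHaus.of (Ultrafilter (ProEtW.closedPoints (PrimeSpectrum C)))) :=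
    CompHaus.projective_ultrafilter _
  exact @CompHaus.instExtremallyDisconnectedCarrierToTopTrueOfProjective
    (CompHaus.of (Ultrafilter (ProEtW.closedPoints (PrimeSpectrum C)))) h1

/-- the map from the Stone–Čech compactification of the discrete set of closed points -/
noncomputable def hcl : C(Ultrafilter (ProEtW.closedPoints (PrimeSpectrum C)), PrimeSpectrum C) :=
  (hcons C).comp ⟨Ultrafilter.extend (fun x : ProEtW.closedPoints (PrimeSpectrum C) =>
      WithTopology.toTopology (constructibleTopology (PrimeSpectrum C)) x.1),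
    continuous_ultrafilter_extend _⟩

theorem hcl_pure (x : ProEtW.closedPoints (PrimeSpectrum C)) : hcl C (pure x) = x.1 := by
  change WithTopology.ofTopology (Ultrafilter.extend
    (fun x : ProEtW.closedPoints (PrimeSpectrum C) =>
      WithTopology.toTopology (constructibleTopology (PrimeSpectrum C)) x.1) (pure x)) = x.1
  rw [ultrafilter_extend_pure]

theorem isClosed_hcl_preimage (a : C) :
    IsClosed (hcl C ⁻¹' (PrimeSpectrum.basicOpen a : Set (PrimeSpectrum C))) :=
  (isClosed_hcons_preimage C a).preimage (continuous_ultrafilter_extend _)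

theorem hcl_mem (hcp : IsClosed (ProEtW.closedPoints (PrimeSpectrum C)))
    (z : Ultrafilter (ProEtW.closedPoints (PrimeSpectrum C))) :
    hcl C z ∈ ProEtW.closedPoints (PrimeSpectrum C) := by
  refine DenseRange.induction_on (denseRange_pure) z ?_ ?_
  · exact hcp.preimage (hcl C).continuous
  · intro x
    show hcl C (pure x) ∈ _
    rw [hcl_pure]
    exact x.2

end cover

theorem exists_cover (C : Type u) [CommRing C] (hWC : ProEtW.IsWLocal (PrimeSpectrum C))
    (hSH : ∀ (m : Ideal C) [m.IsMaximal],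
      EtCoh.IsStrictlyHenselianLocalRing (Localization.AtPrime m)) :
    ∃ (D : Type u) (_ : CommRing D) (_ : Algebra C D),
      Module.FaithfullyFlat C D ∧ EtPBC.IsIndZariski C D ∧ EtPBC.IsWContractible D := by
  have hiz : EtPBC.IsIndZariski C (Bh (hcl C)) := isIndZariski (hcl C)
  have hWD : ProEtW.IsWLocal (PrimeSpectrum (Bh (hcl C))) :=
    isWLocal (hcl C) (isClosed_hcl_preimage C)
  obtain ⟨e, -⟩ := exists_homeomorph (hcl C)
  have hE : ExtremallyDisconnected (_root_.ConnectedComponents (PrimeSpectrum (Bh (hcl C)))) :=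
    extremallyDisconnected_of_homeo e.symm
  haveI : Module.Flat C (Bh (hcl C)) := flat_of_isIndZariski hiz
  have hffD : Module.FaithfullyFlat C (Bh (hcl C)) := by
    apply Module.FaithfullyFlat.of_comap_surjective
    intro x
    obtain ⟨M, hM, hxM⟩ := Ideal.exists_le_maximal x.asIdeal x.2.ne_top
    let m : ProEtW.closedPoints (PrimeSpectrum C) :=
      ⟨⟨M, hM.isPrime⟩, (PrimeSpectrum.isClosed_singleton_iff_isMaximal _).mpr hM⟩
    have hsp : x ⤳ hcl C (pure m) := by
      rw [hcl_pure]
      exact (PrimeSpectrum.le_iff_specializes x ⟨M, hM.isPrime⟩).mp hxM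
    obtain ⟨y, hy⟩ := exists_σ_eq (hcl C) (p := (x, pure m)) hsp
    refine ⟨y, ?_⟩
    rw [← σ_fst, hy]
  have hId : EtPBC.IdentifiesLocalRings C (Bh (hcl C)) := by
    obtain ⟨J, _, _, R, _, _, _, t, ι, compat, surj, inj⟩ :=
      Groth.Agent.Lib.R2LeadIndZarLoc.exists_directed_of_isIndZariski hiz
    exact Groth.Agent.Lib.R2LeadIndZarLoc.identifiesLocalRings_of_directed R t ι compat surj inj
  have hSHD : ∀ (n : Ideal (Bh (hcl C))) [n.IsMaximal],
      EtCoh.IsStrictlyHenselianLocalRing (Localization.AtPrime n) := by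
    intro n hn
    have hyc : IsClosed ({(⟨n, hn.isPrime⟩ : PrimeSpectrum (Bh (hcl C)))} : Set _) :=
      (PrimeSpectrum.isClosed_singleton_iff_isMaximal _).mpr hn
    have h1 := (isClosed_singleton_iff (hcl C) ⟨n, hn.isPrime⟩).mp hyc
    have h2 : PrimeSpectrum.comap (algebraMap C (Bh (hcl C))) ⟨n, hn.isPrime⟩ ∈
        ProEtW.closedPoints (PrimeSpectrum C) := by
      rw [← σ_fst, h1]
      exact hcl_mem C hWC.2.1 _
    haveI hm : (n.comap (algebraMap C (Bh (hcl C)))).IsMaximal :=
      (PrimeSpectrum.isClosed_singleton_iff_isMaximal _).mp h2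
    have hb := hId ⟨n, hn.isPrime⟩
    exact Groth.Agent.Lib.R2LeadHensVNR.isStrictlyHenselian_of_ringEquiv
      (RingEquiv.ofBijective _ hb) (hSH (n.comap (algebraMap C (Bh (hcl C)))))
  exact ⟨Bh (hcl C), inferInstance, inferInstance, hffD, hiz,
    (Groth.Agent.Lib.R2LeadWContr.main (Bh (hcl C))).mpr ⟨hWD, hE, hSHD⟩⟩

theorem main (A : Type u) [CommRing A] :
    ∃ (D : Type u) (_ : CommRing D) (_ : Algebra A D),
      Module.FaithfullyFlat A D ∧ EtPBC.IsIndEtale A D ∧ EtPBC.IsWContractible D := by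
  obtain ⟨C, _, _, 𝔍, hflC, hieC, hrad, hWC, hzero, hsurjC, hSH⟩ :=
    Groth.Agent.Lib.R2LeadWLocSqC.exists_C A
  haveI := hflC
  haveI hffC : Module.FaithfullyFlat A C := by
    apply Module.FaithfullyFlat.of_comap_surjective
    intro p
    obtain ⟨q, -, hq⟩ := hsurjC p
    exact ⟨q, hq⟩
  obtain ⟨D, _, _, hffD, hiz, hWD⟩ := exists_cover C hWC hSH
  haveI := hffD
  letI : Algebra A D := ((algebraMap C D).comp (algebraMap A C)).toAlgebra
  haveI : IsScalarTower A C D := IsScalarTower.of_algebraMap_eq (fun _ => rfl)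
  exact ⟨D, inferInstance, inferInstance, Module.FaithfullyFlat.trans A C D,
    Groth.Agent.S0734.result A C D hieC
      (Groth.Agent.Lib.R2LeadPairHzIndEt.isIndEtale_of_isIndZariski C D hiz), hWD⟩

end Groth.Agent.Lib.R2LeadWContrCover
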