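import Mathlib
import Groth.Agent.Lib.Helper9WC2
import Groth.Agent.Lib.R2LeadWContrCover

set_option autoImplicit false

open CategoryTheory CategoryTheory.Limits AlgebraicGeometry Opposite

universe u

namespace Groth.Agent.Lib.R2LeadProEtCover

/-- w-contractibility is invariant under ring isomorphisms -/
theorem isWContractible_of_ringEquiv {R R' : Type u} [CommRing R] [CommRing R'] (e : R ≃+* R')
    (h : EtPBC.IsWContractible R) : EtPBC.IsWContractible R' := by
  intro B _ _ hff hwe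
  haveI := hff
  haveI := hwe
  letI : Algebra R R' := e.toRingHom.toAlgebra
  letI : Algebra R B := ((algebraMap R' B).comp e.toRingHom).toAlgebra
  haveI : IsScalarTower R R' B := IsScalarTower.of_algebraMap_eq (fun _ => rfl)
  let eA : R ≃ₐ[R] R' := AlgEquiv.ofRingEquiv (f := e) (fun _ => rfl)
  haveI : Algebra.Etale R R' := Algebra.Etale.of_equiv eA
  haveI : Algebra.WeaklyEtale R B := Algebra.WeaklyEtale.trans R R' B
  haveI : Module.FaithfullyFlat R R' := Module.FaithfullyFlat.of_linearEquiv R R eA.toLinearEquiv.symm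
  haveI : Module.FaithfullyFlat R B := Module.FaithfullyFlat.trans R R' B
  obtain ⟨r⟩ := h B inferInstance inferInstance
  refine ⟨{ toRingHom := e.toRingHom.comp r.toRingHom, commutes' := fun x => ?_ }⟩
  obtain ⟨y, rfl⟩ := e.surjective x
  show e (r (algebraMap R' B (e y))) = e y
  have : algebraMap R' B (e y) = algebraMap R B y := rfl
  rw [this, r.commutes]
  rfl

open Groth.Agent.Lib.Helper9.WC Groth.Agent.Lib.Helper9.ProEt

/-- an affine scheme has a surjective weakly étale cover by the spectrum of a w-contractible ring -/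
theorem exists_wContractible_cover (W : Scheme.{u}) [IsAffine W] :
    ∃ (D : CommRingCat.{u}) (q : Spec D ⟶ W), WeaklyEtale q ∧ Surjective q ∧
      EtPBC.IsWContractible ↥Γ(Spec D, ⊤) := by
  obtain ⟨D, _, _, hff, hie, hwc⟩ := Groth.Agent.Lib.R2LeadWContrCover.main ↥Γ(W, ⊤)
  haveI hwe : Algebra.WeaklyEtale ↥Γ(W, ⊤) D := Groth.Agent.S0736.result _ _ hie
  let φ : Γ(W, ⊤) ⟶ CommRingCat.of D := CommRingCat.ofHom (algebraMap ↥Γ(W, ⊤) D)
  haveI : WeaklyEtale (Spec.map φ) := (weaklyEtale_SpecMap_iff ↥Γ(W, ⊤) D).2 hwe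
  have hs : Surjective (Spec.map φ) :=
    ((flat_and_surjective_SpecMap_iff φ).2
      (RingHom.faithfullyFlat_algebraMap_iff.2 hff)).2
  refine ⟨CommRingCat.of D, Spec.map φ ≫ W.isoSpec.inv, inferInstance, inferInstance, ?_⟩
  exact isWContractible_of_ringEquiv
    (Scheme.ΓSpecIso (CommRingCat.of D)).symm.commRingCatIsoToRingEquiv hwc

/-- refine a quasi-compact weakly étale cover by affines to one by w-contractible affines -/
theorem exists_family_of_cover {X : Scheme.{u}} (U : X.ProEt)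
    (𝒰₀ : PreZeroHypercover.{u} U.left)
    [AlgebraicGeometry.QuasiCompactCover 𝒰₀] [∀ i, IsAffine (𝒰₀.X i)] [∀ i, WeaklyEtale (𝒰₀.f i)]
    (hsurj : ∀ x : U.left, ∃ (i : 𝒰₀.I₀) (y : 𝒰₀.X i), 𝒰₀.f i y = x) :
    ∃ (V : 𝒰₀.I₀ → X.ProEt) (g : ∀ i, V i ⟶ U),
      Sieve.generate (Presieve.ofArrows V g) ∈ Scheme.ProEt.topology X U ∧
        ∀ i, IsAffine (V i).left ∧ EtPBC.IsWContractible ↥(Γ((V i).left, ⊤)) := by
  choose D q hq1 hq2 hq3 using fun i => exists_wContractible_cover (𝒰₀.X i)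
  haveI := hq1
  haveI := hq2
  let V : 𝒰₀.I₀ → X.ProEt := fun i => Scheme.ProEt.mk (q i ≫ 𝒰₀.f i ≫ U.hom)
  let g : ∀ i, V i ⟶ U := fun i =>
    MorphismProperty.Over.homMk (q i ≫ 𝒰₀.f i) (Category.assoc _ _ _) trivial
  refine ⟨V, g, ?_, fun i => ⟨?_, hq3 i⟩⟩
  · rw [mem_topology_iff]
    refine ⟨Presieve.ofArrows V g, ?_, Sieve.le_generate _⟩
    rw [mem_precoverage_iff, Presieve.map_ofArrows]
    let E' : PreZeroHypercover.{u} U.left :=
      { I₀ := 𝒰₀.I₀
        X := fun i => Spec (D i)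
        f := fun i => q i ≫ 𝒰₀.f i }
    let E := 𝒰₀.bind (fun i => PreZeroHypercover.singleton.{u} (q i))
    haveI : ∀ i, QuasiCompact (q i) := fun i => inferInstance
    haveI : AlgebraicGeometry.QuasiCompactCover E := inferInstance
    let hom : E.Hom E' :=
      { s₀ := fun p => p.1
        h₀ := fun p => 𝟙 _
        w₀ := fun p => Category.id_comp _ }
    haveI : AlgebraicGeometry.QuasiCompactCover E' := AlgebraicGeometry.QuasiCompactCover.of_hom hom
    constructor
    · exact Scheme.presieve₀_mem_qcPrecoverage_iff.2 (inferInstance : AlgebraicGeometry.QuasiCompactCover E')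
    · show Presieve.ofArrows E'.X E'.f ∈ Scheme.precoverage @WeaklyEtale U.left
      rw [Scheme.ofArrows_mem_precoverage_iff]
      refine ⟨fun x => ?_, fun i => inferInstance⟩
      obtain ⟨i, y, rfl⟩ := hsurj x
      obtain ⟨z, rfl⟩ := (hq2 i).surj y
      exact ⟨i, z, rfl⟩
  · show IsAffine (Spec (D i))
    infer_instance

theorem main_family {X : Scheme.{u}} (U : X.ProEt) :
    ∃ (ι : Type u) (V : ι → X.ProEt) (g : ∀ i, V i ⟶ U),
      Sieve.generate (Presieve.ofArrows V g) ∈ Scheme.ProEt.topology X U ∧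
        ∀ i, IsAffine (V i).left ∧ EtPBC.IsWContractible ↥(Γ((V i).left, ⊤)) := by
  let 𝒲 := U.left.affineCover
  haveI : ∀ i, IsAffine (𝒲.toPreZeroHypercover.X i) := fun i =>
    inferInstanceAs (IsAffine (𝒲.X i))
  haveI : ∀ i, WeaklyEtale (𝒲.toPreZeroHypercover.f i) := fun i =>
    inferInstanceAs (WeaklyEtale (𝒲.f i))
  obtain ⟨V, g, h1, h2⟩ := exists_family_of_cover U 𝒲.toPreZeroHypercover
    (fun x => ⟨𝒲.idx x, 𝒲.covers x⟩)
  exact ⟨_, V, g, h1, h2⟩

end Groth.Agent.Lib.R2LeadProEtCover
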