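import Mathlib
import Groth.Agent.Lib.R2LeadProEtCover

set_option autoImplicit false

open CategoryTheory CategoryTheory.Limits AlgebraicGeometry Opposite

universe u

namespace Groth.Agent.Lib.R2LeadProEtCover2

open Groth.Agent.Lib.Helper9.WC Groth.Agent.Lib.Helper9.ProEt Groth.Agent.Lib.R2LeadProEtCover

theorem main_affine {X : Scheme.{u}} (U : X.ProEt) [CompactSpace ↥U.left] :
    ∃ (V : X.ProEt) (g : V ⟶ U),
      Sieve.generate (Presieve.singleton g) ∈ Scheme.ProEt.topology X U ∧ IsAffine V.left ∧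
        ProEtS.IsWC V := by
  let 𝒲 := U.left.affineCover.finiteSubcover
  haveI : ∀ i, IsAffine (𝒲.X i) := fun i => by
    show IsAffine (U.left.affineCover.X _)
    infer_instance
  let π : (∐ 𝒲.X) ⟶ U.left := Sigma.desc 𝒲.f
  haveI hπ : WeaklyEtale π :=
    IsZariskiLocalAtSource.sigmaDesc (P := @WeaklyEtale) (fun i => inferInstance)
  let 𝒰₀ : PreZeroHypercover.{u} U.left := PreZeroHypercover.singleton π
  let hom : 𝒲.toPreZeroHypercover.Hom 𝒰₀ :=
    { s₀ := fun _ => PUnit.unit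
      h₀ := fun i => Sigma.ι 𝒲.X i
      w₀ := fun i => Sigma.ι_desc _ _ }
  haveI : QuasiCompactCover 𝒰₀ := QuasiCompactCover.of_hom hom
  haveI : ∀ i, IsAffine (𝒰₀.X i) := fun _ => inferInstanceAs (IsAffine (∐ 𝒲.X))
  haveI : ∀ i, WeaklyEtale (𝒰₀.f i) := fun _ => hπ
  obtain ⟨V, g, h1, h2⟩ := exists_family_of_cover U 𝒰₀ (fun x => by
    refine ⟨PUnit.unit, (Sigma.ι 𝒲.X (𝒲.idx x)) (𝒲.covers x).choose, ?_⟩
    show π ((Sigma.ι 𝒲.X (𝒲.idx x)) _) = x
    rw [← Scheme.Hom.comp_apply, Sigma.ι_desc]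
    exact (𝒲.covers x).choose_spec)
  refine ⟨V PUnit.unit, g PUnit.unit, ?_, (h2 _).1, ?_⟩
  · have : Presieve.ofArrows V g = Presieve.singleton (g PUnit.unit) := by
      rw [← Presieve.ofArrows_pUnit]
      rfl
    rw [← this]
    exact h1
  · haveI := (h2 PUnit.unit).1
    exact (isWContractible_iff_isWC (V PUnit.unit)).mp (h2 _).2


end Groth.Agent.Lib.R2LeadProEtCover2
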