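import Mathlib
import Groth.Prelude.Def_ProEtS
import Groth.Agent.Lib.Helper9WC3
import Groth.Agent.Lib.R2LeadProEtCover

set_option autoImplicit false

open CategoryTheory CategoryTheory.Limits AlgebraicGeometry Opposite
open Groth.Agent.Lib.Helper9.ProEt Groth.Agent.Lib.Helper9.WC

universe u w

namespace Groth.Agent.Lib.R2LeadProEtCover3

variable {X : Scheme.{u}}

section coprod

variable {ι : Type u} (Z : ι → X.ProEt)

instance : WeaklyEtale (Sigma.desc (fun k => (Z k).hom)) :=
  IsZariskiLocalAtSource.sigmaDesc (P := @WeaklyEtale) (fun k => (Z k).prop)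

/-- arbitrary small coproducts in the pro-étale site -/
noncomputable def sigI : X.ProEt := Scheme.ProEt.mk (Sigma.desc (fun k => (Z k).hom))

/-- the coprojections -/
noncomputable def sigIι (k : ι) : Z k ⟶ sigI Z :=
  MorphismProperty.Over.homMk (Sigma.ι (fun k => (Z k).left) k)
    (Sigma.ι_desc (fun k => (Z k).hom) k) trivial

/-- the induced morphism -/
noncomputable def sigIDesc {U : X.ProEt} (g : ∀ k, Z k ⟶ U) : sigI Z ⟶ U :=
  MorphismProperty.Over.homMk (Sigma.desc (fun k => (g k).left)) (by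
    apply Sigma.hom_ext
    intro k
    have h1 : Sigma.ι (fun k => (Z k).left) k ≫ (Sigma.desc fun k => (g k).left) ≫ U.hom =
        (Z k).hom := by
      rw [← Category.assoc, Sigma.ι_desc (fun k => (g k).left) k]
      exact CategoryTheory.Over.w (g k).hom
    exact h1.trans (Sigma.ι_desc (fun k => (Z k).hom) k).symm) trivial

lemma sigIι_desc {U : X.ProEt} (g : ∀ k, Z k ⟶ U) (k : ι) : sigIι Z k ≫ sigIDesc Z g = g k := by
  apply MorphismProperty.Over.Hom.ext
  exact Sigma.ι_desc (fun k => (g k).left) k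

set_option backward.isDefEq.respectTransparency.types false in
lemma sigIι_mem_topology : Sieve.ofArrows Z (sigIι Z) ∈ Scheme.ProEt.topology X (sigI Z) := by
  rw [mem_topology_iff]
  refine ⟨Presieve.ofArrows Z (sigIι Z), ?_, Sieve.le_generate _⟩
  rw [mem_precoverage_iff, Presieve.map_ofArrows]
  refine Scheme.zariskiPrecoverage_le_propQCPrecoverage _ ?_
  exact (sigmaOpenCover (fun k => (Z k).left)).mem₀

instance (k : ι) : Mono (sigIι Z k) := by
  apply (Fg X).mono_of_mono_map
  change Mono (Sigma.ι (fun k => (Z k).left) k)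
  infer_instance

/-- gluing sections of a sheaf of sets along a coproduct -/
lemma sigI_glue (F : Sheaf (Scheme.ProEt.topology X) (Type w)) (x : ∀ k, F.obj.obj (op (Z k))) :
    ∃ t : F.obj.obj (op (sigI Z)), ∀ k, F.obj.map (sigIι Z k).op t = x k := by
  classical
  have hsh := (isSheaf_iff_isSheaf_of_type _ _).1 F.property
  have h1 : (Presieve.ofArrows Z (sigIι Z)).IsSheafFor F.obj :=
    hsh.isSheafFor _ (sigIι_mem_topology Z)
  rw [Presieve.isSheafFor_arrows_iff] at h1
  have hc : Presieve.Arrows.Compatible F.obj (sigIι Z) x := by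
    intro i j T gi gj hg
    by_cases hij : i = j
    · subst hij
      rw [(cancel_mono (sigIι Z i)).1 hg]
    · haveI : IsEmpty T.left := by
        have hg' : gi.left ≫ Sigma.ι (fun k => (Z k).left) i =
            gj.left ≫ Sigma.ι (fun k => (Z k).left) j := congrArg (fun f => f.left) hg
        exact isEmpty_of_commSq_sigmaι_of_ne ⟨hg'⟩ hij
      haveI := subsingleton_of_isEmpty F T
      exact Subsingleton.elim _ _
  obtain ⟨t, ht, -⟩ := h1 x hc
  exact ⟨t, ht⟩

lemma sigI_ext (F : Sheaf (Scheme.ProEt.topology X) (Type w)) (t t' : F.obj.obj (op (sigI Z)))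
    (h : ∀ k, F.obj.map (sigIι Z k).op t = F.obj.map (sigIι Z k).op t') : t = t' := by
  have hsh := (isSheaf_iff_isSheaf_of_type _ _).1 F.property
  refine (hsh.isSeparated _ (sigIι_mem_topology Z)).ext ?_
  rintro T f ⟨Y, a, b, ⟨k⟩, rfl⟩
  rw [op_comp, Functor.map_comp]
  exact congrArg (F.obj.map a.op) (h k)

/-- a coproduct of weakly contractible objects is weakly contractible -/
theorem isWC_sigI (hZ : ∀ k, ProEtS.IsWC (Z k)) : ProEtS.IsWC (sigI Z) := by
  intro F G φ hφ s
  choose t ht using fun k => hZ k F G φ hφ (G.obj.map (sigIι Z k).op s)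
  obtain ⟨T, hT⟩ := sigI_glue Z F t
  refine ⟨T, sigI_ext Z G _ _ (fun k => ?_)⟩
  have hnat := NatTrans.naturality_apply φ.hom (sigIι Z k).op T
  rw [← hnat, hT, ht]

end coprod

theorem main {X : Scheme.{u}} (U : X.ProEt) :
    ∃ (V : X.ProEt) (g : V ⟶ U),
      Sieve.generate (Presieve.singleton g) ∈ Scheme.ProEt.topology X U ∧ ProEtS.IsWC V := by
  obtain ⟨ι, V, g, h1, h2⟩ := Groth.Agent.Lib.R2LeadProEtCover.main_family U
  refine ⟨sigI V, sigIDesc V g, ?_, isWC_sigI V (fun k => ?_)⟩
  · refine (Scheme.ProEt.topology X).superset_covering ?_ h1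
    rw [Sieve.generate_le_iff]
    rintro T f ⟨k⟩
    exact ⟨sigI V, sigIι V k, sigIDesc V g, ⟨⟩, sigIι_desc V g k⟩
  · haveI := (h2 k).1
    exact (isWContractible_iff_isWC (V k)).mp (h2 k).2

end Groth.Agent.Lib.R2LeadProEtCover3
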