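import Mathlib
import Groth.Agent.Lib.R2LeadProjProper
import Groth.Agent.Lib.Helper2RelTwistExist
import Groth.Agent.Lib.Helper2RelTwistAmpleB
import Groth.Agent.Lib.R2H3QProj

/-!
# Projective morphisms are quasi-projective; over a base with an ample module they are H-projective (lead)
-/

set_option autoImplicit false
set_option linter.unusedSectionVars false
universe u
open CategoryTheory CategoryTheory.Limits AlgebraicGeometry TopologicalSpace Opposite
open scoped HomogeneousIdeal

namespace Groth.Agent.Lib.R2LeadProjQP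

open Groth.Agent.Lib.R2LeadProjProper

section Ring
variable {A : Type u} [CommRing A] (𝒜 : ℕ → AddSubgroup A) [GradedRing 𝒜]
  (hgen : Subring.closure ((𝒜 0 : Set A) ∪ (𝒜 1 : Set A)) = ⊤)

include hgen in
theorem decompose_mem_of_deg_one_le (I : Ideal A) (hI : ∀ g ∈ 𝒜 1, g ∈ I) (x : A) :
    ∀ d, 0 < d → (DirectSum.decompose 𝒜 x d : A) ∈ I := by
  classical
  have hx : x ∈ Subring.closure ((𝒜 0 : Set A) ∪ (𝒜 1 : Set A)) := by rw [hgen]; trivial
  have h0 : ∀ a ∈ 𝒜 0, ∀ d, 0 < d → (DirectSum.decompose 𝒜 a d : A) ∈ I := by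
    intro a ha d hd
    rw [DirectSum.decompose_of_mem_ne 𝒜 ha (by omega : (0 : ℕ) ≠ d)]
    exact zero_mem _
  induction hx using Subring.closure_induction with
  | mem a ha =>
    rcases ha with ha | ha
    · exact h0 a ha
    · intro d hd
      by_cases h1 : d = 1
      · subst h1
        rw [DirectSum.decompose_of_mem_same 𝒜 ha]
        exact hI a ha
      · rw [DirectSum.decompose_of_mem_ne 𝒜 ha (Ne.symm h1)]
        exact zero_mem _
  | zero =>
    intro d hd
    simp
  | one => exact h0 1 SetLike.GradedOne.one_mem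
  | add a b _ _ iha ihb =>
    intro d hd
    rw [DirectSum.decompose_add, DirectSum.add_apply, AddSubgroup.coe_add]
    exact add_mem (iha d hd) (ihb d hd)
  | neg a _ iha =>
    intro d hd
    rw [DirectSum.decompose_neg, DFinsupp.neg_apply, AddSubgroup.coe_neg]
    exact neg_mem (iha d hd)
  | mul a b _ _ iha ihb =>
    intro d hd
    rw [DirectSum.decompose_mul, DirectSum.coe_mul_apply_eq_sum_antidiagonal]
    refine sum_mem fun ij hij => ?_
    have hsum : ij.1 + ij.2 = d := Finset.HasAntidiagonal.mem_antidiagonal.mp hij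
    by_cases hi : ij.1 = 0
    · have : 0 < ij.2 := by omega
      exact Ideal.mul_mem_left _ _ (ihb _ this)
    · exact Ideal.mul_mem_right _ _ (iha _ (Nat.pos_of_ne_zero hi))

include hgen in
theorem exists_deg_one_notMem (y : ProjectiveSpectrum 𝒜) :
    ∃ g ∈ 𝒜 1, g ∉ y.asHomogeneousIdeal := by
  classical
  by_contra h
  push_neg at h
  refine y.not_irrelevant_le ?_
  rw [HomogeneousIdeal.irrelevant_le]
  intro i hi b hb
  have := decompose_mem_of_deg_one_le 𝒜 hgen y.asHomogeneousIdeal.toIdeal h b i hi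
  rwa [DirectSum.decompose_of_mem_same 𝒜 hb] at this

end Ring

/-- the relative homogeneous spectrum of an algebra generated in degree one with finite type degree one
part carries a relatively ample module (its `O(1)`). -/
theorem exists_isRelAmple_of_isRelProj {Y P : Scheme.{u}} (𝒮 : RelProj.QCGrAlg Y) (p : P ⟶ Y)
    (chart : ∀ (U : Y.Opens) (hU : IsAffineOpen U),
      ((p ⁻¹ᵁ U : P.Opens) : Scheme.{u}) ≅ Proj (𝒮.deg U hU))
    (hp : RelProj.IsRelProj 𝒮 p chart) (hgen : 𝒮.IsGenDegOne) (hft : 𝒮.IsFTDeg 1) :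
    ∃ L : P.Modules, RelAmple.IsRelAmple p L := by
  obtain ⟨L, lam, hL⟩ := Groth.Agent.Lib.Helper2.RelTwistExist.exists_isRelTwist p chart hp ((1 : ℕ) : ℤ)
  have hcov : ∀ (V : Y.Opens) (hV : IsAffineOpen V) (y : ProjectiveSpectrum (𝒮.deg V hV)),
      ∃ g ∈ 𝒮.deg V hV 1, g ∉ y.asHomogeneousIdeal :=
    fun V hV y => exists_deg_one_notMem (𝒮.deg V hV) (hgen V hV) y
  have hinv : PicF.IsInvertible L :=
    Groth.Agent.Lib.Helper2.RelTwistAmpleB.isInvertible_of_cover p chart 1 L lam hL hcov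
  haveI hpP : IsProper p := isProper_of_isRelProj 𝒮 p chart hp hgen hft
  refine ⟨L, inferInstance, fun V => ?_⟩
  haveI : CompactSpace (Proj (𝒮.deg V.1 V.2)) := by
    obtain ⟨T, hT, hspan⟩ := hft V.1 V.2
    have h2 : IsProper (Proj.toSpecZero (𝒮.deg V.1 V.2) ≫ Spec.map (𝒮.strZero V.1 V.2)) :=
      isProper_toSpecZero_comp (𝒮.deg V.1 V.2) (𝒮.strZero V.1 V.2).hom (hgen V.1 V.2) T hT hspan
    exact QuasiCompact.compactSpace_of_compactSpace
      (Proj.toSpecZero (𝒮.deg V.1 V.2) ≫ Spec.map (𝒮.strZero V.1 V.2))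
  exact Groth.Agent.Lib.Helper2.RelTwistAmpleB.isAmple_restrict_preimage p chart L V.1 V.2
    (Groth.Agent.Lib.Helper2.RelTwistAmple.isAmple_restrict_emb p chart 1 L lam hL one_pos hinv
      V.1 V.2 (hcov V.1 V.2))

/-- projective morphisms are quasi-projective and proper. -/
theorem isQuasiProjective_of_isProjective {X Y : Scheme.{u}} (f : X ⟶ Y)
    (hf : RelProj.IsProjective f) : RelProj.IsQuasiProjective f ∧ IsProper f := by
  haveI hpr : IsProper f := isProper_of_isProjective f hf
  refine ⟨⟨inferInstance, inferInstance, ?_⟩, hpr⟩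
  obtain ⟨𝒮, P, p, chart, e, hgen, hft, hrel, he⟩ := hf
  obtain ⟨L, hL⟩ := exists_isRelAmple_of_isRelProj 𝒮 p chart hrel hgen hft
  haveI := hL.1
  have h := Groth.Agent.S2359.result p e.hom e.hom.isOpenEmbedding.isEmbedding L hL
  rw [he] at h
  exact ⟨_, h⟩

/-- over a quasi-compact separated base with an ample module, projective morphisms are
H-projective. -/
theorem isHProjective_of_isProjective {X Y : Scheme.{u}} [CompactSpace Y]
    (hY : ∃ M : Y.Modules, CohB1.IsAmple M) (f : X ⟶ Y) (hf : RelProj.IsProjective f) :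
    RelProj.IsHProjective f := by
  obtain ⟨⟨hlft, hqc, L, hL⟩, hpr⟩ := isQuasiProjective_of_isProjective f hf
  obtain ⟨M, hM⟩ := hY
  obtain ⟨L', hL'⟩ := Groth.Agent.Lib.R2H3.QProj.exists_isAmple_of_isRelAmple f L hL M hM
  obtain ⟨n, i, hi, hif⟩ := Groth.Agent.Lib.R2H3.QProj.exists_immersion_of_isAmple f L' hL'
  exact ⟨n, i, Groth.Agent.Lib.R2H3.QProj.isClosedImmersion_of_isProper f n i hif, hif⟩

end Groth.Agent.Lib.R2LeadProjQP
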