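import Groth.Agent.Lib.R2LeadPropInt

/-!
# Proper intersection with a regular immersion, dimension criterion: main theorem (lead)
-/

set_option autoImplicit false
set_option linter.style.haveILetI false
universe u

open CategoryTheory CategoryTheory.Limits AlgebraicGeometry TopologicalSpace

namespace Groth.Agent.Lib.R2LeadPropIntB

open Groth.Agent.Lib.R2LeadPropInt

/-- a nonempty space has nonnegative dimension -/
theorem topologicalKrullDim_nonneg_of_nonempty (T : Type*) [TopologicalSpace T] [Nonempty T] :
    (0 : WithBot ℕ∞) ≤ topologicalKrullDim T := by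
  obtain ⟨x⟩ := (inferInstance : Nonempty T)
  haveI : Nonempty (IrreducibleCloseds T) :=
    ⟨⟨closure {x}, isIrreducible_singleton.closure, isClosed_closure⟩⟩
  exact Order.krullDim_nonneg

theorem topologicalKrullDim_eq_bot_of_isEmpty (T : Type*) [TopologicalSpace T] [IsEmpty T] :
    topologicalKrullDim T = ⊥ := by
  haveI : IsEmpty (IrreducibleCloseds T) :=
    ⟨fun Z => by obtain ⟨x, -⟩ := Z.isIrreducible.nonempty; exact isEmptyElim x⟩
  exact Order.krullDim_eq_bot

theorem le_sub_of_add_le {a : WithBot ℕ∞} {c n : ℕ} (hcn : c ≤ n)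
    (h : a + (c : WithBot ℕ∞) ≤ (n : WithBot ℕ∞)) : a ≤ ((n - c : ℕ) : WithBot ℕ∞) := by
  induction a using WithBot.recBotCoe with
  | bot => exact bot_le
  | coe a =>
    induction a using ENat.recTopCoe with
    | top =>
      exfalso
      have h' : ((⊤ : ℕ∞) + (c : ℕ∞) : ℕ∞) ≤ (n : ℕ∞) := by exact_mod_cast h
      rw [top_add] at h'
      exact ENat.top_ne_natCast n (top_le_iff.mp h').symm
    | coe m =>
      have h' : m + c ≤ n := by exact_mod_cast h
      have h2 : m ≤ n - c := by omega
      have h3 : ((m : ℕ) : ℕ∞) ≤ ((n - c : ℕ) : ℕ∞) := by exact_mod_cast h2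
      exact WithBot.coe_le_coe.mpr h3

/-- a space all of whose irreducible components have dimension `≤ n - c` -/
theorem dim_add_le_of_irreducibleComponents {T : Type*} [TopologicalSpace T] (c n : ℕ)
    (h : ∀ Z ∈ irreducibleComponents T, topologicalKrullDim Z + (c : WithBot ℕ∞) ≤ n) :
    topologicalKrullDim T + (c : WithBot ℕ∞) ≤ n := by
  rcases isEmpty_or_nonempty T with hT | hT
  · rw [topologicalKrullDim_eq_bot_of_isEmpty T, WithBot.bot_add]
    exact bot_le
  · obtain ⟨x⟩ := hT
    have hZ := irreducibleComponent_mem_irreducibleComponents x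
    haveI : Nonempty ↥(irreducibleComponent x) := ⟨⟨x, mem_irreducibleComponent⟩⟩
    have h0 := topologicalKrullDim_nonneg_of_nonempty ↥(irreducibleComponent x)
    have h1 := h _ hZ
    have hcn : c ≤ n := by
      have h2 : (0 : WithBot ℕ∞) + (c : WithBot ℕ∞) ≤ (n : WithBot ℕ∞) :=
        (add_le_add_left h0 _).trans h1
      rw [zero_add] at h2
      exact_mod_cast h2
    have h3 := Groth.Agent.Lib.R2H2.NodalRed.topologicalKrullDim_le_of_irreducibleComponents
      (T := T) (n - c) (fun Z hZ => le_sub_of_add_le hcn (h Z hZ))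
    calc topologicalKrullDim T + (c : WithBot ℕ∞)
        ≤ ((n - c : ℕ) : WithBot ℕ∞) + (c : WithBot ℕ∞) := add_le_add_left h3 _
      _ = (n : WithBot ℕ∞) := by
          have : n - c + c = n := by omega
          exact_mod_cast this

/-- an irreducible subset is contained in an irreducible component -/
theorem exists_mem_irreducibleComponents_of_isIrreducible {T : Type*} [TopologicalSpace T]
    (B : Set T) (hB : IsIrreducible B) : ∃ P ∈ irreducibleComponents T, B ⊆ P := by
  obtain ⟨Z, hZ, hsub, hmax⟩ := exists_preirreducible B hB.isPreirreducible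
  have hZirr : IsIrreducible Z := ⟨hB.nonempty.mono hsub, hZ⟩
  refine ⟨Z, ⟨hZirr, fun u hu hzu => ?_⟩, hsub⟩
  exact (hmax u hu.isPreirreducible hzu).le

theorem main (k : Type u) [Field k] (C X W : Scheme.{u})
    (q : X ⟶ Spec (CommRingCat.of k)) (π : C ⟶ X) (ι : W ⟶ X)
    [LocallyOfFiniteType q] [LocallyOfFiniteType π]
    (κ : RegImm.Kind) (n c : ℕ) (hι : RegImm.IsRegularImmersionOfCodim κ c ι)
    (hC : ∀ P ∈ irreducibleComponents (C : Type u), topologicalKrullDim P = n) :
    (∀ P ∈ irreducibleComponents (C : Type u),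
        ∀ Q ∈ irreducibleComponents (P ∩ π ⁻¹' Set.range ι : Set C),
        topologicalKrullDim Q + (c : WithBot ℕ∞) = n) ↔
      topologicalKrullDim (π ⁻¹' Set.range ι : Set C) + (c : WithBot ℕ∞) ≤ n := by
  constructor
  · intro ha
    refine dim_add_le_of_irreducibleComponents c n fun A' hA' => ?_
    -- the image of `A'` in `C` lies in an irreducible component `P`
    have hB : IsIrreducible (Subtype.val '' A' : Set C) :=
      hA'.1.image _ continuous_subtype_val.continuousOn
    obtain ⟨P, hP, hBP⟩ := exists_mem_irreducibleComponents_of_isIrreducible _ hB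
    -- the map `A' → P ∩ π⁻¹(range ι)`
    let ψ : ↥A' → ↥(P ∩ π ⁻¹' Set.range ι) := fun x =>
      ⟨x.1.1, ⟨hBP ⟨x.1, x.2, rfl⟩, x.1.2⟩⟩
    have hψ : Topology.IsInducing ψ := by
      have h1 : Topology.IsInducing (fun x : ↥A' => (x.1.1 : C)) :=
        Topology.IsInducing.subtypeVal.comp Topology.IsInducing.subtypeVal
      have h2 : (fun x : ↥A' => (x.1.1 : C)) = Subtype.val ∘ ψ := rfl
      rw [h2] at h1
      have hψc : Continuous ψ :=
        Continuous.subtype_mk (continuous_subtype_val.comp continuous_subtype_val) _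
      exact Topology.IsInducing.of_comp hψc continuous_subtype_val h1
    -- the range of `ψ` is irreducible, hence contained in a component `Q`
    haveI : IrreducibleSpace ↥A' := Subtype.irreducibleSpace hA'.1
    have hR : IsIrreducible (Set.range ψ) := by
      have hru : Set.range ψ = ψ '' Set.univ := Set.image_univ.symm
      rw [hru]
      exact (IrreducibleSpace.isIrreducible_univ ↥A').image _ hψ.continuous.continuousOn
    obtain ⟨Q, hQ, hRQ⟩ := exists_mem_irreducibleComponents_of_isIrreducible _ hR
    let χ : ↥A' → ↥Q := fun x => ⟨ψ x, hRQ ⟨x, rfl⟩⟩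
    have hχ : Topology.IsInducing χ := by
      have h2 : ψ = Subtype.val ∘ χ := rfl
      rw [h2] at hψ
      have hχc : Continuous χ := Continuous.subtype_mk hψ.continuous _
      exact Topology.IsInducing.of_comp hχc continuous_subtype_val hψ
    have h4 := hχ.topologicalKrullDim_le
    rw [← ha P hP Q hQ]
    exact add_le_add_left h4 _
  · intro hb P hP Q hQ
    refine le_antisymm ?_ (le_dim_component k C X W q π ι κ n c hι P hP (hC P hP) Q hQ)
    refine le_trans (add_le_add_left ?_ _) hb
    let φ : ↥Q → ↥(π ⁻¹' Set.range ι) := fun x => ⟨x.1.1, x.1.2.2⟩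
    have hφ : Topology.IsInducing φ := by
      have h1 : Topology.IsInducing (fun x : ↥Q => (x.1.1 : C)) :=
        Topology.IsInducing.subtypeVal.comp Topology.IsInducing.subtypeVal
      have h2 : (fun x : ↥Q => (x.1.1 : C)) = Subtype.val ∘ φ := rfl
      rw [h2] at h1
      have hφc : Continuous φ :=
        Continuous.subtype_mk (continuous_subtype_val.comp continuous_subtype_val) _
      exact Topology.IsInducing.of_comp hφc continuous_subtype_val h1
    exact hφ.topologicalKrullDim_le

end Groth.Agent.Lib.R2LeadPropIntB
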