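import Groth.Agent.Lib.R2LeadPropIntB
import Groth.Agent.S14480

/-!
# Semi-proper intersection with a regular immersion via fibre-dimension loci (lead)
-/

set_option autoImplicit false
set_option linter.style.haveILetI false
universe u

open CategoryTheory CategoryTheory.Limits AlgebraicGeometry TopologicalSpace

namespace Groth.Agent.Lib.R2LeadPropIntC

open Groth.Agent.Lib.R2LeadPropIntB

theorem add_le_iff_le_sub {a : WithBot ℕ∞} {c n : ℕ} (hcn : c ≤ n) :
    a + (c : WithBot ℕ∞) ≤ (n : WithBot ℕ∞) ↔ a ≤ ((n - c : ℕ) : WithBot ℕ∞) := by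
  refine ⟨le_sub_of_add_le hcn, fun h => ?_⟩
  calc a + (c : WithBot ℕ∞) ≤ ((n - c : ℕ) : WithBot ℕ∞) + (c : WithBot ℕ∞) := add_le_add_left h _
    _ = (n : WithBot ℕ∞) := by
        have : n - c + c = n := by omega
        exact_mod_cast this

theorem eq_bot_of_add_le_of_lt {a : WithBot ℕ∞} {c n : ℕ} (hcn : n < c)
    (h : a + (c : WithBot ℕ∞) ≤ (n : WithBot ℕ∞)) : a = ⊥ := by
  induction a using WithBot.recBotCoe with
  | bot => rfl
  | coe a =>
    exfalso
    have h' : (a + (c : ℕ∞) : ℕ∞) ≤ (n : ℕ∞) := by exact_mod_cast h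
    have h2 : (c : ℕ∞) ≤ (n : ℕ∞) := le_trans le_add_self h'
    have h3 : c ≤ n := by exact_mod_cast h2
    omega

/-- in a cartesian square whose right vertical map is injective, the top map restricts to
homeomorphisms of the topological fibres -/
theorem dim_fiber_pullback {C X W : Scheme.{u}} (π : C ⟶ X) (ι : W ⟶ X) [IsImmersion ι] (w : W) :
    topologicalKrullDim ((pullback.snd π ι).fiber w) = topologicalKrullDim (π.fiber (ι w)) := by
  set e := pullback.fst π ι with he
  set πW := pullback.snd π ι with hπW
  have himg : e '' (πW ⁻¹' {w}) = π ⁻¹' {ι w} := by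
    ext x
    constructor
    · rintro ⟨t, ht, rfl⟩
      have ht' : πW t = w := ht
      show π (e t) = ι w
      rw [← ht', ← Scheme.Hom.comp_apply, ← Scheme.Hom.comp_apply, pullback.condition]
    · intro hx
      have hx' : π x = ι w := hx
      have hxr : x ∈ Set.range e := by
        rw [he, Scheme.Pullback.range_fst]
        exact ⟨w, hx'.symm⟩
      obtain ⟨t, rfl⟩ := hxr
      refine ⟨t, ?_, rfl⟩
      show πW t = w
      apply ι.isEmbedding.injective
      rw [← hx', ← Scheme.Hom.comp_apply, ← Scheme.Hom.comp_apply, pullback.condition]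
  have h1 := IsHomeomorph.topologicalKrullDim_eq _ (πW.fiberHomeo w).isHomeomorph
  have h2 := IsHomeomorph.topologicalKrullDim_eq _ (π.fiberHomeo (ι w)).isHomeomorph
  have h3 := IsHomeomorph.topologicalKrullDim_eq _
    ((e.isEmbedding.homeomorphImage (πW ⁻¹' {w})).trans (Homeomorph.setCongr himg)).isHomeomorph
  rw [h1, h2, h3]

theorem isEmpty_of_topologicalKrullDim_eq_bot (T : Type*) [TopologicalSpace T]
    (h : topologicalKrullDim T = ⊥) : IsEmpty T := by
  by_contra hne
  rw [not_isEmpty_iff] at hne
  have h0 := topologicalKrullDim_nonneg_of_nonempty T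
  rw [h] at h0
  exact absurd h0 (by simp)

theorem compactSpace_of_immersion {W X : Scheme.{u}} (ι : W ⟶ X) [IsImmersion ι]
    [NoetherianSpace X] : CompactSpace W := by
  haveI : NoetherianSpace W := ι.isEmbedding.isInducing.noetherianSpace
  infer_instance

theorem main (k : Type u) [Field k] (C X W : Scheme.{u})
    (q : X ⟶ Spec (CommRingCat.of k)) (π : C ⟶ X) (ι : W ⟶ X)
    [LocallyOfFiniteType q] [CompactSpace X] [LocallyOfFiniteType π] [CompactSpace C]
    (κ : RegImm.Kind) (n c : ℕ) (hι : RegImm.IsRegularImmersionOfCodim κ c ι)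
    (hC : ∀ P ∈ irreducibleComponents (C : Type u), topologicalKrullDim P = n)
    (hB : ∀ j : ℕ, IsClosed {x : X | (j : WithBot ℕ∞) ≤ topologicalKrullDim (π.fiber x)}) :
    (∀ j : ℕ, topologicalKrullDim {x : X | (j : WithBot ℕ∞) ≤ topologicalKrullDim (π.fiber x)} +
        (j : WithBot ℕ∞) ≤ n) ∧
      (topologicalKrullDim (π ⁻¹' Set.range ι : Set C) + (c : WithBot ℕ∞) ≤ n ↔
        ∀ j : ℕ, topologicalKrullDim
          (ι ⁻¹' {x : X | (j : WithBot ℕ∞) ≤ topologicalKrullDim (π.fiber x)} : Set W) +
            (c : WithBot ℕ∞) + (j : WithBot ℕ∞) ≤ n) := by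
  haveI : IsImmersion ι := hι.1
  refine ⟨fun j => ?_, ?_⟩
  · have hCn : topologicalKrullDim C ≤ n :=
      Groth.Agent.Lib.R2H2.NodalRed.topologicalKrullDim_le_of_irreducibleComponents n
        (fun P hP => (hC P hP).le)
    have h1 := (Groth.Agent.S14480.result k C X q π n).mp hCn j
    rw [(hB j).closure_eq] at h1
    exact h1
  · -- the base change
    set e := pullback.fst π ι with he
    set πW := pullback.snd π ι with hπW
    haveI : IsLocallyNoetherian X := LocallyOfFiniteType.isLocallyNoetherian q
    haveI : IsNoetherian X := {}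
    haveI : LocallyOfFiniteType (π ≫ q) := inferInstance
    haveI : IsLocallyNoetherian C := LocallyOfFiniteType.isLocallyNoetherian (π ≫ q)
    haveI : IsNoetherian C := {}
    haveI : CompactSpace W := compactSpace_of_immersion ι
    haveI : IsImmersion e := inferInstance
    haveI : CompactSpace ↥(pullback π ι) := compactSpace_of_immersion e
    haveI : LocallyOfFiniteType (ι ≫ q) := inferInstance
    haveI : LocallyOfFiniteType πW := inferInstance
    have hrange : Set.range e = π ⁻¹' Set.range ι := Scheme.Pullback.range_fst π ι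
    have hD : topologicalKrullDim (π ⁻¹' Set.range ι : Set C) = topologicalKrullDim ↥(pullback π ι) :=
      (IsHomeomorph.topologicalKrullDim_eq _
        ((e.isEmbedding.toHomeomorph).trans (Homeomorph.setCongr hrange)).isHomeomorph).symm
    have hset : ∀ j : ℕ, {w : W | (j : WithBot ℕ∞) ≤ topologicalKrullDim (πW.fiber w)} =
        ι ⁻¹' {x : X | (j : WithBot ℕ∞) ≤ topologicalKrullDim (π.fiber x)} := by
      intro j
      ext w
      simp only [Set.mem_setOf_eq, Set.mem_preimage]
      rw [dim_fiber_pullback π ι w]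
    have hcl : ∀ j : ℕ, IsClosed {w : W | (j : WithBot ℕ∞) ≤ topologicalKrullDim (πW.fiber w)} := by
      intro j
      rw [hset j]
      exact (hB j).preimage ι.continuous
    rw [hD]
    rcases le_or_gt c n with hcn | hcn
    · have h1 := Groth.Agent.S14480.result k (pullback π ι) W (ι ≫ q) πW (n - c)
      rw [add_le_iff_le_sub hcn, h1]
      refine forall_congr' fun j => ?_
      rw [(hcl j).closure_eq, hset j, add_right_comm, add_le_iff_le_sub hcn]
    · constructor
      · intro h j
        have hbot := eq_bot_of_add_le_of_lt hcn h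
        haveI hemp : IsEmpty ↥(pullback π ι) := isEmpty_of_topologicalKrullDim_eq_bot _ hbot
        haveI : IsEmpty ↥(ι ⁻¹' {x : X | (j : WithBot ℕ∞) ≤ topologicalKrullDim (π.fiber x)}) := by
          refine ⟨fun ⟨w, hw⟩ => ?_⟩
          rw [← hset j] at hw
          have hw' : (j : WithBot ℕ∞) ≤ topologicalKrullDim (πW.fiber w) := hw
          haveI : IsEmpty ↥(πW.fiber w) := ⟨fun z => hemp.false (πW.fiberι w z)⟩
          rw [topologicalKrullDim_eq_bot_of_isEmpty] at hw'
          exact absurd hw' (by simp)
        rw [topologicalKrullDim_eq_bot_of_isEmpty, WithBot.bot_add, WithBot.bot_add]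
        exact bot_le
      · intro h
        have h0 := h 0
        rw [Nat.cast_zero, add_zero] at h0
        have hbot := eq_bot_of_add_le_of_lt hcn h0
        have hemp0 := isEmpty_of_topologicalKrullDim_eq_bot _ hbot
        haveI : IsEmpty ↥(pullback π ι) := by
          refine ⟨fun t => ?_⟩
          apply hemp0.false
          refine ⟨πW t, ?_⟩
          show (0 : WithBot ℕ∞) ≤ topologicalKrullDim (π.fiber (ι (πW t)))
          rw [← dim_fiber_pullback π ι (πW t)]
          haveI : Nonempty ↥((pullback.snd π ι).fiber (πW t)) := ⟨(pullback.snd π ι).asFiber t⟩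
          exact topologicalKrullDim_nonneg_of_nonempty _
        rw [topologicalKrullDim_eq_bot_of_isEmpty, WithBot.bot_add]
        exact bot_le

end Groth.Agent.Lib.R2LeadPropIntC
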