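import Mathlib
import Groth.Agent.Lib.R2LeadNhdProper2
import Groth.Agent.Lib.R2LeadDvrFunField
import Groth.Agent.Lib.R2LeadDvrClosure
import Groth.Agent.Lib.Helper19ComplDVR
import Groth.Agent.Lib.Helper10Spectral
import Groth.Agent.Lib.Helper11RedCl
import Groth.Agent.Lib.Helper10RedInd
import Groth.Agent.Lib.Helper14LocNoeth

/-!
# Properness of a locally constructible subset at a point (EGA IV 15.7.11) (lead)
-/

set_option autoImplicit false
universe u
open CategoryTheory Limits AlgebraicGeometry TopologicalSpace Opposite IsLocalRing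

namespace Groth.Agent.Lib.R2LeadProperAt

open Groth.Agent.Lib.R2LeadDvrFunField Groth.Agent.Lib.R2LeadNhdProper2
  Groth.Agent.Lib.R2LeadNhdProper

/-- Descent of a lifting along a local extension of the valuation ring. -/
theorem descend_lift {X Y : Scheme.{u}} (f : X ⟶ Y) {L : Type u} [Field L]
    (V : ValuationSubring L) {R K : Type u} [CommRing R] [IsLocalRing R] [Field K] [Algebra R K]
    (hinj : Function.Injective (algebraMap R K))
    (ψ : V →+* R) (hψ : IsLocalHom ψ) (θ : L →+* K)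
    (hψθ : ∀ v : V, algebraMap R K (ψ v) = θ (v : L))
    (a : Spec (CommRingCat.of L) ⟶ X) (g : Spec (CommRingCat.of V) ⟶ Y)
    (hag : a ≫ f = Spec.map (CommRingCat.ofHom V.subtype) ≫ g)
    (l' : Spec (CommRingCat.of R) ⟶ X)
    (hl'f : l' ≫ f = Spec.map (CommRingCat.ofHom ψ) ≫ g)
    (hl'a : Spec.map (CommRingCat.ofHom (algebraMap R K)) ≫ l' =
      Spec.map (CommRingCat.ofHom θ) ≫ a) :
    ∃ l : Spec (CommRingCat.of V) ⟶ X, l ≫ f = g ∧
      Spec.map (CommRingCat.ofHom V.subtype) ≫ l = a ∧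
        l (closedPoint V) = l' (closedPoint R) := by
  obtain ⟨x₀, hx₀⟩ : ∃ x₀, l' (closedPoint R) = x₀ := ⟨_, rfl⟩
  rw [hx₀]
  obtain ⟨ψ', hψ'loc, hψ'⟩ := exists_fac_fromSpecStalk l' x₀ hx₀
  obtain ⟨φa, -, hφa⟩ := exists_fac_fromSpecStalk a (a (closedPoint L)) rfl
  have hspec : a (closedPoint L) ⤳ x₀ := by
    rw [← hx₀]
    have h1 : (Spec.map (CommRingCat.ofHom (algebraMap R K))) (closedPoint K) ⤳ closedPoint R :=
      IsLocalRing.specializes_closedPoint _
    have h2 := h1.map l'.continuous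
    have e1 : l' ((Spec.map (CommRingCat.ofHom (algebraMap R K))) (closedPoint K)) =
        (Spec.map (CommRingCat.ofHom (algebraMap R K)) ≫ l') (closedPoint K) :=
      (Scheme.Hom.comp_apply _ _ _).symm
    have e2 : (Spec.map (CommRingCat.ofHom θ) ≫ a) (closedPoint K) =
        a ((Spec.map (CommRingCat.ofHom θ)) (closedPoint K)) := Scheme.Hom.comp_apply _ _ _
    have e3 : (Spec.map (CommRingCat.ofHom θ)) (closedPoint K) = closedPoint L :=
      @Subsingleton.elim (PrimeSpectrum L) _ _ _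
    rw [e1, hl'a, e2, e3] at h2
    exact h2
  set spx := X.presheaf.stalkSpecializes hspec with hspx
  have ha' : a = Spec.map (spx ≫ φa) ≫ X.fromSpecStalk x₀ := by
    rw [Spec.map_comp, Category.assoc, Scheme.SpecMap_stalkSpecializes_fromSpecStalk]
    exact hφa
  have hkey : (spx ≫ φa) ≫ CommRingCat.ofHom θ = ψ' ≫ CommRingCat.ofHom (algebraMap R K) := by
    apply Spec.map_injective
    apply (cancel_mono (X.fromSpecStalk x₀)).mp
    rw [Spec.map_comp, Category.assoc, ← ha', Spec.map_comp, Category.assoc, ← hψ', hl'a]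
  have hkey' : ∀ r : X.presheaf.stalk x₀,
      θ ((spx ≫ φa).hom r) = algebraMap R K (ψ'.hom r) := by
    intro r
    have := congrArg (fun m => m.hom r) hkey
    exact this
  have hmem : ∀ r, (spx ≫ φa).hom r ∈ V := by
    intro r
    by_contra hnot
    have hnu : ((spx ≫ φa).hom r)⁻¹ ∈ V.nonunits :=
      (ValuationSubring.inv_mem_nonunits_iff V).mpr (Or.inr hnot)
    obtain ⟨hinv, hmax⟩ := ValuationSubring.mem_nonunits_iff_exists_mem_maximalIdeal.mp hnu
    have hne : (spx ≫ φa).hom r ≠ 0 := fun h0 => hnot (by rw [h0]; exact V.zero_mem)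
    have h1 : algebraMap R K (ψ ⟨((spx ≫ φa).hom r)⁻¹, hinv⟩ * ψ'.hom r) = 1 := by
      rw [map_mul, hψθ, ← hkey' r]
      show θ ((spx ≫ φa).hom r)⁻¹ * θ ((spx ≫ φa).hom r) = 1
      rw [← map_mul, inv_mul_cancel₀ hne, map_one]
    have h2 : ψ ⟨((spx ≫ φa).hom r)⁻¹, hinv⟩ * ψ'.hom r = 1 :=
      hinj (by rw [h1, map_one])
    have h3 : IsUnit (ψ ⟨((spx ≫ φa).hom r)⁻¹, hinv⟩) := IsUnit.of_mul_eq_one _ h2
    exact ((mem_maximalIdeal _).mp hmax) (hψ.map_nonunit _ h3)
  let ψx : X.presheaf.stalk x₀ ⟶ CommRingCat.of V :=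
    CommRingCat.ofHom ((spx ≫ φa).hom.codRestrict V hmem)
  have hψxloc : IsLocalHom ψx.hom := by
    refine isLocalHom_codRestrict V (spx ≫ φa).hom hmem (fun r hr => ?_)
    rw [ValuationSubring.mem_nonunits_iff_exists_mem_maximalIdeal]
    refine ⟨hmem r, ?_⟩
    rw [mem_maximalIdeal]
    intro hu
    have hu' : IsUnit (ψ ⟨(spx ≫ φa).hom r, hmem r⟩) := hu.map ψ
    have h1 : algebraMap R K (ψ ⟨(spx ≫ φa).hom r, hmem r⟩) = algebraMap R K (ψ'.hom r) := by
      rw [hψθ, ← hkey' r]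
    have h2 := hinj h1
    rw [h2] at hu'
    exact ((mem_maximalIdeal _).mp hr) (hψ'loc.map_nonunit _ hu')
  have hψxsub : ψx ≫ CommRingCat.ofHom V.subtype = spx ≫ φa := by
    ext r; rfl
  let l : Spec (CommRingCat.of V) ⟶ X := Spec.map ψx ≫ X.fromSpecStalk x₀
  have hlx : l (closedPoint V) = x₀ := by
    have e : l (closedPoint V) = X.fromSpecStalk x₀ (Spec.map ψx (closedPoint V)) :=
      Scheme.Hom.comp_apply _ _ _
    rw [e]
    have e2 : Spec.map ψx (closedPoint V) = closedPoint (X.presheaf.stalk x₀) :=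
      IsLocalRing.comap_closedPoint ψx.hom
    rw [e2, Scheme.fromSpecStalk_closedPoint]
  have hil : Spec.map (CommRingCat.ofHom V.subtype) ≫ l = a := by
    show _ ≫ Spec.map ψx ≫ X.fromSpecStalk x₀ = a
    rw [← Category.assoc, ← Spec.map_comp, hψxsub, ← ha']
  refine ⟨l, ?_, hil, hlx⟩
  apply hom_ext_of_closedPoint V (l ≫ f) g (f x₀) ?_ ?_
  · rw [← Category.assoc, hil, hag]
  · have e : (l ≫ f) (closedPoint V) = f (l (closedPoint V)) := Scheme.Hom.comp_apply _ _ _
    rw [e, hlx]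
  · have e : f x₀ = (l' ≫ f) (closedPoint R) := by
      rw [← hx₀]; exact (Scheme.Hom.comp_apply _ _ _).symm
    rw [e, hl'f]
    have e2 : (Spec.map (CommRingCat.ofHom ψ) ≫ g) (closedPoint R) =
        g ((Spec.map (CommRingCat.ofHom ψ)) (closedPoint R)) := Scheme.Hom.comp_apply _ _ _
    rw [e2]
    have e3 : (Spec.map (CommRingCat.ofHom ψ)) (closedPoint R) = closedPoint V :=
      IsLocalRing.comap_closedPoint ψ
    rw [e3]

/-- Points of the spectrum of a discrete valuation ring. -/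
theorem dvr_point_cases (R : Type u) [CommRing R] [IsDomain R] [IsDiscreteValuationRing R]
    (K : Type u) [Field K] [Algebra R K] [IsFractionRing R K] (t : Spec (CommRingCat.of R)) :
    t = closedPoint R ∨ t = (Spec.map (CommRingCat.ofHom (algebraMap R K))) (closedPoint K) := by
  by_cases h : t.asIdeal = ⊥
  · right
    apply PrimeSpectrum.ext
    rw [h]
    ext x
    show x ∈ (⊥ : Ideal R) ↔ algebraMap R K x ∈ (closedPoint K).asIdeal
    have h0 : (closedPoint K).asIdeal = ⊥ := IsLocalRing.maximalIdeal_eq_bot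
    rw [h0, Ideal.mem_bot, Ideal.mem_bot]
    constructor
    · rintro rfl; exact map_zero _
    · intro hx; exact (IsFractionRing.injective R K) (by rw [hx, map_zero])
  · left
    apply PrimeSpectrum.ext
    have hmax : t.asIdeal.IsMaximal := Ring.DimensionLEOne.maximalOfPrime h t.2
    exact IsLocalRing.eq_maximalIdeal hmax

section K

variable {X Y : Scheme.{u}} (f : X ⟶ Y) (R : Type u) [CommRing R] [IsLocalRing R]
  (K : Type u) [Field K] [Algebra R K] (g : Spec (CommRingCat.of R) ⟶ Y)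

local notation "qm" => Spec.map (CommRingCat.ofHom (Ideal.Quotient.mk (maximalIdeal R)))
local notation "f'" => pullback.snd f g
local notation "pX" => pullback.fst f g
local notation "ηR" => (Spec.map (CommRingCat.ofHom (algebraMap R K))) (closedPoint K)

/-- The lifting over a complete discrete valuation ring. -/
theorem lift_complete [IsSeparated f] [LocallyOfFiniteType f] [QuasiCompact f] (Z : Set X)
    [IsDomain R] [IsDiscreteValuationRing R] [IsAdicComplete (maximalIdeal R) R]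
    [IsFractionRing R K] (a : Spec (CommRingCat.of K) ⟶ X)
    (hag : a ≫ f = Spec.map (CommRingCat.ofHom (algebraMap R K)) ≫ g)
    (haZ : a (closedPoint K) ∈ Z)
    (V₀ : (pullback f' qm).Opens)
    (hV₀ : ∀ v, v ∈ V₀ ↔ pX ((pullback.fst f' qm) v) ∈ Z)
    (hV₀p : IsProper (V₀.ι ≫ pullback.snd f' qm))
    (hconn : _root_.IsPreconnected ((pX).base ⁻¹' Z ∩ (f').base ⁻¹' {ηR}))
    (hsub : ¬ ∃ W : Set ↥(pullback f g), IsOpen W ∧ W ∩ (pX).base ⁻¹' Z =
      (f').base ⁻¹' {closedPoint R} ∩ (pX).base ⁻¹' Z) :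
    ∃ l : Spec (CommRingCat.of R) ⟶ X, l ≫ f = g ∧
      Spec.map (CommRingCat.ofHom (algebraMap R K)) ≫ l = a ∧ l (closedPoint R) ∈ Z := by
  have hN : IsNoetherianRing R := inferInstance
  obtain ⟨U, hUcl, hUp, hUV⟩ :=
    Groth.Agent.Lib.R2LeadAdicSplit.exists_clopen_proper R (maximalIdeal R) f' V₀ hV₀p
  have hUclopen : IsClopen (U : Set ↥(pullback f g)) := ⟨hUcl, U.2⟩
  have hclosedU : ∀ w : ↥(pullback f g), f' w = closedPoint R → (pX w ∈ Z ↔ w ∈ U) := by
    intro w hw
    have hwr : w ∈ Set.range (pullback.fst f' qm).base := by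
      rw [Groth.Agent.Lib.R2LeadAdicSplit.range_fst]
      show maximalIdeal R ≤ ((f').base w).asIdeal
      rw [hw]; exact le_refl _
    obtain ⟨v, rfl⟩ := hwr
    rw [← hV₀ v, ← hUV]
    rfl
  let a' : Spec (CommRingCat.of K) ⟶ pullback f g :=
    pullback.lift a (Spec.map (CommRingCat.ofHom (algebraMap R K))) hag
  have ha'1 : a' ≫ pX = a := pullback.lift_fst _ _ _
  have ha'2 : a' ≫ f' = Spec.map (CommRingCat.ofHom (algebraMap R K)) := pullback.lift_snd _ _ _
  have hx'Z : pX (a' (closedPoint K)) ∈ Z := by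
    have e : pX (a' (closedPoint K)) = (a' ≫ pX) (closedPoint K) :=
      (Scheme.Hom.comp_apply _ _ _).symm
    rw [e, ha'1]; exact haZ
  have hx'η : f' (a' (closedPoint K)) = ηR := by
    have e : f' (a' (closedPoint K)) = (a' ≫ f') (closedPoint K) :=
      (Scheme.Hom.comp_apply _ _ _).symm
    rw [e, ha'2]
  have hx'U : a' (closedPoint K) ∈ U := by
    by_contra hnot
    have hdisj : ∀ w, pX w ∈ Z → f' w = ηR → w ∉ U := by
      intro w hwZ hwη hwU
      have hsubU : ((pX).base ⁻¹' Z ∩ (f').base ⁻¹' {ηR}) ⊆ (U : Set ↥(pullback f g)) :=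
        hconn.subset_isClopen hUclopen ⟨w, ⟨hwZ, hwη⟩, hwU⟩
      exact hnot (hsubU ⟨hx'Z, hx'η⟩)
    apply hsub
    refine ⟨U, U.2, ?_⟩
    ext w
    constructor
    · rintro ⟨hwU, hwZ⟩
      refine ⟨?_, hwZ⟩
      rcases dvr_point_cases R K (f' w) with h | h
      · exact h
      · exact absurd hwU (hdisj w hwZ h)
    · rintro ⟨hwc, hwZ⟩
      exact ⟨(hclosedU w hwc).mp hwZ, hwZ⟩
  have hr : Set.range a' ⊆ Set.range U.ι := by
    rintro _ ⟨v, rfl⟩
    rw [Scheme.Opens.range_ι]
    have : v = closedPoint K := @Subsingleton.elim (PrimeSpectrum K) _ _ _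
    rw [this]; exact hx'U
  have ha'' : IsOpenImmersion.lift U.ι a' hr ≫ U.ι = a' := IsOpenImmersion.lift_fac _ _ _
  generalize IsOpenImmersion.lift U.ι a' hr = a'' at ha''
  have hsq : a'' ≫ (U.ι ≫ f') = Spec.map (CommRingCat.ofHom (algebraMap R K)) ≫ 𝟙 _ := by
    rw [← Category.assoc, ha'', ha'2, Category.comp_id]
  have hex : ValuativeCriterion.Existence (U.ι ≫ f') :=
    ((UniversallyClosed.eq_valuativeCriterion ▸
      (inferInstance : UniversallyClosed (U.ι ≫ f')) :
        (ValuativeCriterion.Existence ⊓ @QuasiCompact) _)).1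
  obtain ⟨⟨l'', hl1, hl2⟩⟩ := (hex ⟨R, K, a'', 𝟙 _, ⟨hsq⟩⟩).exists_lift
  refine ⟨l'' ≫ U.ι ≫ pX, ?_, ?_, ?_⟩
  · rw [Category.assoc, Category.assoc, pullback.condition, ← Category.assoc U.ι,
      ← Category.assoc l'', hl2, Category.id_comp]
  · rw [← Category.assoc, hl1, ← Category.assoc, ha'', ha'1]
  · have e : (l'' ≫ U.ι ≫ pX) (closedPoint R) = pX ((l'' ≫ U.ι) (closedPoint R)) := by
      rw [← Category.assoc]; exact Scheme.Hom.comp_apply _ _ _
    rw [e]
    have hwU : (l'' ≫ U.ι) (closedPoint R) ∈ U := by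
      have e2 : (l'' ≫ U.ι) (closedPoint R) = U.ι (l'' (closedPoint R)) :=
        Scheme.Hom.comp_apply _ _ _
      rw [e2]; exact (l'' (closedPoint R)).2
    have hwc : f' ((l'' ≫ U.ι) (closedPoint R)) = closedPoint R := by
      have e3 : f' ((l'' ≫ U.ι) (closedPoint R)) = ((l'' ≫ U.ι) ≫ f') (closedPoint R) :=
        (Scheme.Hom.comp_apply _ _ _).symm
      rw [e3, Category.assoc, hl2]; rfl
    exact (hclosedU _ hwc).mpr hwU

theorem asIdeal_eta [IsDomain R] [IsFractionRing R K] : (ηR).asIdeal = ⊥ := by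
  ext x
  show algebraMap R K x ∈ (closedPoint K).asIdeal ↔ x ∈ (⊥ : Ideal R)
  have h0 : (closedPoint K).asIdeal = ⊥ := IsLocalRing.maximalIdeal_eq_bot
  rw [h0, Ideal.mem_bot, Ideal.mem_bot]
  constructor
  · intro hx; exact (IsFractionRing.injective R K) (by rw [hx, map_zero])
  · rintro rfl; exact map_zero _

/-- The open subscheme of the closed fibre of the base change cut out by `Z`. -/
theorem exists_closedFibre_opens (Z : Set X) (c : Y) (hc : g (closedPoint R) = c)
    (hop : IsOpen ((f.fiberι c).base ⁻¹' Z))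
    (hp : IsProper (Scheme.Opens.ι (⟨(f.fiberι c).base ⁻¹' Z, hop⟩ : (f.fiber c).Opens) ≫
      f.fiberToSpecResidueField c)) :
    ∃ V₀ : (pullback f' qm).Opens, (∀ v, v ∈ V₀ ↔ pX ((pullback.fst f' qm) v) ∈ Z) ∧
      IsProper (V₀.ι ≫ pullback.snd f' qm) := by
  letI : Field (R ⧸ maximalIdeal R) := Ideal.Quotient.field _
  have hpt : (qm ≫ g) (closedPoint _) = c := by
    have e : (qm ≫ g) (closedPoint _) = g (qm (closedPoint _)) := Scheme.Hom.comp_apply _ _ _
    rw [e, specMap_mk_maximalIdeal, hc]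
  obtain ⟨φ, hφ⟩ := exists_fac_fromSpecResidueField (qm ≫ g) c hpt
  have big : IsPullback (pullback.fst f' qm ≫ pX) (pullback.snd f' qm) f (qm ≫ g) :=
    (IsPullback.of_hasPullback f' qm).paste_horiz (IsPullback.of_hasPullback f g)
  have right : IsPullback (f.fiberι c) (f.fiberToSpecResidueField c) f
      (Y.fromSpecResidueField c) := IsPullback.of_hasPullback _ _
  have hw : (pullback.fst f' qm ≫ pX) ≫ f =
      (pullback.snd f' qm ≫ Spec.map φ) ≫ Y.fromSpecResidueField c := by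
    rw [Category.assoc _ (Spec.map φ), ← hφ]; exact big.w
  let e := right.lift _ _ hw
  have he1 : e ≫ f.fiberι c = pullback.fst f' qm ≫ pX := right.lift_fst _ _ _
  have he2 : e ≫ f.fiberToSpecResidueField c = pullback.snd f' qm ≫ Spec.map φ :=
    right.lift_snd _ _ _
  have left : IsPullback e (pullback.snd f' qm) (f.fiberToSpecResidueField c) (Spec.map φ) := by
    refine IsPullback.of_right ?_ he2 right
    rw [he1, ← hφ]; exact big
  refine ⟨e ⁻¹ᵁ ⟨(f.fiberι c).base ⁻¹' Z, hop⟩, fun v => ?_, ?_⟩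
  · show (f.fiberι c) (e v) ∈ Z ↔ _
    have e' : (f.fiberι c) (e v) = (e ≫ f.fiberι c) v := (Scheme.Hom.comp_apply _ _ _).symm
    rw [e', he1]
    have e'' : (pullback.fst f' qm ≫ pX) v = pX ((pullback.fst f' qm) v) :=
      Scheme.Hom.comp_apply _ _ _
    rw [e'']
  · have sq := (isPullback_morphismRestrict e ⟨(f.fiberι c).base ⁻¹' Z, hop⟩).paste_vert left
    exact MorphismProperty.of_isPullback (P := @IsProper) sq hp

/-- The trace of `Z` on the generic fibre of the base change is preconnected. -/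
theorem isPreconnected_generic (Z : Set X) (y'' : Y) (hy'' : g ηR = y'')
    (h1 : ∀ (K' : Type u) [Field K'] [Algebra (IsLocalRing.ResidueField (Y.presheaf.stalk y'')) K'],
      _root_.IsPreconnected
        ((FBase.bcπ (f.fiberToSpecResidueField y'') K' ≫ f.fiberι y'').base ⁻¹' Z)) :
    _root_.IsPreconnected ((pX).base ⁻¹' Z ∩ (f').base ⁻¹' {ηR}) := by
  have hpt : (Spec.map (CommRingCat.ofHom (algebraMap R K)) ≫ g) (closedPoint K) = y'' := by
    have e : (Spec.map (CommRingCat.ofHom (algebraMap R K)) ≫ g) (closedPoint K) = g ηR :=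
      Scheme.Hom.comp_apply _ _ _
    rw [e]; exact hy''
  obtain ⟨φ, hφ⟩ := exists_fac_fromSpecResidueField
    (Spec.map (CommRingCat.ofHom (algebraMap R K)) ≫ g) y'' hpt
  letI : Algebra (IsLocalRing.ResidueField (Y.presheaf.stalk y'')) K := φ.hom.toAlgebra
  have hpre : _root_.IsPreconnected ((pullback.fst (f.fiberToSpecResidueField y'') (Spec.map φ) ≫
      f.fiberι y'').base ⁻¹' Z) := h1 K
  have big : IsPullback
      (pullback.fst f' (Spec.map (CommRingCat.ofHom (algebraMap R K))) ≫ pX)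
      (pullback.snd f' (Spec.map (CommRingCat.ofHom (algebraMap R K)))) f
      (Spec.map (CommRingCat.ofHom (algebraMap R K)) ≫ g) :=
    (IsPullback.of_hasPullback f' _).paste_horiz (IsPullback.of_hasPullback f g)
  have right : IsPullback (f.fiberι y'') (f.fiberToSpecResidueField y'') f
      (Y.fromSpecResidueField y'') := IsPullback.of_hasPullback _ _
  have hw : (pullback.fst f' (Spec.map (CommRingCat.ofHom (algebraMap R K))) ≫ pX) ≫ f =
      (pullback.snd f' (Spec.map (CommRingCat.ofHom (algebraMap R K))) ≫ Spec.map φ) ≫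
        Y.fromSpecResidueField y'' := by
    rw [Category.assoc _ (Spec.map φ), ← hφ]; exact big.w
  let e := right.lift _ _ hw
  have he1 : e ≫ f.fiberι y'' =
      pullback.fst f' (Spec.map (CommRingCat.ofHom (algebraMap R K))) ≫ pX :=
    right.lift_fst _ _ _
  have he2 : e ≫ f.fiberToSpecResidueField y'' =
      pullback.snd f' (Spec.map (CommRingCat.ofHom (algebraMap R K))) ≫ Spec.map φ :=
    right.lift_snd _ _ _
  have left : IsPullback e (pullback.snd f' (Spec.map (CommRingCat.ofHom (algebraMap R K))))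
      (f.fiberToSpecResidueField y'') (Spec.map φ) := by
    refine IsPullback.of_right ?_ he2 right
    rw [he1, ← hφ]; exact big
  obtain ⟨iso, hiso1⟩ : ∃ iso : pullback f' (Spec.map (CommRingCat.ofHom (algebraMap R K))) ≅
      pullback (f.fiberToSpecResidueField y'') (Spec.map φ),
      iso.hom ≫ pullback.fst _ _ = e := ⟨left.isoPullback, left.isoPullback_hom_fst⟩
  have hcomp : iso.inv ≫
      pullback.fst f' (Spec.map (CommRingCat.ofHom (algebraMap R K))) ≫ pX =
      pullback.fst (f.fiberToSpecResidueField y'') (Spec.map φ) ≫ f.fiberι y'' := by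
    rw [← he1, ← hiso1, Category.assoc, Iso.inv_hom_id_assoc]
  have hset : (pX).base ⁻¹' Z ∩ (f').base ⁻¹' {ηR} =
      (iso.inv ≫
        pullback.fst f' (Spec.map (CommRingCat.ofHom (algebraMap R K)))).base ''
      ((pullback.fst (f.fiberToSpecResidueField y'') (Spec.map φ) ≫
        f.fiberι y'').base ⁻¹' Z) := by
    ext w
    constructor
    · rintro ⟨hwZ, hwη⟩
      obtain ⟨u, hu1, -⟩ := Scheme.Pullback.exists_preimage_pullback (f := f')
        (g := Spec.map (CommRingCat.ofHom (algebraMap R K))) w (closedPoint K) hwη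
      refine ⟨iso.hom u, ?_, ?_⟩
      · show (pullback.fst (f.fiberToSpecResidueField y'') (Spec.map φ) ≫ f.fiberι y'')
          (iso.hom u) ∈ Z
        have e1 : (pullback.fst (f.fiberToSpecResidueField y'') (Spec.map φ) ≫ f.fiberι y'')
            (iso.hom u) =
            (iso.hom ≫ pullback.fst (f.fiberToSpecResidueField y'') (Spec.map φ) ≫
              f.fiberι y'') u := (Scheme.Hom.comp_apply _ _ _).symm
        rw [e1, ← Category.assoc, hiso1, he1]
        have e2 : (pullback.fst f' (Spec.map (CommRingCat.ofHom (algebraMap R K))) ≫ pX) u =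
            pX ((pullback.fst f' (Spec.map (CommRingCat.ofHom (algebraMap R K)))) u) :=
          Scheme.Hom.comp_apply _ _ _
        rw [e2, hu1]; exact hwZ
      · have e1 : (iso.inv ≫
            pullback.fst f' (Spec.map (CommRingCat.ofHom (algebraMap R K))))
            (iso.hom u) = (iso.hom ≫ iso.inv ≫
            pullback.fst f' (Spec.map (CommRingCat.ofHom (algebraMap R K)))) u :=
          (Scheme.Hom.comp_apply _ _ _).symm
        rw [e1, Iso.hom_inv_id_assoc]; exact hu1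
    · rintro ⟨v, hv, rfl⟩
      constructor
      · show pX ((iso.inv ≫
          pullback.fst f' (Spec.map (CommRingCat.ofHom (algebraMap R K)))) v) ∈ Z
        have e1 : pX ((iso.inv ≫
            pullback.fst f' (Spec.map (CommRingCat.ofHom (algebraMap R K)))) v) =
            ((iso.inv ≫
            pullback.fst f' (Spec.map (CommRingCat.ofHom (algebraMap R K)))) ≫ pX) v :=
          (Scheme.Hom.comp_apply _ _ _).symm
        rw [e1, Category.assoc, hcomp]
        exact hv
      · show f' ((iso.inv ≫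
          pullback.fst f' (Spec.map (CommRingCat.ofHom (algebraMap R K)))) v) = ηR
        have e1 : f' ((iso.inv ≫
            pullback.fst f' (Spec.map (CommRingCat.ofHom (algebraMap R K)))) v) =
            ((iso.inv ≫
            pullback.fst f' (Spec.map (CommRingCat.ofHom (algebraMap R K)))) ≫ f') v :=
          (Scheme.Hom.comp_apply _ _ _).symm
        rw [e1, Category.assoc, pullback.condition, ← Category.assoc]
        have e2 : ((iso.inv ≫
            pullback.snd f' (Spec.map (CommRingCat.ofHom (algebraMap R K)))) ≫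
            Spec.map (CommRingCat.ofHom (algebraMap R K))) v =
            (Spec.map (CommRingCat.ofHom (algebraMap R K))) ((iso.inv ≫
            pullback.snd f' (Spec.map (CommRingCat.ofHom (algebraMap R K)))) v) :=
          Scheme.Hom.comp_apply _ _ _
        rw [e2]
        congr 1
        exact @Subsingleton.elim (PrimeSpectrum K) _ _ _
  rw [hset]
  exact hpre.image _ (iso.inv ≫
    pullback.fst f' (Spec.map (CommRingCat.ofHom (algebraMap R K)))).continuous.continuousOn

/-- Universal submersiveness excludes that the closed fibre part of `Z'` is open in `Z'`. -/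
theorem not_exists_open [IsDomain R] [IsDiscreteValuationRing R] [IsFractionRing R K] (Z : Set X)
    (h3 : ∀ (E : Set ↥(Spec (CommRingCat.of R))), E ⊆ g.base ⁻¹' (f.base '' Z) →
      (∃ W : Set ↥(pullback f g), IsOpen W ∧
        W ∩ (pX).base ⁻¹' Z = (f').base ⁻¹' E ∩ (pX).base ⁻¹' Z) →
      ∃ V : Set ↥(Spec (CommRingCat.of R)), IsOpen V ∧ V ∩ g.base ⁻¹' (f.base '' Z) = E)
    (hc : g (closedPoint R) ∈ f.base '' Z) (hη : g ηR ∈ f.base '' Z) :
    ¬ ∃ W : Set ↥(pullback f g), IsOpen W ∧ W ∩ (pX).base ⁻¹' Z =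
      (f').base ⁻¹' {closedPoint R} ∩ (pX).base ⁻¹' Z := by
  intro hW
  obtain ⟨Vo, hVo, hVE⟩ := h3 {closedPoint R} (by rintro _ rfl; exact hc) hW
  have h1 : closedPoint R ∈ Vo := by
    have : closedPoint R ∈ Vo ∩ g.base ⁻¹' (f.base '' Z) := by rw [hVE]; rfl
    exact this.1
  have h2 : ηR ∈ Vo := (IsLocalRing.specializes_closedPoint ηR).mem_open hVo h1
  have h4 : ηR ∈ ({closedPoint R} : Set ↥(Spec (CommRingCat.of R))) := by
    rw [← hVE]; exact ⟨h2, hη⟩
  have h5 : (ηR).asIdeal = maximalIdeal R := congrArg PrimeSpectrum.asIdeal h4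
  rw [asIdeal_eta] at h5
  exact IsDiscreteValuationRing.not_a_field R h5.symm

end K

/-- The lifting property with centre `c`, for discrete valuation rings. -/
theorem lift_Z {X Y : Scheme.{u}} (f : X ⟶ Y) [IsSeparated f] [LocallyOfFiniteType f]
    [QuasiCompact f] (Z : Set X)
    (h3 : ∀ (Y' : Scheme.{u}) (h : Y' ⟶ Y) (E : Set Y'), E ⊆ h.base ⁻¹' (f.base '' Z) →
      (∃ W : Set ↥(pullback f h), IsOpen W ∧
        W ∩ (pullback.fst f h).base ⁻¹' Z =
          (pullback.snd f h).base ⁻¹' E ∩ (pullback.fst f h).base ⁻¹' Z) →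
      ∃ V : Set Y', IsOpen V ∧ V ∩ h.base ⁻¹' (f.base '' Z) = E)
    (c : Y) (hcZ : c ∈ f.base '' Z)
    (hop : IsOpen ((f.fiberι c).base ⁻¹' Z))
    (hp : IsProper (Scheme.Opens.ι (⟨(f.fiberι c).base ⁻¹' Z, hop⟩ : (f.fiber c).Opens) ≫
      f.fiberToSpecResidueField c))
    (L : Type u) [Field L] (V : ValuationSubring L) (hV : IsDiscreteValuationRing V)
    (a : Spec (CommRingCat.of L) ⟶ X) (g : Spec (CommRingCat.of V) ⟶ Y)
    (hag : a ≫ f = Spec.map (CommRingCat.ofHom V.subtype) ≫ g) (hgc : g (closedPoint V) = c)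
    (haZ : a (closedPoint L) ∈ Z)
    (h1 : ∀ (K : Type u) [Field K]
      [Algebra (IsLocalRing.ResidueField (Y.presheaf.stalk (f (a (closedPoint L))))) K],
        _root_.IsPreconnected ((FBase.bcπ (f.fiberToSpecResidueField (f (a (closedPoint L)))) K ≫
          f.fiberι (f (a (closedPoint L)))).base ⁻¹' Z)) :
    ∃ l : Spec (CommRingCat.of V) ⟶ X, l ≫ f = g ∧
      Spec.map (CommRingCat.ofHom V.subtype) ≫ l = a ∧ l (closedPoint V) ∈ Z := by
  haveI := hV
  have hNV : IsNoetherianRing V := inferInstance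
  obtain ⟨hdom, hdvr⟩ := (Groth.Agent.Lib.Helper19.isDiscreteValuationRing_iff_adicCompletion V).mp
    ⟨inferInstance, hV⟩
  let ψ : V →+* AdicCompletion (maximalIdeal V) V :=
    algebraMap V (AdicCompletion (maximalIdeal V) V)
  have hψloc : IsLocalHom ψ := inferInstance
  have hψinj : Function.Injective ψ :=
    fun x y hxy => AdicCompletion.of_injective (maximalIdeal V) V hxy
  have hinjK : Function.Injective (algebraMap (AdicCompletion (maximalIdeal V) V)
      (FractionRing (AdicCompletion (maximalIdeal V) V))) := IsFractionRing.injective _ _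
  have hginj : Function.Injective ((algebraMap (AdicCompletion (maximalIdeal V) V)
      (FractionRing (AdicCompletion (maximalIdeal V) V))).comp ψ) := hinjK.comp hψinj
  let θ : L →+* FractionRing (AdicCompletion (maximalIdeal V) V) := IsFractionRing.lift hginj
  have hψθ : ∀ v : V, algebraMap (AdicCompletion (maximalIdeal V) V)
      (FractionRing (AdicCompletion (maximalIdeal V) V)) (ψ v) = θ (v : L) := by
    intro v
    exact (IsFractionRing.lift_algebraMap hginj v).symm
  have hcompat : CommRingCat.ofHom V.subtype ≫ CommRingCat.ofHom θ =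
      CommRingCat.ofHom ψ ≫ CommRingCat.ofHom (algebraMap (AdicCompletion (maximalIdeal V) V)
        (FractionRing (AdicCompletion (maximalIdeal V) V))) := by
    ext v
    exact (hψθ v).symm
  have hag' : (Spec.map (CommRingCat.ofHom θ) ≫ a) ≫ f =
      Spec.map (CommRingCat.ofHom (algebraMap (AdicCompletion (maximalIdeal V) V)
        (FractionRing (AdicCompletion (maximalIdeal V) V)))) ≫
        (Spec.map (CommRingCat.ofHom ψ) ≫ g) := by
    rw [Category.assoc, hag, ← Category.assoc, ← Spec.map_comp, hcompat, Spec.map_comp,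
      Category.assoc]
  have hpt : (Spec.map (CommRingCat.ofHom θ) ≫ a)
      (closedPoint (FractionRing (AdicCompletion (maximalIdeal V) V))) = a (closedPoint L) := by
    have e : (Spec.map (CommRingCat.ofHom θ) ≫ a)
        (closedPoint (FractionRing (AdicCompletion (maximalIdeal V) V))) =
        a ((Spec.map (CommRingCat.ofHom θ)) (closedPoint _)) := Scheme.Hom.comp_apply _ _ _
    rw [e]
    congr 1
    exact @Subsingleton.elim (PrimeSpectrum L) _ _ _
  have hgc' : (Spec.map (CommRingCat.ofHom ψ) ≫ g)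
      (closedPoint (AdicCompletion (maximalIdeal V) V)) = c := by
    have e : (Spec.map (CommRingCat.ofHom ψ) ≫ g)
        (closedPoint (AdicCompletion (maximalIdeal V) V)) =
        g ((Spec.map (CommRingCat.ofHom ψ)) (closedPoint _)) := Scheme.Hom.comp_apply _ _ _
    rw [e]
    have e3 : (Spec.map (CommRingCat.ofHom ψ)) (closedPoint _) = closedPoint V :=
      IsLocalRing.comap_closedPoint ψ
    rw [e3, hgc]
  have hgη : (Spec.map (CommRingCat.ofHom ψ) ≫ g)
      ((Spec.map (CommRingCat.ofHom (algebraMap (AdicCompletion (maximalIdeal V) V)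
        (FractionRing (AdicCompletion (maximalIdeal V) V))))) (closedPoint _)) =
      f (a (closedPoint L)) := by
    have e : (Spec.map (CommRingCat.ofHom ψ) ≫ g)
        ((Spec.map (CommRingCat.ofHom (algebraMap (AdicCompletion (maximalIdeal V) V)
          (FractionRing (AdicCompletion (maximalIdeal V) V))))) (closedPoint _)) =
        (Spec.map (CommRingCat.ofHom (algebraMap (AdicCompletion (maximalIdeal V) V)
          (FractionRing (AdicCompletion (maximalIdeal V) V)))) ≫
          (Spec.map (CommRingCat.ofHom ψ) ≫ g)) (closedPoint _) :=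
      (Scheme.Hom.comp_apply _ _ _).symm
    rw [e, ← hag']
    have e2 : ((Spec.map (CommRingCat.ofHom θ) ≫ a) ≫ f) (closedPoint _) =
        f ((Spec.map (CommRingCat.ofHom θ) ≫ a) (closedPoint _)) := Scheme.Hom.comp_apply _ _ _
    rw [e2, hpt]
  obtain ⟨V₀, hV₀, hV₀p⟩ := exists_closedFibre_opens f (AdicCompletion (maximalIdeal V) V)
    (Spec.map (CommRingCat.ofHom ψ) ≫ g) Z c hgc' hop hp
  have hconn := isPreconnected_generic f (AdicCompletion (maximalIdeal V) V)
    (FractionRing (AdicCompletion (maximalIdeal V) V)) (Spec.map (CommRingCat.ofHom ψ) ≫ g) Z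
    (f (a (closedPoint L))) hgη h1
  have hsub := not_exists_open f (AdicCompletion (maximalIdeal V) V)
    (FractionRing (AdicCompletion (maximalIdeal V) V)) (Spec.map (CommRingCat.ofHom ψ) ≫ g) Z
    (h3 _ (Spec.map (CommRingCat.ofHom ψ) ≫ g)) (by rw [hgc']; exact hcZ)
    (by rw [hgη]; exact ⟨_, haZ, rfl⟩)
  obtain ⟨l', hl'1, hl'2, hl'3⟩ := lift_complete f (AdicCompletion (maximalIdeal V) V)
    (FractionRing (AdicCompletion (maximalIdeal V) V)) (Spec.map (CommRingCat.ofHom ψ) ≫ g) Z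
    (Spec.map (CommRingCat.ofHom θ) ≫ a) hag' (by rw [hpt]; exact haZ) V₀ hV₀ hV₀p hconn hsub
  obtain ⟨l, hl1, hl2, hl3⟩ := descend_lift f V hinjK ψ hψloc θ hψθ a g hag l' hl'1 hl'2
  exact ⟨l, hl1, hl2, by rw [hl3]; exact hl'3⟩

open Topology in
/-- In a scheme, points of the closure of a set which is constructibly closed on affine opens are
specializations of points of the set. -/
theorem exists_specializes_of_mem_closure {X : Scheme.{u}} (E : Set X)
    (hE : ∀ (U : X.Opens) (hU : IsAffineOpen U),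
      IsClosed[constructibleTopology ↥(Spec Γ(X, U))] (hU.fromSpec.base ⁻¹' E))
    (x : X) (hx : x ∈ closure E) : ∃ e ∈ E, e ⤳ x := by
  obtain ⟨_, ⟨U, hU, rfl⟩, hxU, -⟩ := X.isBasis_affineOpens.exists_subset_of_mem_open
    (Set.mem_univ x) isOpen_univ
  replace hU : IsAffineOpen U := hU
  have hemb := hU.fromSpec.isOpenEmbedding
  have hxr : x ∈ Set.range hU.fromSpec := by rw [hU.range_fromSpec]; exact hxU
  obtain ⟨x₀, rfl⟩ := hxr
  have hx₀ : x₀ ∈ closure (hU.fromSpec.base ⁻¹' E) := by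
    rw [← hemb.isOpenMap.preimage_closure_eq_closure_preimage hemb.continuous]
    exact hx
  obtain ⟨e, he, hex⟩ :=
    Groth.Agent.Lib.Helper10.Spectral.exists_specializes_of_mem_closure (hE U hU) hx₀
  exact ⟨hU.fromSpec e, he, hex.map hU.fromSpec.continuous⟩

open Topology in
theorem isClosed_constr_of_isLocallyConstructible {X : Scheme.{u}} (Z : Set X)
    (hZ : Topology.IsLocallyConstructible Z) (U : X.Opens) (hU : IsAffineOpen U) :
    IsClosed[constructibleTopology ↥(Spec Γ(X, U))] (hU.fromSpec.base ⁻¹' Z) :=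
  Groth.Agent.Lib.Helper10.Spectral.isClosed_constr_of_isConstructible
    (hZ.preimage_of_isOpenEmbedding hU.fromSpec.isOpenEmbedding).isConstructible

open Topology in
theorem isClosed_constr_diff {X : Scheme.{u}} (Z : Set X)
    (hZ : Topology.IsLocallyConstructible Z) (U : X.Opens) (hU : IsAffineOpen U) :
    IsClosed[constructibleTopology ↥(Spec Γ(X, U))] (hU.fromSpec.base ⁻¹' (closure Z \ Z)) := by
  have h1 : IsClosed[constructibleTopology ↥(Spec Γ(X, U))] (hU.fromSpec.base ⁻¹' closure Z) :=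
    Groth.Agent.Lib.Helper10.Spectral.isClosed_constr_of_isClosed
      (isClosed_closure.preimage hU.fromSpec.continuous)
  have h2 : IsClosed[constructibleTopology ↥(Spec Γ(X, U))] (hU.fromSpec.base ⁻¹' Z)ᶜ :=
    Groth.Agent.Lib.Helper10.Spectral.isClosed_constr_of_isConstructible
      (hZ.preimage_of_isOpenEmbedding hU.fromSpec.isOpenEmbedding).isConstructible.compl
  exact Groth.Agent.Lib.Helper10.Spectral.isClosed_constr_inter h1 h2

/-- Maximal points of the closure of a locally constructible set lie in the set. -/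
theorem maximal_mem {X : Scheme.{u}} (Z : Set X) (hZ : Topology.IsLocallyConstructible Z) :
    ∀ z ∈ closure Z, (∀ z' ∈ closure Z, z ∈ closure {z'} → z' = z) → z ∈ Z := by
  intro z hz hmax
  obtain ⟨e, he, hez⟩ := exists_specializes_of_mem_closure Z
    (isClosed_constr_of_isLocallyConstructible Z hZ) z hz
  rw [← hmax e (subset_closure he) (specializes_iff_mem_closure.mp hez)]
  exact he

open Scheme.IdealSheafData in
/-- The closure is proper near `y` if the lifting property holds. -/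
theorem proper_closure {X Y : Scheme.{u}} [IsLocallyNoetherian Y] (f : X ⟶ Y) [IsSeparated f]
    [LocallyOfFiniteType f] [QuasiCompact f] (Z : Set X)
    (hZ : ∀ z ∈ closure Z, (∀ z' ∈ closure Z, z ∈ closure {z'} → z' = z) → z ∈ Z) (y : Y)
    (H : ∀ (L : Type u) [Field L] (V : ValuationSubring L), IsDiscreteValuationRing V →
      ∀ (a : Spec (CommRingCat.of L) ⟶ X) (g : Spec (CommRingCat.of V) ⟶ Y),
        a ≫ f = Spec.map (CommRingCat.ofHom V.subtype) ≫ g → g (closedPoint V) = y →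
        a (closedPoint L) ∈ Z →
        ∃ l : Spec (CommRingCat.of V) ⟶ X, l ≫ f = g ∧
          Spec.map (CommRingCat.ofHom V.subtype) ≫ l = a) :
    ∃ U : Y.Opens, y ∈ U ∧
      IsProper (((vanishingIdeal ⟨closure Z, isClosed_closure⟩).subschemeι ≫ f) ∣_ U) := by
  let Zc : Closeds X := ⟨closure Z, isClosed_closure⟩
  let ιT := (vanishingIdeal Zc).subschemeι
  have hrT : Set.range ιT = closure Z :=
    Groth.Agent.Lib.Helper11RedCl.range_subschemeι_vanishingIdeal Zc
  have hM : ∀ η : (vanishingIdeal Zc).subscheme, (∀ η', η' ⤳ η → η' = η) → η ∈ ιT ⁻¹' Z := by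
    intro η hη
    apply hZ (ιT η) (by rw [← hrT]; exact ⟨η, rfl⟩)
    intro z' hz' hspec
    rw [← hrT] at hz'
    obtain ⟨η', rfl⟩ := hz'
    have h1 : η' ⤳ η :=
      (ιT.isClosedEmbedding.isInducing.specializes_iff).mp (specializes_iff_mem_closure.mpr hspec)
    rw [hη η' h1]
  have H' : ∀ (L : Type u) [Field L] (V : ValuationSubring L), IsDiscreteValuationRing V →
      ∀ (a : Spec (CommRingCat.of L) ⟶ (vanishingIdeal Zc).subscheme)
        (g : Spec (CommRingCat.of V) ⟶ Y),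
        a ≫ ιT ≫ f = Spec.map (CommRingCat.ofHom V.subtype) ≫ g → g (closedPoint V) = y →
        a (closedPoint L) ∈ ιT ⁻¹' Z →
        ∃ l : Spec (CommRingCat.of V) ⟶ (vanishingIdeal Zc).subscheme, l ≫ ιT ≫ f = g ∧
          Spec.map (CommRingCat.ofHom V.subtype) ≫ l = a := by
    intro L _ V hV a g hag hgy haZ
    have := hV
    have haZ' : (a ≫ ιT) (closedPoint L) ∈ Z := by
      have e : (a ≫ ιT) (closedPoint L) = ιT (a (closedPoint L)) := Scheme.Hom.comp_apply _ _ _
      rw [e]; exact haZ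
    obtain ⟨l₀, hl1, hl2⟩ := H L V hV (a ≫ ιT) g (by rw [Category.assoc]; exact hag) hgy haZ'
    have hrange : Set.range l₀ ⊆ (Zc : Set X) := by
      rintro _ ⟨w, rfl⟩
      show l₀ w ∈ closure Z
      have hgen : genericPoint (Spec (CommRingCat.of V)) ⤳ w := genericPoint_specializes w
      have h4 := hgen.map l₀.continuous
      have h5 : l₀ (genericPoint (Spec (CommRingCat.of V))) ∈ Z := by
        rw [← Groth.Agent.Lib.R2LeadDvrClosure.specMap_closedPoint_eq_genericPoint V.subtype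
          Subtype.val_injective]
        have e : l₀ ((Spec.map (CommRingCat.ofHom V.subtype)) (closedPoint L)) =
            (Spec.map (CommRingCat.ofHom V.subtype) ≫ l₀) (closedPoint L) :=
          (Scheme.Hom.comp_apply _ _ _).symm
        rw [e, hl2]; exact haZ'
      exact h4.mem_closed isClosed_closure (subset_closure h5)
    obtain ⟨l, hl⟩ := Groth.Agent.Lib.Helper11RedCl.exists_lift_of_range_subset l₀ Zc hrange
    refine ⟨l, ?_, ?_⟩
    · rw [← Category.assoc, hl, hl1]
    · rw [← cancel_mono ιT, Category.assoc, hl, hl2]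
  exact core'' (ιT ≫ f) y (ιT ⁻¹' Z) hM H'

/-- Points of the closure of `Z` over the centre lie in `Z`, if the strong lifting property
holds. -/
theorem mem_of_mem_closure {X Y : Scheme.{u}} [IsLocallyNoetherian Y] (f : X ⟶ Y) [IsSeparated f]
    [LocallyOfFiniteType f] [QuasiCompact f] (Z : Set X)
    (hZ : Topology.IsLocallyConstructible Z) (c : Y)
    (Hc : ∀ (L : Type u) [Field L] (V : ValuationSubring L), IsDiscreteValuationRing V →
      ∀ (a : Spec (CommRingCat.of L) ⟶ X) (g : Spec (CommRingCat.of V) ⟶ Y),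
        a ≫ f = Spec.map (CommRingCat.ofHom V.subtype) ≫ g → g (closedPoint V) = c →
        a (closedPoint L) ∈ Z →
        ∃ l : Spec (CommRingCat.of V) ⟶ X, l ≫ f = g ∧
          Spec.map (CommRingCat.ofHom V.subtype) ≫ l = a ∧ l (closedPoint V) ∈ Z)
    (t : X) (ht : t ∈ closure Z) (hft : f t = c) : t ∈ Z := by
  obtain ⟨z, hzZ, hzt⟩ := exists_specializes_of_mem_closure Z
    (isClosed_constr_of_isLocallyConstructible Z hZ) t ht
  by_cases hne : z = t
  · rw [← hne]; exact hzZ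
  have : IsLocallyNoetherian X := LocallyOfFiniteType.isLocallyNoetherian f
  obtain ⟨L, _, V, hV, a', gV, hsq, hgV, ha'⟩ :=
    Groth.Agent.Lib.R2LeadDvrClosure.dvr_through' (𝟙 X) z t hzt hne
  rw [Category.comp_id] at hsq
  have := hV
  obtain ⟨l, hl1, hl2, hl3⟩ := Hc L V hV a' (gV ≫ f) (by rw [← Category.assoc, hsq]) (by
      have e : (gV ≫ f) (closedPoint V) = f (gV (closedPoint V)) := Scheme.Hom.comp_apply _ _ _
      rw [e, hgV, hft]) (by rw [ha']; exact hzZ)
  have huq : ValuativeCriterion.Uniqueness f := IsSeparated.valuativeCriterion f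
  have hsq2 : CommSq a' (Spec.map (CommRingCat.ofHom (algebraMap V L))) f (gV ≫ f) :=
    ⟨by rw [← Category.assoc]; exact congrArg (· ≫ f) hsq.symm⟩
  have hss := huq ⟨V, L, _, _, hsq2⟩
  have e : (⟨l, hl2, hl1⟩ : hsq2.LiftStruct) = ⟨gV, hsq, rfl⟩ := Subsingleton.elim _ _
  have e' : l = gV := congrArg CommSq.LiftStruct.l e
  rw [← hgV, ← e']
  exact hl3

/-- If `Z` meets the fibre in a connected component, its trace on the fibre is open and closed. -/
theorem isClopen_fibre {X Y : Scheme.{u}} (f : X ⟶ Y) [LocallyOfFiniteType f] [QuasiCompact f]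
    (Z : Set X) (c : Y) (x : X)
    (h : Z ∩ f.base ⁻¹' {c} = connectedComponentIn (f.base ⁻¹' {c}) x) :
    IsClopen ((f.fiberι c).base ⁻¹' Z) := by
  have hlft : LocallyOfFiniteType (f.fiberToSpecResidueField c) :=
    MorphismProperty.pullback_snd (P := @LocallyOfFiniteType) _ _ inferInstance
  have hqc : QuasiCompact (f.fiberToSpecResidueField c) :=
    MorphismProperty.pullback_snd (P := @QuasiCompact) _ _ inferInstance
  have hlN : IsLocallyNoetherian (f.fiber c) :=
    LocallyOfFiniteType.isLocallyNoetherian (f.fiberToSpecResidueField c)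
  have hcpt : CompactSpace ↥(f.fiber c) :=
    QuasiCompact.compactSpace_of_compactSpace (f.fiberToSpecResidueField c)
  have hN : IsNoetherian (f.fiber c) := {}
  have hNS : NoetherianSpace ↥(f.fiber c) := inferInstance
  have hNS' : NoetherianSpace ↥(f.base ⁻¹' {c}) :=
    (noetherianSpace_iff_of_homeomorph (f.fiberHomeo c)).mp hNS
  have heq : (f.fiberι c).base ⁻¹' Z =
      (f.fiberι c).base ⁻¹' (connectedComponentIn (f.base ⁻¹' {c}) x) := by
    rw [← h]
    ext v
    constructor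
    · intro hv
      exact ⟨hv, (f.fiberHomeo c v).2⟩
    · intro hv
      exact hv.1
  rw [heq]
  by_cases hx : x ∈ f.base ⁻¹' {c}
  · rw [connectedComponentIn_eq_image hx]
    have heq2 : (f.fiberι c).base ⁻¹' (Subtype.val '' connectedComponent (⟨x, hx⟩ : f.base ⁻¹' {c})) =
        (f.fiberHomeo c) ⁻¹' (connectedComponent (⟨x, hx⟩ : f.base ⁻¹' {c})) := by
      ext v
      constructor
      · rintro ⟨p, hp, hpv⟩
        have : p = f.fiberHomeo c v := Subtype.ext hpv
        rw [Set.mem_preimage, ← this]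
        exact hp
      · intro hv
        exact ⟨f.fiberHomeo c v, hv, rfl⟩
    rw [heq2]
    exact ⟨isClosed_connectedComponent.preimage (f.fiberHomeo c).continuous,
      (Groth.Agent.Lib.Helper14.isOpen_connectedComponent_of_noetherianSpace _).preimage
        (f.fiberHomeo c).continuous⟩
  · rw [connectedComponentIn_eq_empty hx, Set.preimage_empty]
    exact isClopen_empty

open Scheme.IdealSheafData in
/-- If the closure of `Z` is proper over `U₀`, the traces of `Z` on the fibres over `U₀` which are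
open and closed are proper. -/
theorem isProper_fibre_opens {X Y : Scheme.{u}} (f : X ⟶ Y) [IsSeparated f]
    [LocallyOfFiniteType f] [QuasiCompact f] (Z : Set X) (U₀ : Y.Opens)
    (hU₀ : IsProper (((vanishingIdeal ⟨closure Z, isClosed_closure⟩).subschemeι ≫ f) ∣_ U₀))
    (c : Y) (hc : c ∈ U₀) (hcl : IsClosed ((f.fiberι c).base ⁻¹' Z))
    (hop : IsOpen ((f.fiberι c).base ⁻¹' Z)) :
    IsProper (Scheme.Opens.ι (⟨(f.fiberι c).base ⁻¹' Z, hop⟩ : (f.fiber c).Opens) ≫
      f.fiberToSpecResidueField c) := by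
  have hlft : LocallyOfFiniteType (f.fiberToSpecResidueField c) :=
    MorphismProperty.pullback_snd (P := @LocallyOfFiniteType) _ _ inferInstance
  have hsep : IsSeparated (f.fiberToSpecResidueField c) :=
    MorphismProperty.pullback_snd (P := @IsSeparated) _ _ inferInstance
  let Zc : Closeds X := ⟨closure Z, isClosed_closure⟩
  let ιT := (vanishingIdeal Zc).subschemeι
  let C : Closeds ↥(f.fiber c) := ⟨(f.fiberι c).base ⁻¹' Z, hcl⟩
  let w := (vanishingIdeal C).subschemeι
  have hrw : Set.range w = (f.fiberι c).base ⁻¹' Z :=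
    Groth.Agent.Lib.Helper11RedCl.range_subschemeι_vanishingIdeal C
  have hrange : Set.range (w ≫ f.fiberι c) ⊆ (Zc : Set X) := by
    rintro _ ⟨v, rfl⟩
    show (w ≫ f.fiberι c) v ∈ closure Z
    apply subset_closure
    have e : (w ≫ f.fiberι c) v = (f.fiberι c) (w v) := Scheme.Hom.comp_apply _ _ _
    rw [e]
    have : w v ∈ Set.range w := ⟨v, rfl⟩
    rw [hrw] at this
    exact this
  obtain ⟨l, hl⟩ := Groth.Agent.Lib.Helper11RedCl.exists_lift_of_range_subset
    (w ≫ f.fiberι c) Zc hrange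
  have right : IsPullback (f.fiberι c) (f.fiberToSpecResidueField c) f
      (Y.fromSpecResidueField c) := IsPullback.of_hasPullback _ _
  have hcond : l ≫ (ιT ≫ f) = (w ≫ f.fiberToSpecResidueField c) ≫ Y.fromSpecResidueField c := by
    rw [← Category.assoc, hl, Category.assoc, Category.assoc, right.w]
  let m : (vanishingIdeal C).subscheme ⟶ pullback (ιT ≫ f) (Y.fromSpecResidueField c) :=
    pullback.lift l (w ≫ f.fiberToSpecResidueField c) hcond
  have hm1 : m ≫ pullback.fst (ιT ≫ f) (Y.fromSpecResidueField c) = l := pullback.lift_fst _ _ _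
  have hm2 : m ≫ pullback.snd (ιT ≫ f) (Y.fromSpecResidueField c) =
      w ≫ f.fiberToSpecResidueField c := pullback.lift_snd _ _ _
  have hsnd : IsProper (pullback.snd (ιT ≫ f) (Y.fromSpecResidueField c)) := by
    have hbr : Set.range (Y.fromSpecResidueField c) ⊆ Set.range U₀.ι := by
      rintro _ ⟨v, rfl⟩
      rw [Scheme.Opens.range_ι]
      have hv : v = closedPoint (Y.residueField c) :=
        @Subsingleton.elim (PrimeSpectrum (Y.residueField c)) _ _ _
      rw [hv, Scheme.fromSpecResidueField_apply]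
      exact hc
    have hk : IsOpenImmersion.lift U₀.ι (Y.fromSpecResidueField c) hbr ≫ U₀.ι =
      Y.fromSpecResidueField c := IsOpenImmersion.lift_fac _ _ _
    generalize IsOpenImmersion.lift U₀.ι (Y.fromSpecResidueField c) hbr = k at hk
    refine isProper_of_factors (ιT ≫ f) U₀.ι ((ιT ≫ f) ∣_ U₀) ((ιT ≫ f) ⁻¹ᵁ U₀).ι
      (isPullback_morphismRestrict _ _).flip k
      (pullback.snd (ιT ≫ f) (Y.fromSpecResidueField c))
      (pullback.fst (ιT ≫ f) (Y.fromSpecResidueField c)) ?_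
    rw [hk]
    exact IsPullback.of_hasPullback _ _
  have hw' : (pullback.fst (ιT ≫ f) (Y.fromSpecResidueField c) ≫ ιT) ≫ f =
      pullback.snd (ιT ≫ f) (Y.fromSpecResidueField c) ≫ Y.fromSpecResidueField c := by
    rw [Category.assoc]; exact pullback.condition
  let q := right.lift _ _ hw'
  have hq1 : q ≫ f.fiberι c = pullback.fst (ιT ≫ f) (Y.fromSpecResidueField c) ≫ ιT :=
    right.lift_fst _ _ _
  have hq2 : q ≫ f.fiberToSpecResidueField c =
      pullback.snd (ιT ≫ f) (Y.fromSpecResidueField c) := right.lift_snd _ _ _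
  have hqmono : Mono q := ⟨fun x x' hxx' => by
    apply pullback.hom_ext
    · rw [← cancel_mono ιT, Category.assoc, Category.assoc, ← hq1, ← Category.assoc, hxx',
        Category.assoc]
    · rw [← hq2, ← Category.assoc, hxx', Category.assoc]⟩
  have hmq : m ≫ q = w := by
    apply right.hom_ext
    · rw [Category.assoc, hq1, ← Category.assoc, hm1, hl]
    · rw [Category.assoc, hq2, hm2]
  have hmqp : IsProper (m ≫ q) := by rw [hmq]; infer_instance
  have hmp : IsProper m := IsProper.of_comp m q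
  have hwp : IsProper (w ≫ f.fiberToSpecResidueField c) := by
    rw [← hm2]; infer_instance
  -- pass to the open subscheme
  have hrs : Set.range w ⊆ Set.range
      (Scheme.Opens.ι (⟨(f.fiberι c).base ⁻¹' Z, hop⟩ : (f.fiber c).Opens)) := by
    rw [Scheme.Opens.range_ι, hrw]
    rfl
  have hs : IsOpenImmersion.lift
      (Scheme.Opens.ι (⟨(f.fiberι c).base ⁻¹' Z, hop⟩ : (f.fiber c).Opens)) w hrs ≫
      Scheme.Opens.ι (⟨(f.fiberι c).base ⁻¹' Z, hop⟩ : (f.fiber c).Opens) = w :=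
    IsOpenImmersion.lift_fac _ _ _
  generalize IsOpenImmersion.lift
      (Scheme.Opens.ι (⟨(f.fiberι c).base ⁻¹' Z, hop⟩ : (f.fiber c).Opens)) w hrs = s at hs
  have hsurj : Surjective s := by
    refine ⟨fun v => ?_⟩
    have hv : (Scheme.Opens.ι (⟨(f.fiberι c).base ⁻¹' Z, hop⟩ : (f.fiber c).Opens)) v ∈
        Set.range w := by
      rw [hrw]; exact v.2
    obtain ⟨u, hu⟩ := hv
    refine ⟨u, ?_⟩
    apply (Scheme.Opens.ι (⟨(f.fiberι c).base ⁻¹' Z, hop⟩ :
      (f.fiber c).Opens)).isOpenEmbedding.injective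
    rw [← hu, ← hs]
    exact (Scheme.Hom.comp_apply _ _ _).symm
  have huc' : UniversallyClosed (s ≫ (Scheme.Opens.ι (⟨(f.fiberι c).base ⁻¹' Z, hop⟩ :
      (f.fiber c).Opens) ≫ f.fiberToSpecResidueField c)) := by
    rw [← Category.assoc, hs]
    exact hwp.toUniversallyClosed
  have huc : UniversallyClosed (Scheme.Opens.ι (⟨(f.fiberι c).base ⁻¹' Z, hop⟩ :
      (f.fiber c).Opens) ≫ f.fiberToSpecResidueField c) :=
    UniversallyClosed.of_comp_surjective s _
  exact { }

open Scheme.IdealSheafData in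
/-- Shrinking the neighbourhood so that `Z` becomes closed. -/
theorem shrink {X Y : Scheme.{u}} (y : Y) (f : X ⟶ Y) (Z : Set X) (U₀ : Y.Opens) (hyU₀ : y ∈ U₀)
    (hU₀ : IsProper (((vanishingIdeal ⟨closure Z, isClosed_closure⟩).subschemeι ≫ f) ∣_ U₀))
    (HD : ∀ x₁ ∈ closure (closure Z \ Z), f x₁ ≠ y) :
    ∃ U : Y.Opens, y ∈ U ∧
      (f ⁻¹ᵁ U).ι.base ⁻¹' Z = (f ⁻¹ᵁ U).ι.base ⁻¹' closure Z ∧
      IsProper (((vanishingIdeal ⟨closure Z, isClosed_closure⟩).subschemeι ≫ f) ∣_ U) := by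
  let Zc : Closeds X := ⟨closure Z, isClosed_closure⟩
  let ιT := (vanishingIdeal Zc).subschemeι
  have hrT : Set.range ιT = closure Z :=
    Groth.Agent.Lib.Helper11RedCl.range_subschemeι_vanishingIdeal Zc
  have hqcl : IsClosedMap ((ιT ≫ f) ∣_ U₀).base := ((ιT ≫ f) ∣_ U₀).isClosedMap
  have hBcl : IsClosed (((ιT ≫ f) ⁻¹ᵁ U₀).ι.base ⁻¹' (ιT.base ⁻¹' closure (closure Z \ Z))) :=
    (isClosed_closure.preimage ιT.continuous).preimage ((ιT ≫ f) ⁻¹ᵁ U₀).ι.continuous
  have hEcl := hqcl _ hBcl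
  have hq : ∀ b : ↥((ιT ≫ f) ⁻¹ᵁ U₀), U₀.ι (((ιT ≫ f) ∣_ U₀) b) =
      f (ιT (((ιT ≫ f) ⁻¹ᵁ U₀).ι b)) := by
    intro b
    have e1 : U₀.ι (((ιT ≫ f) ∣_ U₀) b) = (((ιT ≫ f) ∣_ U₀) ≫ U₀.ι) b :=
      (Scheme.Hom.comp_apply _ _ _).symm
    rw [e1, morphismRestrict_ι]
    have e2 : (((ιT ≫ f) ⁻¹ᵁ U₀).ι ≫ ιT ≫ f) b = (ιT ≫ f) (((ιT ≫ f) ⁻¹ᵁ U₀).ι b) :=
      Scheme.Hom.comp_apply _ _ _
    rw [e2]
    exact Scheme.Hom.comp_apply _ _ _
  obtain ⟨U', hU'⟩ : ∃ U' : U₀.toScheme.Opens, (U' : Set U₀.toScheme) =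
      (((ιT ≫ f) ∣_ U₀).base ''
        (((ιT ≫ f) ⁻¹ᵁ U₀).ι.base ⁻¹' (ιT.base ⁻¹' closure (closure Z \ Z))))ᶜ :=
    ⟨⟨_, hEcl.isOpen_compl⟩, rfl⟩
  have hmemU' : ∀ u : U₀.toScheme, u ∈ U' ↔ ¬ ∃ b : ↥((ιT ≫ f) ⁻¹ᵁ U₀),
      ιT (((ιT ≫ f) ⁻¹ᵁ U₀).ι b) ∈ closure (closure Z \ Z) ∧ ((ιT ≫ f) ∣_ U₀) b = u := by
    intro u
    have : u ∈ U' ↔ u ∈ (U' : Set U₀.toScheme) := Iff.rfl
    rw [this, hU']
    rfl
  have hyU' : (⟨y, hyU₀⟩ : U₀.toScheme) ∈ U' := by
    refine (hmemU' ⟨y, hyU₀⟩).mpr ?_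
    rintro ⟨b, hb, hqb⟩
    apply HD _ hb
    rw [← hq b, hqb]
    rfl
  have hC' : (f ⁻¹ᵁ (U₀.ι ''ᵁ U')).ι.base ⁻¹' Z = (f ⁻¹ᵁ (U₀.ι ''ᵁ U')).ι.base ⁻¹' closure Z := by
    ext v
    constructor
    · intro hv; exact subset_closure hv
    · intro hv
      by_contra hnot
      have hvD : (f ⁻¹ᵁ (U₀.ι ''ᵁ U')).ι v ∈ closure (closure Z \ Z) :=
        subset_closure ⟨hv, hnot⟩
      have hvr : (f ⁻¹ᵁ (U₀.ι ''ᵁ U')).ι v ∈ Set.range ιT := by rw [hrT]; exact hv
      obtain ⟨w, hw⟩ := hvr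
      obtain ⟨u', hu', hu'v⟩ : f ((f ⁻¹ᵁ (U₀.ι ''ᵁ U')).ι v) ∈ U₀.ι ''ᵁ U' := v.2
      have hu'v' : U₀.ι u' = f ((f ⁻¹ᵁ (U₀.ι ''ᵁ U')).ι v) := hu'v
      have hwU₀ : w ∈ (ιT ≫ f) ⁻¹ᵁ U₀ := by
        show (ιT ≫ f) w ∈ U₀
        have e : (ιT ≫ f) w = f (ιT w) := Scheme.Hom.comp_apply _ _ _
        rw [e, hw, ← hu'v']
        exact u'.2
      apply (hmemU' u').mp hu'
      refine ⟨⟨w, hwU₀⟩, ?_, ?_⟩
      · show ιT w ∈ closure (closure Z \ Z)
        rw [hw]; exact hvD
      · apply U₀.ι.isOpenEmbedding.injective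
        rw [hq ⟨w, hwU₀⟩, hu'v']
        show f (ιT w) = _
        rw [hw]
  have hU₁ : IsProper ((ιT ≫ f) ∣_ (U₀.ι ''ᵁ U')) :=
    (MorphismProperty.arrow_mk_iso_iff @IsProper (morphismRestrictRestrict (ιT ≫ f) U₀ U')).mp
      (IsZariskiLocalAtTarget.restrict (P := @IsProper) hU₀ U')
  exact ⟨U₀.ι ''ᵁ U', ⟨⟨y, hyU₀⟩, hyU', rfl⟩, hC', hU₁⟩

open Scheme.IdealSheafData in
/-- Identification with the reduced induced structure. -/
theorem proper_of_closure {X Y : Scheme.{u}} (f : X ⟶ Y) (Z : Set X) (U : Y.Opens)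
    (hU₁ : IsProper (((vanishingIdeal ⟨closure Z, isClosed_closure⟩).subschemeι ≫ f) ∣_ U))
    (CU : Closeds ((f ⁻¹ᵁ U).toScheme))
    (hCU : (CU : Set ((f ⁻¹ᵁ U).toScheme)) = (f ⁻¹ᵁ U).ι ⁻¹' closure Z) :
    IsProper ((vanishingIdeal CU).subschemeι ≫ (f ∣_ U)) := by
  let Zc : Closeds X := ⟨closure Z, isClosed_closure⟩
  let ιT := (vanishingIdeal Zc).subschemeι
  have hrT : Set.range ιT = closure Z :=
    Groth.Agent.Lib.Helper11RedCl.range_subschemeι_vanishingIdeal Zc
  have hU₁' : IsProper ((ιT ≫ f) ∣_ U) := hU₁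
  rw [morphismRestrict_comp] at hU₁'
  have hrange : Set.range (ιT ∣_ (f ⁻¹ᵁ U)) = Set.range (vanishingIdeal CU).subschemeι := by
    rw [Groth.Agent.Lib.Helper11RedCl.range_subschemeι_vanishingIdeal, hCU]
    ext v
    constructor
    · rintro ⟨w, rfl⟩
      show (f ⁻¹ᵁ U).ι ((ιT ∣_ (f ⁻¹ᵁ U)) w) ∈ closure Z
      have e : (f ⁻¹ᵁ U).ι ((ιT ∣_ (f ⁻¹ᵁ U)) w) = ιT ((ιT ⁻¹ᵁ (f ⁻¹ᵁ U)).ι w) := by
        rw [← Scheme.Hom.comp_apply, morphismRestrict_ι, Scheme.Hom.comp_apply]
      rw [e, ← hrT]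
      exact ⟨_, rfl⟩
    · intro hv
      have hv' : (f ⁻¹ᵁ U).ι v ∈ Set.range ιT := by rw [hrT]; exact hv
      obtain ⟨t, ht⟩ := hv'
      have htU : t ∈ ιT ⁻¹ᵁ (f ⁻¹ᵁ U) := by
        show ιT t ∈ f ⁻¹ᵁ U
        rw [ht]; exact v.2
      refine ⟨⟨t, htU⟩, ?_⟩
      apply (f ⁻¹ᵁ U).ι.isOpenEmbedding.injective
      rw [← Scheme.Hom.comp_apply, morphismRestrict_ι, Scheme.Hom.comp_apply]
      exact ht
  obtain ⟨e, he⟩ := Groth.Agent.Lib.Helper10.RedInd.exists_iso_of_isClosedImmersion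
    (ιT ∣_ (f ⁻¹ᵁ U)) (vanishingIdeal CU).subschemeι hrange
  have e2 : (vanishingIdeal CU).subschemeι ≫ f ∣_ U =
      e.inv ≫ (ιT ∣_ (f ⁻¹ᵁ U) ≫ f ∣_ U) := by
    rw [← he, Category.assoc, Iso.inv_hom_id_assoc]
  rw [e2]
  exact (MorphismProperty.cancel_left_of_respectsIso @IsProper e.inv _).mpr hU₁'

/-- EGA IV 15.7.11. -/
theorem main {X Y : Scheme.{u}} [IsLocallyNoetherian Y] (y : Y)
    (f : X ⟶ Y) [IsSeparated f] [LocallyOfFiniteType f] [QuasiCompact f] (Z : Set X)
    (hZ : Topology.IsLocallyConstructible Z)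
    (h1 : ∀ y' : Y, y' ⤳ y → (∃ x ∈ Z, f.base x = y' ∧ Z ∩ f.base ⁻¹' {y'} = connectedComponentIn (f.base ⁻¹' {y'}) x) ∧
      ∀ (K : Type u) [Field K] [Algebra (IsLocalRing.ResidueField (Y.presheaf.stalk y')) K],
        _root_.IsPreconnected ((FBase.bcπ (f.fiberToSpecResidueField y') K ≫ f.fiberι y').base ⁻¹' Z))
    (hop : IsOpen ((f.fiberι y).base ⁻¹' Z))
    (h2 : IsProper (Scheme.Opens.ι (⟨(f.fiberι y).base ⁻¹' Z, hop⟩ : (f.fiber y).Opens) ≫ f.fiberToSpecResidueField y))
    (h3 : ∀ (Y' : Scheme.{u}) (h : Y' ⟶ Y) (E : Set Y'), E ⊆ h.base ⁻¹' (f.base '' Z) →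
      (∃ W : Set ↥(pullback f h), IsOpen W ∧
        W ∩ (pullback.fst f h).base ⁻¹' Z = (pullback.snd f h).base ⁻¹' E ∩ (pullback.fst f h).base ⁻¹' Z) →
      ∃ V : Set Y', IsOpen V ∧ V ∩ h.base ⁻¹' (f.base '' Z) = E) :
    ∃ U : Y.Opens, y ∈ U ∧ ∃ hC : IsClosed ((f ⁻¹ᵁ U).ι.base ⁻¹' Z),
      IsProper ((Scheme.IdealSheafData.vanishingIdeal
        (⟨(f ⁻¹ᵁ U).ι.base ⁻¹' Z, hC⟩ : TopologicalSpace.Closeds ↥(f ⁻¹ᵁ U))).subschemeι ≫ (f ∣_ U)) := by
  -- the lifting property with centre a generization of `y`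
  have HL : ∀ c : Y, c ⤳ y → ∀ (hopc : IsOpen ((f.fiberι c).base ⁻¹' Z)),
      IsProper (Scheme.Opens.ι (⟨(f.fiberι c).base ⁻¹' Z, hopc⟩ : (f.fiber c).Opens) ≫
        f.fiberToSpecResidueField c) →
      ∀ (L : Type u) [Field L] (V : ValuationSubring L), IsDiscreteValuationRing V →
      ∀ (a : Spec (CommRingCat.of L) ⟶ X) (g : Spec (CommRingCat.of V) ⟶ Y),
        a ≫ f = Spec.map (CommRingCat.ofHom V.subtype) ≫ g → g (closedPoint V) = c →
        a (closedPoint L) ∈ Z →
        ∃ l : Spec (CommRingCat.of V) ⟶ X, l ≫ f = g ∧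
          Spec.map (CommRingCat.ofHom V.subtype) ≫ l = a ∧ l (closedPoint V) ∈ Z := by
    intro c hcy hopc hpc L _ V hV a g hag hgc haZ
    obtain ⟨⟨x, hxZ, hfx, -⟩, -⟩ := h1 c hcy
    have hy'' : f (a (closedPoint L)) ⤳ y := by
      have h0 : (Spec.map (CommRingCat.ofHom V.subtype)) (closedPoint L) ⤳ closedPoint V :=
        IsLocalRing.specializes_closedPoint _
      have h0' := h0.map g.continuous
      have e : g ((Spec.map (CommRingCat.ofHom V.subtype)) (closedPoint L)) =
          f (a (closedPoint L)) := by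
        have e1 : g ((Spec.map (CommRingCat.ofHom V.subtype)) (closedPoint L)) =
            (Spec.map (CommRingCat.ofHom V.subtype) ≫ g) (closedPoint L) :=
          (Scheme.Hom.comp_apply _ _ _).symm
        rw [e1, ← hag]
        exact Scheme.Hom.comp_apply _ _ _
      rw [e, hgc] at h0'
      exact h0'.trans hcy
    exact lift_Z f Z h3 c ⟨x, hxZ, hfx⟩ hopc hpc L V hV a g hag hgc haZ (h1 _ hy'').2
  -- the closure is proper near `y`
  obtain ⟨U₀, hyU₀, hU₀⟩ := proper_closure f Z (maximal_mem Z hZ) y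
    (fun L _ V hV a g hag hgy haZ => by
      obtain ⟨l, h1', h2', -⟩ := HL y specializes_rfl hop h2 L V hV a g hag hgy haZ
      exact ⟨l, h1', h2'⟩)
  -- the fibres over generizations
  have Hfib : ∀ c : Y, c ⤳ y → ∃ hopc : IsOpen ((f.fiberι c).base ⁻¹' Z),
      IsProper (Scheme.Opens.ι (⟨(f.fiberι c).base ⁻¹' Z, hopc⟩ : (f.fiber c).Opens) ≫
        f.fiberToSpecResidueField c) := by
    intro c hcy
    obtain ⟨⟨x, hxZ, hfx, hcomp⟩, -⟩ := h1 c hcy
    have hclopen := isClopen_fibre f Z c x hcomp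
    exact ⟨hclopen.2, isProper_fibre_opens f Z U₀ hU₀ c (hcy.mem_open U₀.2 hyU₀)
      hclopen.1 hclopen.2⟩
  have Hstar : ∀ t ∈ closure Z, f t ⤳ y → t ∈ Z := by
    intro t ht hty
    obtain ⟨hopc, hpc⟩ := Hfib (f t) hty
    exact mem_of_mem_closure f Z hZ (f t) (HL (f t) hty hopc hpc) t ht rfl
  have HD : ∀ x₁ ∈ closure (closure Z \ Z), f x₁ ≠ y := by
    intro x₁ hx₁ hfx₁
    obtain ⟨d, hdD, hdx⟩ := exists_specializes_of_mem_closure (closure Z \ Z)
      (isClosed_constr_diff Z hZ) x₁ hx₁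
    have h5 : f d ⤳ y := by rw [← hfx₁]; exact hdx.map f.continuous
    exact hdD.2 (Hstar d hdD.1 h5)
  obtain ⟨U, hyU, hC', hU₁⟩ := shrink y f Z U₀ hyU₀ hU₀ HD
  have hC : IsClosed ((f ⁻¹ᵁ U).ι.base ⁻¹' Z) := by
    rw [hC']
    exact isClosed_closure.preimage (f ⁻¹ᵁ U).ι.continuous
  exact ⟨U, hyU, hC, proper_of_closure f Z U hU₁ ⟨_, hC⟩ hC'⟩

end Groth.Agent.Lib.R2LeadProperAt
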