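import Groth.Agent.Lib.R2LeadAlgzH
import Groth.Agent.Lib.Helper23Extend2
import Groth.Agent.Lib.Helper23QCohAbelian

set_option autoImplicit false
set_option linter.style.haveILetI false
universe u
open CategoryTheory CategoryTheory.Limits AlgebraicGeometry Opposite

namespace Groth.Agent.Lib.R2LeadPunctA

open Groth.Agent.Lib.R2LeadAlgzE Groth.Agent.Lib.R2LeadAlgzA Groth.Agent.Lib.R2LeadAlgzC

variable {A : Type u} [CommRing A]

instance preservesFiniteLimits_Rf (U : (Spec (CommRingCat.of A)).Opens) :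
    PreservesFiniteLimits (Rf U) := by
  haveI : PreservesFiniteLimits (tilde.functor (CommRingCat.of A)) :=
    (Groth.Agent.S9498.aux (CommRingCat.of A)).1
  haveI : (Scheme.Modules.restrictFunctor U.ι).IsRightAdjoint :=
    Groth.Agent.Lib.Helper23.QCohLocal.restrictFunctor_isRightAdjoint U.ι
  haveI : PreservesFiniteLimits (Scheme.Modules.restrictFunctor U.ι) := inferInstance
  exact comp_preservesFiniteLimits _ _

instance preservesFiniteColimits_Rf (U : (Spec (CommRingCat.of A)).Opens) :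
    PreservesFiniteColimits (Rf U) := by
  haveI : (Scheme.Modules.restrictFunctor U.ι).IsLeftAdjoint :=
    (Scheme.Modules.restrictAdjunction U.ι).isLeftAdjoint
  haveI : PreservesFiniteColimits (Scheme.Modules.restrictFunctor U.ι) := inferInstance
  haveI : PreservesFiniteColimits (tilde.functor (CommRingCat.of A)) :=
    (Groth.Agent.S9498.aux (CommRingCat.of A)).2
  exact comp_preservesFiniteColimits _ _

instance additive_Rf (U : (Spec (CommRingCat.of A)).Opens) : (Rf U).Additive := by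
  haveI : (Scheme.Modules.restrictFunctor U.ι).Additive :=
    (Scheme.Modules.restrictAdjunction U.ι).left_adjoint_additive
  infer_instance

/-- `Rf` kills a map `p` after an `Rf`-epi `g` with `g ≫ p = 0`. -/
lemma Rf_map_eq_zero_of_epi (U : (Spec (CommRingCat.of A)).Opens) {M N Q : ModuleCat.{u} A}
    (g : M ⟶ N) (p : N ⟶ Q) (h : g ≫ p = 0) [Epi ((Rf U).map g)] : (Rf U).map p = 0 := by
  rw [← cancel_epi ((Rf U).map g), ← Functor.map_comp, h, Functor.map_zero, comp_zero]

lemma Rf_map_eq_zero_of_mono (U : (Spec (CommRingCat.of A)).Opens) {K N Q : ModuleCat.{u} A}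
    (i : K ⟶ N) (p : N ⟶ Q) (h : i ≫ p = 0) [Mono ((Rf U).map p)] : (Rf U).map i = 0 := by
  rw [← cancel_mono ((Rf U).map p), ← Functor.map_comp, h, Functor.map_zero, zero_comp]


/-- sections of a module over opens inside `U` vanish when the restriction to `U` is zero. -/
lemma sections_eq_zero_of_isZero_restrict (U : (Spec (CommRingCat.of A)).Opens)
    (G : (Spec (CommRingCat.of A)).Modules)
    (hG : IsZero ((Scheme.Modules.restrictFunctor U.ι).obj G))
    (V : (Spec (CommRingCat.of A)).Opens) (hV : V ≤ U) (s : Γ(G, V)) : s = 0 := by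
  have h0 : IsIso ((Scheme.Modules.restrictFunctor U.ι).map (0 : G ⟶ G)) := by
    rw [Functor.map_zero]
    exact ⟨⟨0, hG.eq_of_src _ _, hG.eq_of_src _ _⟩⟩
  have h1 := (Groth.Agent.Lib.Helper23.Extend.isIso_restrict_iff U.ι (0 : G ⟶ G)).1 h0
  have hle : V ≤ U.ι.opensRange := by
    rw [Scheme.Opens.opensRange_ι]; exact hV
  haveI h2 : IsIso (Scheme.Modules.Hom.app (0 : G ⟶ G) V) := h1 V hle
  have h3 := congrArg (fun ψ => ψ s) (IsIso.hom_inv_id (Scheme.Modules.Hom.app (0 : G ⟶ G) V))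
  simp only [Scheme.Modules.Hom.zero_app, zero_comp] at h3
  exact h3.symm


lemma away_toOpen (R : CommRingCat.{u}) (Q : ModuleCat.{u} R) (f : R) :
    IsLocalizedModule.Away f (tilde.toOpen Q (PrimeSpectrum.basicOpen f)).hom := inferInstance

/-- if `Q~|_U = 0` and `D(f) ⊆ U` then every element of `Q` is killed by a power of `f`. -/
lemma exists_pow_smul_eq_zero_of_isZero (U : (Spec (CommRingCat.of A)).Opens) (Q : ModuleCat.{u} A)
    (hQ : IsZero ((Rf U).obj Q)) (f : A)
    (hf : (PrimeSpectrum.basicOpen f : (Spec (CommRingCat.of A)).Opens) ≤ U) (x : Q) :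
    ∃ k : ℕ, f ^ k • x = 0 := by
  have hs : (tilde.toOpen (R := CommRingCat.of A) Q (PrimeSpectrum.basicOpen f)).hom x = 0 :=
    sections_eq_zero_of_isZero_restrict U ((tilde.functor (CommRingCat.of A)).obj Q) hQ
      (PrimeSpectrum.basicOpen f) hf
      ((tilde.toOpen (R := CommRingCat.of A) Q (PrimeSpectrum.basicOpen f)).hom x)
  haveI : IsLocalizedModule (Submonoid.powers f)
      (tilde.toOpen (R := CommRingCat.of A) Q (PrimeSpectrum.basicOpen f)).hom :=
    away_toOpen (CommRingCat.of A) Q f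
  obtain ⟨⟨c, k, rfl⟩, hc⟩ := (IsLocalizedModule.eq_zero_iff (Submonoid.powers f)
    (tilde.toOpen (R := CommRingCat.of A) Q (PrimeSpectrum.basicOpen f)).hom).1 hs
  exact ⟨k, hc⟩


/-- if `Rf g` is epi and `D(f) ⊆ U`, a power of `f` moves any element into the range of `g`. -/
lemma exists_pow_smul_mem_range (U : (Spec (CommRingCat.of A)).Opens) {M N : ModuleCat.{u} A}
    (g : M ⟶ N) [Epi ((Rf U).map g)] (f : A)
    (hf : (PrimeSpectrum.basicOpen f : (Spec (CommRingCat.of A)).Opens) ≤ U) (x : N) :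
    ∃ k : ℕ, f ^ k • x ∈ LinearMap.range g.hom := by
  let Q : ModuleCat.{u} A := ModuleCat.of A (N ⧸ LinearMap.range g.hom)
  let π : N ⟶ Q := ModuleCat.ofHom (LinearMap.range g.hom).mkQ
  have hgπ : g ≫ π = 0 := by
    apply ModuleCat.hom_ext
    apply LinearMap.ext
    intro y
    exact (Submodule.Quotient.mk_eq_zero _).2 (LinearMap.mem_range_self _ y)
  have h0 : (Rf U).map π = 0 := Rf_map_eq_zero_of_epi U g π hgπ
  haveI : Epi π := by
    rw [ModuleCat.epi_iff_surjective]
    exact Submodule.mkQ_surjective _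
  haveI : Epi ((Rf U).map π) := Functor.map_epi _ _
  have hz : IsZero ((Rf U).obj Q) := IsZero.of_epi_eq_zero _ h0
  obtain ⟨k, hk⟩ := exists_pow_smul_eq_zero_of_isZero U Q hz f hf (π.hom x)
  refine ⟨k, ?_⟩
  have : (LinearMap.range g.hom).mkQ (f ^ k • x) = 0 := by
    rw [map_smul]; exact hk
  exact (Submodule.Quotient.mk_eq_zero _).1 this

/-- if `Rf h` is mono and `D(f) ⊆ U`, elements of the kernel of `h` are killed by powers of `f`. -/
lemma exists_pow_smul_eq_zero_of_mono (U : (Spec (CommRingCat.of A)).Opens) {Q M : ModuleCat.{u} A}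
    (h : Q ⟶ M) [Mono ((Rf U).map h)] (f : A)
    (hf : (PrimeSpectrum.basicOpen f : (Spec (CommRingCat.of A)).Opens) ≤ U) (x : Q)
    (hx : h.hom x = 0) : ∃ k : ℕ, f ^ k • x = 0 := by
  let K : ModuleCat.{u} A := ModuleCat.of A (LinearMap.ker h.hom)
  let i : K ⟶ Q := ModuleCat.ofHom (LinearMap.ker h.hom).subtype
  have hi : i ≫ h = 0 := by
    apply ModuleCat.hom_ext
    apply LinearMap.ext
    intro y
    exact y.2
  have h0 : (Rf U).map i = 0 := Rf_map_eq_zero_of_mono U i h hi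
  haveI : Mono i := by
    rw [ModuleCat.mono_iff_injective]
    exact Subtype.val_injective
  haveI : Mono ((Rf U).map i) := Functor.map_mono _ _
  have hz : IsZero ((Rf U).obj K) := IsZero.of_mono_eq_zero _ h0
  obtain ⟨k, hk⟩ := exists_pow_smul_eq_zero_of_isZero U K hz f hf ⟨x, hx⟩
  exact ⟨k, congrArg Subtype.val hk⟩


lemma basicOpen_le_puncturedOpen (𝔞 : Ideal A) (f : A) (hf : f ∈ 𝔞) :
    (PrimeSpectrum.basicOpen f : (Spec (CommRingCat.of A)).Opens) ≤ LocCoh.puncturedOpen A 𝔞 := by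
  intro p hp hz
  exact hp (hz hf)

/-- elementwise power torsion for all `f ∈ 𝔞` gives torsion for a power of `𝔞` (Noetherian). -/
lemma exists_pow_forall_smul_mem [IsNoetherianRing A] (𝔞 : Ideal A) {N : Type u} [AddCommGroup N]
    [Module A N] (R : Submodule A N) (x : N) (h : ∀ f ∈ 𝔞, ∃ k : ℕ, f ^ k • x ∈ R) :
    ∃ m : ℕ, ∀ a ∈ 𝔞 ^ m, a • x ∈ R := by
  let J : Ideal A := R.colon ({x} : Set N)
  have hJ : ∀ a, a ∈ J ↔ a • x ∈ R := fun a => Submodule.mem_colon_singleton
  have hrad : 𝔞 ≤ J.radical := fun f hf => by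
    obtain ⟨k, hk⟩ := h f hf
    exact ⟨k, (hJ _).2 hk⟩
  obtain ⟨m, hm⟩ := Ideal.exists_pow_le_of_le_radical_of_fg hrad (IsNoetherian.noetherian 𝔞)
  exact ⟨m, fun a ha => (hJ a).1 (hm ha)⟩

/-- preimage-intersection keeps the `Rf`-isomorphism property. -/
lemma isIso_Rf_inf_comap (U : (Spec (CommRingCat.of A)).Opens) {N₁ N₀ : ModuleCat.{u} A}
    (t : N₁ ⟶ N₀) (M₀ : Submodule A N₀) (M' : Submodule A N₁)
    (h₀ : IsIso ((Rf U).map (ModuleCat.ofHom M₀.subtype)))
    (h' : IsIso ((Rf U).map (ModuleCat.ofHom M'.subtype))) :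
    IsIso ((Rf U).map (ModuleCat.ofHom (M' ⊓ M₀.comap t.hom).subtype)) := by
  let M₁ : Submodule A N₁ := M' ⊓ M₀.comap t.hom
  let i : ModuleCat.of A M₁ ⟶ ModuleCat.of A M' :=
    ModuleCat.ofHom (Submodule.inclusion inf_le_left)
  let ι' : ModuleCat.of A M' ⟶ N₁ := ModuleCat.ofHom M'.subtype
  let π₀ : N₀ ⟶ ModuleCat.of A (N₀ ⧸ M₀) := ModuleCat.ofHom M₀.mkQ
  let q : ModuleCat.of A M' ⟶ ModuleCat.of A (N₀ ⧸ M₀) := ι' ≫ t ≫ π₀
  have hfac : ModuleCat.ofHom M₁.subtype = i ≫ ι' := rfl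
  have hiq : i ≫ q = 0 := by
    apply ModuleCat.hom_ext
    apply LinearMap.ext
    intro y
    exact (Submodule.Quotient.mk_eq_zero _).2 y.2.2
  let S : ShortComplex (ModuleCat.{u} A) := ShortComplex.mk i q hiq
  have hS : S.Exact := by
    rw [ShortComplex.moduleCat_exact_iff]
    intro y hy
    have hy' : t.hom y.1 ∈ M₀ := (Submodule.Quotient.mk_eq_zero _).1 hy
    exact ⟨⟨y.1, y.2, hy'⟩, rfl⟩
  haveI hmono : Mono S.f := by
    rw [ModuleCat.mono_iff_injective]
    exact Submodule.inclusion_injective inf_le_left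
  have h31 := (Functor.preservesFiniteLimits_tfae (Rf U)).out 3 1
  have hmap := h31.1 (inferInstance : PreservesFiniteLimits (Rf U)) S ⟨hS, hmono⟩
  have hπ₀ : (Rf U).map π₀ = 0 := by
    haveI : Epi ((Rf U).map (ModuleCat.ofHom M₀.subtype)) := @IsIso.epi_of_iso _ _ _ _ _ h₀
    refine Rf_map_eq_zero_of_epi U (ModuleCat.ofHom M₀.subtype) π₀ ?_
    apply ModuleCat.hom_ext
    apply LinearMap.ext
    intro y
    exact (Submodule.Quotient.mk_eq_zero _).2 y.2
  have hg0 : (S.map (Rf U)).g = 0 := by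
    change (Rf U).map (ι' ≫ t ≫ π₀) = 0
    rw [Functor.map_comp, Functor.map_comp, hπ₀, comp_zero, comp_zero]
  haveI hepi : Epi ((Rf U).map i) := hmap.1.epi_f hg0
  haveI : Mono (ModuleCat.ofHom M₁.subtype) := by
    rw [ModuleCat.mono_iff_injective]
    exact Subtype.val_injective
  haveI : Mono ((Rf U).map (ModuleCat.ofHom M₁.subtype)) := Functor.map_mono _ _
  haveI : Epi ((Rf U).map (ModuleCat.ofHom M₁.subtype)) := by
    rw [hfac, Functor.map_comp]
    haveI : Epi ((Rf U).map ι') := @IsIso.epi_of_iso _ _ _ _ _ h'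
    exact epi_comp _ _
  exact isIso_of_mono_of_epi _

end Groth.Agent.Lib.R2LeadPunctA
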