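import Groth.Agent.Lib.R2LeadPunctA
import Groth.Agent.Lib.Helper23FinType2
import Groth.Agent.Lib.Helper23FinTypeLocal

set_option autoImplicit false
set_option linter.style.haveILetI false
universe u
open CategoryTheory CategoryTheory.Limits AlgebraicGeometry Opposite

namespace Groth.Agent.Lib.R2LeadPunctB

open Groth.Agent.Lib.R2LeadAlgzE Groth.Agent.Lib.R2LeadAlgzA Groth.Agent.Lib.R2LeadAlgzC
  Groth.Agent.Lib.R2LeadPunctA

variable {A : Type u} [CommRing A] [IsNoetherianRing A]

/-- range factorisation: a map from a finite module which becomes an isomorphism on `U` has a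
finitely generated range whose inclusion becomes an isomorphism on `U`. -/
theorem range_fg_isIso (U : (Spec (CommRingCat.of A)).Opens) {P W : ModuleCat.{u} A}
    (hP : Module.Finite A ↑P) (f : P ⟶ W) (hf : IsIso ((Rf U).map f)) :
    (LinearMap.range f.hom).FG ∧
      IsIso ((Rf U).map (ModuleCat.ofHom (LinearMap.range f.hom).subtype)) := by
  constructor
  · rw [LinearMap.range_eq_map]
    exact Submodule.FG.map _ (Module.Finite.fg_top)
  · let e : P ⟶ ModuleCat.of A (LinearMap.range f.hom) := ModuleCat.ofHom f.hom.rangeRestrict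
    let ι : ModuleCat.of A (LinearMap.range f.hom) ⟶ W :=
      ModuleCat.ofHom (LinearMap.range f.hom).subtype
    have hfac : f = e ≫ ι := rfl
    haveI : Mono ι := by
      rw [ModuleCat.mono_iff_injective]
      exact Subtype.val_injective
    haveI : Mono ((Rf U).map ι) := Functor.map_mono _ _
    haveI : Epi ((Rf U).map e ≫ (Rf U).map ι) := by
      rw [← Functor.map_comp, ← hfac]
      infer_instance
    haveI : Epi ((Rf U).map ι) := epi_of_epi ((Rf U).map e) ((Rf U).map ι)
    exact isIso_of_mono_of_epi _

/-- a coherent module on an open `U ⊆ Spec A` is generated by a finitely generated submodule of its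
module of sections over `U`. -/
theorem exists_fg_submodule_isIso (U : (Spec (CommRingCat.of A)).Opens)
    (G : (U : Scheme.{u}).Modules) (hG : Coh.IsCoh G) :
    ∃ M' : Submodule A ↑((Φ A).obj ((Scheme.Modules.pushforward U.ι).obj G)),
      M'.FG ∧ IsIso ((Rf U).map (ModuleCat.ofHom M'.subtype)) := by
  haveI : G.IsQuasicoherent := hG.1
  haveI : SheafOfModules.IsFiniteType (R := (U : Scheme.{u}).ringCatSheaf) G := hG.2
  let H : (Spec (CommRingCat.of A)).Modules := (Scheme.Modules.pushforward U.ι).obj G
  haveI hHq : H.IsQuasicoherent :=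
    Groth.Agent.Lib.Helper23.QCohLocal.isQuasicoherent_pushforward U.ι G
  let c : (Scheme.Modules.restrictFunctor U.ι).obj H ≅ G :=
    asIso ((Scheme.Modules.restrictAdjunction U.ι).counit.app G)
  haveI : SheafOfModules.IsFiniteType (R := (U : Scheme.{u}).ringCatSheaf) (H.restrict U.ι) :=
    Groth.Agent.Lib.Helper23.FinType.isFiniteType_of_iso c.symm
  have hft : Groth.Agent.Lib.Helper23.Extend.FTOn H U.ι.opensRange :=
    Groth.Agent.Lib.Helper23.Extend.ftOn_of_isFiniteType_restrict U.ι H
  obtain ⟨F', ψ, hmono, hq, hft', hiso⟩ := Groth.Agent.Lib.Helper23.Extend.exists_sub_isFiniteType H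
    U.ι.opensRange (TopologicalSpace.NoetherianSpace.isCompact _) hft
  haveI := hmono
  haveI := hq
  haveI := hft'
  haveI hRψ : IsIso ((Scheme.Modules.restrictFunctor U.ι).map ψ) :=
    (Groth.Agent.Lib.Helper23.Extend.isIso_restrict_iff U.ι ψ).2 hiso
  -- finiteness of `Φ F'`
  haveI hεF : IsIso ((tilde.adjunction (R := CommRingCat.of A)).counit.app F') :=
    isIso_fromTildeΓNatTrans_app F'
  haveI hεH : IsIso ((tilde.adjunction (R := CommRingCat.of A)).counit.app H) :=
    isIso_fromTildeΓNatTrans_app H
  have hfin : Module.Finite A ↑((Φ A).obj F') := by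
    rw [← Groth.Agent.Lib.Helper23.FinType.isFiniteType_tilde_iff (R := CommRingCat.of A)]
    exact Groth.Agent.Lib.Helper23.FinType.isFiniteType_of_iso (M := F')
      (asIso ((tilde.adjunction (R := CommRingCat.of A)).counit.app F')).symm (hM := hft')
  have hnat := (tilde.adjunction (R := CommRingCat.of A)).counit.naturality ψ
  have hnat' : (Rf U).map ((Φ A).map ψ) ≫ (Scheme.Modules.restrictFunctor U.ι).map
      ((tilde.adjunction (R := CommRingCat.of A)).counit.app H) =
      (Scheme.Modules.restrictFunctor U.ι).map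
        ((tilde.adjunction (R := CommRingCat.of A)).counit.app F') ≫
      (Scheme.Modules.restrictFunctor U.ι).map ψ := by
    change (Scheme.Modules.restrictFunctor U.ι).map _ ≫ _ = _
    rw [← Functor.map_comp, ← Functor.map_comp]
    exact congrArg _ hnat
  have hiso1 : IsIso ((Rf U).map ((Φ A).map ψ)) := by
    have : (Rf U).map ((Φ A).map ψ) = ((Scheme.Modules.restrictFunctor U.ι).map
        ((tilde.adjunction (R := CommRingCat.of A)).counit.app F') ≫
      (Scheme.Modules.restrictFunctor U.ι).map ψ) ≫ inv ((Scheme.Modules.restrictFunctor U.ι).map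
      ((tilde.adjunction (R := CommRingCat.of A)).counit.app H)) := by
      rw [← hnat', Category.assoc, IsIso.hom_inv_id, Category.comp_id]
    rw [this]
    infer_instance
  obtain ⟨h1, h2⟩ := range_fg_isIso U hfin ((Φ A).map ψ) hiso1
  exact ⟨_, h1, h2⟩

end Groth.Agent.Lib.R2LeadPunctB
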