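import Groth.Agent.Lib.R2LeadPunctB
import Groth.Agent.Lib.R2LeadAlgzG
import Groth.Agent.Lib.R2LeadFormSys1
import Groth.Agent.Lib.R2LeadCohFormalA
import Groth.Agent.Lib.Helper20FormalPull

set_option autoImplicit false
set_option linter.style.haveILetI false
set_option linter.unusedSectionVars false
universe u
open CategoryTheory CategoryTheory.Limits AlgebraicGeometry Opposite

namespace Groth.Agent.Lib.R2LeadPunctC

open Groth.Agent.Lib.R2LeadAlgzE Groth.Agent.Lib.R2LeadAlgzA Groth.Agent.Lib.R2LeadAlgzC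
  Groth.Agent.Lib.R2LeadPunctA Groth.Agent.Lib.R2LeadPunctB

/-- abstract criterion for a map to be a monomorphism. -/
theorem mono_of_cokernel {C : Type*} [Category C] [Abelian C] {X1 X0 Q F1 F0 S : C}
    (p : X1 ⟶ Q) [Epi p] (h : Q ⟶ X0) (e1 : X1 ≅ F1) (e0 : X0 ≅ F0) (tr : F1 ⟶ F0)
    (s : S ⟶ F1) (hs : s ≫ tr = 0) (hiso : IsIso (cokernel.desc s tr hs))
    (hcomm : (p ≫ h) ≫ e0.hom = e1.hom ≫ tr) (hkill : s ≫ e1.inv ≫ p = 0) : Mono h := by
  apply Preadditive.mono_of_cancel_zero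
  intro K k hk
  haveI : Epi (pullback.fst k p) := Abelian.epi_pullback_of_epi_g k p
  rw [← cancel_epi (pullback.fst k p), comp_zero, pullback.condition]
  have h0 : pullback.snd k p ≫ (p ≫ h) = 0 := by
    rw [← Category.assoc, ← pullback.condition, Category.assoc, hk, comp_zero]
  have h1 : pullback.snd k p ≫ e1.hom ≫ tr = 0 := by
    rw [← hcomm, ← Category.assoc, h0, zero_comp]
  have h2 : (pullback.snd k p ≫ e1.hom) ≫ cokernel.π s = 0 := by
    haveI := hiso
    rw [← cancel_mono (cokernel.desc s tr hs), zero_comp, Category.assoc, cokernel.π_desc,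
      Category.assoc]
    exact h1
  calc pullback.snd k p ≫ p = (pullback.snd k p ≫ e1.hom) ≫ e1.inv ≫ p := by simp
    _ = (pullback.snd k p ≫ e1.hom) ≫ cokernel.π s ≫ cokernel.desc s (e1.inv ≫ p) hkill := by
        rw [cokernel.π_desc]
    _ = 0 := by rw [← Category.assoc, h2, zero_comp]

/-- an isomorphism of towers from componentwise isomorphisms compatible with the successive
transition maps. -/
theorem nonempty_iso_ofOpSequence {C : Type*} [Category C] (F : ℕᵒᵖ ⥤ C) (X : ℕ → C)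
    (f : ∀ n, X (n + 1) ⟶ X n) (e : ∀ n, X n ≅ F.obj (op n))
    (h : ∀ n, f n ≫ (e n).hom = (e (n + 1)).hom ≫ F.map (homOfLE (Nat.le_succ n)).op) :
    Nonempty (F ≅ Functor.ofOpSequence f) := by
  let α : Functor.ofOpSequence f ⟶ F := NatTrans.ofOpSequence (fun n => (e n).hom) (fun n => by
    rw [Functor.ofOpSequence_map_homOfLE_succ]; exact h n)
  haveI : ∀ n, IsIso (α.app n) := fun n => by
    change IsIso (e n.unop).hom
    infer_instance
  haveI : IsIso α := NatIso.isIso_of_isIso_app α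
  exact ⟨(asIso α).symm⟩

variable {A : Type u} [CommRing A]

theorem killedBy_Rf (U : (Spec (CommRingCat.of A)).Opens) (J : Ideal A) (Q : ModuleCat.{u} A)
    (hQ : ∀ a ∈ J, ∀ x : Q, a • x = 0) : Formal.KilledBy J ((Rf U).obj Q) := by
  have h1 := Groth.Agent.Lib.R2LeadAlgzG.killedBy_tilde J Q hQ
  have h2 := @Groth.Agent.Lib.Helper20.FormalPull.killedBy_pullback A _ (↑U)
    (Spec (CommRingCat.of A)) inferInstance ⟨𝟙 _⟩ U.ι (Category.comp_id _) J _ h1
  let e := (Scheme.Modules.restrictFunctorIsoPullback U.ι).app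
    ((tilde.functor (CommRingCat.of A)).obj Q)
  intro a ha
  rw [← cancel_mono e.hom, zero_comp, Groth.Agent.S9530.smulMod_comp]
  exact (congrArg (fun z => e.hom ≫ z) (h2 a ha)).trans comp_zero

variable [IsNoetherianRing A]

theorem exists_stages (U : (Spec (CommRingCat.of A)).Opens)
    (F : ℕᵒᵖ ⥤ (U : Scheme.{u}).Modules) (hF : ∀ n, Coh.IsCoh (F.obj (op n))) :
    ∃ Ms : ∀ n, Submodule A ↑((Algz.sectMod A U F).obj (op n)),
      (∀ n, (Ms n).FG) ∧ (∀ n, IsIso ((Rf U).map (ModuleCat.ofHom (Ms n).subtype))) ∧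
      (∀ n, Ms (n + 1) ≤
        (Ms n).comap ((Algz.sectMod A U F).map (homOfLE (Nat.le_succ n)).op).hom) := by
  classical
  let Stage : ℕ → Type u := fun n =>
    {M : Submodule A ↑((Algz.sectMod A U F).obj (op n)) //
      M.FG ∧ IsIso ((Rf U).map (ModuleCat.ofHom M.subtype))}
  have h0 : ∀ n, Nonempty (Stage n) := fun n => by
    obtain ⟨M', h1, h2⟩ := exists_fg_submodule_isIso U (F.obj (op n)) (hF n)
    exact ⟨⟨M', h1, h2⟩⟩
  let step : ∀ n, Stage n → Stage (n + 1) := fun n Mn =>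
    ⟨(Classical.choice (h0 (n + 1))).1 ⊓
        Mn.1.comap ((Algz.sectMod A U F).map (homOfLE (Nat.le_succ n)).op).hom,
      Submodule.FG.of_le (Classical.choice (h0 (n + 1))).2.1 inf_le_left,
      isIso_Rf_inf_comap U _ _ _ Mn.2.2 (Classical.choice (h0 (n + 1))).2.2⟩
  let stage : ∀ n, Stage n := fun n => Nat.rec (Classical.choice (h0 0)) step n
  refine ⟨fun n => (stage n).1, fun n => (stage n).2.1, fun n => (stage n).2.2, fun n => ?_⟩
  exact inf_le_right

open Groth.Agent.Lib.R2LeadFormSys1 in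
theorem main (A : Type u) [CommRing A] [IsNoetherianRing A]
    (I 𝔞 : Ideal A) (_hI : I ≤ 𝔞) (F : ℕᵒᵖ ⥤ (↑(LocCoh.puncturedOpen A 𝔞) : Scheme.{u}).Modules)
    (hF : Formal.IsCohFormal I F) :
    ∃ (M : ℕ → Type u) (_ : ∀ n, AddCommGroup (M n)) (_ : ∀ n, Module A (M n)) (g : ∀ n, M (n + 1) →ₗ[A] M n),
      (∀ n, Module.Finite A (M n)) ∧ (∀ n, I ^ (n + 1) • (⊤ : Submodule A (M n)) = ⊥) ∧
      (∀ n (x : M (n + 1)), g n x = 0 → ∃ m : ℕ, ∀ a ∈ 𝔞 ^ m, a • x ∈ I ^ (n + 1) • (⊤ : Submodule A (M (n + 1)))) ∧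
      (∀ n (y : M n), ∃ m : ℕ, ∀ a ∈ 𝔞 ^ m, a • y ∈ LinearMap.range (g n)) ∧
      Nonempty (F ≅ Functor.ofOpSequence
        (X := fun n => (Scheme.Modules.restrictFunctor (LocCoh.puncturedOpen A 𝔞).ι).obj (Formal2.tmod A (M n)))
        (fun n => (Scheme.Modules.restrictFunctor (LocCoh.puncturedOpen A 𝔞).ι).map (Formal2.tmodMap A (g n)))) := by
  let U := LocCoh.puncturedOpen A 𝔞
  obtain ⟨Ms, hfg, hiso, hle⟩ := exists_stages U F hF.1
  let t : ∀ n, (Algz.sectMod A U F).obj (op (n + 1)) ⟶ (Algz.sectMod A U F).obj (op n) :=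
    fun n => (Algz.sectMod A U F).map (homOfLE (Nat.le_succ n)).op
  let g : ∀ n, ↥(Ms (n + 1)) →ₗ[A] ↥(Ms n) := fun n => (t n).hom.restrict (fun x hx => hle n hx)
  let iso := sectSysRestrictIso U F (fun k => (hF.1 k.unop).1)
  let E : ∀ k, (Rf U).obj ((Algz.sectMod A U F).obj (op k)) ≅ F.obj (op k) :=
    fun k => iso.app (op k)
  let ι := fun k => ModuleCat.ofHom (Ms k).subtype
  haveI hι : ∀ k, IsIso ((Rf U).map (ι k)) := hiso
  let e : ∀ k, (Rf U).obj (ModuleCat.of A ↥(Ms k)) ≅ F.obj (op k) := fun k =>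
    asIso ((Rf U).map (ι k)) ≪≫ E k
  have hgι : ∀ n, ModuleCat.ofHom (g n) ≫ ι n = ι (n + 1) ≫ t n := fun n => rfl
  have hnat : ∀ n, (Rf U).map (t n) ≫ (E n).hom =
      (E (n + 1)).hom ≫ F.map (homOfLE (Nat.le_succ n)).op := fun n =>
    iso.hom.naturality (homOfLE (Nat.le_succ n)).op
  have hcomm : ∀ n, (Rf U).map (ModuleCat.ofHom (g n)) ≫ (e n).hom =
      (e (n + 1)).hom ≫ F.map (homOfLE (Nat.le_succ n)).op := by
    intro n
    simp only [e, Iso.trans_hom, asIso_hom]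
    rw [← Category.assoc, ← Functor.map_comp, hgι, Functor.map_comp, Category.assoc, hnat,
      Category.assoc]
  have hkill : ∀ n (a : A), a ∈ I ^ (n + 1) → ∀ y : ↥(Ms n), a • y = 0 := by
    intro n a ha y
    apply Subtype.ext
    exact Groth.Agent.Lib.R2LeadAlgzG.sectMod_killed I U F hF n a ha y.1
  refine ⟨fun n => ↥(Ms n), fun n => inferInstance, fun n => inferInstance, g,
    fun n => Module.Finite.iff_fg.2 (hfg n), ?_, ?_, ?_, ?_⟩
  · intro n
    rw [eq_bot_iff, Submodule.smul_le]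
    intro a ha x _
    rw [Submodule.mem_bot]
    exact hkill n a ha x
  · intro n x hx
    let P : Submodule A ↥(Ms (n + 1)) := I ^ (n + 1) • ⊤
    have hP : P ≤ LinearMap.ker (g n) := by
      rw [Submodule.smul_le]
      intro a ha y _
      rw [LinearMap.mem_ker, map_smul]
      exact hkill n a ha _
    let Q1 : ModuleCat.{u} A := ModuleCat.of A (↥(Ms (n + 1)) ⧸ P)
    let π : ModuleCat.of A ↥(Ms (n + 1)) ⟶ Q1 := ModuleCat.ofHom P.mkQ
    let gbar : Q1 ⟶ ModuleCat.of A ↥(Ms n) := ModuleCat.ofHom (P.liftQ (g n) hP)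
    have hπg : π ≫ gbar = ModuleCat.ofHom (g n) := by
      apply ModuleCat.hom_ext
      apply LinearMap.ext
      intro y
      rfl
    haveI : Epi π := (ModuleCat.epi_iff_surjective _).2 (Submodule.mkQ_surjective _)
    haveI : Epi ((Rf U).map π) := inferInstance
    have hkQ : Formal.KilledBy (I ^ (n + 1)) ((Rf U).obj Q1) := killedBy_Rf U _ Q1 (by
      intro a ha y
      obtain ⟨y, rfl⟩ := Submodule.mkQ_surjective P y
      rw [← map_smul, Submodule.mkQ_apply, Submodule.Quotient.mk_eq_zero]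
      exact Submodule.smul_mem_smul ha trivial)
    obtain ⟨hs, hd⟩ := hF.2.2 n
    haveI hmono : Mono ((Rf U).map gbar) :=
      mono_of_cokernel ((Rf U).map π) ((Rf U).map gbar) (e (n + 1)) (e n)
        (F.map (homOfLE (Nat.le_succ n)).op)
        (Formal.smulFamily (I ^ (n + 1)) (F.obj (op (n + 1)))) hs hd
        (by rw [← Functor.map_comp, hπg]; exact hcomm n)
        (Groth.Agent.Lib.R2Lead.CohFormalA.smulFamily_comp_eq_zero_of_killedBy _ hkQ)
    apply exists_pow_forall_smul_mem 𝔞 P x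
    intro f hf
    obtain ⟨k, hk⟩ := exists_pow_smul_eq_zero_of_mono U gbar f
      (basicOpen_le_puncturedOpen 𝔞 f hf) (P.mkQ x) hx
    refine ⟨k, ?_⟩
    rw [← map_smul] at hk
    exact (Submodule.Quotient.mk_eq_zero P).1 hk
  · intro n y
    haveI : Epi ((Rf U).map (ModuleCat.ofHom (g n))) := by
      haveI hepi : Epi (F.map (homOfLE (Nat.le_succ n)).op) :=
        epi_tr I F (isQCohFormal_of_isCohFormal I F hF) n
      have h1 : (Rf U).map (ModuleCat.ofHom (g n)) =
          ((e (n + 1)).hom ≫ F.map (homOfLE (Nat.le_succ n)).op) ≫ (e n).inv := by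
        rw [← hcomm n, Category.assoc, Iso.hom_inv_id, Category.comp_id]
      rw [h1]
      infer_instance
    apply exists_pow_forall_smul_mem 𝔞 (LinearMap.range (g n)) y
    intro f hf
    exact exists_pow_smul_mem_range U (ModuleCat.ofHom (g n)) f
      (basicOpen_le_puncturedOpen 𝔞 f hf) y
  · exact nonempty_iso_ofOpSequence F _ _ e hcomm

end Groth.Agent.Lib.R2LeadPunctC
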