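import Mathlib
import Groth.Prelude.Def_FEt
import Groth.Prelude.Def_LefX
import Groth.Prelude.Def_W4bk5brsh7111920
import Groth.Agent.Lib.Helper14IrrComp

set_option autoImplicit false
universe u
open AlgebraicGeometry TopologicalSpace IsLocalRing

namespace Groth.Agent.Lib.R2LeadPunctConnA

section Poset

variable {R : Type u} [CommRing R]

/-- points of a quasi-sober subspace of a prime spectrum vs irreducible closed subsets. -/
noncomputable def subtypeEquivIrreducibleCloseds (W : Set (PrimeSpectrum R)) [QuasiSober ↥W] :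
    W ≃o (TopologicalSpace.IrreducibleCloseds W)ᵒᵈ where
  __ := irreducibleSetEquivPoints.toEquiv.symm.trans OrderDual.toDual
  map_rel_iff' {p q} := (RelIso.symm irreducibleSetEquivPoints).map_rel_iff.trans
    ((subtype_specializes_iff p q).trans (PrimeSpectrum.le_iff_specializes p.1 q.1).symm)

theorem dim_subtype (W : Set (PrimeSpectrum R)) [QuasiSober ↥W] :
    topologicalKrullDim ↥W = Order.krullDim ↥W :=
  Order.krullDim_orderDual.symm.trans
    (Order.krullDim_eq_of_orderIso (subtypeEquivIrreducibleCloseds W)).symm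

end Poset

section Local

variable {R : Type u} [CommRing R] [IsLocalRing R]

/-- the non-closed points of `V(I)`. -/
def Wp (I : Ideal R) : Set (PrimeSpectrum R) := {p | I ≤ p.asIdeal ∧ p ≠ closedPoint R}

/-- the closed subset `V(I) ∩ U` of the punctured spectrum `U`. -/
def Zp (I : Ideal R) : Set ↥(FEt.puncturedSpec R) :=
  {x | I ≤ (x.1 : PrimeSpectrum R).asIdeal}

theorem isClosed_Zp (I : Ideal R) : IsClosed (Zp I) := by
  have : Zp I = (Subtype.val : ↥(FEt.puncturedSpec R) → PrimeSpectrum R) ⁻¹'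
      (PrimeSpectrum.zeroLocus (I : Set R)) := by
    ext x
    exact Iff.rfl
  rw [this]
  exact (PrimeSpectrum.isClosed_zeroLocus _).preimage continuous_subtype_val

instance quasiSober_punct : QuasiSober ↥(FEt.puncturedSpec R) :=
  (FEt.puncturedSpec R).isOpenEmbedding'.quasiSober

instance quasiSober_Zp (I : Ideal R) : QuasiSober ↥(Zp I) :=
  (isClosed_Zp I).isClosedEmbedding_subtypeVal.quasiSober

/-- the embedding of `Zp I` into the spectrum. -/
def φ (I : Ideal R) : ↥(Zp I) → PrimeSpectrum R := fun z => z.1.1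

theorem isEmbedding_φ (I : Ideal R) : Topology.IsEmbedding (φ I) :=
  Topology.IsEmbedding.subtypeVal.comp Topology.IsEmbedding.subtypeVal

theorem range_φ (I : Ideal R) : Set.range (φ I) = Wp I := by
  ext p
  constructor
  · rintro ⟨z, rfl⟩
    exact ⟨z.2, z.1.2⟩
  · rintro ⟨h1, h2⟩
    exact ⟨⟨⟨p, h2⟩, h1⟩, rfl⟩

instance quasiSober_Wp (I : Ideal R) : QuasiSober ↥(Wp I) := by
  rw [← range_φ]
  exact (isEmbedding_φ I).toHomeomorph.symm.isClosedEmbedding.quasiSober

theorem dim_Zp (I : Ideal R) : topologicalKrullDim ↥(Zp I) = Order.krullDim ↥(Wp I) := by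
  rw [← dim_subtype]
  have h := IsHomeomorph.topologicalKrullDim_eq _ (isEmbedding_φ I).toHomeomorph.isHomeomorph
  rw [range_φ] at h
  exact h


theorem ringKrullDim_quot_eq (I : Ideal R) :
    ringKrullDim (R ⧸ I) = Order.krullDim ↥(PrimeSpectrum.zeroLocus (I : Set R)) := by
  rw [ringKrullDim, Order.krullDim_eq_of_orderIso I.primeSpectrumQuotientOrderIsoZeroLocus]

/-- `WithTop (Wp I) → V(I)`. -/
def gmap {I : Ideal R} (hI : I ≤ maximalIdeal R) :
    WithTop ↥(Wp I) → ↥(PrimeSpectrum.zeroLocus (I : Set R))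
  | none => ⟨closedPoint R, hI⟩
  | Option.some p => ⟨p.1, p.2.1⟩

theorem lt_closedPoint {p : PrimeSpectrum R} (hp : p ≠ closedPoint R) : p < closedPoint R := by
  refine lt_of_le_of_ne ?_ hp
  exact IsLocalRing.le_maximalIdeal p.2.ne_top

theorem strictMono_gmap {I : Ideal R} (hI : I ≤ maximalIdeal R) : StrictMono (gmap hI) := by
  intro x y hxy
  induction x with
  | top => exact absurd hxy not_top_lt
  | coe p =>
    induction y with
    | top =>
      show p.1 < closedPoint R
      exact lt_closedPoint p.2.2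
    | coe q =>
      have h1 : p < q := WithTop.coe_lt_coe.mp hxy
      exact h1

theorem krullDim_Wp_add_one_le {I : Ideal R} (hI : I ≤ maximalIdeal R) :
    Order.krullDim ↥(Wp I) + 1 ≤ ringKrullDim (R ⧸ I) := by
  rw [ringKrullDim_quot_eq]
  rcases isEmpty_or_nonempty ↥(Wp I) with h | h
  · rw [Order.krullDim_eq_bot, WithBot.bot_add]
    exact bot_le
  · rw [← Order.krullDim_WithTop]
    exact Order.krullDim_le_of_strictMono _ (strictMono_gmap hI)

open Classical in
/-- `V(I) → WithTop (Wp I)`. -/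
noncomputable def hmap (I : Ideal R) :
    ↥(PrimeSpectrum.zeroLocus (I : Set R)) → WithTop ↥(Wp I) := fun p =>
  if hp : p.1 = closedPoint R then ⊤ else ((⟨p.1, p.2, hp⟩ : ↥(Wp I)) : WithTop ↥(Wp I))

theorem strictMono_hmap (I : Ideal R) : StrictMono (hmap I) := by
  intro p q hpq
  have hpq' : p.1 < q.1 := hpq
  have hq : q.1 ≤ closedPoint R := IsLocalRing.le_maximalIdeal q.1.2.ne_top
  have hp : p.1 ≠ closedPoint R := fun h => absurd (h ▸ hpq') (not_lt_of_ge hq)
  by_cases hq' : q.1 = closedPoint R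
  · simp only [hmap, hp, hq', dite_true, dite_false]
    exact WithTop.coe_lt_top _
  · simp only [hmap, hp, hq', dite_false]
    exact WithTop.coe_lt_coe.mpr hpq'

theorem ringKrullDim_le_of_nonempty (I : Ideal R) (h : (Wp I).Nonempty) :
    ringKrullDim (R ⧸ I) ≤ Order.krullDim ↥(Wp I) + 1 := by
  haveI : Nonempty ↥(Wp I) := h.to_subtype
  rw [ringKrullDim_quot_eq, ← Order.krullDim_WithTop]
  exact Order.krullDim_le_of_strictMono _ (strictMono_hmap I)

theorem ringKrullDim_le_of_empty (I : Ideal R) (h : Wp I = ∅) :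
    ringKrullDim (R ⧸ I) ≤ 0 := by
  haveI : IsEmpty ↥(Wp I) := Set.isEmpty_coe_sort.mpr h
  rw [ringKrullDim_quot_eq]
  refine (Order.krullDim_le_of_strictMono _ (strictMono_hmap I)).trans ?_
  haveI : Subsingleton (WithTop ↥(Wp I)) := ⟨fun a b => by
    induction a with
    | top => induction b with
      | top => rfl
      | coe q => exact isEmptyElim q
    | coe p => exact isEmptyElim p⟩
  exact Order.krullDim_nonpos_of_subsingleton

theorem Zp_nonempty_iff (I : Ideal R) : (Zp I).Nonempty ↔ (Wp I).Nonempty := by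
  rw [← range_φ, Set.range_nonempty_iff_nonempty, Set.nonempty_coe_sort]

theorem dim_Zp_add_one_le {I : Ideal R} (hI : I ≤ maximalIdeal R) :
    topologicalKrullDim ↥(Zp I) + 1 ≤ ringKrullDim (R ⧸ I) := by
  rw [dim_Zp]; exact krullDim_Wp_add_one_le hI

theorem ringKrullDim_le_dim_Zp_add_one (I : Ideal R) (h : (Zp I).Nonempty) :
    ringKrullDim (R ⧸ I) ≤ topologicalKrullDim ↥(Zp I) + 1 := by
  rw [dim_Zp]; exact ringKrullDim_le_of_nonempty I ((Zp_nonempty_iff I).mp h)

theorem ringKrullDim_lt_of_dim_Zp_lt (I : Ideal R) (j : ℕ)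
    (h : topologicalKrullDim ↥(Zp I) < (j : WithBot ℕ∞)) :
    ringKrullDim (R ⧸ I) < ((j + 1 : ℕ) : WithBot ℕ∞) := by
  rcases (Zp I).eq_empty_or_nonempty with he | hne
  · have hW : Wp I = ∅ := by
      rw [Set.eq_empty_iff_forall_notMem] at he ⊢
      intro p hp
      exact Set.not_nonempty_iff_eq_empty.mpr (Set.eq_empty_iff_forall_notMem.mpr he)
        ((Zp_nonempty_iff I).mpr ⟨p, hp⟩)
    refine lt_of_le_of_lt (ringKrullDim_le_of_empty I hW) ?_
    exact_mod_cast Nat.succ_pos j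
  · refine lt_of_le_of_lt (ringKrullDim_le_dim_Zp_add_one I hne) ?_
    generalize topologicalKrullDim ↥(Zp I) = d at h
    induction d using WithBot.recBotCoe with
    | bot => rw [WithBot.bot_add]; exact WithBot.bot_lt_coe _
    | coe d =>
      induction d using ENat.recTopCoe with
      | top => exact absurd h (by simp)
      | coe d =>
        have : d < j := by exact_mod_cast h
        have h2 : d + 1 < j + 1 := by omega
        exact_mod_cast h2

instance quasiSober_zeroLocus (I : Ideal R) : QuasiSober ↥(PrimeSpectrum.zeroLocus (I : Set R)) :=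
  (PrimeSpectrum.isClosed_zeroLocus _).isClosedEmbedding_subtypeVal.quasiSober

theorem dim_zeroLocus' (I : Ideal R) :
    topologicalKrullDim ↥(PrimeSpectrum.zeroLocus (I : Set R)) = ringKrullDim (R ⧸ I) := by
  rw [dim_subtype, ringKrullDim_quot_eq]

theorem exists_Zp_eq (Z' : Set ↥(FEt.puncturedSpec R)) (hZ : IsClosed Z') :
    ∃ I : Ideal R, I ≤ maximalIdeal R ∧ Z' = Zp I := by
  obtain ⟨C, hC, rfl⟩ := isClosed_induced_iff.mp hZ
  obtain ⟨J, rfl⟩ := (PrimeSpectrum.isClosed_iff_zeroLocus_ideal C).mp hC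
  refine ⟨J ⊓ maximalIdeal R, inf_le_right, ?_⟩
  ext x
  constructor
  · intro hx
    have hx' : J ≤ (x.1 : PrimeSpectrum R).asIdeal := hx
    exact inf_le_left.trans hx'
  · intro hx
    have hx' : J ⊓ maximalIdeal R ≤ (x.1 : PrimeSpectrum R).asIdeal := hx
    rcases (Ideal.IsPrime.inf_le (x.1 : PrimeSpectrum R).2).mp hx' with h | h
    · exact h
    · exfalso
      apply x.2
      have h2 : (x.1 : PrimeSpectrum R).asIdeal = maximalIdeal R :=
        le_antisymm (IsLocalRing.le_maximalIdeal (x.1 : PrimeSpectrum R).2.ne_top) h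
      exact PrimeSpectrum.ext h2

theorem compl_zeroLocus_eq_image {I : Ideal R} (hI : I ≤ maximalIdeal R) :
    (PrimeSpectrum.zeroLocus (I : Set R))ᶜ =
      (Subtype.val : ↥(FEt.puncturedSpec R) → PrimeSpectrum R) '' (Zp I)ᶜ := by
  ext p
  constructor
  · intro hp
    have : p ≠ closedPoint R := fun h => hp (h ▸ hI)
    exact ⟨⟨p, this⟩, hp, rfl⟩
  · rintro ⟨x, hx, rfl⟩
    exact hx

theorem isConnected_compl_iff {I : Ideal R} (hI : I ≤ maximalIdeal R) :
    IsConnected (Zp I)ᶜ ↔ IsConnected (PrimeSpectrum.zeroLocus (I : Set R))ᶜ := by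
  rw [compl_zeroLocus_eq_image hI]
  constructor
  · rintro ⟨hne, hpre⟩
    exact ⟨hne.image _, (Topology.IsInducing.subtypeVal.isPreconnected_image).mpr hpre⟩
  · rintro ⟨hne, hpre⟩
    exact ⟨Set.image_nonempty.mp hne,
      (Topology.IsInducing.subtypeVal.isPreconnected_image).mp hpre⟩

theorem isConnected_univ_of_local : IsConnected (Set.univ : Set (PrimeSpectrum R)) := by
  refine ⟨⟨closedPoint R, trivial⟩, ?_⟩
  refine isPreconnected_of_forall (closedPoint R) (fun y _ =>
    ⟨closure {y}, Set.subset_univ _, ?_, subset_closure rfl, isPreconnected_singleton.closure⟩)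
  rw [← specializes_iff_mem_closure, ← PrimeSpectrum.le_iff_specializes]
  exact IsLocalRing.le_maximalIdeal y.2.ne_top

theorem le_connDim_of_connectedInDim (k : ℕ)
    (hb : LefX.ConnectedInDim ↥(FEt.puncturedSpec R) k) :
    ((k + 1 : ℕ) : WithBot ℕ∞) ≤ LocCoh.connDim (PrimeSpectrum R) := by
  unfold LocCoh.connDim
  refine le_iInf₂ (fun Z hZ => ?_)
  obtain ⟨hZc, hZn⟩ := hZ
  obtain ⟨I, rfl⟩ := (PrimeSpectrum.isClosed_iff_zeroLocus_ideal Z).mp hZc
  have hI : I ≤ maximalIdeal R := by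
    by_contra h
    have hI' : I = ⊤ := by_contra fun hne => h (IsLocalRing.le_maximalIdeal hne)
    apply hZn
    rw [hI']
    simpa using isConnected_univ_of_local (R := R)
  have h1 : ¬ IsConnected (Zp I)ᶜ := fun h => hZn ((isConnected_compl_iff hI).mp h)
  have h2 : ¬ topologicalKrullDim ↥(Zp I) < (k : WithBot ℕ∞) :=
    fun h => h1 (hb _ (isClosed_Zp I) h)
  rw [not_lt] at h2
  rw [dim_zeroLocus']
  refine le_trans ?_ (dim_Zp_add_one_le hI)
  have : ((k + 1 : ℕ) : WithBot ℕ∞) = (k : WithBot ℕ∞) + 1 := by push_cast; rfl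
  rw [this]
  gcongr

theorem connectedInDim_of_le_connDim (j : ℕ)
    (h : ((j + 1 : ℕ) : WithBot ℕ∞) ≤ LocCoh.connDim (PrimeSpectrum R)) :
    LefX.ConnectedInDim ↥(FEt.puncturedSpec R) j := by
  intro Z' hZ' hdim
  obtain ⟨I, hI, rfl⟩ := exists_Zp_eq Z' hZ'
  rw [isConnected_compl_iff hI]
  by_contra hcon
  have h1 : LocCoh.connDim (PrimeSpectrum R) ≤
      topologicalKrullDim ↥(PrimeSpectrum.zeroLocus (I : Set R)) :=
    iInf₂_le _ ⟨PrimeSpectrum.isClosed_zeroLocus _, hcon⟩
  rw [dim_zeroLocus'] at h1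
  have h2 := ringKrullDim_lt_of_dim_Zp_lt I j hdim
  exact absurd (h.trans h1) (not_le_of_gt h2)

theorem specializes_iff_le (x y : ↥(FEt.puncturedSpec R)) :
    x ⤳ y ↔ (x.1 : PrimeSpectrum R).asIdeal ≤ (y.1 : PrimeSpectrum R).asIdeal := by
  rw [subtype_specializes_iff]
  exact (PrimeSpectrum.le_iff_specializes (x.1 : PrimeSpectrum R) (y.1 : PrimeSpectrum R)).symm

theorem Zp_eq_closure (x : ↥(FEt.puncturedSpec R)) :
    Zp (x.1 : PrimeSpectrum R).asIdeal = closure {x} := by
  ext y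
  rw [← specializes_iff_mem_closure, specializes_iff_le]
  exact Iff.rfl

theorem Zp_mem_irreducibleComponents_of_minimal (x : ↥(FEt.puncturedSpec R))
    (hx : (x.1 : PrimeSpectrum R).asIdeal ∈ minimalPrimes R) :
    Zp (x.1 : PrimeSpectrum R).asIdeal ∈ irreducibleComponents ↥(FEt.puncturedSpec R) := by
  rw [Zp_eq_closure, Groth.Agent.Lib.Helper14.closure_mem_irreducibleComponents_iff]
  intro y hy
  rw [specializes_iff_le] at hy
  have h2 : (x.1 : PrimeSpectrum R).asIdeal ≤ (y.1 : PrimeSpectrum R).asIdeal :=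
    hx.2 ⟨(y.1 : PrimeSpectrum R).2, bot_le⟩ hy
  exact Subtype.ext (PrimeSpectrum.ext (le_antisymm hy h2))

theorem exists_minimal_of_mem_irreducibleComponents (C : Set ↥(FEt.puncturedSpec R))
    (hC : C ∈ irreducibleComponents ↥(FEt.puncturedSpec R)) :
    ∃ Q : Ideal R, Q ∈ minimalPrimes R ∧ Q ≤ maximalIdeal R ∧ C = Zp Q ∧ (Zp Q).Nonempty := by
  obtain ⟨η, rfl⟩ := Groth.Agent.Lib.Helper14.exists_closure_eq_of_mem_irreducibleComponents hC
  have hη := (Groth.Agent.Lib.Helper14.closure_mem_irreducibleComponents_iff η).mp hC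
  refine ⟨(η.1 : PrimeSpectrum R).asIdeal, ⟨⟨(η.1 : PrimeSpectrum R).2, bot_le⟩, ?_⟩,
    IsLocalRing.le_maximalIdeal (η.1 : PrimeSpectrum R).2.ne_top, (Zp_eq_closure η).symm,
    ⟨η, le_refl (η.1 : PrimeSpectrum R).asIdeal⟩⟩
  rintro Q' ⟨hQ', _⟩ hle
  have hne : (⟨Q', hQ'⟩ : PrimeSpectrum R) ≠ closedPoint R := by
    intro h
    apply η.2
    have h3 : maximalIdeal R ≤ (η.1 : PrimeSpectrum R).asIdeal := by
      have : Q' = maximalIdeal R := congrArg PrimeSpectrum.asIdeal h
      rw [← this]; exact hle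
    exact PrimeSpectrum.ext
      (le_antisymm (IsLocalRing.le_maximalIdeal (η.1 : PrimeSpectrum R).2.ne_top) h3)
  have h4 := hη ⟨⟨Q', hQ'⟩, hne⟩
    (by rw [specializes_iff_le]; exact hle)
  rw [← h4]

end Local

end Groth.Agent.Lib.R2LeadPunctConnA
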