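import Groth.Agent.Lib.R2LeadPunctConnA
import Groth.Agent.S11670
import Groth.Agent.Lib.Helper28ConnCompl
import Groth.Agent.Lib.Helper28ComplCat
import Groth.Agent.Lib.Helper28Equidim
import Groth.Agent.Lib.Helper13Cat

set_option autoImplicit false
universe u
open AlgebraicGeometry TopologicalSpace IsLocalRing

namespace Groth.Agent.Lib.R2LeadPunctConnB

open Groth.Agent.Lib.R2LeadPunctConnA

section Alg

variable {A : Type u} [CommRing A] [IsNoetherianRing A] [IsLocalRing A]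

theorem dim_quot_le_add (hc : CAlg.IsCatenary A) {m : ℕ} (f : Fin m → A) (q : Ideal A)
    (hq : q ∈ (Ideal.span (Set.range f)).minimalPrimes) (p : Ideal A)
    (hp : p ∈ minimalPrimes A) (hpq : p ≤ q) :
    ringKrullDim (A ⧸ p) ≤ ringKrullDim (A ⧸ q) + (m : WithBot ℕ∞) := by
  haveI : p.IsPrime := hp.1.1
  haveI : q.IsPrime := hq.1.1
  haveI : IsLocalRing (A ⧸ p) :=
    IsLocalRing.of_surjective' (Ideal.Quotient.mk p) Ideal.Quotient.mk_surjective
  have hcD : CAlg.IsCatenary (A ⧸ p) :=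
    Groth.Agent.Helper13Cat.isCatenary_of_surjective (Ideal.Quotient.mk p)
      Ideal.Quotient.mk_surjective hc
  have heD : EGA4.IsEquidim (A ⧸ p) := by
    intro P hP
    rw [IsDomain.minimalPrimes_eq_singleton_bot] at hP
    have hP' : P = ⊥ := hP
    subst hP'
    exact ringKrullDim_eq_of_ringEquiv (RingEquiv.quotientBot (A ⧸ p))
  have hq' : (q.map (Ideal.Quotient.mk p)).IsPrime :=
    Ideal.map_isPrime_of_surjective Ideal.Quotient.mk_surjective (by rwa [Ideal.mk_ker])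
  have h1 := Groth.Agent.Lib.Helper28.height_add_ringKrullDim_quotient_eq_of_isEquidim heD hcD
    (q.map (Ideal.Quotient.mk p))
  have e := DoubleQuot.quotQuotEquivQuotOfLE hpq
  rw [ringKrullDim_eq_of_ringEquiv e] at h1
  have hmin : q.map (Ideal.Quotient.mk p) ∈
      (Ideal.span (Set.range (Ideal.Quotient.mk p ∘ f))).minimalPrimes := by
    have h3 : Ideal.span (Set.range (Ideal.Quotient.mk p ∘ f)) =
        (Ideal.span (Set.range f)).map (Ideal.Quotient.mk p) := by
      rw [Ideal.map_span, Set.range_comp]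
    rw [h3, Ideal.minimalPrimes_map_of_surjective Ideal.Quotient.mk_surjective]
    refine ⟨q, ⟨⟨hq.1.1, sup_le hq.1.2 (by rwa [Ideal.mk_ker])⟩, ?_⟩, rfl⟩
    rintro K ⟨hK, hK'⟩ hKq
    exact hq.2 ⟨hK, le_sup_left.trans hK'⟩ hKq
  have h2 : (q.map (Ideal.Quotient.mk p)).height ≤ (m : ℕ∞) := by
    refine (Ideal.height_le_card_of_mem_minimalPrimes_span (Set.finite_range _) hmin).trans ?_
    have : (Set.range (Ideal.Quotient.mk p ∘ f)).ncard ≤ m := by
      have := Set.ncard_image_le (f := Ideal.Quotient.mk p ∘ f) (Set.finite_univ (α := Fin m))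
      rw [Set.image_univ, Set.ncard_univ, Nat.card_eq_fintype_card, Fintype.card_fin] at this
      exact this
    exact_mod_cast this
  rw [← h1, add_comm]
  gcongr
  exact_mod_cast h2


theorem wb_cancel (a b c : ℕ) (d : WithBot ℕ∞)
    (h : ((a : ℕ) : WithBot ℕ∞) ≤ d + ((c : ℕ) : WithBot ℕ∞)) (hab : b + c ≤ a) :
    ((b : ℕ) : WithBot ℕ∞) ≤ d := by
  induction d using WithBot.recBotCoe with
  | bot =>
    rw [WithBot.bot_add] at h
    exact absurd (le_bot_iff.mp h) (by simp)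
  | coe d =>
    induction d using ENat.recTopCoe with
    | top => exact le_top
    | coe d =>
      have h' : a ≤ d + c := by exact_mod_cast h
      have : b ≤ d := by omega
      exact_mod_cast this

theorem dim_empty_lt {X : Type u} [TopologicalSpace X] (k : ℕ) :
    topologicalKrullDim ↥(∅ : Set X) < (k : WithBot ℕ∞) := by
  haveI : IsEmpty (IrreducibleCloseds ↥(∅ : Set X)) :=
    ⟨fun T => by obtain ⟨x, _⟩ := T.2.nonempty; exact x.2⟩
  rw [topologicalKrullDim, Order.krullDim_eq_bot]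
  exact WithBot.bot_lt_coe _

theorem main (A : Type u) [CommRing A] [IsNoetherianRing A] [IsLocalRing A]
    [IsAdicComplete (IsLocalRing.maximalIdeal A) A] (k : ℕ)
    (ha : ∀ Z ∈ irreducibleComponents ↥(FEt.puncturedSpec A),
      ((k + 1 : ℕ) : WithBot ℕ∞) ≤ topologicalKrullDim ↥Z)
    (hb : LefX.ConnectedInDim ↥(FEt.puncturedSpec A) k) (m : ℕ) (hm : m ≤ k) (f : Fin m → A)
    (hf : ∀ i, f i ∈ IsLocalRing.maximalIdeal A) (J : Ideal A)
    (hJ : J = Ideal.span (Set.range f)) [IsLocalRing (A ⧸ J)] :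
    (∀ Z ∈ irreducibleComponents ↥(FEt.puncturedSpec (A ⧸ J)),
      ((k - m + 1 : ℕ) : WithBot ℕ∞) ≤ topologicalKrullDim ↥Z) ∧
    LefX.ConnectedInDim ↥(FEt.puncturedSpec (A ⧸ J)) (k - m) := by
  classical
  have hJm : J ≤ maximalIdeal A := by
    rw [hJ]; exact Ideal.span_le.mpr (by rintro _ ⟨i, rfl⟩; exact hf i)
  have hc : CAlg.IsCatenary A := Groth.Agent.Lib.Helper28.isCatenary_of_isAdicComplete A
  -- Step 1
  have hA : ∀ p ∈ minimalPrimes A, ((k + 2 : ℕ) : WithBot ℕ∞) ≤ ringKrullDim (A ⧸ p) := by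
    intro p hp
    haveI : p.IsPrime := hp.1.1
    have hpm : (⟨p, hp.1.1⟩ : PrimeSpectrum A) ≠ closedPoint A := by
      intro h
      have hpm' : p = maximalIdeal A := congrArg PrimeSpectrum.asIdeal h
      obtain ⟨x, -⟩ := (hb ∅ isClosed_empty (dim_empty_lt k)).nonempty
      apply x.2
      have h1 : (x.1 : PrimeSpectrum A).asIdeal ≤ p :=
        hpm' ▸ IsLocalRing.le_maximalIdeal (x.1 : PrimeSpectrum A).2.ne_top
      have h2 : p ≤ (x.1 : PrimeSpectrum A).asIdeal :=
        hp.2 ⟨(x.1 : PrimeSpectrum A).2, bot_le⟩ h1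
      exact PrimeSpectrum.ext ((le_antisymm h1 h2).trans hpm')
    have h1 := Zp_mem_irreducibleComponents_of_minimal
      (⟨⟨p, hp.1.1⟩, hpm⟩ : ↥(FEt.puncturedSpec A)) hp
    have h2 := ha _ h1
    have h3 := dim_Zp_add_one_le (I := p) (IsLocalRing.le_maximalIdeal hp.1.1.ne_top)
    refine le_trans ?_ h3
    have : ((k + 2 : ℕ) : WithBot ℕ∞) = ((k + 1 : ℕ) : WithBot ℕ∞) + 1 := by push_cast; ring
    rw [this]
    gcongr
  -- Step 2
  have hsub : ((k + 2 : ℕ) : WithBot ℕ∞) ≤ LocCoh.subdim (PrimeSpectrum A) := by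
    unfold LocCoh.subdim
    refine le_iInf₂ (fun C hC => ?_)
    obtain ⟨p, hp, rfl⟩ :=
      (Groth.Agent.Lib.Helper28.ConnCompl.mem_irreducibleComponents_iff C).mp hC
    rw [dim_zeroLocus']
    exact hA p hp
  -- Step 3
  have hconn := le_connDim_of_connectedInDim k hb
  -- Step 4
  have hs : (Ideal.span ((Finset.univ.image f : Finset A) : Set A)).radical = J.radical := by
    rw [Finset.coe_image, Finset.coe_univ, Set.image_univ, hJ]
  have hJtop : J ≠ ⊤ := fun h =>
    (Ideal.IsMaximal.ne_top (inferInstance : (maximalIdeal A).IsMaximal)) (top_le_iff.mp (h ▸ hJm))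
  have key := Groth.Agent.S11670.result A J hJtop (Finset.univ.image f) hs
  have hcard : (Finset.univ.image f).card ≤ m := by
    refine Finset.card_image_le.trans ?_
    simp
  have hconnB : ((k - m + 1 : ℕ) : WithBot ℕ∞) ≤ LocCoh.connDim (PrimeSpectrum (A ⧸ J)) := by
    have h1 : ((k + 2 : ℕ) : WithBot ℕ∞) ≤
        min (LocCoh.connDim (PrimeSpectrum A) + 1) (LocCoh.subdim (PrimeSpectrum A)) := by
      refine le_min ?_ hsub
      have : ((k + 2 : ℕ) : WithBot ℕ∞) = ((k + 1 : ℕ) : WithBot ℕ∞) + 1 := by push_cast; ring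
      rw [this]
      gcongr
    have h2 := h1.trans key
    rw [add_assoc] at h2
    have h3 : (((Finset.univ.image f).card : ℕ) : WithBot ℕ∞) + 1 =
        (((Finset.univ.image f).card + 1 : ℕ) : WithBot ℕ∞) := by push_cast; rfl
    rw [h3] at h2
    exact wb_cancel _ _ _ _ h2 (by omega)
  refine ⟨?_, connectedInDim_of_le_connDim (k - m) hconnB⟩
  -- Step 5
  intro C hC
  obtain ⟨Q, hQ, hQm, rfl, hne⟩ := exists_minimal_of_mem_irreducibleComponents C hC
  have h1 := ringKrullDim_le_dim_Zp_add_one Q hne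
  have h2 : ((k - m + 2 : ℕ) : WithBot ℕ∞) ≤ ringKrullDim ((A ⧸ J) ⧸ Q) := by
    haveI : Q.IsPrime := hQ.1.1
    have hqmin : Q.comap (Ideal.Quotient.mk J) ∈ J.minimalPrimes := by
      rw [Ideal.minimalPrimes_eq_comap]; exact ⟨Q, hQ, rfl⟩
    haveI : (Q.comap (Ideal.Quotient.mk J)).IsPrime := hqmin.1.1
    obtain ⟨p, hp, hpq⟩ := Ideal.exists_minimalPrimes_le (J := Q.comap (Ideal.Quotient.mk J)) bot_le
    have h3 := dim_quot_le_add hc f (Q.comap (Ideal.Quotient.mk J)) (hJ ▸ hqmin) p hp hpq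
    have h4 := hA p hp
    have hQq : Q = (Q.comap (Ideal.Quotient.mk J)).map (Ideal.Quotient.mk J) :=
      (Ideal.map_comap_of_surjective _ Ideal.Quotient.mk_surjective Q).symm
    have e : ((A ⧸ J) ⧸ Q) ≃+* (A ⧸ Q.comap (Ideal.Quotient.mk J)) :=
      (Ideal.quotEquivOfEq hQq).trans (DoubleQuot.quotQuotEquivQuotOfLE hqmin.1.2)
    rw [ringKrullDim_eq_of_ringEquiv e]
    exact wb_cancel _ _ _ _ (h4.trans h3) (by omega)
  have h3 := h2.trans h1
  have h4 : (1 : WithBot ℕ∞) = ((1 : ℕ) : WithBot ℕ∞) := by norm_num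
  rw [h4] at h3
  exact wb_cancel _ _ _ _ h3 (by omega)

end Alg

end Groth.Agent.Lib.R2LeadPunctConnB
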