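import Groth.Statements.S17790
import Groth.Agent.S2946

set_option autoImplicit false
universe u
open CategoryTheory CategoryTheory.Limits AlgebraicGeometry

namespace Groth.Agent.Lib.R2LeadPureConn

theorem isClosedImmersion_ι_of_isClosed {W : Scheme.{u}} (V : W.Opens) (hV : IsClosed (V : Set W)) :
    IsClosedImmersion V.ι := by
  refine IsClosedImmersion.of_isPreimmersion _ ?_
  rw [Scheme.Opens.range_ι]; exact hV

/-- A clopen subscheme as a finite etale cover. -/
noncomputable def clopenObj {W : Scheme.{u}} (V : W.Opens) (hV : IsClosed (V : Set W)) : FEt.Cat W :=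
  haveI := isClosedImmersion_ι_of_isClosed V hV
  MorphismProperty.Over.mk ⊤ V.ι ⟨inferInstance, inferInstance⟩

theorem clopen_eq_of_essSurj {W W' : Scheme.{u}} (j : W' ⟶ W) [PreconnectedSpace W]
    (h : (FEt.restrict j).EssSurj) (V : W'.Opens) (hV : IsClosed (V : Set W')) :
    (V : Set W') = ∅ ∨ (V : Set W') = Set.univ := by
  obtain ⟨Z, ⟨e⟩⟩ := h.mem_essImage (clopenObj V hV)
  let g : Z.left ⟶ W := Z.hom
  haveI hfin : IsFinite g := Z.prop.1
  haveI het : Etale g := Z.prop.2
  have hclosed : IsClosed (Set.range g) := g.isClosedMap.isClosed_range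
  have hopen : IsOpen (Set.range g) := g.isOpenMap.isOpen_range
  have hclopen : IsClopen (Set.range g) := ⟨hclosed, hopen⟩
  have hr : (V : Set W') = j ⁻¹' (Set.range g) := by
    rw [← Scheme.Opens.range_ι V, ← Scheme.Pullback.range_snd]
    let a : pullback g j ⟶ (V : Scheme.{u}) := e.hom.left
    let b : (V : Scheme.{u}) ⟶ pullback g j := e.inv.left
    have hw : a ≫ V.ι = pullback.snd g j := Over.w e.hom.hom
    have hba : b ≫ a = 𝟙 _ := by
      change e.inv.left ≫ e.hom.left = _
      rw [← MorphismProperty.Comma.comp_left, e.inv_hom_id]; rfl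
    rw [← hw]
    apply Set.Subset.antisymm
    · rintro _ ⟨x, rfl⟩
      refine ⟨b x, ?_⟩
      rw [← Scheme.Hom.comp_apply, ← Category.assoc, hba, Category.id_comp]
    · rintro _ ⟨x, rfl⟩
      exact ⟨a x, by rw [Scheme.Hom.comp_apply]⟩
  rcases isClopen_iff.mp hclopen with h0 | h1
  · left; rw [hr, h0]; rfl
  · right; rw [hr, h1]; rfl

theorem nonempty_of_full {W W' : Scheme.{u}} (j : W' ⟶ W) [Nonempty W]
    (h : (FEt.restrict j).Full) : Nonempty W' := by
  by_contra hne
  rw [not_nonempty_iff] at hne
  let E : FEt.Cat W := clopenObj ⊥ (by simp)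
  let T : FEt.Cat W := MorphismProperty.Over.mk ⊤ (𝟙 W) ⟨inferInstance, inferInstance⟩
  haveI : IsEmpty ↥((FEt.restrict j).obj T).left :=
    Function.isEmpty (pullback.snd T.hom j)
  let φ : (FEt.restrict j).obj T ⟶ (FEt.restrict j).obj E :=
    MorphismProperty.Over.homMk (isInitialOfIsEmpty.to _) (isInitialOfIsEmpty.hom_ext _ _) trivial
  obtain ⟨ψ, -⟩ := h.map_surjective φ
  obtain ⟨w⟩ := ‹Nonempty W›
  exact (ψ.left w).2

theorem connectedSpace_of_isEquivalence {W W' : Scheme.{u}} (j : W' ⟶ W) [ConnectedSpace W]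
    (h : (FEt.restrict j).IsEquivalence) : ConnectedSpace W' := by
  haveI : Nonempty W' := nonempty_of_full j inferInstance
  haveI : PreconnectedSpace W' := by
    rw [preconnectedSpace_iff_clopen]
    intro s hs
    exact clopen_eq_of_essSurj j inferInstance ⟨s, hs.2⟩ hs.1
  exact ⟨inferInstance⟩

theorem isConnected_univ_of_local (R : Type u) [CommRing R] [IsLocalRing R] :
    _root_.IsConnected (Set.univ : Set (PrimeSpectrum R)) := by
  refine ⟨⟨IsLocalRing.closedPoint R, trivial⟩, ?_⟩
  refine isPreconnected_of_forall (IsLocalRing.closedPoint R) (fun y _ =>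
    ⟨closure {y}, Set.subset_univ _, ?_, subset_closure rfl, isPreconnected_singleton.closure⟩)
  rw [← specializes_iff_mem_closure, ← PrimeSpectrum.le_iff_specializes]
  exact IsLocalRing.le_maximalIdeal y.2.ne_top

theorem connectedSpace_opens_of_isConnected {X : Scheme.{u}} (V : X.Opens)
    (h : _root_.IsConnected (V : Set X)) : ConnectedSpace ↥(V : Scheme.{u}) :=
  isConnected_iff_connectedSpace.mp h

theorem isConnected_of_connectedSpace_opens {X : Scheme.{u}} (V : X.Opens)
    (h : ConnectedSpace ↥(V : Scheme.{u})) : _root_.IsConnected (V : Set X) :=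
  isConnected_iff_connectedSpace.mpr h

theorem main (A : Type u) [CommRing A] [IsLocalRing A] [IsNoetherianRing A] (I : Ideal A)
    (hpure : SGA2.IsPurePair (Spec (CommRingCat.of A)) (FEt.puncturedSpec A))
    (hleff : LefX.LeffCond (↑(FEt.puncturedSpec A) : Scheme.{u})
      ((Spec.map (CommRingCat.ofHom (Ideal.Quotient.mk I))).ker.comap (FEt.puncturedSpec A).ι)) :
    _root_.IsConnected (((Spec.map (CommRingCat.ofHom (Ideal.Quotient.mk I))).ker.support :
      Set ↥(Spec (CommRingCat.of A))) ∩
        (FEt.puncturedSpec A : Set ↥(Spec (CommRingCat.of A)))) := by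
  haveI hT : ConnectedSpace ↥((⊤ : (Spec (CommRingCat.of A)).Opens) : Scheme.{u}) := by
    apply connectedSpace_opens_of_isConnected
    exact isConnected_univ_of_local A
  have hTU : ConnectedSpace
      ↥((⊤ ⊓ FEt.puncturedSpec A : (Spec (CommRingCat.of A)).Opens) : Scheme.{u}) :=
    connectedSpace_of_isEquivalence _ (hpure ⊤)
  have hU : _root_.IsConnected (FEt.puncturedSpec A : Set ↥(Spec (CommRingCat.of A))) := by
    have := isConnected_of_connectedSpace_opens _ hTU
    simpa using this
  haveI hU' : ConnectedSpace ↥((FEt.puncturedSpec A : (Spec (CommRingCat.of A)).Opens) : Scheme.{u}) :=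
    connectedSpace_opens_of_isConnected _ hU
  have hTop : ConnectedSpace
      ↥((⊤ : ((FEt.puncturedSpec A : (Spec (CommRingCat.of A)).Opens) : Scheme.{u}).Opens) : Scheme.{u}) := by
    apply connectedSpace_opens_of_isConnected
    simpa using isConnected_univ
  have h2 := (Groth.Agent.S2946.result _ _ hleff.1 ⊤ (by simp)).mpr hTop
  have h3 : _root_.IsConnected (((Spec.map (CommRingCat.ofHom (Ideal.Quotient.mk I))).ker.comap
      (FEt.puncturedSpec A).ι).support : Set ↥((FEt.puncturedSpec A : (Spec (CommRingCat.of A)).Opens) : Scheme.{u})) :=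
    isConnected_iff_connectedSpace.mpr h2
  have h4 := h3.image (FEt.puncturedSpec A).ι
    (FEt.puncturedSpec A).ι.continuous.continuousOn
  convert h4 using 1
  rw [Scheme.IdealSheafData.support_comap]
  simp only [TopologicalSpace.Closeds.coe_preimage]
  rw [Set.image_preimage_eq_inter_range, Scheme.Opens.range_ι]

end Groth.Agent.Lib.R2LeadPureConn
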