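import Mathlib
import Groth.Agent.S7757
import Groth.Agent.Lib.H9FlatBC

set_option autoImplicit false
set_option linter.style.haveILetI false
universe u
open CategoryTheory CategoryTheory.Limits AlgebraicGeometry

namespace Groth.Agent.Lib.R2LeadPureDescA

section hartogs

/-- Hartogs property is stable under flat base change. -/
theorem bijective_app_of_flat {Y Y₀ T T₀ : Scheme.{u}} (j : Y₀ ⟶ Y) [QuasiCompact j]
    [QuasiSeparated j] (hj : ∀ U : Y.Opens, Function.Bijective (j.app U))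
    (t : T ⟶ Y) [Flat t] (jT : T₀ ⟶ T) (t₀ : T₀ ⟶ Y₀) (H : IsPullback jT t₀ t j)
    (V : T.Opens) : Function.Bijective (jT.app V) := by
  haveI := Groth.Agent.Lib.H9FlatBC.isIso_app_baseChange H.flip
    (fun U => (ConcreteCategory.isIso_iff_bijective (j.app U)).mpr (hj U)) V
  exact ConcreteCategory.bijective_of_isIso (jT.app V)

end hartogs

section tr

variable {Y Y₀ Y₁ Y₁₀ W' W₁ E : Scheme.{u}} {j : Y₀ ⟶ Y} {g : Y₁ ⟶ Y} {j₁ : Y₁₀ ⟶ Y₁}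
  {g₀ : Y₁₀ ⟶ Y₀} {w' : W' ⟶ Y₀} {w₁ : W₁ ⟶ Y₁} {a₁ : E ⟶ W₁} {r : E ⟶ Y₁₀} {a' : E ⟶ W'}
  (H₁ : IsPullback a₁ r w₁ j₁) (H' : IsPullback a' r w' g₀)

/-- transport of points of `W₁` lying over `Y₁₀`, through `W'`. -/
noncomputable def tr {T : Scheme.{u}} (x₀ x₁ : T ⟶ Y₁₀) (h : x₀ ≫ g₀ = x₁ ≫ g₀) (v : T ⟶ W₁)
    (hv : v ≫ w₁ = x₀ ≫ j₁) : T ⟶ W₁ :=
  H'.lift (H₁.lift v x₀ hv ≫ a') x₁ (by
    rw [Category.assoc, H'.w, ← Category.assoc, H₁.lift_snd, h]) ≫ a₁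

theorem tr_w {T : Scheme.{u}} (x₀ x₁ : T ⟶ Y₁₀) (h : x₀ ≫ g₀ = x₁ ≫ g₀) (v : T ⟶ W₁)
    (hv : v ≫ w₁ = x₀ ≫ j₁) : tr H₁ H' x₀ x₁ h v hv ≫ w₁ = x₁ ≫ j₁ := by
  unfold tr
  rw [Category.assoc, H₁.w, ← Category.assoc, H'.lift_snd]

theorem tr_natural {T T' : Scheme.{u}} (t : T' ⟶ T) (x₀ x₁ : T ⟶ Y₁₀) (h : x₀ ≫ g₀ = x₁ ≫ g₀)
    (v : T ⟶ W₁) (hv : v ≫ w₁ = x₀ ≫ j₁) :
    tr H₁ H' (t ≫ x₀) (t ≫ x₁) (by rw [Category.assoc, Category.assoc, h]) (t ≫ v)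
      (by rw [Category.assoc, Category.assoc, hv]) = t ≫ tr H₁ H' x₀ x₁ h v hv := by
  unfold tr
  have k1 : H₁.lift (t ≫ v) (t ≫ x₀) (by rw [Category.assoc, Category.assoc, hv]) =
      t ≫ H₁.lift v x₀ hv := by
    apply H₁.hom_ext
    · rw [H₁.lift_fst, Category.assoc, H₁.lift_fst]
    · rw [H₁.lift_snd, Category.assoc, H₁.lift_snd]
  have k2 : H'.lift (H₁.lift (t ≫ v) (t ≫ x₀) (by rw [Category.assoc, Category.assoc, hv]) ≫ a')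
      (t ≫ x₁) (by
        rw [Category.assoc, H'.w, ← Category.assoc, H₁.lift_snd, Category.assoc, Category.assoc, h]) =
      t ≫ H'.lift (H₁.lift v x₀ hv ≫ a') x₁ (by
        rw [Category.assoc, H'.w, ← Category.assoc, H₁.lift_snd, h]) := by
    apply H'.hom_ext
    · simp only [IsPullback.lift_fst, Category.assoc, k1]
    · simp only [IsPullback.lift_snd, Category.assoc]
  exact (congrArg (· ≫ a₁) k2).trans (Category.assoc _ _ _)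

theorem tr_self {T : Scheme.{u}} (x : T ⟶ Y₁₀) (v : T ⟶ W₁) (hv : v ≫ w₁ = x ≫ j₁) :
    tr H₁ H' x x rfl v hv = v := by
  unfold tr
  have : H'.lift (H₁.lift v x hv ≫ a') x (by
      rw [Category.assoc, H'.w, ← Category.assoc, H₁.lift_snd]) = H₁.lift v x hv := by
    apply H'.hom_ext
    · rw [H'.lift_fst]
    · rw [H'.lift_snd, H₁.lift_snd]
  rw [this, H₁.lift_fst]

theorem tr_comp {T : Scheme.{u}} (x₀ x₁ x₂ : T ⟶ Y₁₀) (h₀₁ : x₀ ≫ g₀ = x₁ ≫ g₀)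
    (h₁₂ : x₁ ≫ g₀ = x₂ ≫ g₀) (v : T ⟶ W₁) (hv : v ≫ w₁ = x₀ ≫ j₁) :
    tr H₁ H' x₁ x₂ h₁₂ (tr H₁ H' x₀ x₁ h₀₁ v hv) (tr_w H₁ H' x₀ x₁ h₀₁ v hv) =
      tr H₁ H' x₀ x₂ (h₀₁.trans h₁₂) v hv := by
  unfold tr
  congr 1
  apply H'.hom_ext
  · rw [H'.lift_fst, H'.lift_fst]
    have : H₁.lift (H'.lift (H₁.lift v x₀ hv ≫ a') x₁ (by
        rw [Category.assoc, H'.w, ← Category.assoc, H₁.lift_snd, h₀₁]) ≫ a₁) x₁
        (tr_w H₁ H' x₀ x₁ h₀₁ v hv) = H'.lift (H₁.lift v x₀ hv ≫ a') x₁ (by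
        rw [Category.assoc, H'.w, ← Category.assoc, H₁.lift_snd, h₀₁]) := by
      apply H₁.hom_ext
      · rw [H₁.lift_fst]
      · rw [H₁.lift_snd, H'.lift_snd]
    rw [this, H'.lift_fst]
  · rw [H'.lift_snd, H'.lift_snd]

/-- the transport of `z ≫ a₁` is `z' ≫ a₁` when `z, z'` have the same image in `W'`. -/
theorem tr_of_eq {T : Scheme.{u}} (z₀ z₁ : T ⟶ E) (h : z₀ ≫ a' = z₁ ≫ a') :
    tr H₁ H' (z₀ ≫ r) (z₁ ≫ r) (by
      rw [Category.assoc, Category.assoc, ← H'.w, ← Category.assoc, h, Category.assoc])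
      (z₀ ≫ a₁) (by rw [Category.assoc, Category.assoc, H₁.w]) = z₁ ≫ a₁ := by
  unfold tr
  congr 1
  apply H'.hom_ext
  · rw [H'.lift_fst]
    have : H₁.lift (z₀ ≫ a₁) (z₀ ≫ r) (by rw [Category.assoc, Category.assoc, H₁.w]) = z₀ := by
      apply H₁.hom_ext
      · rw [H₁.lift_fst]
      · rw [H₁.lift_snd]
    rw [this, h]
  · rw [H'.lift_snd]

theorem tr_congr {T : Scheme.{u}} {x₀ x₀' x₁ x₁' : T ⟶ Y₁₀} {v v' : T ⟶ W₁} (e₀ : x₀ = x₀')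
    (e₁ : x₁ = x₁') (ev : v = v') (h : x₀ ≫ g₀ = x₁ ≫ g₀) (hv : v ≫ w₁ = x₀ ≫ j₁)
    (h' : x₀' ≫ g₀ = x₁' ≫ g₀) (hv' : v' ≫ w₁ = x₀' ≫ j₁) :
    tr H₁ H' x₀ x₁ h v hv = tr H₁ H' x₀' x₁' h' v' hv' := by
  subst e₀ e₁ ev; rfl

end tr

section theta

variable {Y Y₀ Y₁ Y₁₀ W' W₁ E : Scheme.{u}} (j : Y₀ ⟶ Y) [QuasiCompact j] [QuasiSeparated j]
  (hj : ∀ U : Y.Opens, Function.Bijective (j.app U))
  (g : Y₁ ⟶ Y) [Flat g] {j₁ : Y₁₀ ⟶ Y₁} {g₀ : Y₁₀ ⟶ Y₀} (H : IsPullback j₁ g₀ g j)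
  {w' : W' ⟶ Y₀} (w₁ : W₁ ⟶ Y₁) [IsFinite w₁] [Etale w₁]
  {a₁ : E ⟶ W₁} {r : E ⟶ Y₁₀} {a' : E ⟶ W'}
  (H₁ : IsPullback a₁ r w₁ j₁) (H' : IsPullback a' r w' g₀)

/-- the part of `Y₁ ×_Y Y₁` over `Y₀`. -/
noncomputable abbrev Y20 : Scheme.{u} := pullback (pullback.fst g g ≫ g) j

/-- first projection `Y₂₀ ⟶ Y₁₀`. -/
noncomputable def xt0 : Y20 j g ⟶ Y₁₀ :=
  H.lift (pullback.fst (pullback.fst g g ≫ g) j ≫ pullback.fst g g)
    (pullback.snd (pullback.fst g g ≫ g) j) (by rw [Category.assoc]; exact pullback.condition)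

/-- second projection `Y₂₀ ⟶ Y₁₀`. -/
noncomputable def xt1 : Y20 j g ⟶ Y₁₀ :=
  H.lift (pullback.fst (pullback.fst g g ≫ g) j ≫ pullback.snd g g)
    (pullback.snd (pullback.fst g g ≫ g) j) (by
      rw [Category.assoc, ← pullback.condition (f := g) (g := g)]; exact pullback.condition)

@[simp] theorem xt0_j₁ : xt0 j g H ≫ j₁ =
    pullback.fst (pullback.fst g g ≫ g) j ≫ pullback.fst g g := H.lift_fst _ _ _
@[simp] theorem xt0_g₀ : xt0 j g H ≫ g₀ = pullback.snd (pullback.fst g g ≫ g) j := H.lift_snd _ _ _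
@[simp] theorem xt1_j₁ : xt1 j g H ≫ j₁ =
    pullback.fst (pullback.fst g g ≫ g) j ≫ pullback.snd g g := H.lift_fst _ _ _
@[simp] theorem xt1_g₀ : xt1 j g H ≫ g₀ = pullback.snd (pullback.fst g g ≫ g) j := H.lift_snd _ _ _

theorem hv0 : (pullback.fst (pullback.snd w₁ (pullback.fst g g))
      (pullback.fst (pullback.fst g g ≫ g) j) ≫ pullback.fst w₁ (pullback.fst g g)) ≫ w₁ =
    (pullback.snd (pullback.snd w₁ (pullback.fst g g))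
      (pullback.fst (pullback.fst g g ≫ g) j) ≫ xt0 j g H) ≫ j₁ := by
  have e1 := pullback.condition (f := w₁) (g := pullback.fst g g)
  have e2 := pullback.condition (f := pullback.snd w₁ (pullback.fst g g))
    (g := pullback.fst (pullback.fst g g ≫ g) j)
  rw [Category.assoc, e1, ← Category.assoc, e2, Category.assoc, Category.assoc, xt0_j₁]

theorem hv1 : (pullback.snd (pullback.snd w₁ (pullback.fst g g))
      (pullback.fst (pullback.fst g g ≫ g) j) ≫ xt1 j g H) ≫ j₁ =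
    (pullback.fst (pullback.snd w₁ (pullback.fst g g))
      (pullback.fst (pullback.fst g g ≫ g) j) ≫ pullback.snd w₁ (pullback.fst g g)) ≫
      pullback.snd g g := by
  have e2 := pullback.condition (f := pullback.snd w₁ (pullback.fst g g))
    (g := pullback.fst (pullback.fst g g ≫ g) j)
  rw [e2, Category.assoc, Category.assoc, xt1_j₁]

theorem hg01 : (pullback.snd (pullback.snd w₁ (pullback.fst g g))
      (pullback.fst (pullback.fst g g ≫ g) j) ≫ xt0 j g H) ≫ g₀ =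
    (pullback.snd (pullback.snd w₁ (pullback.fst g g))
      (pullback.fst (pullback.fst g g ≫ g) j) ≫ xt1 j g H) ≫ g₀ := by
  rw [Category.assoc, Category.assoc, xt0_g₀, xt1_g₀]

/-- the transport map over `Y₂₀`. -/
noncomputable def aMap :
    pullback (pullback.snd w₁ (pullback.fst g g)) (pullback.fst (pullback.fst g g ≫ g) j) ⟶
      pullback w₁ (pullback.snd g g) :=
  pullback.lift
    (tr H₁ H' (pullback.snd _ _ ≫ xt0 j g H) (pullback.snd _ _ ≫ xt1 j g H)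
      (hg01 j g H w₁)
      (pullback.fst _ _ ≫ pullback.fst w₁ (pullback.fst g g))
      (hv0 j g H w₁))
    (pullback.fst _ _ ≫ pullback.snd w₁ (pullback.fst g g))
    (by rw [tr_w]; exact hv1 j g H w₁)

theorem aMap_snd : aMap j g H w₁ H₁ H' ≫ pullback.snd w₁ (pullback.snd g g) =
    pullback.fst _ _ ≫ pullback.snd w₁ (pullback.fst g g) := pullback.lift_snd _ _ _

theorem aMap_fst : aMap j g H w₁ H₁ H' ≫ pullback.fst w₁ (pullback.snd g g) =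
    tr H₁ H' (pullback.snd _ _ ≫ xt0 j g H) (pullback.snd _ _ ≫ xt1 j g H)
      (hg01 j g H w₁)
      (pullback.fst _ _ ≫ pullback.fst w₁ (pullback.fst g g))
      (hv0 j g H w₁) := pullback.lift_fst _ _ _

include hj in
theorem exists_theta : ∃ Θ : pullback w₁ (pullback.fst g g) ⟶ pullback w₁ (pullback.snd g g),
    Θ ≫ pullback.snd w₁ (pullback.snd g g) = pullback.snd w₁ (pullback.fst g g) ∧
    pullback.fst (pullback.snd w₁ (pullback.fst g g)) (pullback.fst (pullback.fst g g ≫ g) j) ≫ Θ =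
      aMap j g H w₁ H₁ H' := by
  have hj₂ : ∀ U' : (pullback g g).Opens,
      Function.Bijective ((pullback.fst (pullback.fst g g ≫ g) j).app U') :=
    bijective_app_of_flat j hj (pullback.fst g g ≫ g) _ _ (IsPullback.of_hasPullback _ _)
  exact Groth.Agent.S7757.exists_lift
    (IsPullback.of_hasPullback (pullback.snd w₁ (pullback.fst g g))
      (pullback.fst (pullback.fst g g ≫ g) j)) hj₂
    (pullback.snd w₁ (pullback.snd g g)) (aMap j g H w₁ H₁ H') (aMap_snd j g H w₁ H₁ H')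

/-- the gluing isomorphism over `Y₁ ×_Y Y₁`. -/
noncomputable def theta : pullback w₁ (pullback.fst g g) ⟶ pullback w₁ (pullback.snd g g) :=
  (exists_theta j hj g H w₁ H₁ H').choose

theorem theta_snd : theta j hj g H w₁ H₁ H' ≫ pullback.snd w₁ (pullback.snd g g) =
    pullback.snd w₁ (pullback.fst g g) := (exists_theta j hj g H w₁ H₁ H').choose_spec.1

theorem fst_theta :
    pullback.fst (pullback.snd w₁ (pullback.fst g g)) (pullback.fst (pullback.fst g g ≫ g) j) ≫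
      theta j hj g H w₁ H₁ H' = aMap j g H w₁ H₁ H' :=
  (exists_theta j hj g H w₁ H₁ H').choose_spec.2

/-- the gluing map on points. -/
noncomputable def F {T : Scheme.{u}} (x₀ x₁ : T ⟶ Y₁) (h : x₀ ≫ g = x₁ ≫ g) (v : T ⟶ W₁)
    (hv : v ≫ w₁ = x₀) : T ⟶ W₁ :=
  pullback.lift v (pullback.lift x₀ x₁ h) (by rw [hv, pullback.lift_fst]) ≫
    theta j hj g H w₁ H₁ H' ≫ pullback.fst w₁ (pullback.snd g g)

theorem F_congr {T : Scheme.{u}} {x₀ x₀' x₁ x₁' : T ⟶ Y₁} {v v' : T ⟶ W₁} (e₀ : x₀ = x₀')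
    (e₁ : x₁ = x₁') (ev : v = v') (h : x₀ ≫ g = x₁ ≫ g) (hv : v ≫ w₁ = x₀)
    (h' : x₀' ≫ g = x₁' ≫ g) (hv' : v' ≫ w₁ = x₀') :
    F j hj g H w₁ H₁ H' x₀ x₁ h v hv = F j hj g H w₁ H₁ H' x₀' x₁' h' v' hv' := by
  subst e₀ e₁ ev; rfl

theorem F_w {T : Scheme.{u}} (x₀ x₁ : T ⟶ Y₁) (h : x₀ ≫ g = x₁ ≫ g) (v : T ⟶ W₁)
    (hv : v ≫ w₁ = x₀) : F j hj g H w₁ H₁ H' x₀ x₁ h v hv ≫ w₁ = x₁ := by
  unfold F
  have e := pullback.condition (f := w₁) (g := pullback.snd g g)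
  rw [Category.assoc, Category.assoc, e, ← Category.assoc (theta j hj g H w₁ H₁ H'), theta_snd,
    pullback.lift_snd_assoc, pullback.lift_snd]

theorem F_natural {T T' : Scheme.{u}} (t : T' ⟶ T) (x₀ x₁ : T ⟶ Y₁) (h : x₀ ≫ g = x₁ ≫ g)
    (v : T ⟶ W₁) (hv : v ≫ w₁ = x₀) :
    F j hj g H w₁ H₁ H' (t ≫ x₀) (t ≫ x₁) (by rw [Category.assoc, Category.assoc, h]) (t ≫ v)
      (by rw [Category.assoc, hv]) = t ≫ F j hj g H w₁ H₁ H' x₀ x₁ h v hv := by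
  unfold F
  have k : pullback.lift (t ≫ v) (pullback.lift (t ≫ x₀) (t ≫ x₁)
      (by rw [Category.assoc, Category.assoc, h])) (by rw [Category.assoc, hv, pullback.lift_fst]) =
      t ≫ pullback.lift v (pullback.lift x₀ x₁ h) (by rw [hv, pullback.lift_fst]) := by
    apply pullback.hom_ext
    · simp only [pullback.lift_fst, Category.assoc]
    · simp only [pullback.lift_snd, Category.assoc]
      apply pullback.hom_ext <;> simp only [pullback.lift_fst, pullback.lift_snd, Category.assoc]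
  exact (congrArg (· ≫ _) k).trans (Category.assoc _ _ _)

/-- on points over `Y₀` the gluing map is the transport through `W'`. -/
theorem F_tr {T : Scheme.{u}} (x₀ x₁ : T ⟶ Y₁₀) (he : x₀ ≫ g₀ = x₁ ≫ g₀) (v : T ⟶ W₁)
    (hv : v ≫ w₁ = x₀ ≫ j₁) :
    F j hj g H w₁ H₁ H' (x₀ ≫ j₁) (x₁ ≫ j₁)
      (by rw [Category.assoc, Category.assoc, H.w, ← Category.assoc, ← Category.assoc, he]) v hv =
      tr H₁ H' x₀ x₁ he v hv := by
  have hg : (x₀ ≫ j₁) ≫ g = (x₁ ≫ j₁) ≫ g := by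
    rw [Category.assoc, Category.assoc, H.w, ← Category.assoc, ← Category.assoc, he]
  let y2 : T ⟶ Y20 j g := pullback.lift (pullback.lift (x₀ ≫ j₁) (x₁ ≫ j₁) hg) (x₀ ≫ g₀) (by
    rw [← Category.assoc, pullback.lift_fst, Category.assoc, H.w, Category.assoc])
  have hy0 : y2 ≫ xt0 j g H = x₀ := by
    apply H.hom_ext
    · rw [Category.assoc, xt0_j₁, pullback.lift_fst_assoc, pullback.lift_fst]
    · rw [Category.assoc, xt0_g₀, pullback.lift_snd]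
  have hy1 : y2 ≫ xt1 j g H = x₁ := by
    apply H.hom_ext
    · rw [Category.assoc, xt1_j₁, pullback.lift_fst_assoc, pullback.lift_snd]
    · rw [Category.assoc, xt1_g₀, pullback.lift_snd, he]
  let z : T ⟶ pullback (pullback.snd w₁ (pullback.fst g g))
      (pullback.fst (pullback.fst g g ≫ g) j) :=
    pullback.lift (pullback.lift v (pullback.lift (x₀ ≫ j₁) (x₁ ≫ j₁) hg)
      (by rw [hv, pullback.lift_fst])) y2 (by rw [pullback.lift_snd, pullback.lift_fst])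
  have hz : pullback.lift v (pullback.lift (x₀ ≫ j₁) (x₁ ≫ j₁) hg)
      (by rw [hv, pullback.lift_fst]) = z ≫ pullback.fst _ _ := (pullback.lift_fst _ _ _).symm
  unfold F
  rw [hz, Category.assoc, ← Category.assoc (pullback.fst _ _), fst_theta, aMap_fst, ← tr_natural]
  refine tr_congr H₁ H' ?_ ?_ ?_ _ _ _ _
  · rw [← Category.assoc, pullback.lift_snd, hy0]
  · rw [← Category.assoc, pullback.lift_snd, hy1]
  · rw [← Category.assoc, pullback.lift_fst, pullback.lift_fst]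

theorem F_pre {T T' : Scheme.{u}} (t : T' ⟶ T) (x₀ x₁ : T ⟶ Y₁) (h : x₀ ≫ g = x₁ ≫ g)
    (v : T ⟶ W₁) (hv : v ≫ w₁ = x₀) {x₀' x₁' : T' ⟶ Y₁} {v' : T' ⟶ W₁} (e₀ : t ≫ x₀ = x₀')
    (e₁ : t ≫ x₁ = x₁') (ev : t ≫ v = v') (h' : x₀' ≫ g = x₁' ≫ g) (hv' : v' ≫ w₁ = x₀') :
    t ≫ F j hj g H w₁ H₁ H' x₀ x₁ h v hv = F j hj g H w₁ H₁ H' x₀' x₁' h' v' hv' :=
  (F_natural j hj g H w₁ H₁ H' t x₀ x₁ h v hv).symm.trans
    (F_congr j hj g H w₁ H₁ H' e₀ e₁ ev _ _ _ _)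

theorem F_pre_tr {T T' : Scheme.{u}} (t : T' ⟶ T) (x₀ x₁ : T ⟶ Y₁) (h : x₀ ≫ g = x₁ ≫ g)
    (v : T ⟶ W₁) (hv : v ≫ w₁ = x₀) (y₀ y₁ : T' ⟶ Y₁₀) (e₀ : t ≫ x₀ = y₀ ≫ j₁)
    (e₁ : t ≫ x₁ = y₁ ≫ j₁) (he : y₀ ≫ g₀ = y₁ ≫ g₀) :
    t ≫ F j hj g H w₁ H₁ H' x₀ x₁ h v hv =
      tr H₁ H' y₀ y₁ he (t ≫ v) (by rw [Category.assoc, hv, e₀]) :=
  (F_pre j hj g H w₁ H₁ H' t x₀ x₁ h v hv e₀ e₁ rfl
    (by rw [Category.assoc, Category.assoc, H.w, ← Category.assoc, ← Category.assoc, he])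
    (by rw [Category.assoc, hv, e₀])).trans
    (F_tr j hj g H w₁ H₁ H' y₀ y₁ he (t ≫ v) (by rw [Category.assoc, hv, e₀]))

theorem F_self_univ :
    F j hj g H w₁ H₁ H' w₁ w₁ rfl (𝟙 W₁) (Category.id_comp _) = 𝟙 W₁ := by
  have hj₁ : ∀ U' : Y₁.Opens, Function.Bijective (j₁.app U') :=
    bijective_app_of_flat j hj g j₁ g₀ H
  refine Groth.Agent.S7757.lift_unique H₁ hj₁ w₁ _ _ (F_w j hj g H w₁ H₁ H' _ _ _ _ _)
    (Category.id_comp _) ?_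
  rw [F_pre_tr j hj g H w₁ H₁ H' a₁ w₁ w₁ rfl (𝟙 W₁) (Category.id_comp _) r r H₁.w H₁.w rfl,
    tr_self, Category.comp_id]

theorem F_self {T : Scheme.{u}} (x : T ⟶ Y₁) (v : T ⟶ W₁) (hv : v ≫ w₁ = x) :
    F j hj g H w₁ H₁ H' x x rfl v hv = v := by
  have h1 := F_pre j hj g H w₁ H₁ H' v w₁ w₁ rfl (𝟙 W₁) (Category.id_comp _) hv hv
    (Category.comp_id v) rfl hv
  rw [← h1, F_self_univ, Category.comp_id]

theorem F_comp {T : Scheme.{u}} (x₀ x₁ x₂ : T ⟶ Y₁) (h₀₁ : x₀ ≫ g = x₁ ≫ g)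
    (h₁₂ : x₁ ≫ g = x₂ ≫ g) (v : T ⟶ W₁) (hv : v ≫ w₁ = x₀) :
    F j hj g H w₁ H₁ H' x₁ x₂ h₁₂ (F j hj g H w₁ H₁ H' x₀ x₁ h₀₁ v hv)
      (F_w j hj g H w₁ H₁ H' x₀ x₁ h₀₁ v hv) =
      F j hj g H w₁ H₁ H' x₀ x₂ (h₀₁.trans h₁₂) v hv := by
  -- the universal triple
  let π₀₁ : pullback (pullback.snd g g) (pullback.fst g g) ⟶ pullback g g := pullback.fst _ _
  let π₁₂ : pullback (pullback.snd g g) (pullback.fst g g) ⟶ pullback g g := pullback.snd _ _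
  obtain ⟨u₀, hu₀⟩ : ∃ u : pullback (pullback.snd g g) (pullback.fst g g) ⟶ Y₁,
      u = π₀₁ ≫ pullback.fst g g := ⟨_, rfl⟩
  obtain ⟨u₁, hu₁'⟩ : ∃ u : pullback (pullback.snd g g) (pullback.fst g g) ⟶ Y₁,
      u = π₀₁ ≫ pullback.snd g g := ⟨_, rfl⟩
  obtain ⟨u₂, hu₂⟩ : ∃ u : pullback (pullback.snd g g) (pullback.fst g g) ⟶ Y₁,
      u = π₁₂ ≫ pullback.snd g g := ⟨_, rfl⟩
  have hu₁ : u₁ = π₁₂ ≫ pullback.fst g g := hu₁'.trans pullback.condition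
  have hu₀₁ : u₀ ≫ g = u₁ ≫ g := by
    rw [hu₀, hu₁', Category.assoc, Category.assoc, pullback.condition]
  have hu₁₂ : u₁ ≫ g = u₂ ≫ g := by
    rw [hu₁, hu₂, Category.assoc, Category.assoc, pullback.condition]
  haveI : Flat u₀ := by rw [hu₀]; infer_instance
  let hP : pullback w₁ u₀ ⟶ pullback (pullback.snd g g) (pullback.fst g g) := pullback.snd w₁ u₀
  let vP : pullback w₁ u₀ ⟶ W₁ := pullback.fst w₁ u₀
  have hvP : vP ≫ w₁ = hP ≫ u₀ := pullback.condition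
  let hQ : pullback w₁ u₂ ⟶ pullback (pullback.snd g g) (pullback.fst g g) := pullback.snd w₁ u₂
  have k₀₁ : (hP ≫ u₀) ≫ g = (hP ≫ u₁) ≫ g := by rw [Category.assoc, Category.assoc, hu₀₁]
  have k₁₂ : (hP ≫ u₁) ≫ g = (hP ≫ u₂) ≫ g := by rw [Category.assoc, Category.assoc, hu₁₂]
  let φ₁ : pullback w₁ u₀ ⟶ pullback w₁ u₂ :=
    pullback.lift (F j hj g H w₁ H₁ H' (hP ≫ u₁) (hP ≫ u₂) k₁₂
      (F j hj g H w₁ H₁ H' (hP ≫ u₀) (hP ≫ u₁) k₀₁ vP hvP)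
      (F_w j hj g H w₁ H₁ H' _ _ _ _ _)) hP (F_w j hj g H w₁ H₁ H' _ _ _ _ _)
  let φ₂ : pullback w₁ u₀ ⟶ pullback w₁ u₂ :=
    pullback.lift (F j hj g H w₁ H₁ H' (hP ≫ u₀) (hP ≫ u₂) (k₀₁.trans k₁₂) vP hvP) hP
      (F_w j hj g H w₁ H₁ H' _ _ _ _ _)
  have hj₃ : ∀ U' : (pullback (pullback.snd g g) (pullback.fst g g)).Opens,
      Function.Bijective ((pullback.fst (u₀ ≫ g) j).app U') :=
    bijective_app_of_flat j hj (u₀ ≫ g) _ _ (IsPullback.of_hasPullback _ _)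
  have key : φ₁ = φ₂ := by
    refine Groth.Agent.S7757.lift_unique
      (IsPullback.of_hasPullback hP (pullback.fst (u₀ ≫ g) j)) hj₃ hQ φ₁ φ₂
      (pullback.lift_snd _ _ _) (pullback.lift_snd _ _ _) ?_
    -- points over `Y₀`
    let pr : pullback hP (pullback.fst (u₀ ≫ g) j) ⟶ pullback w₁ u₀ := pullback.fst _ _
    let q₃ : pullback hP (pullback.fst (u₀ ≫ g) j) ⟶ pullback (u₀ ≫ g) j := pullback.snd _ _
    have hpq : pr ≫ hP = q₃ ≫ pullback.fst (u₀ ≫ g) j := pullback.condition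
    have hc : ∀ (u : pullback (pullback.snd g g) (pullback.fst g g) ⟶ Y₁), u ≫ g = u₀ ≫ g →
        (pr ≫ hP ≫ u) ≫ g = (q₃ ≫ pullback.snd (u₀ ≫ g) j) ≫ j := by
      intro u hu
      calc (pr ≫ hP ≫ u) ≫ g = (pr ≫ hP) ≫ (u ≫ g) := by simp only [Category.assoc]
        _ = (q₃ ≫ pullback.fst (u₀ ≫ g) j) ≫ (u₀ ≫ g) := by rw [hpq, hu]
        _ = q₃ ≫ (pullback.fst (u₀ ≫ g) j ≫ (u₀ ≫ g)) := Category.assoc _ _ _
        _ = q₃ ≫ (pullback.snd (u₀ ≫ g) j ≫ j) := by rw [pullback.condition]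
        _ = _ := (Category.assoc _ _ _).symm
    let y₀ : pullback hP (pullback.fst (u₀ ≫ g) j) ⟶ Y₁₀ :=
      H.lift (pr ≫ hP ≫ u₀) (q₃ ≫ pullback.snd (u₀ ≫ g) j) (hc u₀ rfl)
    let y₁ : pullback hP (pullback.fst (u₀ ≫ g) j) ⟶ Y₁₀ :=
      H.lift (pr ≫ hP ≫ u₁) (q₃ ≫ pullback.snd (u₀ ≫ g) j) (hc u₁ hu₀₁.symm)
    let y₂ : pullback hP (pullback.fst (u₀ ≫ g) j) ⟶ Y₁₀ :=
      H.lift (pr ≫ hP ≫ u₂) (q₃ ≫ pullback.snd (u₀ ≫ g) j) (hc u₂ (hu₀₁.trans hu₁₂).symm)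
    have e₀ : pr ≫ hP ≫ u₀ = y₀ ≫ j₁ := (H.lift_fst _ _ _).symm
    have e₁ : pr ≫ hP ≫ u₁ = y₁ ≫ j₁ := (H.lift_fst _ _ _).symm
    have e₂ : pr ≫ hP ≫ u₂ = y₂ ≫ j₁ := (H.lift_fst _ _ _).symm
    have he₀₁ : y₀ ≫ g₀ = y₁ ≫ g₀ := by rw [H.lift_snd, H.lift_snd]
    have he₁₂ : y₁ ≫ g₀ = y₂ ≫ g₀ := by rw [H.lift_snd, H.lift_snd]
    change pr ≫ φ₁ = pr ≫ φ₂
    apply pullback.hom_ext
    · rw [Category.assoc, Category.assoc, pullback.lift_fst, pullback.lift_fst,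
        F_pre_tr j hj g H w₁ H₁ H' pr (hP ≫ u₁) (hP ≫ u₂) k₁₂ _ _ y₁ y₂ e₁ e₂ he₁₂,
        F_pre_tr j hj g H w₁ H₁ H' pr (hP ≫ u₀) (hP ≫ u₂) (k₀₁.trans k₁₂) vP hvP y₀ y₂ e₀ e₂
          (he₀₁.trans he₁₂),
        ← tr_comp H₁ H' y₀ y₁ y₂ he₀₁ he₁₂]
      exact tr_congr H₁ H' rfl rfl
        (F_pre_tr j hj g H w₁ H₁ H' pr (hP ≫ u₀) (hP ≫ u₁) k₀₁ vP hvP y₀ y₁ e₀ e₁ he₀₁) _ _ _ _
    · rw [Category.assoc, Category.assoc, pullback.lift_snd, pullback.lift_snd]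
  -- the classifying map
  let c₃ : T ⟶ pullback (pullback.snd g g) (pullback.fst g g) :=
    pullback.lift (pullback.lift x₀ x₁ h₀₁) (pullback.lift x₁ x₂ h₁₂)
      (by rw [pullback.lift_snd, pullback.lift_fst])
  have hc₀ : c₃ ≫ u₀ = x₀ := by
    rw [hu₀, pullback.lift_fst_assoc, pullback.lift_fst]
  have hc₁ : c₃ ≫ u₁ = x₁ := by
    rw [hu₁', pullback.lift_fst_assoc, pullback.lift_snd]
  have hc₂ : c₃ ≫ u₂ = x₂ := by
    rw [hu₂, pullback.lift_snd_assoc, pullback.lift_snd]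
  let c : T ⟶ pullback w₁ u₀ := pullback.lift v c₃ (by rw [hv, hc₀])
  have hcv : c ≫ vP = v := pullback.lift_fst _ _ _
  have hcP : c ≫ hP = c₃ := pullback.lift_snd _ _ _
  have h1 := congr(c ≫ $key ≫ pullback.fst w₁ u₂)
  rw [pullback.lift_fst, pullback.lift_fst] at h1
  have f0 : c ≫ hP ≫ u₀ = x₀ := by rw [← Category.assoc, hcP, hc₀]
  have f1 : c ≫ hP ≫ u₁ = x₁ := by rw [← Category.assoc, hcP, hc₁]
  have f2 : c ≫ hP ≫ u₂ = x₂ := by rw [← Category.assoc, hcP, hc₂]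
  rw [F_pre j hj g H w₁ H₁ H' c (hP ≫ u₀) (hP ≫ u₂) (k₀₁.trans k₁₂) vP hvP f0 f2 hcv
      (h₀₁.trans h₁₂) hv,
    F_pre j hj g H w₁ H₁ H' c (hP ≫ u₁) (hP ≫ u₂) k₁₂ _ _ f1 f2
      (F_pre j hj g H w₁ H₁ H' c (hP ≫ u₀) (hP ≫ u₁) k₀₁ vP hvP f0 f1 hcv h₀₁ hv) h₁₂
      (F_w j hj g H w₁ H₁ H' x₀ x₁ h₀₁ v hv)] at h1
  exact h1

end theta

end Groth.Agent.Lib.R2LeadPureDescA
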