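import Mathlib
import Groth.Agent.Lib.R2LeadPureDescA
import Groth.Agent.S2906
import Groth.Agent.Lib.Helper12Descent
import Groth.Agent.Lib.H5bDDGenA

set_option autoImplicit false
set_option linter.style.haveILetI false
universe u
open CategoryTheory CategoryTheory.Limits AlgebraicGeometry

namespace Groth.Agent.Lib.R2LeadPureDescB

open Groth.Agent.Lib.R2LeadPureDescA

variable {Y Y₀ Y₁ Y₁₀ W' W₁ E : Scheme.{u}} (j : Y₀ ⟶ Y) [QuasiCompact j] [QuasiSeparated j]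
  (hj : ∀ U : Y.Opens, Function.Bijective (j.app U))
  (g : Y₁ ⟶ Y) [Flat g] {j₁ : Y₁₀ ⟶ Y₁} {g₀ : Y₁₀ ⟶ Y₀} (H : IsPullback j₁ g₀ g j)
  {w' : W' ⟶ Y₀} (w₁ : W₁ ⟶ Y₁) [IsFinite w₁] [Etale w₁]
  {a₁ : E ⟶ W₁} {r : E ⟶ Y₁₀} {a' : E ⟶ W'}
  (H₁ : IsPullback a₁ r w₁ j₁) (H' : IsPullback a' r w' g₀)

/-- the gluing map on lifts. -/
noncomputable def Fl {T : Scheme.{u}} (x₀ x₁ : T ⟶ Y₁) (h : x₀ ≫ g = x₁ ≫ g)
    (v : Desc.Lifts (Over.mk w₁) x₀) : Desc.Lifts (Over.mk w₁) x₁ :=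
  ⟨F j hj g H w₁ H₁ H' x₀ x₁ h v.1 v.2, F_w j hj g H w₁ H₁ H' _ _ _ _ _⟩

theorem Fl_comp {T : Scheme.{u}} (x₀ x₁ x₂ : T ⟶ Y₁) (h₀₁ : x₀ ≫ g = x₁ ≫ g)
    (h₁₂ : x₁ ≫ g = x₂ ≫ g) (v : Desc.Lifts (Over.mk w₁) x₀) :
    Fl j hj g H w₁ H₁ H' x₁ x₂ h₁₂ (Fl j hj g H w₁ H₁ H' x₀ x₁ h₀₁ v) =
      Fl j hj g H w₁ H₁ H' x₀ x₂ (h₀₁.trans h₁₂) v :=
  Subtype.ext (F_comp j hj g H w₁ H₁ H' x₀ x₁ x₂ h₀₁ h₁₂ v.1 v.2)

theorem Fl_self {T : Scheme.{u}} (x : T ⟶ Y₁) (h : x ≫ g = x ≫ g)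
    (v : Desc.Lifts (Over.mk w₁) x) : Fl j hj g H w₁ H₁ H' x x h v = v :=
  Subtype.ext (F_self j hj g H w₁ H₁ H' x v.1 v.2)

/-- the descent datum on `W₁`. -/
noncomputable def dd : Desc.SchDD g where
  obj := Over.mk w₁
  φ T x₀ x₁ h :=
    { toFun := Fl j hj g H w₁ H₁ H' x₀ x₁ h
      invFun := Fl j hj g H w₁ H₁ H' x₁ x₀ h.symm
      left_inv := fun v => by rw [Fl_comp, Fl_self]
      right_inv := fun v => by rw [Fl_comp, Fl_self] }
  φ_natural T T' t x₀ x₁ h h' v v' hv' :=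
    (F_pre j hj g H w₁ H₁ H' t x₀ x₁ h v.1 v.2 rfl rfl hv'.symm h' v'.2).symm
  φ_self T x v := Fl_self j hj g H w₁ H₁ H' x rfl v
  φ_comp T x₀ x₁ x₂ h₀₁ h₁₂ v := Fl_comp j hj g H w₁ H₁ H' x₀ x₁ x₂ h₀₁ h₁₂ v

/-- a square `E ⟶ W'` over `m : W' ⟶ U₀`, two pullbacks of the same map: `m` is an isomorphism by
descent. -/
theorem isIso_of_descent {W' U₀ E U₁₀ : Scheme.{u}} (m : W' ⟶ U₀) (a' : E ⟶ W') (f' : U₁₀ ⟶ U₀)
    (m₁ : E ⟶ U₁₀) (sq : IsPullback m₁ a' f' m) [Surjective f'] [Flat f'] [QuasiCompact f']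
    [IsIso m₁] : IsIso m :=
  MorphismProperty.of_isPullback_of_descendsAlong
    (P := MorphismProperty.isomorphisms Scheme.{u})
    (Q := (@Surjective ⊓ @Flat ⊓ @QuasiCompact : MorphismProperty Scheme.{u})) sq
    ⟨⟨inferInstance, inferInstance⟩, inferInstance⟩ (inferInstanceAs (IsIso m₁))

include hj H H₁ H' in
theorem core [Surjective g] [QuasiCompact g] :
    ∃ (W : Scheme.{u}) (w : W ⟶ Y) (b : W' ⟶ W), IsFinite w ∧ Etale w ∧ IsPullback b w' w j := by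
  haveI : QuasiCompact (dd j hj g H w₁ H₁ H').obj.hom := inferInstanceAs (QuasiCompact w₁)
  haveI : IsSeparated (dd j hj g H w₁ H₁ H').obj.hom := inferInstanceAs (IsSeparated w₁)
  haveI : Etale (dd j hj g H w₁ H₁ H').obj.hom := inferInstanceAs (Etale w₁)
  obtain ⟨U, -, -, het, ⟨κ⟩⟩ := Groth.Agent.S2906.result g (dd j hj g H w₁ H₁ H')
  let k : pullback g U.hom ⟶ W₁ := κ.hom.hom.left
  let ki : W₁ ⟶ pullback g U.hom := κ.inv.hom.left
  have hk1 : k ≫ ki = 𝟙 _ := by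
    have := congrArg (fun f => f.hom.left) κ.hom_inv_id
    exact this
  have hk2 : ki ≫ k = 𝟙 _ := by
    have := congrArg (fun f => f.hom.left) κ.inv_hom_id
    exact this
  have hkw : k ≫ w₁ = pullback.fst g U.hom := Over.w κ.hom.hom
  have hkiw : ki ≫ pullback.fst g U.hom = w₁ := Over.w κ.inv.hom
  haveI : IsIso k := ⟨ki, hk1, hk2⟩
  haveI : IsIso ki := ⟨k, hk2, hk1⟩
  -- finiteness descends
  haveI : IsFinite (pullback.fst g U.hom) := by rw [← hkw]; infer_instance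
  haveI hfin : IsFinite U.hom := by
    haveI := Groth.Agent.Lib.Helper12.descendsAlong_isFinite.{u}
    exact MorphismProperty.of_isPullback_of_descendsAlong (P := @IsFinite)
      (Q := (@Surjective ⊓ @Flat ⊓ @QuasiCompact : MorphismProperty Scheme.{u}))
      (IsPullback.of_hasPullback g U.hom) ⟨⟨inferInstance, inferInstance⟩, inferInstance⟩
      inferInstance
  -- `g₀` and `a'` are fpqc
  haveI : Surjective g₀ := MorphismProperty.of_isPullback (P := @Surjective) H inferInstance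
  haveI : Flat g₀ := MorphismProperty.of_isPullback (P := @Flat) H inferInstance
  haveI : QuasiCompact g₀ := MorphismProperty.of_isPullback (P := @QuasiCompact) H inferInstance
  haveI : Surjective a' := MorphismProperty.of_isPullback (P := @Surjective) H'.flip inferInstance
  haveI : Flat a' := MorphismProperty.of_isPullback (P := @Flat) H'.flip inferInstance
  haveI : QuasiCompact a' :=
    MorphismProperty.of_isPullback (P := @QuasiCompact) H'.flip inferInstance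
  haveI : EffectiveEpi a' := Groth.Agent.Lib.H5bDDGen.effectiveEpi_of_isDescCover a'
  -- the morphism `E ⟶ U`
  let b' : E ⟶ U.left := a₁ ≫ ki ≫ pullback.snd g U.hom
  have heq : ∀ {Z : Scheme.{u}} (z₀ z₁ : Z ⟶ E), z₀ ≫ a' = z₁ ≫ a' → z₀ ≫ b' = z₁ ≫ b' := by
    intro Z z₀ z₁ hz
    have hx : ((z₀ ≫ r) ≫ j₁) ≫ g = ((z₁ ≫ r) ≫ j₁) ≫ g := by
      have h0 : ∀ z : Z ⟶ E, ((z ≫ r) ≫ j₁) ≫ g = (z ≫ a') ≫ w' ≫ j := by
        intro z
        simp only [Category.assoc]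
        rw [H.w, ← Category.assoc r, ← H'.w, Category.assoc]
      rw [h0, h0, hz]
    let v₀ : Desc.Lifts (dd j hj g H w₁ H₁ H').obj ((z₀ ≫ r) ≫ j₁) :=
      ⟨z₀ ≫ a₁, by
        change (z₀ ≫ a₁) ≫ w₁ = _
        rw [Category.assoc, Category.assoc, H₁.w]⟩
    have hF : ((dd j hj g H w₁ H₁ H').φ ((z₀ ≫ r) ≫ j₁) ((z₁ ≫ r) ≫ j₁) hx v₀).1 = z₁ ≫ a₁ := by
      change F j hj g H w₁ H₁ H' ((z₀ ≫ r) ≫ j₁) ((z₁ ≫ r) ≫ j₁) hx (z₀ ≫ a₁) v₀.2 = _
      rw [F_tr j hj g H w₁ H₁ H' (z₀ ≫ r) (z₁ ≫ r) (by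
        rw [Category.assoc, Category.assoc, ← H'.w, ← Category.assoc, hz, Category.assoc])]
      exact tr_of_eq H₁ H' z₀ z₁ hz
    let w₀ : Desc.Lifts ((Desc.toDD g).obj U).obj ((z₀ ≫ r) ≫ j₁) :=
      ⟨(z₀ ≫ a₁) ≫ ki, by
        change ((z₀ ≫ a₁) ≫ ki) ≫ pullback.fst g U.hom = _
        rw [Category.assoc, hkiw, Category.assoc, Category.assoc, H₁.w]⟩
    have hcomm := κ.inv.comm ((z₀ ≫ r) ≫ j₁) ((z₁ ≫ r) ≫ j₁) hx v₀ w₀ rfl
    rw [hF] at hcomm
    have h2 := congrArg (· ≫ pullback.snd g U.hom) hcomm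
    have h3 : (((Desc.toDD g).obj U).φ ((z₀ ≫ r) ≫ j₁) ((z₁ ≫ r) ≫ j₁) hx w₀).1 ≫
        pullback.snd g U.hom = w₀.1 ≫ pullback.snd g U.hom := by
      change (Desc.canMap g U _ _ hx w₀).1 ≫ _ = _
      rw [Desc.canMap_val]
      exact pullback.lift_snd _ _ _
    change z₀ ≫ a₁ ≫ ki ≫ pullback.snd g U.hom = z₁ ≫ a₁ ≫ ki ≫ pullback.snd g U.hom
    have h4 : w₀.1 ≫ pullback.snd g U.hom = (z₁ ≫ a₁) ≫ κ.inv.hom.left ≫ pullback.snd g U.hom := by
      rw [← h3]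
      exact h2.trans (Category.assoc _ _ _)
    have h5 : (z₀ ≫ a₁) ≫ ki ≫ pullback.snd g U.hom =
        (z₁ ≫ a₁) ≫ ki ≫ pullback.snd g U.hom := by
      have h6 : w₀.1 ≫ pullback.snd g U.hom = ((z₀ ≫ a₁) ≫ ki) ≫ pullback.snd g U.hom := rfl
      rw [← Category.assoc, ← h6]
      exact h4
    simpa only [Category.assoc] using h5
  let b : W' ⟶ U.left := EffectiveEpi.desc a' b' heq
  have hb : a' ≫ b = b' := EffectiveEpi.fac a' b' heq
  have hb'U : b' ≫ U.hom = r ≫ j₁ ≫ g := by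
    change (a₁ ≫ ki ≫ pullback.snd g U.hom) ≫ U.hom = _
    rw [Category.assoc, Category.assoc, ← pullback.condition, ← Category.assoc ki, hkiw,
      ← Category.assoc, H₁.w, Category.assoc]
  have hbw : b ≫ U.hom = w' ≫ j := by
    rw [← cancel_epi a', ← Category.assoc, hb, hb'U, H.w, ← Category.assoc, ← H'.w, Category.assoc]
  refine ⟨U.left, U.hom, b, hfin, het, ?_⟩
  -- the comparison map is an isomorphism by descent
  let m : W' ⟶ pullback U.hom j := pullback.lift b w' hbw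
  have hm1 : m ≫ pullback.fst U.hom j = b := pullback.lift_fst _ _ _
  have hm2 : m ≫ pullback.snd U.hom j = w' := pullback.lift_snd _ _ _
  let m₁ : E ⟶ pullback (pullback.snd U.hom j) g₀ :=
    pullback.lift (a' ≫ m) r (by rw [Category.assoc, hm2, H'.w])
  have hm₁1 : m₁ ≫ pullback.fst (pullback.snd U.hom j) g₀ = a' ≫ m := pullback.lift_fst _ _ _
  have hm₁2 : m₁ ≫ pullback.snd (pullback.snd U.hom j) g₀ = r := pullback.lift_snd _ _ _
  have sq : IsPullback m₁ a' (pullback.fst (pullback.snd U.hom j) g₀) m := by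
    refine (IsPullback.of_bot ?_ hm₁1.symm (IsPullback.of_hasPullback _ _)).flip
    rw [hm₁2, hm2]
    exact H'
  -- `E` and `U₁₀` are pullbacks of `U` along `g₀ ≫ j`
  have HE : IsPullback b' r U.hom (g₀ ≫ j) := by
    have t : IsPullback (ki ≫ pullback.snd g U.hom) w₁ U.hom g := by
      have t0 := (IsPullback.of_hasPullback g U.hom).flip
      refine IsPullback.of_iso t0 (asIso k) (Iso.refl _) (Iso.refl _) (Iso.refl _) ?_ ?_ ?_ ?_
      · change pullback.snd g U.hom ≫ 𝟙 _ = k ≫ ki ≫ pullback.snd g U.hom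
        rw [Category.comp_id, ← Category.assoc, hk1, Category.id_comp]
      · change pullback.fst g U.hom ≫ 𝟙 _ = k ≫ w₁
        rw [Category.comp_id, hkw]
      · simp
      · simp
    have := H₁.paste_horiz t
    rw [H.w] at this
    exact this
  have HU : IsPullback (pullback.fst (pullback.snd U.hom j) g₀ ≫ pullback.fst U.hom j)
      (pullback.snd (pullback.snd U.hom j) g₀) U.hom (g₀ ≫ j) :=
    (IsPullback.of_hasPullback (pullback.snd U.hom j) g₀).flip.paste_vert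
      (IsPullback.of_hasPullback U.hom j).flip |>.flip
  have hm₁ : m₁ = (HE.isoIsPullback _ _ HU).hom := by
    apply HU.hom_ext
    · rw [IsPullback.isoIsPullback_hom_fst, ← Category.assoc, hm₁1, Category.assoc, hm1, hb]
    · rw [IsPullback.isoIsPullback_hom_snd, hm₁2]
  haveI : IsIso m₁ := by rw [hm₁]; infer_instance
  haveI : Surjective (pullback.fst (pullback.snd U.hom j) g₀) :=
    MorphismProperty.pullback_fst (P := @Surjective) _ _ inferInstance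
  haveI : Flat (pullback.fst (pullback.snd U.hom j) g₀) :=
    MorphismProperty.pullback_fst (P := @Flat) _ _ inferInstance
  haveI : QuasiCompact (pullback.fst (pullback.snd U.hom j) g₀) :=
    MorphismProperty.pullback_fst (P := @QuasiCompact) _ _ inferInstance
  haveI : IsIso m := isIso_of_descent m a' _ m₁ sq
  exact IsPullback.of_iso_pullback ⟨hbw⟩ (asIso m) hm1 hm2

end Groth.Agent.Lib.R2LeadPureDescB
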