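import Mathlib
import Groth.Prelude.Def_SGA2
import Groth.Agent.Lib.R2LeadPureDescB
import Groth.Agent.Lib.Helper22Hartogs2

set_option autoImplicit false
set_option linter.style.haveILetI false
universe u
open CategoryTheory CategoryTheory.Limits AlgebraicGeometry

namespace Groth.Agent.Lib.R2LeadPureDescC

open Groth.Agent.Lib.R2LeadPureDescA Groth.Agent.Lib.R2LeadPureDescB

/-- Hartogs for the inclusion `V ⊓ U ⟶ V`. -/
theorem bijective_homOfLE_app {X : Scheme.{u}} [IsLocallyNoetherian X] (U : X.Opens)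
    (hU : ∀ x : X, x ∉ U → (2 : ℕ∞) ≤ LocCoh.depth (X.presheaf.stalk x) (X.presheaf.stalk x))
    (V : X.Opens) (W : (V : Scheme.{u}).Opens) :
    Function.Bijective ((X.homOfLE (inf_le_left : V ⊓ U ≤ V)).app W) := by
  rw [Scheme.homOfLE_app]
  refine Groth.Agent.Lib.Helper22.Hartogs.bijective_res_of_depth U hU _ _ _ ?_ ?_
  · rintro x ⟨⟨y, hyW, rfl⟩, hxU⟩
    refine ⟨⟨V.ι y, y.2, hxU⟩, ?_, rfl⟩
    change (X.homOfLE (inf_le_left : V ⊓ U ≤ V)) ⟨V.ι y, y.2, hxU⟩ ∈ W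
    have : (X.homOfLE (inf_le_left : V ⊓ U ≤ V)) ⟨V.ι y, y.2, hxU⟩ = y := by
      apply V.ι.isOpenEmbedding.injective
      rw [← Scheme.Hom.comp_apply, Scheme.homOfLE_ι]
      rfl
    rw [this]; exact hyW
  · rintro _ ⟨x, -, rfl⟩
    exact x.2.2

theorem main (X X₁ : Scheme.{u}) [IsLocallyNoetherian X] (U : X.Opens)
    (hU : ∀ x : X, x ∉ U → (2 : ℕ∞) ≤ LocCoh.depth (X.presheaf.stalk x) (X.presheaf.stalk x))
    (f : X₁ ⟶ X) [Flat f] [Surjective f] [QuasiCompact f]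
    (h : SGA2.IsPurePair X₁ (f ⁻¹ᵁ U)) : SGA2.IsPurePair X U := by
  intro V
  have hj := bijective_homOfLE_app U hU V
  obtain ⟨hfull, hfaith⟩ := Groth.Agent.S7757.result (X.homOfLE (inf_le_left : V ⊓ U ≤ V)) hj
  haveI : IsLocallyNoetherian (V : Scheme.{u}) := inferInstance
  haveI : QuasiCompact (X.homOfLE (inf_le_left : V ⊓ U ≤ V)) := inferInstance
  -- the pullback square
  have H₀ : IsPullback f (𝟙 X₁) (𝟙 X) f := IsPullback.of_vert_isIso ⟨by simp⟩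
  have H := Scheme.Hom.isPullback_resLE H₀ (US := V) (UT := f ⁻¹ᵁ V) (UX := V ⊓ U)
    (UY := f ⁻¹ᵁ V ⊓ f ⁻¹ᵁ U) le_rfl inf_le_left (by
      ext x
      constructor
      · intro hx; exact ⟨hx, hx.1⟩
      · intro hx; exact hx.1)
  rw [Scheme.Hom.resLE_id, Scheme.Hom.resLE_id, Scheme.Hom.resLE_eq_morphismRestrict] at H
  haveI : Surjective (f ∣_ V) :=
    MorphismProperty.of_isPullback (P := @Surjective) (isPullback_morphismRestrict f V).flip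
      inferInstance
  have hess : (FEt.restrict (X.homOfLE (inf_le_left : V ⊓ U ≤ V))).EssSurj := by
    refine ⟨fun W' => ?_⟩
    haveI := h (f ⁻¹ᵁ V)
    let g₀ : (↑(f ⁻¹ᵁ V ⊓ f ⁻¹ᵁ U) : Scheme.{u}) ⟶ (↑(V ⊓ U) : Scheme.{u}) :=
      f.resLE (V ⊓ U) (f ⁻¹ᵁ V ⊓ f ⁻¹ᵁ U) (fun x hx => hx)
    let j₁ : (↑(f ⁻¹ᵁ V ⊓ f ⁻¹ᵁ U) : Scheme.{u}) ⟶ (↑(f ⁻¹ᵁ V) : Scheme.{u}) :=
      X₁.homOfLE (inf_le_left : f ⁻¹ᵁ V ⊓ f ⁻¹ᵁ U ≤ f ⁻¹ᵁ V)
    let W₁ : FEt.Cat (↑(f ⁻¹ᵁ V) : Scheme.{u}) :=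
      (FEt.restrict j₁).objPreimage ((FEt.restrict g₀).obj W')
    let ε : (FEt.restrict j₁).obj W₁ ≅ (FEt.restrict g₀).obj W' :=
      (FEt.restrict j₁).objObjPreimageIso ((FEt.restrict g₀).obj W')
    haveI : IsFinite W₁.hom := W₁.prop.1
    haveI : Etale W₁.hom := W₁.prop.2
    have H₁ : IsPullback (pullback.fst W₁.hom j₁) (pullback.snd W₁.hom j₁) W₁.hom j₁ :=
      IsPullback.of_hasPullback _ _
    let e0 : pullback W₁.hom j₁ ⟶ pullback W'.hom g₀ := ε.hom.left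
    let e1 : pullback W'.hom g₀ ⟶ pullback W₁.hom j₁ := ε.inv.left
    have hεw : e0 ≫ pullback.snd W'.hom g₀ = pullback.snd W₁.hom j₁ := Over.w ε.hom.hom
    have h01 : e0 ≫ e1 = 𝟙 _ := by
      change ε.hom.left ≫ ε.inv.left = _
      rw [← MorphismProperty.Comma.comp_left, ε.hom_inv_id]; rfl
    have h10 : e1 ≫ e0 = 𝟙 _ := by
      change ε.inv.left ≫ ε.hom.left = _
      rw [← MorphismProperty.Comma.comp_left, ε.inv_hom_id]; rfl
    have H' : IsPullback (e0 ≫ pullback.fst W'.hom g₀) (pullback.snd W₁.hom j₁)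
        W'.hom g₀ :=
      IsPullback.of_iso_pullback
        ⟨(Category.assoc _ _ _).trans ((congrArg (e0 ≫ ·) pullback.condition).trans
          ((Category.assoc _ _ _).symm.trans (congrArg (· ≫ g₀) hεw)))⟩
        ⟨e0, e1, h01, h10⟩ rfl hεw
    obtain ⟨W, w, b, hfin, het, Hb⟩ := core (X.homOfLE (inf_le_left : V ⊓ U ≤ V)) hj (f ∣_ V)
      H.flip W₁.hom H₁ H'
    refine ⟨MorphismProperty.Over.mk ⊤ w ⟨hfin, het⟩, ⟨?_⟩⟩
    exact MorphismProperty.Over.isoMk Hb.isoPullback.symm (by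
      change Hb.isoPullback.inv ≫ W'.hom = pullback.snd w _
      rw [Iso.inv_comp_eq, IsPullback.isoPullback_hom_snd])
  exact { faithful := hfaith, full := hfull, essSurj := hess }

end Groth.Agent.Lib.R2LeadPureDescC
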