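import Mathlib
import Groth.Agent.Lib.Helper28WeakKrull3
import Groth.Agent.Lib.Helper5SamuelAdd
import Groth.Agent.S7116

/-! R2Lead: in a two-dimensional Noetherian normal local domain, finitely many height one primes
contain a common nonzero element with reduced quotient; symbolic squares of height one primes. -/

set_option autoImplicit false
set_option linter.unusedSectionVars false
universe u
open IsLocalRing

namespace Groth.Agent.Lib.R2Lead.ReducedQuot

section InSq

variable {R : Type u} [CommRing R]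

/-- membership in the second symbolic power `q^{(2)}` of a prime `q`. -/
def InSq (q : Ideal R) (a : R) : Prop := ∃ u, u ∉ q ∧ u * a ∈ q ^ 2

theorem InSq.mem {q : Ideal R} (hq : q.IsPrime) {a : R} (h : InSq q a) : a ∈ q := by
  obtain ⟨u, hu, hua⟩ := h
  have : u * a ∈ q := Ideal.pow_le_self two_ne_zero hua
  exact (hq.mem_or_mem this).resolve_left hu

theorem InSq.add {q : Ideal R} (hq : q.IsPrime) {a b : R} (ha : InSq q a) (hb : InSq q b) :
    InSq q (a + b) := by
  obtain ⟨u, hu, hua⟩ := ha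
  obtain ⟨v, hv, hvb⟩ := hb
  refine ⟨u * v, fun h => (hq.mem_or_mem h).elim hu hv, ?_⟩
  have : u * v * (a + b) = v * (u * a) + u * (v * b) := by ring
  rw [this]
  exact Ideal.add_mem _ (Ideal.mul_mem_left _ _ hua) (Ideal.mul_mem_left _ _ hvb)

theorem InSq.mul_left {q : Ideal R} {a : R} (r : R) (ha : InSq q a) : InSq q (r * a) := by
  obtain ⟨u, hu, hua⟩ := ha
  refine ⟨u, hu, ?_⟩
  have : u * (r * a) = r * (u * a) := by ring
  rw [this]
  exact Ideal.mul_mem_left _ _ hua

theorem InSq.neg {q : Ideal R} {a : R} (ha : InSq q a) : InSq q (-a) := by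
  have := ha.mul_left (-1)
  simpa using this

theorem InSq.of_mul {q : Ideal R} (hq : q.IsPrime) {u a : R} (hu : u ∉ q) (h : InSq q (u * a)) :
    InSq q a := by
  obtain ⟨v, hv, hva⟩ := h
  refine ⟨v * u, fun h => (hq.mem_or_mem h).elim hv hu, ?_⟩
  rw [mul_assoc]
  exact hva

theorem inSq_mul {q : Ideal R} (hq : q.IsPrime) {a b : R} (ha : a ∈ q) (hb : b ∈ q) :
    InSq q (a * b) :=
  ⟨1, fun h => hq.ne_top ((Ideal.eq_top_iff_one q).mpr h), by
    rw [one_mul, pow_two]; exact Ideal.mul_mem_mul ha hb⟩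

theorem not_inSq_add {q : Ideal R} (hq : q.IsPrime) {a b : R} (ha : ¬ InSq q a) (hb : InSq q b) :
    ¬ InSq q (a + b) := by
  intro h
  apply ha
  have := h.add hq hb.neg
  simpa using this

theorem not_inSq_add' {q : Ideal R} (hq : q.IsPrime) {a b : R} (ha : InSq q a) (hb : ¬ InSq q b) :
    ¬ InSq q (a + b) := by
  rw [add_comm]
  exact not_inSq_add hq hb ha

/-- the symbolic square as an ideal -/
def sqIdeal (q : Ideal R) (hq : q.IsPrime) : Ideal R where
  carrier := {a | InSq q a}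
  add_mem' ha hb := InSq.add hq ha hb
  zero_mem' := ⟨1, fun h => hq.ne_top ((Ideal.eq_top_iff_one q).mpr h), by simp⟩
  smul_mem' r a ha := by
    simp only [smul_eq_mul]
    exact InSq.mul_left r ha

theorem mem_sqIdeal {q : Ideal R} (hq : q.IsPrime) {a : R} : a ∈ sqIdeal q hq ↔ InSq q a := Iff.rfl

/-- prime avoidance with one arbitrary ideal. -/
theorem exists_mem_avoid (K J₀ : Ideal R) (T : Finset (Ideal R)) (hT : ∀ P ∈ T, P.IsPrime)
    (h0 : ¬ K ≤ J₀) (hK : ∀ P ∈ T, ¬ K ≤ P) : ∃ z ∈ K, z ∉ J₀ ∧ ∀ P ∈ T, z ∉ P := by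
  classical
  by_contra hcon
  push Not at hcon
  have hsub : (K : Set R) ⊆ ⋃ i ∈ ((insert J₀ T : Finset (Ideal R)) : Set (Ideal R)),
      ((id i : Ideal R) : Set R) := by
    intro z hz
    by_cases hz0 : z ∈ J₀
    · exact Set.mem_biUnion (Finset.mem_coe.mpr (Finset.mem_insert_self _ _)) hz0
    · obtain ⟨P, hP, hzP⟩ := hcon z hz hz0
      exact Set.mem_biUnion (Finset.mem_coe.mpr (Finset.mem_insert_of_mem hP)) hzP
  obtain ⟨i, hi, hKi⟩ := (Ideal.subset_union_prime (f := id) J₀ J₀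
    (fun i hi h1 _ => hT i ((Finset.mem_insert.mp hi).resolve_left h1))).mp hsub
  rcases Finset.mem_insert.mp hi with rfl | hi
  · exact h0 hKi
  · exact hK i hi hKi

end InSq

section DVR

theorem dvr_span_eq {A : Type*} [CommRing A] [IsDomain A] [IsDiscreteValuationRing A] {x : A}
    (hx : x ∈ maximalIdeal A) (hx2 : x ∉ maximalIdeal A ^ 2) :
    maximalIdeal A = Ideal.span {x} := by
  obtain ⟨ϖ, hϖ⟩ := IsDiscreteValuationRing.exists_irreducible A
  have hM := hϖ.maximalIdeal_eq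
  have hx0 : x ≠ 0 := fun h => hx2 (h ▸ Ideal.zero_mem _)
  obtain ⟨n, u, hxu⟩ := IsDiscreteValuationRing.eq_unit_mul_pow_irreducible hx0 hϖ
  have hn0 : n ≠ 0 := by
    rintro rfl
    rw [pow_zero, mul_one] at hxu
    rw [hxu] at hx
    exact (IsLocalRing.mem_maximalIdeal _).mp hx u.isUnit
  have hn2 : n < 2 := by
    by_contra hn
    push Not at hn
    apply hx2
    rw [hM, Ideal.span_singleton_pow, Ideal.mem_span_singleton, hxu]
    exact Dvd.dvd.mul_left (pow_dvd_pow ϖ hn) _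
  have hn1 : n = 1 := by omega
  subst hn1
  rw [pow_one] at hxu
  rw [hM, hxu]
  exact Ideal.span_singleton_eq_span_singleton.mpr ⟨u, mul_comm _ _⟩

variable {R : Type u} [CommRing R] [IsDomain R] [IsNoetherianRing R] [IsIntegrallyClosed R]

theorem exists_mem_not_inSq (q : Ideal R) [q.IsPrime] (hq1 : q.height = 1) :
    ∃ z ∈ q, ¬ InSq q z := by
  haveI : IsDiscreteValuationRing (Localization.AtPrime q) :=
    Groth.Agent.Lib.Helper28.WeakKrull.isDiscreteValuationRing_localization_of_height_one R q hq1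
  by_contra hcon
  push Not at hcon
  have hMeq : Ideal.map (algebraMap R (Localization.AtPrime q)) q =
      maximalIdeal (Localization.AtPrime q) := Localization.AtPrime.map_eq_maximalIdeal
  have hM : Ideal.map (algebraMap R (Localization.AtPrime q)) q ≤
      (Ideal.map (algebraMap R (Localization.AtPrime q)) q) ^ 2 := by
    rw [Ideal.map_le_iff_le_comap]
    intro z hz
    obtain ⟨u, hu, huz⟩ := hcon z hz
    rw [Ideal.mem_comap]
    have h1 : algebraMap R (Localization.AtPrime q) (u * z) ∈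
        (Ideal.map (algebraMap R (Localization.AtPrime q)) q) ^ 2 := by
      rw [← Ideal.map_pow]
      exact Ideal.mem_map_of_mem _ huz
    rw [map_mul] at h1
    have hunit : IsUnit (algebraMap R (Localization.AtPrime q) u) :=
      IsLocalization.map_units (Localization.AtPrime q) (⟨u, hu⟩ : q.primeCompl)
    exact (Ideal.unit_mul_mem_iff_mem _ hunit).mp h1
  rw [hMeq] at hM
  obtain ⟨ϖ, hϖ⟩ := IsDiscreteValuationRing.exists_irreducible (Localization.AtPrime q)
  have hϖM : ϖ ∈ maximalIdeal (Localization.AtPrime q) := by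
    rw [hϖ.maximalIdeal_eq]
    exact Ideal.mem_span_singleton_self ϖ
  have h2 := hM hϖM
  rw [hϖ.maximalIdeal_eq, Ideal.span_singleton_pow, Ideal.mem_span_singleton] at h2
  obtain ⟨t, ht⟩ := h2
  have hϖ0 : ϖ ≠ 0 := hϖ.ne_zero
  have h3 : ϖ * 1 = ϖ * (ϖ * t) := by
    rw [mul_one, ← mul_assoc, ← pow_two]
    exact ht
  have h4 : 1 = ϖ * t := mul_left_cancel₀ hϖ0 h3
  exact hϖ.not_isUnit (IsUnit.of_mul_eq_one t h4.symm)

theorem dvd_of_not_inSq (q : Ideal R) [q.IsPrime] (hq1 : q.height = 1) {c z : R}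
    (hc : c ∈ q) (hc2 : ¬ InSq q c) (hz : z ∈ q) :
    algebraMap R (Localization.AtPrime q) c ∣ algebraMap R (Localization.AtPrime q) z := by
  haveI : IsDiscreteValuationRing (Localization.AtPrime q) :=
    Groth.Agent.Lib.Helper28.WeakKrull.isDiscreteValuationRing_localization_of_height_one R q hq1
  have hMeq : Ideal.map (algebraMap R (Localization.AtPrime q)) q =
      maximalIdeal (Localization.AtPrime q) := Localization.AtPrime.map_eq_maximalIdeal
  have hcM : algebraMap R (Localization.AtPrime q) c ∈ maximalIdeal (Localization.AtPrime q) := by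
    rw [← hMeq]
    exact Ideal.mem_map_of_mem _ hc
  have hzM : algebraMap R (Localization.AtPrime q) z ∈ maximalIdeal (Localization.AtPrime q) := by
    rw [← hMeq]
    exact Ideal.mem_map_of_mem _ hz
  have hc2' : algebraMap R (Localization.AtPrime q) c ∉
      maximalIdeal (Localization.AtPrime q) ^ 2 := by
    intro h
    rw [← hMeq, ← Ideal.map_pow,
      IsLocalization.mem_map_algebraMap_iff q.primeCompl (Localization.AtPrime q)] at h
    obtain ⟨⟨⟨y, hy⟩, ⟨s, hs⟩⟩, hys⟩ := h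
    simp only at hys
    rw [← map_mul] at hys
    have h5 : c * s = y :=
      IsLocalization.injective (Localization.AtPrime q) q.primeCompl_le_nonZeroDivisors hys
    apply hc2
    refine ⟨s, hs, ?_⟩
    rw [mul_comm, h5]
    exact hy
  rw [dvr_span_eq hcM hc2'] at hzM
  exact Ideal.mem_span_singleton.mp hzM

end DVR

section Main

variable {R : Type u} [CommRing R] [IsDomain R] [IsNoetherianRing R] [IsLocalRing R]
  [IsIntegrallyClosed R]

theorem height_eq_one_of_mem_minimalPrimes {c : R} (hc : c ≠ 0) {Q : Ideal R}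
    (hQ : Q ∈ (Ideal.span {c}).minimalPrimes) : Q.height = 1 := by
  haveI : Q.IsPrime := hQ.1.1
  refine le_antisymm (Ideal.height_le_one_of_isPrincipal_of_mem_minimalPrimes _ Q hQ) ?_
  rw [Order.one_le_iff_pos, pos_iff_ne_zero, Ne, Ideal.height_eq_zero_iff_eq_bot]
  intro h
  have h1 : c ∈ Q := hQ.1.2 (Ideal.mem_span_singleton_self c)
  rw [h] at h1
  exact hc (Ideal.mem_bot.mp h1)

theorem mem_minimalPrimes_of_height_eq_one {c : R} (hc : c ≠ 0) {Q : Ideal R} [Q.IsPrime]
    (hQ : Q.height = 1) (hcQ : c ∈ Q) : Q ∈ (Ideal.span {c}).minimalPrimes := by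
  refine Ideal.mem_minimalPrimes_of_height_le ((Ideal.span_singleton_le_iff_mem Q).mpr hcQ) ?_
  rw [hQ, Order.one_le_iff_pos, pos_iff_ne_zero, Ne, Ideal.height_eq_zero_iff_eq_bot,
    Ideal.span_singleton_eq_bot]
  exact hc

theorem mem_minimalPrimes_of_mem_associatedPrimes {c : R} (hc : c ≠ 0) {Q : Ideal R}
    (hQ : Q ∈ associatedPrimes R (R ⧸ Ideal.span {c})) :
    Q ∈ (Ideal.span {c}).minimalPrimes := by
  haveI : Q.IsPrime := IsAssociatedPrime.isPrime hQ
  have h1 := Groth.Agent.Lib.Helper22.AssHeightOne.height_eq_one_of_mem_associatedPrimes c hc Q hQ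
  have h2 : c ∈ Q := by
    apply IsAssociatedPrime.annihilator_le hQ
    rw [Submodule.annihilator_top, Ideal.annihilator_quotient]
    exact Ideal.mem_span_singleton_self c
  exact mem_minimalPrimes_of_height_eq_one hc h1 h2

theorem height_bot_eq : (⊥ : Ideal R).height = 0 := Ideal.height_eq_zero_iff_eq_bot.mpr rfl

theorem height_maximalIdeal (hdim : ringKrullDim R = 2) : (maximalIdeal R).height = 2 := by
  have h := IsLocalRing.maximalIdeal_height_eq_ringKrullDim (R := R)
  rw [hdim] at h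
  have h' : ((maximalIdeal R).height : WithBot ℕ∞) = ((2 : ℕ∞) : WithBot ℕ∞) := h
  exact WithBot.coe_injective h'

theorem ne_maximalIdeal_of_height_eq_one (hdim : ringKrullDim R = 2) {Q : Ideal R}
    (hQ : Q.height = 1) : Q ≠ maximalIdeal R := by
  rintro rfl
  rw [height_maximalIdeal hdim] at hQ
  exact absurd hQ (by norm_num)

theorem not_mem_of_mem_minimalPrimes (hdim : ringKrullDim R = 2) {c g : R} (hc0 : c ≠ 0)
    (hsop : maximalIdeal R ≤ (Ideal.span {c} ⊔ Ideal.span {g}).radical) {Q : Ideal R}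
    (hQ : Q ∈ (Ideal.span {c}).minimalPrimes) : g ∉ Q := by
  intro hg
  have hQp : Q.IsPrime := hQ.1.1
  have h1 : Ideal.span {c} ⊔ Ideal.span {g} ≤ Q :=
    sup_le hQ.1.2 ((Ideal.span_singleton_le_iff_mem Q).mpr hg)
  have h2 : maximalIdeal R ≤ Q := hsop.trans ((Ideal.IsPrime.radical_le_iff hQp).mpr h1)
  have h3 : Q = maximalIdeal R :=
    le_antisymm (IsLocalRing.le_maximalIdeal (Ideal.IsPrime.ne_top hQp)) h2
  exact ne_maximalIdeal_of_height_eq_one hdim (height_eq_one_of_mem_minimalPrimes hc0 hQ) h3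

theorem not_mem_span_of_sop (hdim : ringKrullDim R = 2) {c g : R} (hg : g ∈ maximalIdeal R)
    (hsop : maximalIdeal R ≤ (Ideal.span {c} ⊔ Ideal.span {g}).radical) :
    c ∉ Ideal.span {g} := by
  intro hc
  have h1 : Ideal.span {c} ⊔ Ideal.span {g} = Ideal.span {g} :=
    sup_eq_right.mpr ((Ideal.span_singleton_le_iff_mem _).mpr hc)
  rw [h1] at hsop
  have hmin : maximalIdeal R ∈ (Ideal.span {g}).minimalPrimes := by
    refine ⟨⟨inferInstance, (Ideal.span_singleton_le_iff_mem _).mpr hg⟩, ?_⟩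
    rintro P ⟨hP, hgP⟩ _
    exact hsop.trans ((Ideal.IsPrime.radical_le_iff hP).mpr hgP)
  have h2 := Ideal.height_le_one_of_isPrincipal_of_mem_minimalPrimes _ _ hmin
  rw [height_maximalIdeal hdim] at h2
  exact absurd h2 (by norm_num)

theorem length_ne_top_of_sop {J : Ideal R} (hsop : maximalIdeal R ≤ J.radical) :
    Module.length R (R ⧸ J) ≠ ⊤ := by
  obtain ⟨n, hn⟩ := Ideal.exists_pow_le_of_le_radical_of_fg hsop (IsNoetherian.noetherian _)
  rw [Module.length_ne_top_iff]
  refine Groth.Agent.Lib.Helper5.SamuelAdd.isFiniteLength_quotient J n hn R J 1 ?_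
  rw [pow_one]
  exact Submodule.smul_le.mpr fun r hr n _ => J.mul_mem_right n hr

theorem card_le_length (hdim : ringKrullDim R = 2) {c g : R} (hc0 : c ≠ 0)
    (hg : g ∈ maximalIdeal R)
    (hsop : maximalIdeal R ≤ (Ideal.span {c} ⊔ Ideal.span {g}).radical) :
    ((Ideal.span {c}).minimalPrimes.ncard : ℕ∞) ≤
      Module.length R (R ⧸ (Ideal.span {c} ⊔ Ideal.span {g})) := by
  classical
  have hfin := Ideal.finite_minimalPrimes_of_isNoetherianRing R (Ideal.span {c})
  have hjac : Ideal.span {g} ≤ Ideal.jacobson (⊥ : Ideal R) := by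
    rw [IsLocalRing.jacobson_eq_maximalIdeal ⊥ bot_ne_top]
    exact (Ideal.span_singleton_le_iff_mem _).mpr hg
  have key : ∀ S : Finset (Ideal R), (∀ Q ∈ S, Q ∈ (Ideal.span {c}).minimalPrimes) →
      ((S.card : ℕ) : ℕ∞) ≤ Order.coheight (S.inf id ⊔ Ideal.span {g} : Ideal R) := by
    intro S
    induction S using Finset.induction_on with
    | empty => intro _; simp
    | insert Q S hQS ih =>
      intro hS
      have hSmem : ∀ Q' ∈ S, Q' ∈ (Ideal.span {c}).minimalPrimes :=
        fun Q' hQ' => hS Q' (Finset.mem_insert_of_mem hQ')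
      have hQmem := hS Q (Finset.mem_insert_self Q S)
      have hQp : Q.IsPrime := hQmem.1.1
      have ih' := ih hSmem
      obtain ⟨K, hK⟩ : ∃ K : Ideal R, K = S.inf id := ⟨_, rfl⟩
      have hinf : (insert Q S).inf id = Q ⊓ K := by rw [Finset.inf_insert, hK]; rfl
      rw [hinf]
      rw [← hK] at ih'
      have hlt : (Q ⊓ K) ⊔ Ideal.span {g} < K ⊔ Ideal.span {g} := by
        refine lt_of_le_of_ne (sup_le_sup_right inf_le_right _) ?_
        intro heq
        have h1 : K ≤ (Q ⊓ K) ⊔ Ideal.span {g} := by rw [heq]; exact le_sup_left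
        have h2 : K ≤ (Q ⊓ K) ⊔ Ideal.span {g} • K := by
          intro a ha
          obtain ⟨b, hb, γ, hγ, hbγ⟩ := Submodule.mem_sup.mp (h1 ha)
          obtain ⟨r, hr⟩ := Ideal.mem_span_singleton'.mp hγ
          have hrgK : r * g ∈ K := by
            have h3 := K.sub_mem ha ((inf_le_right : Q ⊓ K ≤ K) hb)
            rw [← hbγ, add_sub_cancel_left, ← hr] at h3
            exact h3
          have hrK : r ∈ K := by
            rw [hK, Submodule.mem_finsetInf] at hrgK ⊢
            intro Q' hQ'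
            have hQ'min := hSmem Q' hQ'
            have hQ'p : Q'.IsPrime := hQ'min.1.1
            exact (Ideal.IsPrime.mem_or_mem hQ'p (hrgK Q' hQ')).resolve_right
              (not_mem_of_mem_minimalPrimes hdim hc0 hsop hQ'min)
          refine Submodule.mem_sup.mpr ⟨b, hb, γ, ?_, hbγ⟩
          rw [← hr, mul_comm]
          exact Submodule.smul_mem_smul (Ideal.mem_span_singleton_self g) hrK
        have h3 : K ≤ Q ⊓ K := Submodule.le_of_le_smul_of_le_jacobson_bot
          (IsNoetherian.noetherian K) hjac h2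
        have h4 : S.inf id ≤ Q := by rw [← hK]; exact h3.trans inf_le_left
        obtain ⟨Q', hQ', hQ'Q⟩ := (Ideal.IsPrime.inf_le' hQp).mp h4
        have hQ'min := hSmem Q' hQ'
        have h5 : Q ≤ Q' := hQmem.2 hQ'min.1 hQ'Q
        have h6 : Q' = Q := le_antisymm hQ'Q h5
        exact hQS (h6 ▸ hQ')
      calc (((insert Q S).card : ℕ) : ℕ∞) = (S.card : ℕ∞) + 1 := by
            rw [Finset.card_insert_of_notMem hQS]; push_cast; rfl
        _ ≤ Order.coheight (K ⊔ Ideal.span {g}) + 1 := by gcongr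
        _ ≤ Order.coheight ((Q ⊓ K) ⊔ Ideal.span {g}) := Order.coheight_add_one_le hlt
  rw [Set.ncard_eq_toFinset_card _ hfin, Module.length_quotient]
  refine (key hfin.toFinset (fun Q hQ => hfin.mem_toFinset.mp hQ)).trans ?_
  apply Order.coheight_anti
  refine sup_le_sup_right ?_ _
  rw [Finset.le_inf_iff]
  intro Q hQ
  exact (hfin.mem_toFinset.mp hQ).1.2

theorem length_succ_le {c' u g : R} (hu : u ∈ maximalIdeal R) (hc'g : c' ∉ Ideal.span {g}) :
    Module.length R (R ⧸ (Ideal.span {c'} ⊔ Ideal.span {g})) + 1 ≤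
      Module.length R (R ⧸ (Ideal.span {c' * u} ⊔ Ideal.span {g})) := by
  rw [Module.length_quotient, Module.length_quotient]
  apply Order.coheight_add_one_le
  refine lt_of_le_of_ne (sup_le_sup_right
    (Ideal.span_singleton_le_span_singleton.mpr (Dvd.intro u rfl)) _) ?_
  intro heq
  have h1 : c' ∈ Ideal.span {c' * u} ⊔ Ideal.span {g} := by
    rw [heq]
    exact Ideal.mem_sup_left (Ideal.mem_span_singleton_self c')
  obtain ⟨a, b, hb, hab⟩ := Ideal.mem_span_singleton_sup.mp h1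
  have hunit : IsUnit (1 - a * u) := by
    apply IsLocalRing.isUnit_one_sub_self_of_mem_nonunits
    exact (IsLocalRing.mem_maximalIdeal _).mp (Ideal.mul_mem_left _ a hu)
  have h2 : c' * (1 - a * u) = b := by linear_combination (-1 : R) * hab
  apply hc'g
  have h3 : c' * (1 - a * u) ∈ Ideal.span {g} := h2 ▸ hb
  exact (Ideal.mul_unit_mem_iff_mem _ hunit).mp h3

theorem exists_perturbation (hdim : ringKrullDim R = 2) {c : R} (hc0 : c ≠ 0) (N : ℕ) :
    ∃ h' ∈ maximalIdeal R ^ N, (∀ Q ∈ (Ideal.span {c}).minimalPrimes, h' ∈ Q) ∧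
      ∀ Q ∈ (Ideal.span {c}).minimalPrimes, ¬ InSq Q (c + h') := by
  classical
  have hfin := Ideal.finite_minimalPrimes_of_isNoetherianRing R (Ideal.span {c})
  obtain ⟨𝒬, h𝒬⟩ : ∃ 𝒬 : Finset (Ideal R), 𝒬 = hfin.toFinset := ⟨_, rfl⟩
  have hmem : ∀ Q, Q ∈ 𝒬 ↔ Q ∈ (Ideal.span {c}).minimalPrimes := fun Q => by
    rw [h𝒬]; exact hfin.mem_toFinset
  have hprime : ∀ Q ∈ 𝒬, Q.IsPrime := fun Q hQ => ((hmem Q).mp hQ).1.1
  have hht : ∀ Q ∈ 𝒬, Q.height = 1 :=
    fun Q hQ => height_eq_one_of_mem_minimalPrimes hc0 ((hmem Q).mp hQ)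
  have hincomp : ∀ Q ∈ 𝒬, ∀ Q' ∈ 𝒬, Q ≤ Q' → Q = Q' := by
    intro Q hQ Q' hQ' hle
    exact le_antisymm hle (((hmem Q').mp hQ').2 ((hmem Q).mp hQ).1 hle)
  have hz : ∀ Q : Ideal R, ∃ z : R,
      Q ∈ 𝒬 → (z ∈ Q ∧ ¬ InSq Q z ∧ ∀ Q' ∈ 𝒬, Q' ≠ Q → z ∉ Q') := by
    intro Q
    by_cases hQ : Q ∈ 𝒬
    · haveI := hprime Q hQ
      obtain ⟨z, hzQ, hz2, hzT⟩ := exists_mem_avoid Q (sqIdeal Q (hprime Q hQ)) (𝒬.erase Q)
        (fun P hP => hprime P (Finset.mem_of_mem_erase hP))
        (by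
          obtain ⟨w, hw, hw2⟩ := exists_mem_not_inSq Q (hht Q hQ)
          exact fun hle => hw2 (hle hw))
        (by
          intro P hP hle
          exact (Finset.ne_of_mem_erase hP)
            (hincomp Q hQ P (Finset.mem_of_mem_erase hP) hle).symm)
      exact ⟨z, fun _ => ⟨hzQ, hz2,
        fun Q' hQ' hne => hzT Q' (Finset.mem_erase.mpr ⟨hne, hQ'⟩)⟩⟩
    · exact ⟨0, fun h => absurd h hQ⟩
  choose z hz using hz
  obtain ⟨t, htm, -, htQ⟩ := exists_mem_avoid (maximalIdeal R) ⊥ 𝒬 hprime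
    (by
      intro hle
      have h1 : maximalIdeal R = ⊥ := le_bot_iff.mp hle
      have h2 := height_maximalIdeal hdim
      rw [h1, height_bot_eq] at h2
      exact absurd h2 (by norm_num))
    (by
      intro Q hQ hle
      have hQp := hprime Q hQ
      have h1 : Q = maximalIdeal R :=
        le_antisymm (IsLocalRing.le_maximalIdeal (Ideal.IsPrime.ne_top hQp)) hle
      exact ne_maximalIdeal_of_height_eq_one hdim (hht Q hQ) h1)
  obtain ⟨e, he⟩ : ∃ e : Ideal R → R, e = fun Q => if InSq Q c then z Q else z Q ^ 2 := ⟨_, rfl⟩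
  have heQ : ∀ Q ∈ 𝒬, e Q ∈ Q := by
    intro Q hQ
    rw [he]
    simp only
    split_ifs
    · exact (hz Q hQ).1
    · exact Ideal.pow_mem_of_mem _ (hz Q hQ).1 2 (by norm_num)
  have heQ' : ∀ Q ∈ 𝒬, ∀ Q' ∈ 𝒬, Q' ≠ Q → e Q' ∉ Q := by
    intro Q hQ Q' hQ' hne
    have hQp := hprime Q hQ
    have h1 : z Q' ∉ Q := (hz Q' hQ').2.2 Q hQ (Ne.symm hne)
    rw [he]
    simp only
    split_ifs
    · exact h1
    · exact fun h => h1 (Ideal.IsPrime.mem_of_pow_mem hQp 2 h)
  refine ⟨t ^ N * ∏ Q ∈ 𝒬, e Q, Ideal.mul_mem_right _ _ (Ideal.pow_mem_pow htm N), ?_, ?_⟩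
  · intro Q hQ
    have hQ' := (hmem Q).mpr hQ
    apply Ideal.mul_mem_left
    obtain ⟨w, hw⟩ := Finset.dvd_prod_of_mem e hQ'
    rw [hw]
    exact Ideal.mul_mem_right _ _ (heQ Q hQ')
  · intro Q hQ
    have hQ' := (hmem Q).mpr hQ
    have hQp := hprime Q hQ'
    have hsplit : t ^ N * ∏ Q'' ∈ 𝒬, e Q'' = (t ^ N * ∏ Q'' ∈ 𝒬.erase Q, e Q'') * e Q := by
      rw [← Finset.prod_erase_mul 𝒬 e hQ']
      ring
    have hu : t ^ N * ∏ Q'' ∈ 𝒬.erase Q, e Q'' ∉ Q := by
      intro h
      rcases Ideal.IsPrime.mem_or_mem hQp h with h | h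
      · exact htQ Q hQ' (Ideal.IsPrime.mem_of_pow_mem hQp N h)
      · haveI := hQp
        obtain ⟨Q'', hQ'', h⟩ := (Ideal.IsPrime.prod_mem_iff).mp h
        exact heQ' Q hQ' Q'' (Finset.mem_of_mem_erase hQ'') (Finset.ne_of_mem_erase hQ'') h
    rw [hsplit]
    by_cases hc : InSq Q c
    · apply not_inSq_add' hQp hc
      intro h
      have h1 : InSq Q (e Q) := InSq.of_mul hQp hu h
      rw [he] at h1
      simp only [if_pos hc] at h1
      exact (hz Q hQ').2.1 h1
    · apply not_inSq_add hQp hc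
      apply InSq.mul_left
      rw [he]
      simp only [if_neg hc]
      rw [pow_two]
      exact inSq_mul hQp (hz Q hQ').1 (hz Q hQ').1

theorem dvd_of_minimalPrimes_subset {c c' : R} (hc'0 : c' ≠ 0)
    (hsub : ∀ Q ∈ (Ideal.span {c'}).minimalPrimes, c ∈ Q)
    (hsq : ∀ Q ∈ (Ideal.span {c'}).minimalPrimes, ¬ InSq Q c') : c' ∣ c := by
  apply Groth.Agent.Lib.Helper28.WeakKrull.dvd_of_forall_associatedPrimes R c' c
  intro Q _ hQ
  have hQmin := mem_minimalPrimes_of_mem_associatedPrimes hc'0 hQ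
  exact dvd_of_not_inSq Q (height_eq_one_of_mem_minimalPrimes hc'0 hQmin)
    (hQmin.1.2 (Ideal.mem_span_singleton_self c')) (hsq Q hQmin) (hsub Q hQmin)

theorem isReduced_quotient_of_not_inSq {c : R} (hc0 : c ≠ 0)
    (hsq : ∀ Q ∈ (Ideal.span {c}).minimalPrimes, ¬ InSq Q c) :
    IsReduced (R ⧸ Ideal.span {c}) := by
  rw [← Ideal.isRadical_iff_quotient_reduced]
  intro z hz
  rw [Ideal.mem_span_singleton]
  refine dvd_of_minimalPrimes_subset hc0 ?_ hsq
  intro Q hQ
  have h1 : (Ideal.span {c}).radical ≤ Q := (Ideal.IsPrime.radical_le_iff hQ.1.1).mpr hQ.1.2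
  exact h1 hz

/-- Main result: finitely many height one primes of a two-dimensional Noetherian normal local
domain contain a common nonzero element `f` all of whose minimal primes have multiplicity one. -/
theorem exists_reduced_quotient (hdim : ringKrullDim R = 2) (s : Finset (Ideal R))
    (hs : ∀ p ∈ s, p.IsPrime ∧ p.height = 1) :
    ∃ f : R, f ≠ 0 ∧ f ∈ maximalIdeal R ∧ (∀ p ∈ s, f ∈ p) ∧
      (∀ Q ∈ (Ideal.span {f}).minimalPrimes, ¬ InSq Q f) := by
  classical
  have hx : ∀ p : Ideal R, ∃ x : R, p ∈ s → (x ∈ p ∧ x ≠ 0) := by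
    intro p
    by_cases hp : p ∈ s
    · obtain ⟨hpp, hp1⟩ := hs p hp
      have hpbot : p ≠ ⊥ := by
        intro h
        rw [h, height_bot_eq] at hp1
        exact absurd hp1 (by norm_num)
      obtain ⟨x, hx, hx0⟩ := Submodule.exists_mem_ne_zero_of_ne_bot hpbot
      exact ⟨x, fun _ => ⟨hx, hx0⟩⟩
    · exact ⟨0, fun h => absurd h hp⟩
  choose x hx using hx
  have hmbot : maximalIdeal R ≠ ⊥ := by
    intro h
    have h2 := height_maximalIdeal hdim
    rw [h, height_bot_eq] at h2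
    exact absurd h2 (by norm_num)
  obtain ⟨t, htm, ht0⟩ := Submodule.exists_mem_ne_zero_of_ne_bot hmbot
  obtain ⟨f₀, hf₀⟩ : ∃ f₀ : R, f₀ = t * ∏ p ∈ s, x p := ⟨_, rfl⟩
  have hf₀0 : f₀ ≠ 0 := by
    rw [hf₀]
    exact mul_ne_zero ht0 (Finset.prod_ne_zero_iff.mpr fun p hp => (hx p hp).2)
  have hf₀m : f₀ ∈ maximalIdeal R := by
    rw [hf₀]
    exact Ideal.mul_mem_right _ _ htm
  have hf₀s : ∀ p ∈ s, f₀ ∈ p := by
    intro p hp
    rw [hf₀]
    apply Ideal.mul_mem_left
    obtain ⟨w, hw⟩ := Finset.dvd_prod_of_mem x hp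
    rw [hw]
    exact Ideal.mul_mem_right _ _ (hx p hp).1
  have hmin : ∀ p ∈ minimalPrimes R, f₀ ∉ p := by
    intro p hp
    rw [IsDomain.minimalPrimes_eq_singleton_bot, Set.mem_singleton_iff] at hp
    rw [hp]
    exact fun h => hf₀0 (Ideal.mem_bot.mp h)
  obtain ⟨g, N, hg, -, hpert⟩ :=
    Groth.Agent.S7116.result R 2 (by rw [hdim]; rfl) f₀ hf₀m hmin
  obtain ⟨g₀, hg₀⟩ : ∃ g₀ : R, g₀ = g ⟨0, by norm_num⟩ := ⟨_, rfl⟩
  have hrange : Set.range g = {g₀} := by
    ext y
    constructor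
    · rintro ⟨i, rfl⟩
      have hi : i = ⟨0, by norm_num⟩ := Fin.ext (by have := i.2; omega)
      rw [hi, hg₀]
      rfl
    · rintro rfl
      exact ⟨_, hg₀.symm⟩
  have hg₀m : g₀ ∈ maximalIdeal R := by rw [hg₀]; exact hg _
  have hspan : ∀ c : R, Ideal.span (insert c (Set.range g)) =
      Ideal.span {c} ⊔ Ideal.span {g₀} := by
    intro c
    rw [hrange, Ideal.span_insert]
  obtain ⟨L, hL⟩ : ∃ L : ℕ∞,
      L = Module.length R (R ⧸ (Ideal.span {f₀} ⊔ Ideal.span {g₀})) := ⟨_, rfl⟩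
  have hcand : ∀ h ∈ maximalIdeal R ^ (N + 1),
      maximalIdeal R ≤ (Ideal.span {f₀ + h} ⊔ Ideal.span {g₀}).radical ∧
      L = Module.length R (R ⧸ (Ideal.span {f₀ + h} ⊔ Ideal.span {g₀})) := by
    intro h hh
    have h1 := hpert h (Ideal.pow_le_pow_right (Nat.le_succ N) hh)
    rw [hspan (f₀ + h), hspan f₀] at h1
    rw [hL]
    exact h1
  have hLtop : L ≠ ⊤ := by
    have h1 := (hcand 0 (Ideal.zero_mem _)).1
    rw [add_zero] at h1
    rw [hL]
    exact length_ne_top_of_sop h1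
  by_contra hcon
  push Not at hcon
  have key : ∀ j : ℕ, ∃ h ∈ maximalIdeal R ^ (N + 1), (∀ p ∈ s, h ∈ p) ∧
      j ≤ (Ideal.span {f₀ + h}).minimalPrimes.ncard := by
    intro j
    induction j with
    | zero => exact ⟨0, Ideal.zero_mem _, fun p _ => Ideal.zero_mem _, Nat.zero_le _⟩
    | succ j ih =>
      obtain ⟨h, hh, hhs, hj⟩ := ih
      obtain ⟨hsop, hlen⟩ := hcand h hh
      obtain ⟨c, hc⟩ : ∃ c : R, c = f₀ + h := ⟨_, rfl⟩
      rw [← hc] at hsop hlen hj
      have hcg : c ∉ Ideal.span {g₀} := not_mem_span_of_sop hdim hg₀m hsop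
      have hc0 : c ≠ 0 := fun h0 => hcg (h0 ▸ Ideal.zero_mem _)
      have hcm : c ∈ maximalIdeal R := by
        rw [hc]
        exact Ideal.add_mem _ hf₀m (Ideal.pow_le_self (Nat.succ_ne_zero N) hh)
      have hcs : ∀ p ∈ s, c ∈ p := fun p hp => by
        rw [hc]
        exact Ideal.add_mem _ (hf₀s p hp) (hhs p hp)
      obtain ⟨Q₀, hQ₀, hQ₀sq⟩ := hcon c hc0 hcm hcs
      obtain ⟨h', hh', hh'Q, hh'sq⟩ := exists_perturbation hdim hc0 (N + 1)
      have hsum : f₀ + (h + h') = c + h' := by rw [hc]; ring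
      obtain ⟨hsop', hlen'⟩ := hcand (h + h') (Ideal.add_mem _ hh hh')
      rw [hsum] at hsop' hlen'
      have hc'g : c + h' ∉ Ideal.span {g₀} := not_mem_span_of_sop hdim hg₀m hsop'
      have hc'0 : c + h' ≠ 0 := fun h0 => hc'g (h0 ▸ Ideal.zero_mem _)
      have hsmin : ∀ p ∈ s, p ∈ (Ideal.span {c}).minimalPrimes := by
        intro p hp
        haveI := (hs p hp).1
        exact mem_minimalPrimes_of_height_eq_one hc0 (hs p hp).2 (hcs p hp)
      refine ⟨h + h', Ideal.add_mem _ hh hh',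
        fun p hp => Ideal.add_mem _ (hhs p hp) (hh'Q p (hsmin p hp)), ?_⟩
      rw [hsum]
      have hsub : (Ideal.span {c}).minimalPrimes ⊆ (Ideal.span {c + h'}).minimalPrimes := by
        intro Q hQ
        haveI := hQ.1.1
        exact mem_minimalPrimes_of_height_eq_one hc'0 (height_eq_one_of_mem_minimalPrimes hc0 hQ)
          (Ideal.add_mem _ (hQ.1.2 (Ideal.mem_span_singleton_self c)) (hh'Q Q hQ))
      have hne : (Ideal.span {c}).minimalPrimes ≠ (Ideal.span {c + h'}).minimalPrimes := by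
        intro heq
        have hdvd : c + h' ∣ c := by
          apply dvd_of_minimalPrimes_subset hc'0
          · intro Q hQ
            rw [← heq] at hQ
            exact hQ.1.2 (Ideal.mem_span_singleton_self c)
          · intro Q hQ
            rw [← heq] at hQ
            exact hh'sq Q hQ
        obtain ⟨u, hu⟩ := hdvd
        have hum : u ∈ maximalIdeal R := by
          by_contra hnot
          have huu : IsUnit u := by
            by_contra h
            exact hnot ((IsLocalRing.mem_maximalIdeal u).mpr h)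
          obtain ⟨v, hv⟩ := huu.exists_left_inv
          have h1 : c + h' = v * c := by
            calc c + h' = (c + h') * (v * u) := by rw [hv, mul_one]
              _ = v * ((c + h') * u) := by ring
              _ = v * c := by rw [← hu]
          apply hh'sq Q₀ hQ₀
          rw [h1]
          exact InSq.mul_left v hQ₀sq
        have h1 := length_succ_le (g := g₀) hum hc'g
        rw [← hu, ← hlen', ← hlen] at h1
        exact absurd ((ENat.add_one_le_iff hLtop).mp h1) (lt_irrefl _)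
      have hlt := Set.ncard_lt_ncard (hsub.ssubset_of_ne hne)
        (Ideal.finite_minimalPrimes_of_isNoetherianRing R _)
      omega
  obtain ⟨h, hh, hhs, hj⟩ := key (L.toNat + 1)
  obtain ⟨hsop, hlen⟩ := hcand h hh
  have hcg := not_mem_span_of_sop hdim hg₀m hsop
  have hc0 : f₀ + h ≠ 0 := fun h0 => hcg (h0 ▸ Ideal.zero_mem _)
  have hbound := card_le_length hdim hc0 hg₀m hsop
  rw [← hlen] at hbound
  have h1 : (((Ideal.span {f₀ + h}).minimalPrimes.ncard : ℕ) : ℕ∞) ≤ ((L.toNat : ℕ) : ℕ∞) := by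
    rw [ENat.natCast_toNat hLtop]
    exact hbound
  have h2 : (Ideal.span {f₀ + h}).minimalPrimes.ncard ≤ L.toNat := by exact_mod_cast h1
  omega

end Main

end Groth.Agent.Lib.R2Lead.ReducedQuot
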