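import Mathlib
import Groth.Agent.Lib.R2LeadReducedQuot
import Groth.Agent.Lib.Helper28Hartshorne
import Groth.Agent.S7116
import Groth.Agent.S7117

/-! R2Lead: in a catenary Noetherian normal local domain, every nonzero radical ideal contains a
nonzero element with reduced quotient (generalisation of `R2LeadReducedQuot` to any dimension). -/

set_option autoImplicit false
set_option linter.unusedSectionVars false
universe u
open IsLocalRing

namespace Groth.Agent.Lib.R2Lead.ReducedQuotGen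

open Groth.Agent.Lib.R2Lead.ReducedQuot

theorem withBot_cancel {x : WithBot ℕ∞} {d : ℕ} (h : x + 1 = ((d : ℕ) : WithBot ℕ∞)) :
    x = ((d - 1 : ℕ) : WithBot ℕ∞) := by
  cases x with
  | bot =>
    exfalso
    rw [WithBot.bot_add] at h
    exact WithBot.bot_ne_natCast d h
  | coe y =>
    have h1 : ((y + 1 : ℕ∞) : WithBot ℕ∞) = ((d : ℕ∞) : WithBot ℕ∞) := by
      rw [WithBot.coe_add, WithBot.coe_one]
      exact h
    have h2 : y + 1 = (d : ℕ∞) := WithBot.coe_injective h1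
    cases y with
    | top => simp at h2
    | coe n =>
      have h3 : n + 1 = d := by exact_mod_cast h2
      have h4 : d - 1 = n := by omega
      rw [h4]
      rfl

section General

variable {R : Type u} [CommRing R] [IsNoetherianRing R] [IsLocalRing R]

/-- the number of minimal primes of `I`, all of whose quotients have the dimension `e` of `R ⧸ I`,
is bounded by the length of `R ⧸ (I + (g))` for a system of parameters `g` modulo `I`. -/
theorem card_minimalPrimes_le_length (I : Ideal R) (hItop : I ≠ ⊤) (e : ℕ)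
    (hdimI : ringKrullDim (R ⧸ I) = e)
    (hQdim : ∀ Q ∈ I.minimalPrimes, ringKrullDim (R ⧸ Q) = e)
    (g : Fin e → R) (hg : ∀ i, g i ∈ maximalIdeal R)
    (hsop : maximalIdeal R ≤ (I ⊔ Ideal.span (Set.range g)).radical) :
    (I.minimalPrimes.ncard : ℕ∞) ≤ Module.length R (R ⧸ (I ⊔ Ideal.span (Set.range g))) := by
  classical
  have hsurj : Function.Surjective (Ideal.Quotient.mk I) := Ideal.Quotient.mk_surjective
  haveI : Nontrivial (R ⧸ I) := Ideal.Quotient.nontrivial_iff.mpr hItop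
  haveI : IsLocalRing (R ⧸ I) := IsLocalRing.of_surjective' (Ideal.Quotient.mk I) hsurj
  have hcomap : Ideal.comap (Ideal.Quotient.mk I) (maximalIdeal (R ⧸ I)) = maximalIdeal R := by
    haveI : (Ideal.comap (Ideal.Quotient.mk I) (maximalIdeal (R ⧸ I))).IsMaximal :=
      Ideal.comap_isMaximal_of_surjective (Ideal.Quotient.mk I) hsurj
    exact IsLocalRing.eq_maximalIdeal this
  obtain ⟨g', hg'⟩ : ∃ g' : Fin e → R ⧸ I, g' = fun i => Ideal.Quotient.mk I (g i) := ⟨_, rfl⟩
  have hg'm : ∀ i, g' i ∈ maximalIdeal (R ⧸ I) := by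
    intro i
    have h1 : g i ∈ Ideal.comap (Ideal.Quotient.mk I) (maximalIdeal (R ⧸ I)) := by
      rw [hcomap]; exact hg i
    rw [hg']
    exact h1
  have hrange : Ideal.span (Set.range g') =
      Ideal.map (Ideal.Quotient.mk I) (Ideal.span (Set.range g)) := by
    rw [Ideal.map_span, ← Set.range_comp, hg']
    rfl
  have hmapsup : Ideal.map (Ideal.Quotient.mk I) (I ⊔ Ideal.span (Set.range g)) =
      Ideal.span (Set.range g') := by
    rw [Ideal.map_sup, Ideal.map_quotient_self, bot_sup_eq, hrange]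
  have hsop' : maximalIdeal (R ⧸ I) ≤ (Ideal.span (Set.range g')).radical := by
    rw [← hmapsup]
    intro y hy
    obtain ⟨x, rfl⟩ := hsurj y
    have hx : x ∈ maximalIdeal R := by rw [← hcomap]; exact hy
    obtain ⟨n, hn⟩ := Ideal.mem_radical_iff.mp (hsop hx)
    refine Ideal.mem_radical_iff.mpr ⟨n, ?_⟩
    rw [← map_pow]
    exact Ideal.mem_map_of_mem _ hn
  have hS := Groth.Agent.S7117.result (R ⧸ I) e hdimI g' hg'm hsop'
  have hset : {p : Ideal (R ⧸ I) | p ∈ minimalPrimes (R ⧸ I) ∧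
      ringKrullDim ((R ⧸ I) ⧸ p) = (e : WithBot ℕ∞)} = minimalPrimes (R ⧸ I) := by
    ext p
    simp only [Set.mem_setOf_eq, and_iff_left_iff_imp]
    intro hp
    obtain ⟨Q, hQ⟩ : ∃ Q : Ideal R, Q = Ideal.comap (Ideal.Quotient.mk I) p := ⟨_, rfl⟩
    have hQmin : Q ∈ I.minimalPrimes := by
      rw [Ideal.minimalPrimes_eq_comap, hQ]
      exact ⟨p, hp, rfl⟩
    have hp' : p = Ideal.map (Ideal.Quotient.mk I) Q := by
      rw [hQ, Ideal.map_comap_of_surjective _ hsurj]
    rw [hp', ringKrullDim_eq_of_ringEquiv (DoubleQuot.quotQuotEquivQuotOfLE hQmin.1.2)]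
    exact hQdim Q hQmin
  rw [hset] at hS
  have hcard : I.minimalPrimes.ncard = (minimalPrimes (R ⧸ I)).ncard := by
    rw [Ideal.minimalPrimes_eq_comap]
    exact Set.ncard_image_of_injective _ (Ideal.comap_injective_of_surjective _ hsurj)
  rw [hcard]
  refine hS.trans (le_of_eq ?_)
  rw [Module.length_quotient, Module.length_quotient,
    ← Ideal.coheight_comap_of_surjective (Ideal.Quotient.mk I) hsurj, ← hmapsup,
    Ideal.comap_map_of_surjective _ hsurj, ← RingHom.ker_eq_comap_bot, Ideal.mk_ker,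
    sup_eq_left.mpr (le_sup_left : I ≤ I ⊔ Ideal.span (Set.range g))]

end General

section Main

variable {R : Type u} [CommRing R] [IsDomain R] [IsNoetherianRing R] [IsLocalRing R]
  [IsIntegrallyClosed R]

theorem height_maximalIdeal' {d : ℕ} (hdim : ringKrullDim R = d) :
    (maximalIdeal R).height = d := by
  have h := IsLocalRing.maximalIdeal_height_eq_ringKrullDim (R := R)
  rw [hdim] at h
  exact_mod_cast h

theorem ne_maximalIdeal_of_height_eq_one' {d : ℕ} (hdim : ringKrullDim R = d) (hd : 2 ≤ d)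
    {Q : Ideal R} (hQ : Q.height = 1) : Q ≠ maximalIdeal R := by
  rintro rfl
  rw [height_maximalIdeal' hdim] at hQ
  have : d = 1 := by exact_mod_cast hQ
  omega

theorem dim_quotient_of_height_one {d : ℕ} (hdim : ringKrullDim R = d)
    (hcat : CAlg.IsCatenary R) (Q : Ideal R) [hQp : Q.IsPrime] (hQ : Q.height = 1) :
    ringKrullDim (R ⧸ Q) = ((d - 1 : ℕ) : WithBot ℕ∞) := by
  have hbot : (⊥ : Ideal R).IsPrime := Ideal.isPrime_bot
  have hQbot : Q ≠ ⊥ := Ideal.ne_bot_of_height_eq_one hQ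
  have hcov : (⟨⊥, hbot⟩ : PrimeSpectrum R) ⋖ ⟨Q, hQp⟩ := by
    refine ⟨?_, ?_⟩
    · rw [← PrimeSpectrum.asIdeal_lt_asIdeal]
      exact bot_lt_iff_ne_bot.mpr hQbot
    · intro P h1 h2
      rw [← PrimeSpectrum.asIdeal_lt_asIdeal] at h1 h2
      haveI := P.isPrime
      have h3 : P.asIdeal.height < Q.height := Ideal.height_strict_mono_of_isPrime h2
      rw [hQ, ENat.lt_one_iff_eq_zero, Ideal.height_eq_zero_iff_eq_bot] at h3
      exact (ne_of_gt h1) h3
  have h := Groth.Agent.Lib.Helper28.ringKrullDim_quotient_eq_add_one_of_covBy hcat hcov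
  have h0 : ringKrullDim (R ⧸ (⊥ : Ideal R)) = ringKrullDim R :=
    ringKrullDim_eq_of_ringEquiv (RingEquiv.quotientBot R)
  apply withBot_cancel
  rw [← hdim, ← h0]
  exact h.symm

theorem not_mem_span_of_sop' {d : ℕ} (hdim : ringKrullDim R = d) (hd : 1 ≤ d) {c : R}
    (g : Fin (d - 1) → R) (hg : ∀ i, g i ∈ maximalIdeal R)
    (hsop : maximalIdeal R ≤ (Ideal.span {c} ⊔ Ideal.span (Set.range g)).radical) :
    c ∉ Ideal.span (Set.range g) := by
  intro hc
  have h1 : Ideal.span {c} ⊔ Ideal.span (Set.range g) = Ideal.span (Set.range g) :=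
    sup_eq_right.mpr ((Ideal.span_singleton_le_iff_mem _).mpr hc)
  rw [h1] at hsop
  have hmin : maximalIdeal R ∈ (Ideal.span (Set.range g)).minimalPrimes := by
    refine ⟨⟨inferInstance, Ideal.span_le.mpr ?_⟩, ?_⟩
    · rintro _ ⟨i, rfl⟩
      exact hg i
    · rintro P ⟨hP, hgP⟩ _
      exact hsop.trans ((Ideal.IsPrime.radical_le_iff hP).mpr hgP)
  have h2 := Ideal.height_le_card_of_mem_minimalPrimes_span (Set.finite_range g) hmin
  rw [height_maximalIdeal' hdim] at h2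
  have h3 : (Set.range g).ncard ≤ d - 1 := by
    have h4 : (Set.range g).ncard ≤ (Set.univ : Set (Fin (d - 1))).ncard := by
      rw [← Set.image_univ]
      exact Set.ncard_image_le Set.finite_univ
    rw [Set.ncard_univ, Nat.card_fin] at h4
    exact h4
  have h5 : d ≤ (Set.range g).ncard := by exact_mod_cast h2
  omega

theorem card_le_length' {d : ℕ} (hdim : ringKrullDim R = d) (hcat : CAlg.IsCatenary R)
    {c : R} (hc0 : c ≠ 0) (hcm : c ∈ maximalIdeal R) (g : Fin (d - 1) → R)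
    (hg : ∀ i, g i ∈ maximalIdeal R)
    (hsop : maximalIdeal R ≤ (Ideal.span {c} ⊔ Ideal.span (Set.range g)).radical) :
    ((Ideal.span {c}).minimalPrimes.ncard : ℕ∞) ≤
      Module.length R (R ⧸ (Ideal.span {c} ⊔ Ideal.span (Set.range g))) := by
  have hItop : Ideal.span {c} ≠ ⊤ := by
    intro h
    rw [Ideal.span_singleton_eq_top] at h
    exact (IsLocalRing.mem_maximalIdeal c).mp hcm h
  have hdim' : ringKrullDim (R ⧸ Ideal.span {c}) = ((d - 1 : ℕ) : WithBot ℕ∞) := by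
    apply withBot_cancel
    rw [← hdim]
    exact ringKrullDim_quotient_span_singleton_succ_eq_ringKrullDim_of_mem_nonZeroDivisors
      (mem_nonZeroDivisors_of_ne_zero hc0) hcm
  refine card_minimalPrimes_le_length (Ideal.span {c}) hItop (d - 1) hdim' ?_ g hg hsop
  intro Q hQ
  haveI := hQ.1.1
  exact dim_quotient_of_height_one hdim hcat Q (height_eq_one_of_mem_minimalPrimes hc0 hQ)

theorem length_succ_le' {c' u : R} (G : Ideal R) (hu : u ∈ maximalIdeal R) (hc'g : c' ∉ G) :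
    Module.length R (R ⧸ (Ideal.span {c'} ⊔ G)) + 1 ≤
      Module.length R (R ⧸ (Ideal.span {c' * u} ⊔ G)) := by
  rw [Module.length_quotient, Module.length_quotient]
  apply Order.coheight_add_one_le
  refine lt_of_le_of_ne (sup_le_sup_right
    (Ideal.span_singleton_le_span_singleton.mpr (Dvd.intro u rfl)) _) ?_
  intro heq
  have h1 : c' ∈ Ideal.span {c' * u} ⊔ G := by
    rw [heq]
    exact Ideal.mem_sup_left (Ideal.mem_span_singleton_self c')
  obtain ⟨a, b, hb, hab⟩ := Ideal.mem_span_singleton_sup.mp h1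
  have hunit : IsUnit (1 - a * u) := by
    apply IsLocalRing.isUnit_one_sub_self_of_mem_nonunits
    exact (IsLocalRing.mem_maximalIdeal _).mp (Ideal.mul_mem_left _ a hu)
  have h2 : c' * (1 - a * u) = b := by linear_combination (-1 : R) * hab
  apply hc'g
  have h3 : c' * (1 - a * u) ∈ G := h2 ▸ hb
  exact (Ideal.mul_unit_mem_iff_mem _ hunit).mp h3

theorem exists_perturbation' {d : ℕ} (hdim : ringKrullDim R = d) (hd : 2 ≤ d) (K : Ideal R)
    (hK0 : ¬ K ≤ ⊥) (hK : ∀ Q : Ideal R, Q.IsPrime → Q.height = 1 → ¬ K ≤ Q)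
    {c : R} (hc0 : c ≠ 0) (N : ℕ) :
    ∃ h' ∈ maximalIdeal R ^ N, h' ∈ K ∧ (∀ Q ∈ (Ideal.span {c}).minimalPrimes, h' ∈ Q) ∧
      ∀ Q ∈ (Ideal.span {c}).minimalPrimes, ¬ InSq Q (c + h') := by
  classical
  have hfin := Ideal.finite_minimalPrimes_of_isNoetherianRing R (Ideal.span {c})
  obtain ⟨𝒬, h𝒬⟩ : ∃ 𝒬 : Finset (Ideal R), 𝒬 = hfin.toFinset := ⟨_, rfl⟩
  have hmem : ∀ Q, Q ∈ 𝒬 ↔ Q ∈ (Ideal.span {c}).minimalPrimes := fun Q => by
    rw [h𝒬]; exact hfin.mem_toFinset
  have hprime : ∀ Q ∈ 𝒬, Q.IsPrime := fun Q hQ => ((hmem Q).mp hQ).1.1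
  have hht : ∀ Q ∈ 𝒬, Q.height = 1 :=
    fun Q hQ => height_eq_one_of_mem_minimalPrimes hc0 ((hmem Q).mp hQ)
  have hincomp : ∀ Q ∈ 𝒬, ∀ Q' ∈ 𝒬, Q ≤ Q' → Q = Q' := by
    intro Q hQ Q' hQ' hle
    exact le_antisymm hle (((hmem Q').mp hQ').2 ((hmem Q).mp hQ).1 hle)
  have hz : ∀ Q : Ideal R, ∃ z : R,
      Q ∈ 𝒬 → (z ∈ Q ∧ ¬ InSq Q z ∧ ∀ Q' ∈ 𝒬, Q' ≠ Q → z ∉ Q') := by
    intro Q
    by_cases hQ : Q ∈ 𝒬
    · haveI := hprime Q hQ
      obtain ⟨z, hzQ, hz2, hzT⟩ := exists_mem_avoid Q (sqIdeal Q (hprime Q hQ)) (𝒬.erase Q)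
        (fun P hP => hprime P (Finset.mem_of_mem_erase hP))
        (by
          obtain ⟨w, hw, hw2⟩ := exists_mem_not_inSq Q (hht Q hQ)
          exact fun hle => hw2 (hle hw))
        (by
          intro P hP hle
          exact (Finset.ne_of_mem_erase hP)
            (hincomp Q hQ P (Finset.mem_of_mem_erase hP) hle).symm)
      exact ⟨z, fun _ => ⟨hzQ, hz2,
        fun Q' hQ' hne => hzT Q' (Finset.mem_erase.mpr ⟨hne, hQ'⟩)⟩⟩
    · exact ⟨0, fun h => absurd h hQ⟩
  choose z hz using hz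
  obtain ⟨t, htm, -, htQ⟩ := exists_mem_avoid (maximalIdeal R) ⊥ 𝒬 hprime
    (by
      intro hle
      have h1 : maximalIdeal R = ⊥ := le_bot_iff.mp hle
      have h2 := height_maximalIdeal' hdim
      rw [h1, height_bot_eq] at h2
      have h3 : d = 0 := by exact_mod_cast h2.symm
      omega)
    (by
      intro Q hQ hle
      have hQp := hprime Q hQ
      have h1 : Q = maximalIdeal R :=
        le_antisymm (IsLocalRing.le_maximalIdeal (Ideal.IsPrime.ne_top hQp)) hle
      exact ne_maximalIdeal_of_height_eq_one' hdim hd (hht Q hQ) h1)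
  obtain ⟨j, hjK, -, hjQ⟩ := exists_mem_avoid K ⊥ 𝒬 hprime hK0
    (fun Q hQ => hK Q (hprime Q hQ) (hht Q hQ))
  obtain ⟨e, he⟩ : ∃ e : Ideal R → R, e = fun Q => if InSq Q c then z Q else z Q ^ 2 := ⟨_, rfl⟩
  have heQ : ∀ Q ∈ 𝒬, e Q ∈ Q := by
    intro Q hQ
    rw [he]
    simp only
    split_ifs
    · exact (hz Q hQ).1
    · exact Ideal.pow_mem_of_mem _ (hz Q hQ).1 2 (by norm_num)
  have heQ' : ∀ Q ∈ 𝒬, ∀ Q' ∈ 𝒬, Q' ≠ Q → e Q' ∉ Q := by
    intro Q hQ Q' hQ' hne
    have hQp := hprime Q hQ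
    have h1 : z Q' ∉ Q := (hz Q' hQ').2.2 Q hQ (Ne.symm hne)
    rw [he]
    simp only
    split_ifs
    · exact h1
    · exact fun h => h1 (Ideal.IsPrime.mem_of_pow_mem hQp 2 h)
  refine ⟨j * (t ^ N * ∏ Q ∈ 𝒬, e Q),
    Ideal.mul_mem_left _ _ (Ideal.mul_mem_right _ _ (Ideal.pow_mem_pow htm N)),
    Ideal.mul_mem_right _ _ hjK, ?_, ?_⟩
  · intro Q hQ
    have hQ' := (hmem Q).mpr hQ
    apply Ideal.mul_mem_left
    apply Ideal.mul_mem_left
    obtain ⟨w, hw⟩ := Finset.dvd_prod_of_mem e hQ'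
    rw [hw]
    exact Ideal.mul_mem_right _ _ (heQ Q hQ')
  · intro Q hQ
    have hQ' := (hmem Q).mpr hQ
    have hQp := hprime Q hQ'
    have hsplit : j * (t ^ N * ∏ Q'' ∈ 𝒬, e Q'') =
        (j * (t ^ N * ∏ Q'' ∈ 𝒬.erase Q, e Q'')) * e Q := by
      rw [← Finset.prod_erase_mul 𝒬 e hQ']
      ring
    have hu : j * (t ^ N * ∏ Q'' ∈ 𝒬.erase Q, e Q'') ∉ Q := by
      intro h
      rcases Ideal.IsPrime.mem_or_mem hQp h with h | h
      · exact hjQ Q hQ' h
      rcases Ideal.IsPrime.mem_or_mem hQp h with h | h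
      · exact htQ Q hQ' (Ideal.IsPrime.mem_of_pow_mem hQp N h)
      · haveI := hQp
        obtain ⟨Q'', hQ'', h⟩ := (Ideal.IsPrime.prod_mem_iff).mp h
        exact heQ' Q hQ' Q'' (Finset.mem_of_mem_erase hQ'') (Finset.ne_of_mem_erase hQ'') h
    rw [hsplit]
    by_cases hc : InSq Q c
    · apply not_inSq_add' hQp hc
      intro h
      have h1 : InSq Q (e Q) := InSq.of_mul hQp hu h
      rw [he] at h1
      simp only [if_pos hc] at h1
      exact (hz Q hQ').2.1 h1
    · apply not_inSq_add hQp hc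
      apply InSq.mul_left
      rw [he]
      simp only [if_neg hc]
      rw [pow_two]
      exact inSq_mul hQp (hz Q hQ').1 (hz Q hQ').1

/-- Main technical result: an ideal `K` contained in no height one prime and finitely many height
one primes contain a common nonzero element `f` all of whose minimal primes have multiplicity one. -/
theorem exists_reduced_quotient' {d : ℕ} (hdim : ringKrullDim R = d) (hd : 2 ≤ d)
    (hcat : CAlg.IsCatenary R) (K : Ideal R) (hK0 : ¬ K ≤ ⊥)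
    (hK : ∀ Q : Ideal R, Q.IsPrime → Q.height = 1 → ¬ K ≤ Q)
    (s : Finset (Ideal R)) (hs : ∀ p ∈ s, p.IsPrime ∧ p.height = 1) :
    ∃ f : R, f ≠ 0 ∧ f ∈ maximalIdeal R ∧ f ∈ K ∧ (∀ p ∈ s, f ∈ p) ∧
      (∀ Q ∈ (Ideal.span {f}).minimalPrimes, ¬ InSq Q f) := by
  classical
  have hx : ∀ p : Ideal R, ∃ x : R, p ∈ s → (x ∈ p ∧ x ≠ 0) := by
    intro p
    by_cases hp : p ∈ s
    · obtain ⟨hpp, hp1⟩ := hs p hp
      have hpbot : p ≠ ⊥ := Ideal.ne_bot_of_height_eq_one hp1
      obtain ⟨x, hx, hx0⟩ := Submodule.exists_mem_ne_zero_of_ne_bot hpbot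
      exact ⟨x, fun _ => ⟨hx, hx0⟩⟩
    · exact ⟨0, fun h => absurd h hp⟩
  choose x hx using hx
  have hmbot : maximalIdeal R ≠ ⊥ := by
    intro h
    have h2 := height_maximalIdeal' hdim
    rw [h, height_bot_eq] at h2
    have h3 : d = 0 := by exact_mod_cast h2.symm
    omega
  obtain ⟨t, htm, ht0⟩ := Submodule.exists_mem_ne_zero_of_ne_bot hmbot
  have hKbot : K ≠ ⊥ := fun h => hK0 (h ▸ le_refl _)
  obtain ⟨k₀, hk₀K, hk₀0⟩ := Submodule.exists_mem_ne_zero_of_ne_bot hKbot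
  obtain ⟨f₀, hf₀⟩ : ∃ f₀ : R, f₀ = k₀ * (t * ∏ p ∈ s, x p) := ⟨_, rfl⟩
  have hf₀0 : f₀ ≠ 0 := by
    rw [hf₀]
    exact mul_ne_zero hk₀0
      (mul_ne_zero ht0 (Finset.prod_ne_zero_iff.mpr fun p hp => (hx p hp).2))
  have hf₀m : f₀ ∈ maximalIdeal R := by
    rw [hf₀]
    exact Ideal.mul_mem_left _ _ (Ideal.mul_mem_right _ _ htm)
  have hf₀K : f₀ ∈ K := by
    rw [hf₀]
    exact Ideal.mul_mem_right _ _ hk₀K
  have hf₀s : ∀ p ∈ s, f₀ ∈ p := by
    intro p hp
    rw [hf₀]
    apply Ideal.mul_mem_left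
    apply Ideal.mul_mem_left
    obtain ⟨w, hw⟩ := Finset.dvd_prod_of_mem x hp
    rw [hw]
    exact Ideal.mul_mem_right _ _ (hx p hp).1
  have hmin : ∀ p ∈ minimalPrimes R, f₀ ∉ p := by
    intro p hp
    rw [IsDomain.minimalPrimes_eq_singleton_bot, Set.mem_singleton_iff] at hp
    rw [hp]
    exact fun h => hf₀0 (Ideal.mem_bot.mp h)
  obtain ⟨g, N, hg, -, hpert⟩ := Groth.Agent.S7116.result R d hdim f₀ hf₀m hmin
  obtain ⟨G, hG⟩ : ∃ G : Ideal R, G = Ideal.span (Set.range g) := ⟨_, rfl⟩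
  have hspan : ∀ c : R, Ideal.span (insert c (Set.range g)) = Ideal.span {c} ⊔ G := by
    intro c
    rw [Ideal.span_insert, hG]
  obtain ⟨L, hL⟩ : ∃ L : ℕ∞, L = Module.length R (R ⧸ (Ideal.span {f₀} ⊔ G)) := ⟨_, rfl⟩
  have hcand : ∀ h ∈ maximalIdeal R ^ (N + 1),
      maximalIdeal R ≤ (Ideal.span {f₀ + h} ⊔ G).radical ∧
      L = Module.length R (R ⧸ (Ideal.span {f₀ + h} ⊔ G)) := by
    intro h hh
    have h1 := hpert h (Ideal.pow_le_pow_right (Nat.le_succ N) hh)
    rw [hspan (f₀ + h), hspan f₀] at h1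
    rw [hL]
    exact h1
  have hLtop : L ≠ ⊤ := by
    have h1 := (hcand 0 (Ideal.zero_mem _)).1
    rw [add_zero] at h1
    rw [hL]
    exact length_ne_top_of_sop h1
  have hnotmem : ∀ c : R, maximalIdeal R ≤ (Ideal.span {c} ⊔ G).radical → c ∉ G := by
    intro c hsop
    rw [hG] at hsop ⊢
    exact not_mem_span_of_sop' hdim (by omega) g hg hsop
  by_contra hcon
  push Not at hcon
  have key : ∀ j : ℕ, ∃ h ∈ maximalIdeal R ^ (N + 1), h ∈ K ∧ (∀ p ∈ s, h ∈ p) ∧
      j ≤ (Ideal.span {f₀ + h}).minimalPrimes.ncard := by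
    intro j
    induction j with
    | zero =>
      exact ⟨0, Ideal.zero_mem _, Ideal.zero_mem _, fun p _ => Ideal.zero_mem _, Nat.zero_le _⟩
    | succ j ih =>
      obtain ⟨h, hh, hhK, hhs, hj⟩ := ih
      obtain ⟨hsop, hlen⟩ := hcand h hh
      obtain ⟨c, hc⟩ : ∃ c : R, c = f₀ + h := ⟨_, rfl⟩
      rw [← hc] at hsop hlen hj
      have hcg : c ∉ G := hnotmem c hsop
      have hc0 : c ≠ 0 := fun h0 => hcg (h0 ▸ Ideal.zero_mem _)
      have hcm : c ∈ maximalIdeal R := by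
        rw [hc]
        exact Ideal.add_mem _ hf₀m (Ideal.pow_le_self (Nat.succ_ne_zero N) hh)
      have hcK : c ∈ K := by
        rw [hc]
        exact Ideal.add_mem _ hf₀K hhK
      have hcs : ∀ p ∈ s, c ∈ p := fun p hp => by
        rw [hc]
        exact Ideal.add_mem _ (hf₀s p hp) (hhs p hp)
      obtain ⟨Q₀, hQ₀, hQ₀sq⟩ := hcon c hc0 hcm hcK hcs
      obtain ⟨h', hh', hh'K, hh'Q, hh'sq⟩ :=
        exists_perturbation' hdim hd K hK0 hK hc0 (N + 1)
      have hsum : f₀ + (h + h') = c + h' := by rw [hc]; ring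
      obtain ⟨hsop', hlen'⟩ := hcand (h + h') (Ideal.add_mem _ hh hh')
      rw [hsum] at hsop' hlen'
      have hc'g : c + h' ∉ G := hnotmem (c + h') hsop'
      have hc'0 : c + h' ≠ 0 := fun h0 => hc'g (h0 ▸ Ideal.zero_mem _)
      have hsmin : ∀ p ∈ s, p ∈ (Ideal.span {c}).minimalPrimes := by
        intro p hp
        haveI := (hs p hp).1
        exact mem_minimalPrimes_of_height_eq_one hc0 (hs p hp).2 (hcs p hp)
      refine ⟨h + h', Ideal.add_mem _ hh hh', Ideal.add_mem _ hhK hh'K,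
        fun p hp => Ideal.add_mem _ (hhs p hp) (hh'Q p (hsmin p hp)), ?_⟩
      rw [hsum]
      have hsub : (Ideal.span {c}).minimalPrimes ⊆ (Ideal.span {c + h'}).minimalPrimes := by
        intro Q hQ
        haveI := hQ.1.1
        exact mem_minimalPrimes_of_height_eq_one hc'0 (height_eq_one_of_mem_minimalPrimes hc0 hQ)
          (Ideal.add_mem _ (hQ.1.2 (Ideal.mem_span_singleton_self c)) (hh'Q Q hQ))
      have hne : (Ideal.span {c}).minimalPrimes ≠ (Ideal.span {c + h'}).minimalPrimes := by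
        intro heq
        have hdvd : c + h' ∣ c := by
          apply dvd_of_minimalPrimes_subset hc'0
          · intro Q hQ
            rw [← heq] at hQ
            exact hQ.1.2 (Ideal.mem_span_singleton_self c)
          · intro Q hQ
            rw [← heq] at hQ
            exact hh'sq Q hQ
        obtain ⟨u, hu⟩ := hdvd
        have hum : u ∈ maximalIdeal R := by
          by_contra hnot
          have huu : IsUnit u := by
            by_contra h
            exact hnot ((IsLocalRing.mem_maximalIdeal u).mpr h)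
          obtain ⟨v, hv⟩ := huu.exists_left_inv
          have h1 : c + h' = v * c := by
            calc c + h' = (c + h') * (v * u) := by rw [hv, mul_one]
              _ = v * ((c + h') * u) := by ring
              _ = v * c := by rw [← hu]
          apply hh'sq Q₀ hQ₀
          rw [h1]
          exact InSq.mul_left v hQ₀sq
        have h1 := length_succ_le' G hum hc'g
        rw [← hu, ← hlen', ← hlen] at h1
        exact absurd ((ENat.add_one_le_iff hLtop).mp h1) (lt_irrefl _)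
      have hlt := Set.ncard_lt_ncard (hsub.ssubset_of_ne hne)
        (Ideal.finite_minimalPrimes_of_isNoetherianRing R _)
      omega
  obtain ⟨h, hh, -, hhs, hj⟩ := key (L.toNat + 1)
  obtain ⟨hsop, hlen⟩ := hcand h hh
  have hcg := hnotmem (f₀ + h) hsop
  have hc0 : f₀ + h ≠ 0 := fun h0 => hcg (h0 ▸ Ideal.zero_mem _)
  have hcm : f₀ + h ∈ maximalIdeal R :=
    Ideal.add_mem _ hf₀m (Ideal.pow_le_self (Nat.succ_ne_zero N) hh)
  have hsop2 : maximalIdeal R ≤
      (Ideal.span {f₀ + h} ⊔ Ideal.span (Set.range g)).radical := by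
    rw [← hG]; exact hsop
  have hbound := card_le_length' hdim hcat hc0 hcm g hg hsop2
  rw [← hG, ← hlen] at hbound
  have h1 : (((Ideal.span {f₀ + h}).minimalPrimes.ncard : ℕ) : ℕ∞) ≤ ((L.toNat : ℕ) : ℕ∞) := by
    rw [ENat.natCast_toNat hLtop]
    exact hbound
  have h2 : (Ideal.span {f₀ + h}).minimalPrimes.ncard ≤ L.toNat := by exact_mod_cast h1
  omega

/-- In a catenary Noetherian normal local domain every nonzero radical ideal contains a nonzero
element with reduced quotient. -/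
theorem main (R : Type u) [CommRing R] [IsDomain R] [IsNoetherianRing R]
    [IsLocalRing R] [IsIntegrallyClosed R] (hc : CAlg.IsCatenary R) (J : Ideal R)
    (hJ : J.IsRadical) (hJ0 : J ≠ ⊥) :
    ∃ f ∈ J, f ≠ 0 ∧ IsReduced (R ⧸ Ideal.span {f}) := by
  classical
  by_cases hJtop : J = ⊤
  · refine ⟨1, by rw [hJtop]; trivial, one_ne_zero, ?_⟩
    haveI : Subsingleton (R ⧸ Ideal.span {(1 : R)}) := by
      rw [Ideal.Quotient.subsingleton_iff, Ideal.span_singleton_one]
    exact ⟨fun x _ => Subsingleton.elim _ _⟩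
  have hJm : J ≤ maximalIdeal R := IsLocalRing.le_maximalIdeal hJtop
  have hmbot : maximalIdeal R ≠ ⊥ := fun h => hJ0 (le_bot_iff.mp (h ▸ hJm))
  obtain ⟨d, hd⟩ : ∃ d : ℕ, ringKrullDim R = d := by
    have h := IsLocalRing.maximalIdeal_height_eq_ringKrullDim (R := R)
    have hne : (maximalIdeal R).height ≠ ⊤ := Ideal.height_ne_top Ideal.IsPrime.ne_top'
    obtain ⟨n, hn⟩ := ENat.ne_top_iff_exists.mp hne
    refine ⟨n, ?_⟩
    rw [← h, ← hn]
    rfl
  have hd1 : 1 ≤ d := by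
    by_contra hlt
    have hd0 : d = 0 := by omega
    have h2 := height_maximalIdeal' hd
    rw [hd0] at h2
    exact hmbot (Ideal.height_eq_zero_iff_eq_bot.mp (by exact_mod_cast h2))
  by_cases hd2 : d = 1
  · subst hd2
    have hm1 : (maximalIdeal R).height = 1 := by
      have := height_maximalIdeal' hd
      exact_mod_cast this
    have hprime_eq : ∀ P : Ideal R, P.IsPrime → P ≠ ⊥ → P = maximalIdeal R := by
      intro P hP hP0
      by_contra hne
      have hlt : P < maximalIdeal R :=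
        lt_of_le_of_ne (IsLocalRing.le_maximalIdeal hP.ne_top) hne
      haveI := hP
      have h3 : P.height < (maximalIdeal R).height := Ideal.height_strict_mono_of_isPrime hlt
      rw [hm1, ENat.lt_one_iff_eq_zero, Ideal.height_eq_zero_iff_eq_bot] at h3
      exact hP0 h3
    have hJeq : J = maximalIdeal R := by
      refine le_antisymm hJm ?_
      rw [← hJ.radical, Ideal.radical_eq_sInf]
      refine le_sInf ?_
      rintro P ⟨hJP, hP⟩
      rw [hprime_eq P hP (fun h => hJ0 (le_bot_iff.mp (h ▸ hJP)))]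
    obtain ⟨f, hfm, hfsq⟩ := exists_mem_not_inSq (maximalIdeal R) hm1
    have hf0 : f ≠ 0 := by
      rintro rfl
      exact hfsq ⟨1, fun h => (Ideal.IsPrime.ne_top' : maximalIdeal R ≠ ⊤)
        ((Ideal.eq_top_iff_one _).mpr h), by simp⟩
    refine ⟨f, by rw [hJeq]; exact hfm, hf0, isReduced_quotient_of_not_inSq hf0 ?_⟩
    intro Q hQ
    have hQp := hQ.1.1
    have hQ0 : Q ≠ ⊥ := by
      intro h
      have h1 := hQ.1.2 (Ideal.mem_span_singleton_self f)
      rw [h] at h1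
      exact hf0 (Ideal.mem_bot.mp h1)
    rw [hprime_eq Q hQp hQ0]
    exact hfsq
  have hd2' : 2 ≤ d := by omega
  have hfin := Ideal.finite_minimalPrimes_of_isNoetherianRing R J
  obtain ⟨T, hT⟩ : ∃ T : Finset (Ideal R), T = hfin.toFinset := ⟨_, rfl⟩
  have hTmem : ∀ P, P ∈ T ↔ P ∈ J.minimalPrimes := fun P => by
    rw [hT]; exact hfin.mem_toFinset
  obtain ⟨s₁, hs₁def⟩ : ∃ s₁ : Finset (Ideal R), s₁ = T.filter (fun P => P.height = 1) :=
    ⟨_, rfl⟩
  obtain ⟨T₂, hT₂⟩ : ∃ T₂ : Finset (Ideal R), T₂ = T.filter (fun P => ¬ P.height = 1) :=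
    ⟨_, rfl⟩
  obtain ⟨K, hKdef⟩ : ∃ K : Ideal R, K = T₂.inf id := ⟨_, rfl⟩
  have hJK : J ≤ K := by
    rw [hKdef, Finset.le_inf_iff]
    intro P hP
    rw [hT₂, Finset.mem_filter] at hP
    exact ((hTmem P).mp hP.1).1.2
  have hK0 : ¬ K ≤ ⊥ := fun h => hJ0 (le_bot_iff.mp (hJK.trans h))
  have hK : ∀ Q : Ideal R, Q.IsPrime → Q.height = 1 → ¬ K ≤ Q := by
    intro Q hQp hQ1 hle
    rw [hKdef] at hle
    obtain ⟨P, hP, hPQ⟩ := (Ideal.IsPrime.inf_le' hQp).mp hle
    rw [hT₂, Finset.mem_filter] at hP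
    have hPmin := (hTmem P).mp hP.1
    haveI := hPmin.1.1
    have hPQ' : P ≤ Q := hPQ
    rcases eq_or_lt_of_le hPQ' with heq | hlt
    · exact hP.2 (by rw [heq]; exact hQ1)
    · have h3 : P.height < Q.height := Ideal.height_strict_mono_of_isPrime hlt
      rw [hQ1, ENat.lt_one_iff_eq_zero, Ideal.height_eq_zero_iff_eq_bot] at h3
      have h4 : J ≤ ⊥ := by rw [← h3]; exact hPmin.1.2
      exact hJ0 (le_bot_iff.mp h4)
  have hs₁ : ∀ p ∈ s₁, p.IsPrime ∧ p.height = 1 := by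
    intro p hp
    rw [hs₁def, Finset.mem_filter] at hp
    exact ⟨((hTmem p).mp hp.1).1.1, hp.2⟩
  obtain ⟨f, hf0, hfm, hfK, hfs, hfsq⟩ :=
    exists_reduced_quotient' hd hd2' hc K hK0 hK s₁ hs₁
  refine ⟨f, ?_, hf0, isReduced_quotient_of_not_inSq hf0 hfsq⟩
  rw [← hJ.radical, ← Ideal.sInf_minimalPrimes, Ideal.mem_sInf]
  intro P hP
  have hPT := (hTmem P).mpr hP
  by_cases hP1 : P.height = 1
  · exact hfs P (by rw [hs₁def, Finset.mem_filter]; exact ⟨hPT, hP1⟩)
  · have hKP : K ≤ P := by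
      rw [hKdef]
      exact Finset.inf_le (f := id) (by rw [hT₂, Finset.mem_filter]; exact ⟨hPT, hP1⟩)
    exact hKP hfK

end Main

end Groth.Agent.Lib.R2Lead.ReducedQuotGen
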