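import Mathlib

set_option autoImplicit false
universe u

namespace Groth.Agent.Lib.R2LeadSemiRefl

section Algebra

variable {R R' M M' : Type*} [CommRing R] [CommRing R'] [AddCommGroup M] [AddCommGroup M']
  [Module R M] [Module R' M']

/-- transport of a linear form along a semilinear equivalence. -/
def trDual (σ : R ≃+* R') (φ : M ≃+ M') (h : ∀ r m, φ (r • m) = σ r • φ m)
    (θ : Module.Dual R M) : Module.Dual R' M' where
  toFun m' := σ (θ (φ.symm m'))
  map_add' a b := by rw [map_add, map_add, map_add]
  map_smul' r' m' := by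
    have h1 : φ.symm (r' • m') = σ.symm r' • φ.symm m' := by
      apply φ.injective
      rw [h, AddEquiv.apply_symm_apply, RingEquiv.apply_symm_apply, AddEquiv.apply_symm_apply]
    rw [h1, map_smul, smul_eq_mul, map_mul, RingEquiv.apply_symm_apply]
    rfl

theorem trDual_apply (σ : R ≃+* R') (φ : M ≃+ M') (h : ∀ r m, φ (r • m) = σ r • φ m)
    (θ : Module.Dual R M) (m' : M') : trDual σ φ h θ m' = σ (θ (φ.symm m')) := rfl

theorem symm_smul (σ : R ≃+* R') (φ : M ≃+ M') (h : ∀ r m, φ (r • m) = σ r • φ m)
    (r' : R') (m' : M') : φ.symm (r' • m') = σ.symm r' • φ.symm m' := by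
  apply φ.injective
  rw [h, AddEquiv.apply_symm_apply, RingEquiv.apply_symm_apply, AddEquiv.apply_symm_apply]

/-- reflexivity is transported along a semilinear equivalence. -/
theorem isReflexive_of_semilinear (σ : R ≃+* R') (φ : M ≃+ M')
    (h : ∀ r m, φ (r • m) = σ r • φ m) [hM : Module.IsReflexive R M] :
    Module.IsReflexive R' M' := by
  have h' := symm_smul σ φ h
  refine ⟨⟨?_, ?_⟩⟩
  · rw [injective_iff_map_eq_zero]
    intro m' hm'
    have h0 : Module.Dual.eval R M (φ.symm m') = 0 := by
      apply LinearMap.ext
      intro θ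
      have h1 : Module.Dual.eval R' M' m' (trDual σ φ h θ) = 0 := by rw [hm']; rfl
      change σ (θ (φ.symm m')) = 0 at h1
      change θ (φ.symm m') = 0
      exact (map_eq_zero_iff σ σ.injective).1 h1
    have h2 : φ.symm m' = 0 :=
      (injective_iff_map_eq_zero _).1 hM.bijective_dual_eval'.1 _ h0
    have := congrArg φ h2
    rwa [AddEquiv.apply_symm_apply, map_zero] at this
  · intro ξ'
    let ξ : Module.Dual R (Module.Dual R M) :=
      { toFun := fun θ => σ.symm (ξ' (trDual σ φ h θ))
        map_add' := fun a b => by
          have : trDual σ φ h (a + b) = trDual σ φ h a + trDual σ φ h b := by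
            apply LinearMap.ext
            intro m'
            change σ ((a + b) (φ.symm m')) = σ (a (φ.symm m')) + σ (b (φ.symm m'))
            rw [LinearMap.add_apply, map_add]
          rw [this, map_add, map_add]
        map_smul' := fun r θ => by
          have : trDual σ φ h (r • θ) = σ r • trDual σ φ h θ := by
            apply LinearMap.ext
            intro m'
            change σ ((r • θ) (φ.symm m')) = σ r • σ (θ (φ.symm m'))
            rw [LinearMap.smul_apply, smul_eq_mul, map_mul, smul_eq_mul]
          rw [this, map_smul, smul_eq_mul, map_mul, RingEquiv.symm_apply_apply]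
          rfl }
    obtain ⟨m, hm⟩ := hM.bijective_dual_eval'.2 ξ
    refine ⟨φ m, ?_⟩
    apply LinearMap.ext
    intro θ'
    let θ : Module.Dual R M :=
      { toFun := fun m => σ.symm (θ' (φ m))
        map_add' := fun a b => by rw [map_add, map_add, map_add]
        map_smul' := fun r a => by
          rw [h, map_smul, smul_eq_mul, map_mul, RingEquiv.symm_apply_apply]
          rfl }
    have hθ : trDual σ φ h θ = θ' := by
      apply LinearMap.ext
      intro m'
      change σ (σ.symm (θ' (φ (φ.symm m')))) = θ' m'
      rw [RingEquiv.apply_symm_apply, AddEquiv.apply_symm_apply]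
    have h3 : ξ θ = θ m := by rw [← hm]; rfl
    change θ' (φ m) = ξ' θ'
    have h4 : ξ θ = σ.symm (ξ' (trDual σ φ h θ)) := rfl
    rw [hθ] at h4
    have h5 : θ m = σ.symm (θ' (φ m)) := rfl
    rw [h4, h5] at h3
    exact (σ.symm.injective h3).symm

end Algebra

end Groth.Agent.Lib.R2LeadSemiRefl
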