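import Mathlib
import Groth.Prelude.Def_RefHull
import Groth.Agent.Lib.R2LeadSemiRefl
import Groth.Agent.Lib.Helper2QCoh

set_option autoImplicit false
set_option linter.style.haveILetI false
universe u

open AlgebraicGeometry CategoryTheory TopologicalSpace Opposite

namespace Groth.Agent.Lib.R2LeadRestrStalk

variable {X : Scheme.{u}}

/-- the ring isomorphism `O_{X, y} ≃ O_{U, y}` for `y ∈ U`. -/
noncomputable def stalkRingEquiv (U : X.Opens) (y : ↥U) :
    X.presheaf.stalk (U.ι y) ≃+* (↑U : Scheme.{u}).presheaf.stalk y :=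
  RingEquiv.ofBijective (U.ι.stalkMap y).hom
    (ConcreteCategory.bijective_of_isIso (U.ι.stalkMap y))

theorem stalkRingEquiv_germ (U : X.Opens) (y : ↥U) (V : (↑U : Scheme.{u}).Opens) (hy : y ∈ V)
    (r : Γ(↑U, V)) :
    stalkRingEquiv U y (X.presheaf.germ (U.ι ''ᵁ V) (U.ι y) ⟨y, hy, rfl⟩ ((U.ι.appIso V).inv r)) =
      (↑U : Scheme.{u}).presheaf.germ V y hy r := by
  change (U.ι.stalkMap y).hom _ = _
  rw [Scheme.Hom.germ_stalkMap_apply, Scheme.Hom.appIso_inv_app_apply]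
  exact TopCat.Presheaf.germ_res_apply (↑U : Scheme.{u}).presheaf _ y _ r

/-- the additive isomorphism `(L|_U)_y ≃ L_y`. -/
noncomputable def stalkAddEquiv (L : X.Modules) (U : X.Opens) (y : ↥U) :
    (L.restrict U.ι).presheaf.stalk y ≃+ L.presheaf.stalk (U.ι y) :=
  AddEquiv.ofBijective ((Scheme.Modules.restrictStalkNatIso U.ι y).hom.app L).hom
    (ConcreteCategory.bijective_of_isIso ((Scheme.Modules.restrictStalkNatIso U.ι y).hom.app L))

theorem stalkAddEquiv_germ (L : X.Modules) (U : X.Opens) (y : ↥U)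
    (V : (↑U : Scheme.{u}).Opens) (hy : y ∈ V) (t : Γ(L.restrict U.ι, V)) :
    stalkAddEquiv L U y ((L.restrict U.ι).presheaf.germ V y hy t) =
      L.presheaf.germ (U.ι ''ᵁ V) (U.ι y) ⟨y, hy, rfl⟩ (t : Γ(L, U.ι ''ᵁ V)) :=
  ConcreteCategory.congr_hom (Scheme.Modules.germ_restrictStalkNatIso_hom_app U.ι y L hy) t

theorem stalkAddEquiv_smul (L : X.Modules) (U : X.Opens) (y : ↥U)
    (c : (↑U : Scheme.{u}).presheaf.stalk y) (v : (L.restrict U.ι).presheaf.stalk y) :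
    stalkAddEquiv L U y (c • v) = (stalkRingEquiv U y).symm c • stalkAddEquiv L U y v := by
  obtain ⟨V₁, hyV₁, r, rfl⟩ := (↑U : Scheme.{u}).presheaf.exists_germ_eq c
  obtain ⟨W, hy, t, rfl⟩ := TopCat.Presheaf.exists_germ_eq (L.restrict U.ι).presheaf v
  have hyV₂ : y ∈ V₁ ⊓ W := ⟨hyV₁, hy⟩
  let r₂ : Γ(↑U, V₁ ⊓ W) := (↑U : Scheme.{u}).presheaf.map (homOfLE inf_le_left).op r
  let t₂ : Γ(L.restrict U.ι, V₁ ⊓ W) := (L.restrict U.ι).presheaf.map (homOfLE inf_le_right).op t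
  have hr₂ : (↑U : Scheme.{u}).presheaf.germ (V₁ ⊓ W) y hyV₂ r₂ =
      (↑U : Scheme.{u}).presheaf.germ V₁ y hyV₁ r :=
    TopCat.Presheaf.germ_res_apply (↑U : Scheme.{u}).presheaf (homOfLE inf_le_left) y hyV₂ r
  have ht₂ : (L.restrict U.ι).presheaf.germ (V₁ ⊓ W) y hyV₂ t₂ =
      (L.restrict U.ι).presheaf.germ W y hy t :=
    TopCat.Presheaf.germ_res_apply (L.restrict U.ι).presheaf (homOfLE inf_le_right) y hyV₂ t
  rw [← hr₂, ← ht₂, ← Groth.Agent.Lib.Helper2.QCoh.germ_smul, stalkAddEquiv_germ,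
    stalkAddEquiv_germ, ← stalkRingEquiv_germ, RingEquiv.symm_apply_apply]
  let t₂' : Γ(L, U.ι ''ᵁ (V₁ ⊓ W)) := t₂
  let rt : Γ(L, U.ι ''ᵁ (V₁ ⊓ W)) := (r₂ • t₂ : Γ(L.restrict U.ι, V₁ ⊓ W))
  have h3 : rt = ((U.ι.appIso (V₁ ⊓ W)).inv r₂ • t₂') := rfl
  change L.presheaf.germ (U.ι ''ᵁ (V₁ ⊓ W)) (U.ι y) ⟨y, hyV₂, rfl⟩ rt = _
  rw [h3, Groth.Agent.Lib.Helper2.QCoh.germ_smul]

/-- reflexivity of the stalk of a restriction to an open. -/
theorem isReflexive_stalk_restrict_iff (L : X.Modules) (U : X.Opens) (y : ↥U) :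
    Module.IsReflexive ((↑U : Scheme.{u}).presheaf.stalk y) ((L.restrict U.ι).presheaf.stalk y) ↔
      Module.IsReflexive (X.presheaf.stalk (U.ι y)) (L.presheaf.stalk (U.ι y)) := by
  constructor
  · intro h
    exact Groth.Agent.Lib.R2LeadSemiRefl.isReflexive_of_semilinear (stalkRingEquiv U y).symm
      (stalkAddEquiv L U y) (stalkAddEquiv_smul L U y)
  · intro h
    refine Groth.Agent.Lib.R2LeadSemiRefl.isReflexive_of_semilinear (stalkRingEquiv U y)
      (stalkAddEquiv L U y).symm (fun r m => ?_)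
    have := Groth.Agent.Lib.R2LeadSemiRefl.symm_smul (stalkRingEquiv U y).symm
      (stalkAddEquiv L U y) (stalkAddEquiv_smul L U y) r m
    rw [RingEquiv.symm_symm] at this
    exact this

end Groth.Agent.Lib.R2LeadRestrStalk
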