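import Mathlib
import Groth.Prelude.Def_RefHull
import Groth.Agent.Lib.R2LeadRestrStalk
import Groth.Agent.S2252
import Groth.Agent.Lib.R2LeadQGorHart
import Groth.Agent.Lib.R2LeadLFHart
import Groth.Agent.Lib.R2LeadExtReg
import Groth.Agent.Lib.R2LeadReflC
import Groth.Agent.Lib.R2LeadHartE
import Groth.Agent.Lib.H9QCohNoeth

set_option autoImplicit false
set_option linter.style.haveILetI false
universe u

open AlgebraicGeometry CategoryTheory CategoryTheory.Limits TopologicalSpace Opposite RefHull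

namespace Groth.Agent.Lib.R2LeadReflExt

variable {X : Scheme.{u}}

open Groth.Agent.Lib.Helper20.ZClosLib Groth.Agent.Lib.R2Lead.ReflB

/-- isomorphic modules have linearly equivalent stalks; reflexivity transfers. -/
theorem isReflexive_stalk_of_iso {M N : X.Modules} (e : M ≅ N) (x : X)
    (h : Module.IsReflexive (X.presheaf.stalk x) (M.presheaf.stalk x)) :
    Module.IsReflexive (X.presheaf.stalk x) (N.presheaf.stalk x) := by
  have hb : Function.Bijective (stalkMapₗ e.hom x) :=
    (isIso_iff_stalk_bijective e.hom).1 inferInstance x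
  exact Module.equiv (LinearEquiv.ofBijective (stalkMapₗ e.hom x) hb)

/-- every point of a locally Noetherian scheme has a Noetherian open neighbourhood. -/
theorem exists_noetherianSpace_nhds [IsLocallyNoetherian X] (x : X) :
    ∃ W : X.Opens, x ∈ W ∧ TopologicalSpace.NoetherianSpace (W : Set X) := by
  obtain ⟨W, hW, hxW, -⟩ := exists_isAffineOpen_mem_and_subset (x := x) (U := ⊤) trivial
  refine ⟨W, hxW, ?_⟩
  haveI : IsAffine (W : Scheme.{u}) := hW
  haveI : IsNoetherian (W : Scheme.{u}) := {}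
  exact inferInstanceAs (TopologicalSpace.NoetherianSpace ↥(W : Scheme.{u}))

theorem partA [IsIntegral X] [IsLocallyNoetherian X] (U : X.Opens)
    (hU : ∀ x : ↥X, x ∉ U → (2 : ℕ∞) ≤ LocCoh.depth (X.presheaf.stalk x) (X.presheaf.stalk x))
    (F : X.Modules) (hF : Coh.IsCoh F)
    (hr : ∀ x : ↥X, Module.IsReflexive (X.presheaf.stalk x) (F.presheaf.stalk x)) :
    IsIso ((Scheme.Modules.restrictAdjunction U.ι).unit.app F) := by
  have h10 : (∀ x : ↥X, RefHull.IsReflexiveAt F x) → RefHull.IsReflexive F :=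
    ((tfae F hF).out 1 0).1
  exact Groth.Agent.Lib.R2LeadLFHart.isIso_unit_of_isReflexive U hU F (h10 hr)

theorem partB [IsIntegral X] [IsLocallyNoetherian X] (U : X.Opens)
    (hU : ∀ x : ↥X, x ∉ U → (2 : ℕ∞) ≤ LocCoh.depth (X.presheaf.stalk x) (X.presheaf.stalk x))
    (G : (U : Scheme.{u}).Modules) (hG : Coh.IsCoh G)
    (hr : ∀ x : ↥(U : Scheme.{u}), Module.IsReflexive ((U : Scheme.{u}).presheaf.stalk x)
      (G.presheaf.stalk x)) :
    Coh.IsCoh ((Scheme.Modules.pushforward U.ι).obj G) ∧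
      (∀ x : ↥X, Module.IsReflexive (X.presheaf.stalk x)
        (((Scheme.Modules.pushforward U.ι).obj G).presheaf.stalk x)) := by
  haveI : Coh.IsQCoh G := hG.1
  obtain ⟨G', hq, hft, ⟨e⟩⟩ := Groth.Agent.S2252.result exists_noetherianSpace_nhds U G hG.2
  have hG' : Coh.IsCoh G' := ⟨hq, hft⟩
  have hEcoh : Coh.IsCoh (RefHull.ddual G') := isCoh_dual (dual G') (isCoh_dual G' hG')
  have hErefl : RefHull.IsReflexive (RefHull.ddual G') :=
    Groth.Agent.Lib.R2Lead.ReflC.isReflexive_homSh (dual G') (Coh.structureModule X)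
      (isCoh_dual G' hG') (isCoh_structureModule X)
      Groth.Agent.Lib.R2LeadExtReg.isReflexive_structureModule
  have hbij : ∀ x ∈ U, Function.Bijective ((stalkF x).map (bidualMap G')) := by
    intro x hx
    have h1 : Module.IsReflexive ((U : Scheme.{u}).presheaf.stalk ⟨x, hx⟩)
        ((G'.restrict U.ι).presheaf.stalk ⟨x, hx⟩) :=
      isReflexive_stalk_of_iso e.symm ⟨x, hx⟩ (hr ⟨x, hx⟩)
    have h2 : RefHull.IsReflexiveAt G' x :=
      (Groth.Agent.Lib.R2LeadRestrStalk.isReflexive_stalk_restrict_iff G' U ⟨x, hx⟩).1 h1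
    exact (isReflexiveAt_iff G' hG' x).1 h2
  haveI := Groth.Agent.Lib.R2LeadExtReg.isIso_restrict_map_of_stalk_bijective (bidualMap G') U hbij
  haveI := Groth.Agent.Lib.R2LeadQGorHart.isIso_unit_ddual U hU G'
  let ε : G'.restrict U.ι ≅ (RefHull.ddual G').restrict U.ι :=
    asIso ((Scheme.Modules.restrictFunctor U.ι).map (bidualMap G'))
  let κ : (Scheme.Modules.pushforward U.ι).obj G ≅ RefHull.ddual G' :=
    (Scheme.Modules.pushforward U.ι).mapIso (e.symm ≪≫ ε) ≪≫
      (asIso ((Scheme.Modules.restrictAdjunction U.ι).unit.app (RefHull.ddual G'))).symm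
  refine ⟨Groth.Agent.Lib.H9QCohNoeth.isCoh_of_iso κ.symm hEcoh, fun x => ?_⟩
  exact isReflexive_stalk_of_iso κ.symm x
    (Groth.Agent.Lib.R2LeadHartE.reflexive_stalks _ hEcoh hErefl x)

end Groth.Agent.Lib.R2LeadReflExt
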