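import Mathlib
import Groth.Prelude.Def_CAlgX
import Groth.Agent.Lib.Helper10Tensor

/-! Formal smoothness of a local algebra from formal smoothness of a quotient by an
`H_1`-regular sequence (lead). -/

set_option autoImplicit false
universe u

namespace Groth.Agent.Lib.R2LeadRegIdA

open TensorProduct KaehlerDifferential Algebra Module IsLocalRing

section Lift

variable {P C : Type u} [CommRing P] [CommRing C] [Algebra P C]

/-- lifting a combination of trivial relations to an honest relation upstairs. -/
theorem exists_lift_relation (hPC : Function.Surjective (algebraMap P C)) {c : ℕ}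
    (fs : Fin c → C) (ft : Fin c → P) (hft : ∀ j, algebraMap P C (ft j) = fs j)
    (v : Fin c → C)
    (hv : v ∈ Submodule.span C
      {v : Fin c → C | ∃ i j : Fin c, v = Pi.single i (fs j) - Pi.single j (fs i)}) :
    ∃ w : Fin c → P, (∀ i, algebraMap P C (w i) = v i) ∧ ∑ i, w i * ft i = 0 := by
  classical
  induction hv using Submodule.span_induction with
  | mem x hx =>
    obtain ⟨i, j, rfl⟩ := hx
    refine ⟨Pi.single i (ft j) - Pi.single j (ft i), fun l => ?_, ?_⟩
    · simp only [Pi.sub_apply, map_sub, Pi.single_apply]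
      split_ifs <;> simp [hft]
    · simp only [Pi.sub_apply, sub_mul, Finset.sum_sub_distrib, Pi.single_apply, ite_mul,
        zero_mul, Finset.sum_ite_eq', Finset.mem_univ, if_true]
      ring
  | zero => exact ⟨0, by simp, by simp⟩
  | add x y _ _ hx hy =>
    obtain ⟨w1, h1, h1'⟩ := hx
    obtain ⟨w2, h2, h2'⟩ := hy
    exact ⟨w1 + w2, fun i => by simp [h1, h2],
      by simp [add_mul, Finset.sum_add_distrib, h1', h2']⟩
  | smul a x _ hx =>
    obtain ⟨w, h1, h2⟩ := hx
    obtain ⟨a', rfl⟩ := hPC a
    exact ⟨a' • w, fun i => by simp [h1],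
      by simp [mul_assoc, ← Finset.mul_sum, h2]⟩

end Lift

variable {R P C B : Type u} [CommRing R] [CommRing P] [CommRing C] [CommRing B]
  [Algebra R P] [Algebra R C] [Algebra R B] [Algebra P C] [Algebra P B] [Algebra C B]
  [IsScalarTower R P C] [IsScalarTower R P B] [IsScalarTower P C B]
  [IsLocalRing C] [IsLocalRing B]
  [Algebra.FormallySmooth R P] [Module.Free P Ω[P⁄R]] [Module.Finite P Ω[P⁄R]]

/-- If `B = C/(f)` with `f` an `H_1`-regular sequence and `B` is formally smooth over `R`, then so
is `C` (`C` a local quotient, by a finitely generated ideal, of a formally smooth `R`-algebra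
`P` with finite free differentials). -/
theorem formallySmooth_of_quotient
    (hPC : Function.Surjective (algebraMap P C)) (hCB : Function.Surjective (algebraMap C B))
    (hK : (RingHom.ker (algebraMap P C)).FG)
    {c : ℕ} (fs : Fin c → C) (hker : RingHom.ker (algebraMap C B) = Ideal.span (Set.range fs))
    (hH1 : CAlgX.IsH1Regular fs) [Algebra.FormallySmooth R B] : Algebra.FormallySmooth R C := by
  classical
  have hPB : Function.Surjective (algebraMap P B) := by
    rw [IsScalarTower.algebraMap_eq P C B]
    exact hCB.comp hPC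
  choose ft hft using fun j => hPC (fs j)
  have hKB : RingHom.ker (algebraMap P B) =
      RingHom.ker (algebraMap P C) ⊔ Ideal.span (Set.range ft) := by
    rw [IsScalarTower.algebraMap_eq P C B, ← RingHom.comap_ker, hker]
    have : Ideal.span (Set.range fs) = (Ideal.span (Set.range ft)).map (algebraMap P C) := by
      rw [Ideal.map_span, ← Set.range_comp]
      congr 2
      funext j
      exact (hft j).symm
    rw [this, Ideal.comap_map_of_surjective _ hPC, RingHom.ker_eq_comap_bot, sup_comm]
  have hKBfg : (RingHom.ker (algebraMap P B)).FG := by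
    rw [hKB]
    exact Submodule.FG.sup hK (Submodule.fg_span (Set.finite_range ft))
  have h₃C : maximalIdeal C ≤ RingHom.ker (algebraMap C (ResidueField B)) := by
    intro x hx
    haveI := IsLocalHom.of_surjective (algebraMap C B) hCB
    rw [RingHom.mem_ker, IsScalarTower.algebraMap_apply C B (ResidueField B),
      ResidueField.algebraMap_eq, residue_eq_zero_iff]
    exact map_nonunit _ _ hx
  have h₃B : maximalIdeal B ≤ RingHom.ker (algebraMap B (ResidueField B)) := by
    rw [ResidueField.algebraMap_eq, ker_residue]
  rw [Algebra.FormallySmooth.iff_injective_cotangentComplexBaseChange P (ResidueField B) hPC hK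
    h₃C]
  have hB := (Algebra.FormallySmooth.iff_injective_cotangentComplexBaseChange (R := R) P
    (ResidueField B) hPB hKBfg h₃B).mp inferInstance
  rw [injective_iff_map_eq_zero]
  intro z hz
  have hκ : Function.Surjective (algebraMap P (ResidueField B)) := by
    rw [IsScalarTower.algebraMap_eq P B (ResidueField B)]
    exact residue_surjective.comp hPB
  obtain ⟨k, rfl⟩ := Groth.Agent.Lib.Helper10.exists_one_tmul_eq_of_surjective hκ z
  rw [cotangentComplexBaseChange_tmul, one_smul] at hz
  have hkB : k.1 ∈ RingHom.ker (algebraMap P B) := by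
    rw [hKB]
    exact Ideal.mem_sup_left k.2
  have h1 : (1 : ResidueField B) ⊗ₜ[P] (⟨k.1, hkB⟩ : RingHom.ker (algebraMap P B)) = 0 := by
    apply hB
    rw [map_zero, cotangentComplexBaseChange_tmul, one_smul]
    exact hz
  rw [Groth.Agent.Lib.Helper10.one_tmul_eq_zero_iff_of_surjective hκ] at h1 ⊢
  set M := RingHom.ker (algebraMap P (ResidueField B)) with hM
  rw [Submodule.mem_smul_top_iff] at h1 ⊢
  change k.1 ∈ M • RingHom.ker (algebraMap P B) at h1
  rw [hKB, Submodule.smul_sup] at h1
  obtain ⟨a, ha, b, hb, hab⟩ := Submodule.mem_sup.mp h1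
  obtain ⟨α, hα, hαb⟩ := (Submodule.mem_ideal_smul_span_iff_exists_sum M ft b).mp hb
  replace hαb : ∑ i, α i • ft i = b := by
    rw [← hαb]
    exact (Finsupp.sum_fintype α (fun i c => c • ft i) (fun i => zero_smul _ _)).symm
  -- `b` lies in the kernel of `P → C`
  have haK : a ∈ RingHom.ker (algebraMap P C) := Submodule.smul_le_right ha
  have hbK : b ∈ RingHom.ker (algebraMap P C) := by
    have : b = k.1 - a := by rw [← hab]; ring
    rw [this]
    exact Ideal.sub_mem _ k.2 haK
  have hrel : ∑ i, (fun i => algebraMap P C (α i)) i * fs i = 0 := by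
    have := hbK
    rw [RingHom.mem_ker, ← hαb, map_sum] at this
    simpa [smul_eq_mul, map_mul, hft] using this
  obtain ⟨w, hw, hw0⟩ := exists_lift_relation hPC fs ft hft _ (hH1 _ hrel)
  have hftM : ∀ i, ft i ∈ M := by
    intro i
    rw [hM, RingHom.mem_ker, IsScalarTower.algebraMap_apply P C (ResidueField B), hft,
      IsScalarTower.algebraMap_apply C B (ResidueField B)]
    have : fs i ∈ RingHom.ker (algebraMap C B) := by
      rw [hker]
      exact Ideal.subset_span (Set.mem_range_self i)
    rw [RingHom.mem_ker.mp this, map_zero]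
  have hb' : b = ∑ i, ft i • (α i - w i) := by
    rw [← hαb]
    simp only [smul_eq_mul]
    rw [← sub_eq_zero, ← Finset.sum_sub_distrib, ← hw0]
    refine Finset.sum_congr rfl fun i _ => ?_
    ring
  rw [← hab]
  refine Submodule.add_mem _ ha ?_
  rw [hb']
  refine Submodule.sum_mem _ fun i _ => Submodule.smul_mem_smul (hftM i) ?_
  rw [RingHom.mem_ker, map_sub, hw, sub_self]

end Groth.Agent.Lib.R2LeadRegIdA
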