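import Mathlib
import Groth.Agent.Lib.R2LeadRegIdA
import Groth.Agent.Lib.H9RegImmPres
import Groth.Agent.Lib.Helper6OmProjA

/-! Chart-level form: smoothness at a prime of `C₀` from smoothness at the corresponding prime of a
quotient `B₀` whose kernel is locally generated by an `H_1`-regular sequence (lead). -/

set_option autoImplicit false
universe u

namespace Groth.Agent.Lib.R2LeadRegIdB

open TensorProduct KaehlerDifferential Algebra Module IsLocalRing

variable {A C₀ B₀ : Type u} [CommRing A] [CommRing C₀] [CommRing B₀] [Algebra A C₀] [Algebra A B₀]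
  (φ : C₀ →ₐ[A] B₀) (hφ : Function.Surjective φ) [Algebra.FinitePresentation A C₀]
  (q : Ideal B₀) [q.IsPrime]

include hφ in
theorem isSmoothAt_comap {c : ℕ} (fs : Fin c → Localization.AtPrime (q.comap φ.toRingHom))
    (hker : RingHom.ker (Localization.localRingHom (q.comap φ.toRingHom) q φ.toRingHom rfl) =
      Ideal.span (Set.range fs))
    (hH1 : CAlgX.IsH1Regular fs) [Algebra.IsSmoothAt A q] :
    Algebra.IsSmoothAt A (q.comap φ.toRingHom) := by
  classical
  obtain ⟨n, π, hπ, hπfg⟩ := Algebra.FinitePresentation.out (R := A) (A := C₀)
  set q' : Ideal C₀ := q.comap φ.toRingHom with hq'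
  set Q : Ideal (MvPolynomial (Fin n) A) := q'.comap π.toRingHom with hQ
  haveI : Q.IsPrime := Ideal.comap_isPrime _ _
  let ψ₁ : Localization.AtPrime Q →+* Localization.AtPrime q' :=
    Localization.localRingHom Q q' π.toRingHom rfl
  let ψ₂ : Localization.AtPrime q' →+* Localization.AtPrime q :=
    Localization.localRingHom q' q φ.toRingHom rfl
  letI : Algebra (Localization.AtPrime Q) (Localization.AtPrime q') := ψ₁.toAlgebra
  letI : Algebra (Localization.AtPrime q') (Localization.AtPrime q) := ψ₂.toAlgebra
  letI : Algebra (Localization.AtPrime Q) (Localization.AtPrime q) := (ψ₂.comp ψ₁).toAlgebra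
  haveI : IsScalarTower (Localization.AtPrime Q) (Localization.AtPrime q')
      (Localization.AtPrime q) := IsScalarTower.of_algebraMap_eq fun _ => rfl
  haveI t1 : IsScalarTower A (Localization.AtPrime Q) (Localization.AtPrime q') :=
    IsScalarTower.of_algebraMap_eq fun r => by
      change _ = ψ₁ _
      rw [IsScalarTower.algebraMap_apply A (MvPolynomial (Fin n) A) (Localization.AtPrime Q),
        Localization.localRingHom_to_map,
        IsScalarTower.algebraMap_apply A C₀ (Localization.AtPrime q')]
      congr 1
      exact (π.commutes r).symm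
  haveI t2 : IsScalarTower A (Localization.AtPrime q') (Localization.AtPrime q) :=
    IsScalarTower.of_algebraMap_eq fun r => by
      change _ = ψ₂ _
      rw [IsScalarTower.algebraMap_apply A C₀ (Localization.AtPrime q'),
        Localization.localRingHom_to_map,
        IsScalarTower.algebraMap_apply A B₀ (Localization.AtPrime q)]
      congr 1
      exact (φ.commutes r).symm
  haveI : IsScalarTower A (Localization.AtPrime Q) (Localization.AtPrime q) :=
    IsScalarTower.of_algebraMap_eq fun r => by
      change _ = ψ₂ (ψ₁ _)
      have h1 : algebraMap A (Localization.AtPrime q') r =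
          ψ₁ (algebraMap A (Localization.AtPrime Q) r) :=
        IsScalarTower.algebraMap_apply A (Localization.AtPrime Q) (Localization.AtPrime q') r
      have h2 : algebraMap A (Localization.AtPrime q) r =
          ψ₂ (algebraMap A (Localization.AtPrime q') r) :=
        IsScalarTower.algebraMap_apply A (Localization.AtPrime q') (Localization.AtPrime q) r
      rw [← h1, ← h2]
  have hPC : Function.Surjective
      (algebraMap (Localization.AtPrime Q) (Localization.AtPrime q')) :=
    Groth.Agent.Lib.Helper6.OmProj.localRingHom_surjective π.toRingHom hπ q' Q rfl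
  have hCB : Function.Surjective
      (algebraMap (Localization.AtPrime q') (Localization.AtPrime q)) :=
    Groth.Agent.Lib.Helper6.OmProj.localRingHom_surjective φ.toRingHom hφ q q' rfl
  have hK : (RingHom.ker (algebraMap (Localization.AtPrime Q) (Localization.AtPrime q'))).FG := by
    change (RingHom.ker ψ₁).FG
    rw [Groth.Agent.Lib.H9RegImmPres.ker_localRingHom π.toRingHom hπ q' Q rfl]
    exact hπfg.map _
  haveI : Algebra.FormallySmooth (MvPolynomial (Fin n) A) (Localization.AtPrime Q) :=
    Algebra.FormallySmooth.of_isLocalization Q.primeCompl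
  haveI : Algebra.FormallySmooth A (Localization.AtPrime Q) :=
    Algebra.FormallySmooth.comp A (MvPolynomial (Fin n) A) (Localization.AtPrime Q)
  haveI : Algebra.FormallyEtale (MvPolynomial (Fin n) A) (Localization.AtPrime Q) :=
    Algebra.FormallyEtale.of_isLocalization Q.primeCompl
  let bP : Basis (Fin n) (Localization.AtPrime Q) Ω[Localization.AtPrime Q⁄A] :=
    ((KaehlerDifferential.mvPolynomialBasis A (Fin n)).baseChange (Localization.AtPrime Q)).map
      (KaehlerDifferential.tensorKaehlerEquivOfFormallyEtale A (MvPolynomial (Fin n) A)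
        (Localization.AtPrime Q))
  haveI : Module.Free (Localization.AtPrime Q) Ω[Localization.AtPrime Q⁄A] :=
    Module.Free.of_basis bP
  haveI : Module.Finite (Localization.AtPrime Q) Ω[Localization.AtPrime Q⁄A] :=
    Module.Finite.of_basis bP
  haveI : Algebra.FormallySmooth A (Localization.AtPrime q) := ‹Algebra.IsSmoothAt A q›
  exact Groth.Agent.Lib.R2LeadRegIdA.formallySmooth_of_quotient
    (R := A) (P := Localization.AtPrime Q) (C := Localization.AtPrime q')
    (B := Localization.AtPrime q) hPC hCB hK fs hker hH1

end Groth.Agent.Lib.R2LeadRegIdB
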