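import Mathlib
import Groth.Agent.Lib.R2LeadRegIdB
import Groth.Agent.Lib.H9RegImmFlatBC

/-! Scheme-level form: a closed subscheme smooth at `x` whose ideal is `H_1`-regular at `x`
forces the ambient scheme to be smooth at `x` (lead). -/

set_option autoImplicit false
universe u

namespace Groth.Agent.Lib.R2LeadRegIdC

open AlgebraicGeometry CategoryTheory

theorem ker_eq_span_of_comm {R₁ R₂ S₁ S₂ : Type*} [CommRing R₁] [CommRing R₂] [CommRing S₁]
    [CommRing S₂] (g₁ : R₁ →+* S₁) (g₂ : R₂ →+* S₂) (e₁ : R₁ ≃+* R₂) (e₂ : S₁ ≃+* S₂)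
    (hcomm : ∀ r, g₂ (e₁ r) = e₂ (g₁ r)) {c : ℕ} (fs : Fin c → R₁)
    (h : RingHom.ker g₁ = Ideal.span (Set.range fs)) :
    RingHom.ker g₂ = Ideal.span (Set.range (e₁ ∘ fs)) := by
  have h1 : RingHom.ker g₂ = (RingHom.ker g₁).map (e₁ : R₁ →+* R₂) := by
    ext y
    obtain ⟨r, rfl⟩ := e₁.surjective y
    rw [RingHom.mem_ker, hcomm, map_eq_zero_iff _ e₂.injective]
    constructor
    · intro hr
      exact Ideal.mem_map_of_mem _ (RingHom.mem_ker.mpr hr)
    · intro hr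
      obtain ⟨r', hr', hrr⟩ := (Ideal.mem_map_of_equiv e₁ _).mp hr
      have : r' = r := e₁.injective hrr
      rw [← this]
      exact RingHom.mem_ker.mp hr'
  rw [h1, h, Ideal.map_span, Set.range_comp]
  rfl

section

variable {A C₀ B₀ : Type u} [CommRing A] [CommRing C₀] [CommRing B₀] [Algebra A C₀] [Algebra A B₀]
  (φ : C₀ →ₐ[A] B₀) (hφ : Function.Surjective φ) [Algebra.FinitePresentation A C₀]
  (q : Ideal B₀) [q.IsPrime]

include hφ in
theorem isSmoothAt_of_eq (q' : Ideal C₀) [q'.IsPrime] (h : q' = q.comap φ.toRingHom) {c : ℕ}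
    (fs : Fin c → Localization.AtPrime q')
    (hker : RingHom.ker (Localization.localRingHom q' q φ.toRingHom h) =
      Ideal.span (Set.range fs))
    (hH1 : CAlgX.IsH1Regular fs) [Algebra.IsSmoothAt A q] :
    Algebra.IsSmoothAt A q' := by
  subst h
  exact Groth.Agent.Lib.R2LeadRegIdB.isSmoothAt_comap φ hφ q fs hker hH1

end

theorem mem_smoothLocus_of_h1Regular {X S Y : Scheme.{u}} (f : X ⟶ S)
    [LocallyOfFinitePresentation f] (ι : Y ⟶ X) [IsClosedImmersion ι]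
    [LocallyOfFinitePresentation (ι ≫ f)] (x : Y)
    (hY : x ∈ (ι ≫ f).smoothLocus) {c : ℕ} (fs : Fin c → X.presheaf.stalk (ι x))
    (hker : RingHom.ker (ι.stalkMap x).hom = Ideal.span (Set.range fs))
    (hH1 : CAlgX.IsH1Regular fs) : ι x ∈ f.smoothLocus := by
  obtain ⟨_, ⟨V, hV, rfl⟩, hsV, -⟩ :=
    S.isBasis_affineOpens.exists_subset_of_mem_open (Set.mem_univ (f (ι x))) isOpen_univ
  obtain ⟨_, ⟨U, hU, rfl⟩, hxU, hUV'⟩ :=
    X.isBasis_affineOpens.exists_subset_of_mem_open (show ι x ∈ f ⁻¹ᵁ V from hsV) (f ⁻¹ᵁ V).2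
  have hUV : U ≤ f ⁻¹ᵁ V := hUV'
  set W : Y.Opens := ι ⁻¹ᵁ U with hWdef
  have hW : IsAffineOpen W := hU.preimage ι
  have hWV : W ≤ (ι ≫ f) ⁻¹ᵁ V := fun t ht => hUV ht
  have hxW : x ∈ W := hxU
  letI : Algebra Γ(S, V) Γ(X, U) := (f.appLE V U hUV).hom.toAlgebra
  letI : Algebra Γ(S, V) Γ(Y, W) := ((ι ≫ f).appLE V W hWV).hom.toAlgebra
  haveI : Algebra.FinitePresentation Γ(S, V) Γ(X, U) := f.finitePresentation_appLE hV hU hUV
  have hcomp : (ι ≫ f).appLE V W hWV = f.appLE V U hUV ≫ ι.appLE U W le_rfl := by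
    rw [Scheme.Hom.appLE_comp_appLE]
  let φ : Γ(X, U) →ₐ[Γ(S, V)] Γ(Y, W) :=
    { (ι.appLE U W le_rfl).hom with
      commutes' := fun r => by
        change (ι.appLE U W le_rfl).hom ((f.appLE V U hUV).hom r) =
          ((ι ≫ f).appLE V W hWV).hom r
        rw [hcomp]
        rfl }
  have hφ : Function.Surjective φ := by
    change Function.Surjective (ι.appLE U W le_rfl).hom
    rw [Scheme.Hom.appLE_eq_app]
    exact ι.app_surjective U hU
  have hq' : (hU.primeIdealOf ⟨ι x, hxU⟩).asIdeal =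
      (hW.primeIdealOf ⟨x, hxW⟩).asIdeal.comap φ.toRingHom :=
    congr($(IsAffineOpen.comap_primeIdealOf_appLE U hU W hW le_rfl hxW).1).symm
  haveI : Algebra.IsSmoothAt Γ(S, V) (hW.primeIdealOf ⟨x, hxW⟩).asIdeal :=
    (formallySmooth_stalkMap_iff V hV W hW hWV hxW).mp hY
  -- the arrow isomorphism
  let α := IsAffineOpen.arrowStalkMapIso ι U hU W hW le_rfl hxW
  let e₁ : X.presheaf.stalk (ι x) ≃+*
      Localization.AtPrime (hU.primeIdealOf ⟨ι x, hxU⟩).asIdeal :=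
    (Arrow.leftFunc.mapIso α).commRingCatIsoToRingEquiv
  let e₂ : Y.presheaf.stalk x ≃+*
      Localization.AtPrime (hW.primeIdealOf ⟨x, hxW⟩).asIdeal :=
    (Arrow.rightFunc.mapIso α).commRingCatIsoToRingEquiv
  have hcomm : ∀ r, Localization.localRingHom _ _ φ.toRingHom hq' (e₁ r) =
      e₂ ((ι.stalkMap x).hom r) := by
    intro r
    have := α.hom.w
    exact congr($(this).hom r)
  have hker' := ker_eq_span_of_comm (ι.stalkMap x).hom
    (Localization.localRingHom _ _ φ.toRingHom hq') e₁ e₂ hcomm fs hker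
  have hH1' : CAlgX.IsH1Regular (e₁ ∘ fs) :=
    Groth.Agent.Lib.H9RegImmFlatBC.isH1Regular_map e₁.toRingHom
      (RingHom.Flat.of_bijective (f := e₁.toRingHom) e₁.bijective) fs hH1
  have := isSmoothAt_of_eq φ hφ (hW.primeIdealOf ⟨x, hxW⟩).asIdeal
    (hU.primeIdealOf ⟨ι x, hxU⟩).asIdeal hq' (e₁ ∘ fs) hker' hH1'
  exact (formallySmooth_stalkMap_iff V hV U hU hUV hxU).mpr this

end Groth.Agent.Lib.R2LeadRegIdC
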