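import Mathlib
import Groth.Prelude.Def_CInt
import Groth.Agent.Lib.H9RegSm
import Groth.Agent.Lib.R2H4FibreQReg

/-! A closed subscheme smooth at `x` of a scheme smooth at `x` is cut out by a regular sequence in
the local ring at `x` (lead). -/

set_option autoImplicit false
universe u

namespace Groth.Agent.Lib.R2LeadRegIdD

open AlgebraicGeometry CategoryTheory RingTheory.Sequence

theorem ker_eq_map_of_comm {R₁ R₂ S₁ S₂ : Type*} [CommRing R₁] [CommRing R₂] [CommRing S₁]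
    [CommRing S₂] (g₁ : R₁ →+* S₁) (g₂ : R₂ →+* S₂) (e₁ : R₁ ≃+* R₂) (e₂ : S₁ ≃+* S₂)
    (hcomm : ∀ r, g₂ (e₁ r) = e₂ (g₁ r)) :
    RingHom.ker g₂ = (RingHom.ker g₁).map (e₁ : R₁ →+* R₂) := by
  ext y
  obtain ⟨r, rfl⟩ := e₁.surjective y
  rw [RingHom.mem_ker, hcomm, map_eq_zero_iff _ e₂.injective]
  constructor
  · intro hr
    exact Ideal.mem_map_of_mem _ (RingHom.mem_ker.mpr hr)
  · intro hr
    obtain ⟨r', hr', hrr⟩ := (Ideal.mem_map_of_equiv e₁ _).mp hr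
    have : r' = r := e₁.injective hrr
    rw [← this]
    exact RingHom.mem_ker.mp hr'

theorem isRegularIdeal_of_comm {R₁ R₂ S₁ S₂ : Type u} [CommRing R₁] [CommRing R₂] [CommRing S₁]
    [CommRing S₂] (g₁ : R₁ →+* S₁) (g₂ : R₂ →+* S₂) (e₁ : R₁ ≃+* R₂) (e₂ : S₁ ≃+* S₂)
    (hcomm : ∀ r, g₂ (e₁ r) = e₂ (g₁ r)) (h : CInt.IsRegularIdeal (RingHom.ker g₁)) :
    CInt.IsRegularIdeal (RingHom.ker g₂) := by
  obtain ⟨rs, hreg, hrs⟩ := h
  have hmap : Ideal.ofList (rs.map e₁) = RingHom.ker g₂ := by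
    rw [ker_eq_map_of_comm g₁ g₂ e₁ e₂ hcomm, ← hrs, Ideal.map_ofList]
    rfl
  refine ⟨rs.map e₁, ⟨?_, ?_⟩, hmap⟩
  · exact (AddEquiv.isWeaklyRegular_congr (e := e₁.toAddEquiv) (List.forall₂_map_right_iff.mpr
      (List.forall₂_same.mpr fun r _ y => by
        change e₁ (r * y) = e₁ r * e₁ y
        exact map_mul e₁ r y))).mp hreg.toIsWeaklyRegular
  · intro htop
    apply hreg.top_ne_smul
    rw [smul_eq_mul, Ideal.mul_top] at htop ⊢
    have h1 : (1 : R₂) ∈ Ideal.ofList (rs.map e₁) := htop ▸ Submodule.mem_top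
    have hm : Ideal.ofList (rs.map e₁) = (Ideal.ofList rs).map (e₁ : R₁ →+* R₂) := by
      rw [Ideal.map_ofList]
      rfl
    rw [hm] at h1
    obtain ⟨r', hr', hrr⟩ := (Ideal.mem_map_of_equiv e₁ _).mp h1
    have : r' = 1 := e₁.injective (by rw [hrr, map_one])
    rw [this] at hr'
    exact ((Ideal.eq_top_iff_one _).mpr hr').symm

/-- regular ideals localise to regular ideals in the stalk -/
theorem isRegularIdeal_ker_stalkMap {Z X : Scheme.{u}} (i : Z ⟶ X) [IsClosedImmersion i] (z : Z)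
    (U : X.Opens) (hU : IsAffineOpen U) (hz : i z ∈ U) (rs : List Γ(X, U))
    (hreg : IsRegular Γ(X, U) rs) (hrs : i.ker.ideal ⟨U, hU⟩ = Ideal.ofList rs) :
    CInt.IsRegularIdeal (RingHom.ker (i.stalkMap z).hom) := by
  have hker := Groth.Agent.Lib.R2H4.FibreQReg.ker_stalkMap_eq_map i z U hU hz inferInstance
  have hk : RingHom.ker (i.app U).hom = Ideal.ofList rs := by
    rw [← hrs, Scheme.Hom.ker_apply]
  letI := X.presheaf.algebra_section_stalk ⟨i z, hz⟩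
  haveI := hU.isLocalization_stalk ⟨i z, hz⟩
  haveI : Module.Flat Γ(X, U) (X.presheaf.stalk (i z)) :=
    IsLocalization.flat _ (hU.primeIdealOf ⟨i z, hz⟩).asIdeal.primeCompl
  have hw := hreg.toIsWeaklyRegular.of_flat (S := X.presheaf.stalk (i z))
  have hmap : Ideal.ofList (rs.map (algebraMap Γ(X, U) (X.presheaf.stalk (i z)))) =
      RingHom.ker (i.stalkMap z).hom := by
    rw [hker, hk, Ideal.map_ofList]
    rfl
  refine ⟨rs.map (algebraMap Γ(X, U) (X.presheaf.stalk (i z))), ⟨hw, ?_⟩, hmap⟩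
  intro htop
  rw [smul_eq_mul, Ideal.mul_top, hmap] at htop
  have h1 : (1 : X.presheaf.stalk (i z)) ∈ RingHom.ker (i.stalkMap z).hom :=
    htop ▸ Submodule.mem_top
  rw [RingHom.mem_ker, map_one] at h1
  exact one_ne_zero h1

theorem isRegularIdeal_of_mem_smoothLocus {X S Y : Scheme.{u}} (f : X ⟶ S)
    [LocallyOfFinitePresentation f] (ι : Y ⟶ X) [IsClosedImmersion ι]
    [LocallyOfFinitePresentation (ι ≫ f)] (x : Y)
    (hY : x ∈ (ι ≫ f).smoothLocus) (hX : ι x ∈ f.smoothLocus) :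
    CInt.IsRegularIdeal (RingHom.ker (ι.stalkMap x).hom) := by
  -- an open of `X` on which both are smooth
  obtain ⟨O₂, hO₂, hO₂eq⟩ := ι.isClosedEmbedding.isInducing.isOpen_iff.mp
    (ι ≫ f).smoothLocus.2
  set O : X.Opens := f.smoothLocus ⊓ ⟨O₂, hO₂⟩ with hOdef
  have hxO : ι x ∈ O := by
    refine ⟨hX, ?_⟩
    change x ∈ ι ⁻¹' O₂
    rw [hO₂eq]
    exact hY
  have hO1 : O ≤ f.smoothLocus := inf_le_left
  have hO2 : ι ⁻¹ᵁ O ≤ (ι ≫ f).smoothLocus := by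
    intro t ht
    have : t ∈ ι ⁻¹' O₂ := ht.2
    rw [hO₂eq] at this
    exact this
  haveI : Smooth (O.ι ≫ f) := by
    rw [← Scheme.Hom.smoothLocus_eq_top_iff, ← Scheme.Hom.preimage_smoothLocus_eq,
      _root_.eq_top_iff]
    intro t _
    exact hO1 t.2
  haveI : Smooth ((ι ⁻¹ᵁ O).ι ≫ (ι ≫ f)) := by
    rw [← Scheme.Hom.smoothLocus_eq_top_iff, ← Scheme.Hom.preimage_smoothLocus_eq,
      _root_.eq_top_iff]
    intro t _
    exact hO2 t.2
  have w : (ι ∣_ O) ≫ (O.ι ≫ f) = (ι ⁻¹ᵁ O).ι ≫ (ι ≫ f) := by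
    rw [← Category.assoc, morphismRestrict_ι, Category.assoc]
  let y : ↥(ι ⁻¹ᵁ O) := ⟨x, hxO⟩
  obtain ⟨U', hU', hyU', rs, hreg, hrs⟩ :=
    Groth.Agent.Lib.H9RegSm.exists_regular_of_smooth (O.ι ≫ f) ((ι ⁻¹ᵁ O).ι ≫ (ι ≫ f))
      (ι ∣_ O) w y
  have h1 := isRegularIdeal_ker_stalkMap (ι ∣_ O) y U' hU' hyU' rs hreg hrs
  let β := morphismRestrictStalkMap ι O y
  let e₁ := (Arrow.leftFunc.mapIso β).commRingCatIsoToRingEquiv
  let e₂ := (Arrow.rightFunc.mapIso β).commRingCatIsoToRingEquiv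
  refine isRegularIdeal_of_comm ((ι ∣_ O).stalkMap y).hom (ι.stalkMap x).hom e₁ e₂ ?_ h1
  intro r
  have := β.hom.w
  exact congr($(this).hom r)

end Groth.Agent.Lib.R2LeadRegIdD
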