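import Mathlib
import Groth.Agent.Lib.R2LeadJacI
import Groth.Agent.Lib.Helper6SmReg
import Groth.Agent.Lib.H9QGor711
import Groth.Agent.Lib.Helper5RLR

set_option autoImplicit false
universe u

namespace Groth.Agent.Lib.R2LeadRegSmA

open TensorProduct KaehlerDifferential Algebra Module Groth.Agent.Helper18FittSh
  Groth.Agent.Helper18Fitt Groth.Agent.Lib.Helper4.FibDim IsLocalRing

attribute [local instance] Algebra.TensorProduct.rightAlgebra

/-- the `d`-th Fitting ideal of the differentials is the unit ideal at `z` + the fibre has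
local dimension `d` at `z` ⟹ the fibre local ring at `z` is regular. -/
theorem isRegularLocalRing_fibLocRing_of_fitt {A B : Type u} [CommRing A] [CommRing B] [Algebra A B]
    [Algebra.FinitePresentation A B] (z : PrimeSpectrum B) (d : ℕ)
    (hfitt : ¬ Fitt.ideal B Ω[B⁄A] d ≤ z.asIdeal)
    (hdim : fibLD (PrimeSpectrum.comap (algebraMap A B)) z = (d : WithBot ℕ∞)) :
    IsRegularLocalRing (EGA4.FibLocRing A B z.asIdeal) := by
  rw [fibLD_comap_eq] at hdim
  set p := PrimeSpectrum.comap (algebraMap A B) z with hp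
  set Q := PrimeSpectrum.preimageHomeomorphFiber A B p ⟨z, rfl⟩ with hQ
  have hQz : PrimeSpectrum.comap Algebra.TensorProduct.includeRight.toRingHom Q = z :=
    comap_includeRight_preimageHomeomorphFiber p.asIdeal ⟨z, rfl⟩
  have hQz' : Q.asIdeal.comap (algebraMap B (p.asIdeal.Fiber B)) = z.asIdeal :=
    congrArg PrimeSpectrum.asIdeal hQz
  have hF : Fitt.ideal (p.asIdeal.Fiber B) Ω[p.asIdeal.Fiber B⁄p.asIdeal.ResidueField] d =
      (Fitt.ideal B Ω[B⁄A] d).map (algebraMap B (p.asIdeal.Fiber B)) :=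
    fitt_kaehler_pushout A p.asIdeal.ResidueField B (p.asIdeal.Fiber B) d
  have hfitt' : ¬ Fitt.ideal (p.asIdeal.Fiber B) Ω[p.asIdeal.Fiber B⁄p.asIdeal.ResidueField] d ≤
      Q.asIdeal := by
    rw [hF, Ideal.map_le_iff_le_comap, hQz']
    exact hfitt
  rw [not_le_iff_finrank] at hfitt'
  haveI hs : Algebra.IsSmoothAt p.asIdeal.ResidueField Q.asIdeal := by
    apply R2LeadJacD.isSmoothAt_of_finrank_le
    rw [hdim]
    exact_mod_cast hfitt'
  haveI : IsRegularLocalRing (Localization.AtPrime Q.asIdeal) :=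
    Groth.Agent.Lib.Helper6.SmReg.isRegularLocalRing_of_isSmoothAt
      (R := p.asIdeal.ResidueField) Q.asIdeal
  obtain ⟨e, -⟩ := Groth.Agent.Lib.H9QGor711.exists_localization_fiber_equiv_compat p.asIdeal
    Q.asIdeal z.asIdeal hQz'.symm
  exact IsRegularLocalRing.of_ringEquiv (R := Localization.AtPrime Q.asIdeal)
    (RingEquiv.ofBijective (e : Localization.AtPrime Q.asIdeal →+* EGA4.FibLocRing A B z.asIdeal)
      e.bijective)

end Groth.Agent.Lib.R2LeadRegSmA
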