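import Mathlib
import Groth.Agent.Lib.Helper5RLR
import Groth.Prelude.Def_EGA4b

set_option autoImplicit false
universe u

namespace Groth.Agent.Lib.R2LeadRegSmB

open IsLocalRing

variable {A B : Type u} [CommRing A] [CommRing B] [Algebra A B] [IsNoetherianRing B]

/-- regular base local ring + regular fibre local ring + dimension formula ⟹ regular. -/
theorem isRegularLocalRing_of_fibLocRing (q : Ideal B) [q.IsPrime]
    [IsRegularLocalRing (Localization.AtPrime (q.comap (algebraMap A B)))]
    [IsRegularLocalRing (EGA4.FibLocRing A B q)]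
    (hdim : ringKrullDim (Localization.AtPrime q) =
      ringKrullDim (EGA4.FibLocRing A B q) +
        ringKrullDim (Localization.AtPrime (q.comap (algebraMap A B)))) :
    IsRegularLocalRing (Localization.AtPrime q) := by
  classical
  set p := q.comap (algebraMap A B) with hp
  set Ap := Localization.AtPrime p
  set Bq := Localization.AtPrime q
  let φ : Ap →+* Bq := Localization.localRingHom p q (algebraMap A B) rfl
  haveI : IsLocalHom φ := Localization.isLocalHom_localRingHom p q (algebraMap A B) rfl
  obtain ⟨s, hcard, hspan⟩ := Submodule.FG.exists_span_finset_card_eq_spanFinrank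
    (maximalIdeal Ap).fg_of_isNoetherianRing
  have hr : ((s.card : ℕ) : WithBot ℕ∞) = ringKrullDim Ap := by
    rw [hcard]
    exact IsRegularLocalRing.spanFinrank_maximalIdeal
  let t : Fin s.card → Ap := fun i => (s.equivFin.symm i : Ap)
  have ht : ∀ i, t i ∈ maximalIdeal Ap := fun i => by
    have : (t i) ∈ Submodule.span Ap (s : Set Ap) := Submodule.subset_span (s.equivFin.symm i).2
    rw [hspan] at this
    exact this
  have htrange : Set.range t = (s : Set Ap) := by
    ext a
    constructor
    · rintro ⟨i, rfl⟩
      exact (s.equivFin.symm i).2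
    · intro ha
      exact ⟨s.equivFin ⟨a, ha⟩, by simp [t]⟩
  have hx : ∀ i, φ (t i) ∈ maximalIdeal Bq := fun i => by
    rw [IsLocalRing.mem_maximalIdeal, mem_nonunits_iff]
    intro hu
    have h1 := isUnit_of_map_unit φ _ hu
    have h2 := ht i
    rw [IsLocalRing.mem_maximalIdeal, mem_nonunits_iff] at h2
    exact h2 h1
  let x : Fin s.card → maximalIdeal Bq := fun i => ⟨φ (t i), hx i⟩
  have hJ : p.map (algebraMap A Bq) = Ideal.span (Set.range fun i => (x i : Bq)) := by
    have h1 : p.map (algebraMap A Bq) = (maximalIdeal Ap).map φ := by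
      rw [← Localization.AtPrime.map_eq_maximalIdeal, Ideal.map_map]
      congr 1
      ext a
      rw [RingHom.comp_apply]
      change _ = Localization.localRingHom p q (algebraMap A B) rfl (algebraMap A Ap a)
      rw [Localization.localRingHom_to_map]
      exact IsScalarTower.algebraMap_apply A B Bq a
    rw [h1]
    have h2 : maximalIdeal Ap = Ideal.span (Set.range t) := by
      rw [htrange]
      exact hspan.symm
    rw [h2, Ideal.map_span, ← Set.range_comp]
    rfl
  have hdim' : ringKrullDim (Bq ⧸ p.map (algebraMap A Bq)) + (s.card : ℕ) = ringKrullDim Bq := by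
    rw [hdim, hr]
  exact (Groth.Agent.Lib.Helper5.isRegularLocalRing_of_quotient_span_range' x
    (p.map (algebraMap A Bq)) hJ hdim').1

end Groth.Agent.Lib.R2LeadRegSmB
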