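import Mathlib
import Groth.Agent.Lib.R2LeadRegSmA
import Groth.Agent.Lib.R2LeadRegSmB
import Groth.Agent.Lib.R2H4FibreQReg
import Groth.Agent.Lib.Helper5TfaeCMReg
import Groth.Agent.Lib.Helper5RLR3
import Groth.Agent.Lib.Helper18OmLS15
import Groth.Agent.Lib.R2LeadJacJ

set_option autoImplicit false
universe u

namespace Groth.Agent.Lib.R2LeadRegSmC

open AlgebraicGeometry CategoryTheory TopologicalSpace Groth.Agent.Helper18FittSh
  Groth.Agent.Helper18Fitt Groth.Agent.Lib.Helper4.FibDim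

theorem nonempty_stalk_equiv (X : Scheme.{u}) {U : X.Opens} (hU : IsAffineOpen U) (x : X)
    (hx : x ∈ U) :
    Nonempty (X.presheaf.stalk x ≃+* Localization.AtPrime (hU.primeIdealOf ⟨x, hx⟩).asIdeal) := by
  letI : Algebra Γ(X, U) (X.presheaf.stalk x) :=
    TopCat.Presheaf.algebra_section_stalk X.presheaf ⟨x, hx⟩
  haveI : IsLocalization.AtPrime (X.presheaf.stalk x) (hU.primeIdealOf ⟨x, hx⟩).asIdeal :=
    hU.isLocalization_stalk ⟨x, hx⟩
  exact ⟨(IsLocalization.algEquiv (hU.primeIdealOf ⟨x, hx⟩).asIdeal.primeCompl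
    (X.presheaf.stalk x) (Localization.AtPrime (hU.primeIdealOf ⟨x, hx⟩).asIdeal)).toRingEquiv⟩

theorem isRegularLocalRing_atPrime_congr {R : Type u} [CommRing R] (I J : Ideal R) [I.IsPrime]
    [J.IsPrime] (h : I = J) (hI : IsRegularLocalRing (Localization.AtPrime I)) :
    IsRegularLocalRing (Localization.AtPrime J) := by
  subst h; exact hI

theorem ringKrullDim_atPrime_congr {R : Type u} [CommRing R] (I J : Ideal R) [I.IsPrime]
    [J.IsPrime] (h : I = J) :
    ringKrullDim (Localization.AtPrime I) = ringKrullDim (Localization.AtPrime J) := by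
  subst h; rfl

variable {X S : Scheme.{u}} (f : X ⟶ S)

/-- regular base + differentials free of rank the fibre dimension + dimension formula ⟹ the local
ring of `X` at `x` is regular. -/
theorem isRegularLocalRing_stalk [IsLocallyNoetherian S] [LocallyOfFiniteType f]
    [LocallyOfFinitePresentation f]
    (Ω' : X.Modules) (d : OmegaSh.Der f Ω') (hd : OmegaSh.IsUniversal d) (x : X)
    (hreg : IsRegularLocalRing (S.presheaf.stalk (f x)))
    (hdim : ringKrullDim (X.presheaf.stalk x) =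
      ringKrullDim ((f.fiber (f x)).presheaf.stalk (f.asFiber x)) +
        ringKrullDim (S.presheaf.stalk (f x)))
    (U : X.Opens) (n : ℕ) (hxU : x ∈ U)
    (e : Ω'.restrict U.ι ≅ FlatMod.freeMod (↑U) n)
    (hn : FlatMor.fibreDimAt f x = (n : WithBot ℕ∞)) :
    IsRegularLocalRing (X.presheaf.stalk x) := by
  haveI := Groth.Agent.Helper18OmLS.isQuasicoherent_of_isUniversal f d hd
  have hft : CohB1.IsFT Ω' := Groth.Agent.Helper18OmLS.isFiniteType_of_isUniversal f d hd
  have hns : x ∉ (Fitt.sheafIdeal Ω' n).support :=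
    notMem_support_of_epi Ω' hft x n U hxU e.inv
  -- the point `x₁ = x`, in the form used by the fibre dictionary
  set x₁ : X := f.fiberι (f x) (f.asFiber x) with hx₁
  have hxx : x₁ = x := f.fiberι_asFiber x
  obtain ⟨V, hV, hfxV, -⟩ := exists_isAffineOpen_mem_and_subset (x := f x) (U := ⊤) trivial
  obtain ⟨U', hU', hxU', hUV⟩ := exists_isAffineOpen_mem_and_subset (x := x) (U := f ⁻¹ᵁ V) hfxV
  have hx₁U' : x₁ ∈ U' := hxx ▸ hxU'
  have hns₁ : x₁ ∉ (Fitt.sheafIdeal Ω' n).support := hxx ▸ hns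
  have hn₁ : FlatMor.fibreDimAt f x₁ = (n : WithBot ℕ∞) := hxx ▸ hn
  rw [mem_support_iff Ω' n (finite_sections Ω' hft) x₁ ⟨U', hU'⟩ hx₁U'] at hns₁
  letI alg : Algebra Γ(S, V) Γ(X, U') := (f.appLE V U' hUV).hom.toAlgebra
  haveI : Algebra.FinitePresentation Γ(S, V) Γ(X, U') := f.finitePresentation_appLE hV hU' hUV
  haveI : IsNoetherianRing Γ(S, V) := IsLocallyNoetherian.component_noetherian ⟨V, hV⟩
  haveI : IsNoetherianRing Γ(X, U') :=
    Algebra.FiniteType.isNoetherianRing Γ(S, V) Γ(X, U')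
  rw [fitt_congr' (Groth.Agent.Helper18OmLS.sectionsEquiv f d hd hU' hV hUV rfl) n] at hns₁
  set z := hU'.primeIdealOf ⟨x₁, hx₁U'⟩ with hz
  have hzx : hU'.fromSpec z = x₁ := hU'.fromSpec_primeIdealOf ⟨x₁, hx₁U'⟩
  have hdim' : fibLD (PrimeSpectrum.comap (algebraMap Γ(S, V) Γ(X, U'))) z = (n : WithBot ℕ∞) := by
    rw [← hn₁, fibreDimAt_eq_fibLD, ← hzx, fibLD_fromSpec f hU' hV hUV z]
    rfl
  -- the fibre local ring is regular
  haveI hfibreg : IsRegularLocalRing (EGA4.FibLocRing Γ(S, V) Γ(X, U') z.asIdeal) :=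
    R2LeadRegSmA.isRegularLocalRing_fibLocRing_of_fitt z n hns₁ hdim'
  -- dictionary
  obtain ⟨eF, -⟩ := Groth.Agent.Lib.R2H4.FibreQReg.exists_fiberStalk_equiv f hU' hV hUV (f x)
    (f.asFiber x) hx₁U'
  obtain ⟨eX⟩ := nonempty_stalk_equiv X hU' x₁ hx₁U'
  have hfx₁V : f x₁ ∈ V := hUV hx₁U'
  obtain ⟨eS⟩ := nonempty_stalk_equiv S hV (f x₁) hfx₁V
  have hcomap : (hV.primeIdealOf ⟨f x₁, hfx₁V⟩).asIdeal =
      z.asIdeal.comap (algebraMap Γ(S, V) Γ(X, U')) :=
    congrArg PrimeSpectrum.asIdeal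
      (IsAffineOpen.comap_primeIdealOf_appLE V hV U' hU' hUV hx₁U').symm
  have hregS₁ : IsRegularLocalRing (S.presheaf.stalk (f x₁)) := by
    have := hreg
    rw [← hxx] at this
    exact this
  have hregA : IsRegularLocalRing (Localization.AtPrime
      (z.asIdeal.comap (algebraMap Γ(S, V) Γ(X, U')))) := by
    haveI := hregS₁
    have h1 : IsRegularLocalRing (Localization.AtPrime (hV.primeIdealOf ⟨f x₁, hfx₁V⟩).asIdeal) :=
      IsRegularLocalRing.of_ringEquiv eS
    exact isRegularLocalRing_atPrime_congr _ _ hcomap h1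
  haveI := hregA
  have hdS : ringKrullDim (S.presheaf.stalk (f x)) = ringKrullDim (Localization.AtPrime
      (z.asIdeal.comap (algebraMap Γ(S, V) Γ(X, U')))) := by
    have h1 : ringKrullDim (S.presheaf.stalk (f x)) = ringKrullDim (S.presheaf.stalk (f x₁)) :=
      congrArg (fun w => ringKrullDim (S.presheaf.stalk (f w))) hxx.symm
    rw [h1, ringKrullDim_eq_of_ringEquiv eS]
    exact ringKrullDim_atPrime_congr _ _ hcomap
  have hdX : ringKrullDim (X.presheaf.stalk x) = ringKrullDim (Localization.AtPrime z.asIdeal) := by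
    have h1 : ringKrullDim (X.presheaf.stalk x) = ringKrullDim (X.presheaf.stalk x₁) :=
      congrArg (fun w => ringKrullDim (X.presheaf.stalk w)) hxx.symm
    rw [h1, ringKrullDim_eq_of_ringEquiv eX]
  have hdF : ringKrullDim ((f.fiber (f x)).presheaf.stalk (f.asFiber x)) =
      ringKrullDim (EGA4.FibLocRing Γ(S, V) Γ(X, U') z.asIdeal) :=
    ringKrullDim_eq_of_ringEquiv eF
  rw [hdX, hdF, hdS] at hdim
  have hregB : IsRegularLocalRing (Localization.AtPrime z.asIdeal) :=
    R2LeadRegSmB.isRegularLocalRing_of_fibLocRing z.asIdeal hdim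
  have hregX₁ : IsRegularLocalRing (X.presheaf.stalk x₁) :=
    haveI := hregB
    IsRegularLocalRing.of_ringEquiv eX.symm
  rw [hxx] at hregX₁
  exact hregX₁

end Groth.Agent.Lib.R2LeadRegSmC
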