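import Groth.Prelude.Def_DualSh
import Mathlib
import Groth.Agent.Lib.Helper1RelBC
import Groth.Agent.Lib.Helper1TorO
import Groth.Agent.Lib.Helper1PCNil2
import Groth.Agent.S7073

set_option autoImplicit false
set_option maxHeartbeats 400000
universe u
attribute [local instance] HasDerivedCategory.standard
open TensorProduct

namespace Groth.Agent.Lib.R2Lead.RelNil

open CategoryTheory CategoryTheory.Limits DerivedCategory Groth.Agent.Lib.Helper1.Tor
  Groth.Agent.Lib.Helper1.Restrict Groth.Agent.Lib.Helper1.LDer Groth.Agent.Lib.Helper1.RelBC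
  Groth.Agent.Lib.Helper1.TorDim Groth.Agent.Lib.Helper1.TorM Groth.Agent.Lib.Helper1.TorO

attribute [local instance] Algebra.TensorProduct.rightAlgebra

section
variable {R R' A : Type u} [CommRing R] [CommRing R'] [CommRing A] [Algebra R R'] [Algebra R A]

lemma exact_transfer_rev (N' : ModuleCat.{u} R') {X Y Z : ModuleCat.{u} A} (f : X ⟶ Y) (g : Y ⟶ Z)
    (h : Function.Exact ((resext (R := R) (R' := R') f).hom.lTensor N')
      ((resext (R := R) (R' := R') g).hom.lTensor N')) :
    Function.Exact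
      (((ModuleCat.restrictScalars.{u} (algebraMap R A)).map f).hom.lTensor (RN (R := R) N'))
      (((ModuleCat.restrictScalars.{u} (algebraMap R A)).map g).hom.lTensor (RN (R := R) N')) := by
  refine exact_of_ladder _ _ _ _ (E (R := R) N' X).symm.toEquiv (E (R := R) N' Y).symm.toEquiv
    (E (R := R) N' Z).symm.toEquiv (map_zero (E (R := R) N' Z).symm) (fun t => ?_) (fun t => ?_) h
  · obtain ⟨s, rfl⟩ := (E (R := R) N' X).surjective t
    have := E_nat (R := R) (R' := R') N' f s
    show _ = (E (R := R) N' Y).symm _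
    rw [this]
    simp
  · obtain ⟨s, rfl⟩ := (E (R := R) N' Y).surjective t
    have := E_nat (R := R) (R' := R') N' g s
    show _ = (E (R := R) N' Z).symm _
    rw [this]
    simp

theorem torVan_res_of_bc (hs : Function.Surjective (algebraMap R R'))
    (hn : IsNilpotent (RingHom.ker (algebraMap R R'))) (P : DRing.Cx A)
    (hPf : DRing.TermwiseFlat ((DRing.restrictCx (algebraMap R A)).obj P)) (a b : ℤ)
    (h : TorVan ((DRing.restrictCx (algebraMap R' (R' ⊗[R] A))).obj ((bcCx (inr R R' A)).obj P)) a b) :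
    TorVan ((DRing.restrictCx (algebraMap R A)).obj P) a b := by
  obtain ⟨k, hk⟩ := hn
  intro M i hi
  have hbase : ∀ (N : Type u) [AddCommGroup N] [Module R N],
      (∀ r ∈ RingHom.ker (algebraMap R R'), ∀ x : N, r • x = 0) →
        ((TC (ModuleCat.of R N)).obj ((DRing.restrictCx (algebraMap R A)).obj P)).ExactAt i := by
    intro N _ _ hN
    obtain ⟨Nb, ⟨e⟩⟩ := exists_iso_restrictScalars_of_ker_smul_eq_zero (algebraMap R R') hs N hN
    refine exactAt_TC_of_iso e _ i ?_
    have h1 := h Nb i hi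
    rw [exactAt_TC_iff _ _ (i - 1) i (i + 1) (by lia) rfl] at h1 ⊢
    exact exact_transfer_rev Nb (P.d (i - 1) i) (P.d i (i + 1)) h1
  exact exactAt_TC_of_pow_smul_eq_zero' (RingHom.ker (algebraMap R R')) _ hPf i hbase k M (by
    intro r hr x
    rw [hk] at hr
    rw [(Submodule.mem_bot R).1 hr, zero_smul])

end


section
variable {R R' A : Type u} [CommRing R] [CommRing R'] [CommRing A] [Algebra R R'] [Algebra R A]

lemma inr_surjective (hs : Function.Surjective (algebraMap R R')) :
    Function.Surjective (inr R R' A) := by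
  intro t
  induction t using TensorProduct.induction_on with
  | zero => exact ⟨0, map_zero _⟩
  | tmul r a =>
    obtain ⟨r₀, rfl⟩ := hs r
    refine ⟨r₀ • a, ?_⟩
    show (1 : R') ⊗ₜ[R] (r₀ • a) = algebraMap R R' r₀ ⊗ₜ[R] a
    rw [TensorProduct.tmul_smul, TensorProduct.smul_tmul', Algebra.smul_def, mul_one]
  | add x y hx hy =>
    obtain ⟨x', rfl⟩ := hx
    obtain ⟨y', rfl⟩ := hy
    exact ⟨x' + y', map_add _ _ _⟩

lemma ker_inr_le (hs : Function.Surjective (algebraMap R R')) :
    RingHom.ker (inr R R' A) ≤ (RingHom.ker (algebraMap R R')).map (algebraMap R A) := by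
  intro a ha
  set J := RingHom.ker (algebraMap R R') with hJ
  -- the `R`-linear equivalence `R ⧸ J ≃ R'`
  let f : R →ₗ[R] R' := Algebra.linearMap R R'
  have hf : Function.Surjective f := hs
  have hker : LinearMap.ker f = J.restrictScalars R := by
    ext x
    simp [f, hJ, RingHom.mem_ker]
  let e₁ : (R ⧸ J) ≃ₗ[R] R' :=
    (Submodule.quotEquivOfEq _ _ (by rw [hker]; rfl)).trans (f.quotKerEquivOfSurjective hf)
  have he₁ : e₁ 1 = 1 := by
    show f 1 = 1
    simp [f]
  let e₂ : (R ⧸ J) ⊗[R] A ≃ₗ[R] R' ⊗[R] A := TensorProduct.congr e₁ (LinearEquiv.refl R A)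
  have h1 : (1 : R') ⊗ₜ[R] a = 0 := ha
  have h2 : e₂ ((1 : R ⧸ J) ⊗ₜ[R] a) = 0 := by
    rw [TensorProduct.congr_tmul, he₁]
    exact h1
  have h3 : (1 : R ⧸ J) ⊗ₜ[R] a = 0 := e₂.injective (h2.trans (map_zero e₂).symm)
  have h4 : a ∈ LinearMap.ker (TensorProduct.mk R (R ⧸ J) A 1) := h3
  rw [LinearMap.ker_tensorProductMk, Ideal.smul_top_eq_map] at h4
  exact h4

lemma ker_inr_nilpotent (hs : Function.Surjective (algebraMap R R'))
    (hn : IsNilpotent (RingHom.ker (algebraMap R R'))) :
    IsNilpotent (RingHom.ker (inr R R' A)) := by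
  obtain ⟨k, hk⟩ := hn
  refine ⟨k, ?_⟩
  have h1 := Ideal.pow_right_mono (ker_inr_le (A := A) hs) k
  rw [← Ideal.map_pow, hk] at h1
  have : (0 : Ideal R) = ⊥ := rfl
  rw [this, Ideal.map_bot] at h1
  exact le_bot_iff.1 h1

end

end Groth.Agent.Lib.R2Lead.RelNil
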