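import Mathlib
import Groth.Prelude.Def_CInt
import Groth.Agent.Lib.R2LeadRhoDepth

/-!
# Schematic density of opens containing all points of depth zero (lead)

`isSchematicallyDense_of_nzd`: if at every point `x ∉ U` the maximal ideal of `O_{X,x}` contains a
non-zero-divisor, then `U` is schematically dense (weakly associated points argument; no Noetherian
hypothesis).
`main`: S16428.
-/

set_option autoImplicit false
set_option linter.style.haveILetI false
universe u

open AlgebraicGeometry CategoryTheory Limits IsLocalRing TopologicalSpace Opposite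

namespace Groth.Agent.Lib.R2LeadSchDense

theorem isSchematicallyDense_of_nzd {P : Scheme.{u}} (U : P.Opens)
    (h : ∀ x : P, x ∉ U → ∃ g ∈ maximalIdeal (P.presheaf.stalk x),
      IsSMulRegular (P.presheaf.stalk x) g) :
    CInt.IsSchematicallyDense U := by
  intro V
  rw [injective_iff_map_eq_zero]
  intro t ht
  by_contra htne
  -- a point where the germ is nonzero
  obtain ⟨y, hyV, hy⟩ : ∃ (y : P) (hy : y ∈ V), P.presheaf.germ V y hy t ≠ 0 := by
    by_contra hcon
    push Not at hcon
    apply htne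
    refine TopCat.Presheaf.section_ext P.sheaf V t 0 (fun x hx => ?_)
    rw [map_zero]
    exact hcon x hx
  obtain ⟨_, ⟨W, hW : IsAffineOpen W, rfl⟩, hyW, hWV⟩ :=
    P.isBasis_affineOpens.exists_subset_of_mem_open hyV V.2
  have hWV' : W ≤ V := hWV
  set a : Γ(P, W) := (P.presheaf.map (homOfLE hWV').op).hom t with ha
  have hgerm : ∀ (x : P) (hx : x ∈ W), P.presheaf.germ W x hx a =
      P.presheaf.germ V x (hWV' hx) t := by
    intro x hx
    exact TopCat.Presheaf.germ_res_apply P.presheaf (homOfLE hWV') x hx t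
  -- the annihilator of `a`
  let I : Ideal Γ(P, W) := LinearMap.ker (LinearMap.toSpanSingleton Γ(P, W) Γ(P, W) a)
  have hImem : ∀ r : Γ(P, W), r ∈ I ↔ r * a = 0 := by
    intro r
    change LinearMap.toSpanSingleton Γ(P, W) Γ(P, W) a r = 0 ↔ _
    rw [LinearMap.toSpanSingleton_apply, smul_eq_mul]
  have hane : a ≠ 0 := by
    intro h0
    apply hy
    rw [← hgerm y hyW, h0, map_zero]
  have hItop : I ≠ ⊤ := by
    intro htop
    have h1 : (1 : Γ(P, W)) ∈ I := by rw [htop]; trivial
    rw [hImem, one_mul] at h1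
    exact hane h1
  obtain ⟨⟨𝔭, h𝔭⟩⟩ := Ideal.nonempty_minimalPrimes hItop
  haveI : 𝔭.IsPrime := h𝔭.1.1
  let y' : PrimeSpectrum Γ(P, W) := ⟨𝔭, inferInstance⟩
  set x : P := hW.fromSpec y' with hxdef
  have hxW : x ∈ W := by
    have : x ∈ Set.range hW.fromSpec := ⟨y', rfl⟩
    rw [hW.range_fromSpec] at this
    exact this
  letI : Algebra Γ(P, W) (P.presheaf.stalk x) := P.presheaf.algebra_section_stalk ⟨x, hxW⟩
  haveI hloc : IsLocalization.AtPrime (P.presheaf.stalk x) 𝔭 := hW.isLocalization_stalk' y' hxW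
  have halg : ∀ r : Γ(P, W), algebraMap Γ(P, W) (P.presheaf.stalk x) r =
      P.presheaf.germ W x hxW r := fun r => rfl
  -- the image of `a` in the stalk is nonzero
  have hane' : algebraMap Γ(P, W) (P.presheaf.stalk x) a ≠ 0 := by
    intro h0
    rw [IsLocalization.map_eq_zero_iff 𝔭.primeCompl] at h0
    obtain ⟨s, hs⟩ := h0
    have : (s : Γ(P, W)) ∈ I := (hImem _).mpr hs
    exact s.2 (h𝔭.1.2 this)
  -- hence `x ∉ U`
  have hxU : x ∉ U := by
    intro hxU
    apply hane'
    rw [halg, hgerm x hxW]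
    have h1 : P.presheaf.germ V x (hWV' hxW) t =
        P.presheaf.germ (V ⊓ U) x ⟨hWV' hxW, hxU⟩
          ((P.presheaf.map (homOfLE (inf_le_left : V ⊓ U ≤ V)).op).hom t) :=
      (TopCat.Presheaf.germ_res_apply P.presheaf (homOfLE (inf_le_left : V ⊓ U ≤ V)) x
        ⟨hWV' hxW, hxU⟩ t).symm
    rw [h1]
    have h2 : (P.presheaf.map (homOfLE (inf_le_left : V ⊓ U ≤ V)).op).hom t = 0 := ht
    rw [h2, map_zero]
  obtain ⟨g, hgm, hgreg⟩ := h x hxU
  -- a power of `g` kills the image of `a`
  have hrad := IsLocalization.AtPrime.radical_map_of_mem_minimalPrimes (A := P.presheaf.stalk x)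
    𝔭 I h𝔭
  have hmax : 𝔭.map (algebraMap Γ(P, W) (P.presheaf.stalk x)) = maximalIdeal (P.presheaf.stalk x) :=
    IsLocalization.AtPrime.map_eq_maximalIdeal 𝔭 (P.presheaf.stalk x)
  rw [hmax] at hrad
  rw [← hrad] at hgm
  obtain ⟨n, hn⟩ := hgm
  have hkill : I.map (algebraMap Γ(P, W) (P.presheaf.stalk x)) ≤
      LinearMap.ker (LinearMap.toSpanSingleton (P.presheaf.stalk x) (P.presheaf.stalk x)
        (algebraMap Γ(P, W) (P.presheaf.stalk x) a)) := by
    rw [Ideal.map_le_iff_le_comap]
    intro r hr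
    change LinearMap.toSpanSingleton (P.presheaf.stalk x) (P.presheaf.stalk x) _ _ = 0
    rw [LinearMap.toSpanSingleton_apply, smul_eq_mul, ← map_mul, (hImem r).mp hr, map_zero]
  have h0 : g ^ n * algebraMap Γ(P, W) (P.presheaf.stalk x) a = 0 := by
    have := hkill hn
    change LinearMap.toSpanSingleton (P.presheaf.stalk x) (P.presheaf.stalk x) _ _ = 0 at this
    rwa [LinearMap.toSpanSingleton_apply, smul_eq_mul] at this
  apply hane'
  have hreg : IsSMulRegular (P.presheaf.stalk x) (g ^ n) := hgreg.pow n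
  apply hreg
  change g ^ n * _ = g ^ n * 0
  rw [h0, mul_zero]

theorem main (k : Type u) [Field k] (X S : Scheme.{u})
    (a : X ⟶ Spec (CommRingCat.of k)) (b : S ⟶ Spec (CommRingCat.of k)) [Smooth a]
    (U : (pullback a b).Opens)
    (hU : ∀ x : ↥(pullback a b), x ∉ U →
      (2 : WithBot ℕ∞) ≤ ringKrullDim ↑(CInt.fiberStalk (pullback.snd a b) x)) :
    CInt.IsSchematicallyDense U := by
  haveI : Smooth (pullback.snd a b) := MorphismProperty.pullback_snd (P := @Smooth) _ _ inferInstance
  apply isSchematicallyDense_of_nzd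
  intro x hx
  obtain ⟨hs, hlen, hmem, hW⟩ :=
    Groth.Agent.Lib.R2LeadRhoDepth.exists_weaklyRegular_pair (pullback.snd a b) x (hU x hx)
  match hs, hlen, hmem, hW with
  | [g, g'], _, hmem, hW =>
    exact ⟨g, hmem g (by simp), ((RingTheory.Sequence.isWeaklyRegular_cons_iff _ g [g']).mp hW).1⟩

end Groth.Agent.Lib.R2LeadSchDense
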