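import Mathlib
import Groth.Agent.Lib.Helper13Devissage

set_option autoImplicit false
universe u
open CategoryTheory Limits Abelian

namespace Groth.Agent.Lib.R2Lead.SerreFree

variable {A : Type u} [CommRing A]

section partA

variable (S : ShortComplex (ModuleCat.{u} A)) (hS : S.ShortExact)

include hS in
/-- Part A: with `X₁` projective, the class of the extension generates `Ext¹(X₃, X₁)` over
`End X₁` iff `Ext¹(X₂, X₁) = 0`. -/
theorem gen_iff_ext_vanish [Projective S.X₁] :
    (∀ x : Ext S.X₃ S.X₁ 1, ∃ f : S.X₁ ⟶ S.X₁,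
        hS.extClass.comp (Ext.mk₀ f) (add_zero 1) = x) ↔
      ∀ y : Ext S.X₂ S.X₁ 1, y = 0 := by
  constructor
  · intro h y
    have h0 : (Ext.mk₀ S.f).comp y (zero_add 1) = 0 := Ext.eq_zero_of_projective _
    obtain ⟨x, hx⟩ := Ext.contravariant_sequence_exact₂ hS S.X₁ y h0
    obtain ⟨f, hf⟩ := h x
    rw [← hx, ← hf, ← Ext.comp_assoc (Ext.mk₀ S.g) hS.extClass (Ext.mk₀ f) (zero_add 1)
      (add_zero 1) (by omega), hS.comp_extClass, Ext.zero_comp]
  · intro h x
    have h0 : (Ext.mk₀ S.g).comp x (zero_add 1) = 0 := h _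
    obtain ⟨x₁, hx₁⟩ := Ext.contravariant_sequence_exact₃ hS S.X₁ x h0 (add_zero 1)
    refine ⟨Ext.homEquiv₀ x₁, ?_⟩
    rw [Ext.mk₀_homEquiv₀_apply]
    exact hx₁

end partA

section partB

variable [IsNoetherianRing A] [IsLocalRing A]

/-- `Ext¹(M, K) = 0` for `K` finite free when `Ext¹(M, A) = 0`. -/
theorem ext_free_vanish (M : ModuleCat.{u} A) (h : ∀ y : Ext M (ModuleCat.of A A) 1, y = 0)
    (K : Type u) [AddCommGroup K] [Module A K] [Module.Finite A K] [Module.Free A K]
    (y : Ext M (ModuleCat.of A K) 1) : y = 0 := by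
  classical
  let b := Module.Free.chooseBasis A K
  let Φ : (ModuleCat.of A K ⟶ ModuleCat.of A K) →+ Ext M (ModuleCat.of A K) 1 :=
    AddMonoidHom.mk' (fun g => y.comp (Ext.mk₀ g) (add_zero 1)) (by
      intro g₁ g₂
      rw [Ext.mk₀_add, Ext.comp_add])
  let p : Module.Free.ChooseBasisIndex A K → (ModuleCat.of A K ⟶ ModuleCat.of A A) :=
    fun i => ModuleCat.ofHom (b.coord i)
  let j : Module.Free.ChooseBasisIndex A K → (ModuleCat.of A A ⟶ ModuleCat.of A K) :=
    fun i => ModuleCat.ofHom (LinearMap.toSpanSingleton A K (b i))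
  have hid : 𝟙 (ModuleCat.of A K) = ∑ i, p i ≫ j i := by
    apply ModuleCat.hom_ext
    apply LinearMap.ext
    intro x
    rw [ModuleCat.hom_sum]
    simp only [ModuleCat.hom_id, LinearMap.id_coe, id_eq, LinearMap.sum_apply]
    conv_lhs => rw [← b.sum_repr x]
    rfl
  have h1 : y = Φ (𝟙 _) := by
    show y = y.comp (Ext.mk₀ (𝟙 _)) (add_zero 1)
    rw [Ext.comp_mk₀_id]
  rw [h1, hid, map_sum]
  refine Finset.sum_eq_zero fun i _ => ?_
  show y.comp (Ext.mk₀ (p i ≫ j i)) (add_zero 1) = 0
  rw [← Ext.mk₀_comp_mk₀, ← Ext.comp_assoc y (Ext.mk₀ (p i)) (Ext.mk₀ (j i)) (add_zero 1)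
    (add_zero 0) (by omega), h (y.comp (Ext.mk₀ (p i)) (add_zero 1)), Ext.zero_comp]

/-- Part B: a finite module of projective dimension `≤ 1` over a Noetherian local ring with
`Ext¹(M, A) = 0` is free. -/
theorem free_of_ext_vanish (M : ModuleCat.{u} A) [Module.Finite A M]
    (hpd : HasProjectiveDimensionLT M 2) (h : ∀ y : Ext M (ModuleCat.of A A) 1, y = 0) :
    Module.Free A M := by
  obtain ⟨b, π, hπ⟩ := Module.Finite.exists_fin' A M
  let K : Submodule A (Fin b → A) := LinearMap.ker π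
  have hS := Groth.Agent.Helper13Devissage.shortExact_mk (A := A) K.subtype π
    K.injective_subtype hπ (LinearMap.exact_subtype_ker_map π)
  have hF : HasProjectiveDimensionLT (ModuleCat.of A (Fin b → A)) 1 := by
    haveI : Projective (ModuleCat.of A (Fin b → A)) :=
      (IsProjective.iff_projective _).1 inferInstance
    infer_instance
  have hK : HasProjectiveDimensionLT (ModuleCat.of A K) 1 :=
    hS.hasProjectiveDimensionLT_X₁ 1 hF hpd
  have hKP : Projective (ModuleCat.of A K) := projective_iff_hasProjectiveDimensionLT_one.2 hK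
  have hKM : Module.Projective A K := (IsProjective.iff_projective (ModuleCat.of A K)).2 hKP
  haveI : Module.Free A K := Module.free_of_flat_of_isLocalRing
  -- the extension class vanishes
  have hext : (Ext.mk₀ (𝟙 (ModuleCat.of A M))).comp hS.extClass (zero_add 1) = 0 :=
    ext_free_vanish (ModuleCat.of A M) h K _
  obtain ⟨x₂, hx₂⟩ := Ext.covariant_sequence_exact₃ (ModuleCat.of A M) hS
    (Ext.mk₀ (𝟙 (ModuleCat.of A M))) (zero_add 1) hext
  let s : ModuleCat.of A M ⟶ ModuleCat.of A (Fin b → A) := Ext.homEquiv₀ x₂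
  have hs : s ≫ ModuleCat.ofHom π = 𝟙 _ := by
    apply (Ext.mk₀_bijective _ _).1
    rw [← Ext.mk₀_comp_mk₀, Ext.mk₀_homEquiv₀_apply]
    exact hx₂
  have hsplit : ∀ x : M, π (s.hom x) = x := by
    intro x
    have := congr_arg (fun t => t.hom x) hs
    exact this
  haveI : Module.Projective A M :=
    Module.Projective.of_split s.hom π (LinearMap.ext hsplit)
  exact Module.free_of_flat_of_isLocalRing

end partB

section final

variable [IsNoetherianRing A] [IsLocalRing A]

theorem serre (I : Ideal A)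
    (hres : ∃ (q : ℕ) (φ : (Fin q → A) →ₗ[A] ↥I), Function.Surjective φ ∧
      Module.Free A ↥(LinearMap.ker φ))
    (S : ShortComplex (ModuleCat.{u} A)) (hS : S.ShortExact)
    (h₁ : Nonempty (S.X₁ ≅ ModuleCat.of A A)) (h₃ : Nonempty (S.X₃ ≅ ModuleCat.of A ↥I)) :
    Module.Free A S.X₂ ↔
      ∀ x : Ext S.X₃ S.X₁ 1, ∃ f : S.X₁ ⟶ S.X₁,
        hS.extClass.comp (Ext.mk₀ f) (add_zero 1) = x := by
  obtain ⟨e₁⟩ := h₁
  obtain ⟨e₃⟩ := h₃
  haveI hPA : Projective (ModuleCat.of A A) := (IsProjective.iff_projective _).1 inferInstance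
  haveI hP1 : Projective S.X₁ := Projective.of_iso e₁.symm hPA
  rw [gen_iff_ext_vanish S hS]
  constructor
  · intro hfree y
    haveI : Module.Projective A S.X₂ := inferInstance
    haveI : Projective S.X₂ := (IsProjective.iff_projective S.X₂).1 inferInstance
    exact Ext.eq_zero_of_projective y
  · intro h
    -- projective dimension of `I`
    obtain ⟨q, φ, hφ, hfree⟩ := hres
    have hSI := Groth.Agent.Helper13Devissage.shortExact_mk (A := A) (LinearMap.ker φ).subtype φ
      (Submodule.injective_subtype _) hφ (LinearMap.exact_subtype_ker_map φ)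
    have hk : HasProjectiveDimensionLT (ModuleCat.of A (LinearMap.ker φ)) 1 := by
      haveI : Projective (ModuleCat.of A (LinearMap.ker φ)) :=
        (IsProjective.iff_projective _).1 inferInstance
      infer_instance
    have hF : HasProjectiveDimensionLT (ModuleCat.of A (Fin q → A)) (1 + 1) := by
      haveI : Projective (ModuleCat.of A (Fin q → A)) :=
        (IsProjective.iff_projective _).1 inferInstance
      exact hasProjectiveDimensionLT_of_ge _ 1 (1 + 1) (by omega)
    have hI : HasProjectiveDimensionLT (ModuleCat.of A ↥I) (1 + 1) :=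
      hSI.hasProjectiveDimensionLT_X₃ 1 hk hF
    have h3 : HasProjectiveDimensionLT S.X₃ 2 := hasProjectiveDimensionLT_of_iso e₃.symm 2
    have h1 : HasProjectiveDimensionLT S.X₁ 2 := hasProjectiveDimensionLT_of_ge _ 1 2 (by omega)
    have h2 : HasProjectiveDimensionLT S.X₂ 2 := hS.hasProjectiveDimensionLT_X₂ 2 h1 h3
    -- finiteness
    haveI : IsNoetherian A S.X₁ :=
      isNoetherian_of_linearEquiv (e₁.toLinearEquiv.symm : (ModuleCat.of A A) ≃ₗ[A] S.X₁)
    haveI : IsNoetherian A S.X₃ :=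
      isNoetherian_of_linearEquiv (e₃.toLinearEquiv.symm : (ModuleCat.of A ↥I) ≃ₗ[A] S.X₃)
    haveI : IsNoetherian A S.X₂ := by
      refine isNoetherian_of_range_eq_ker S.f.hom S.g.hom ?_
      have hex := (ShortComplex.ShortExact.moduleCat_exact_iff_function_exact S).1 hS.exact
      exact (LinearMap.exact_iff.1 hex).symm
    haveI : Module.Finite A S.X₂ := inferInstance
    refine free_of_ext_vanish S.X₂ h2 ?_
    intro y
    have hy := h (y.comp (Ext.mk₀ e₁.inv) (add_zero 1))
    have : y = (y.comp (Ext.mk₀ e₁.inv) (add_zero 1)).comp (Ext.mk₀ e₁.hom) (add_zero 1) := by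
      rw [Ext.comp_assoc y (Ext.mk₀ e₁.inv) (Ext.mk₀ e₁.hom) (add_zero 1) (add_zero 0)
        (by omega), Ext.mk₀_comp_mk₀, e₁.inv_hom_id, Ext.comp_mk₀_id]
    rw [this, hy, Ext.zero_comp]

end final

end Groth.Agent.Lib.R2Lead.SerreFree
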