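import Mathlib
import Groth.Prelude.Def_DescFam
import Groth.Agent.Lib.H5bDescPull

set_option autoImplicit false
universe w u

namespace Groth.Agent.Lib.R2LeadSigmaDDA

open CategoryTheory CategoryTheory.Limits AlgebraicGeometry Desc

variable {ι : Type w} [Small.{u} ι] {S : Scheme.{u}} {X : ι → Scheme.{u}} {f : ∀ i, X i ⟶ S}

instance isOpenImmersion_sigmaι {σ : Type w} [Small.{u} σ] (g : σ → Scheme.{u}) (i : σ) :
    IsOpenImmersion (Sigma.ι g i) :=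
  inferInstanceAs (IsOpenImmersion ((sigmaOpenCover g).f i))

/-- local equality principle for maps out of a scheme over a coproduct. -/
lemma hom_ext_sigma {T Z : Scheme.{u}} (x : T ⟶ ∐ X) (a b : T ⟶ Z)
    (H : ∀ (j : ι) (T' : Scheme.{u}) (g : T' ⟶ T) (y : T' ⟶ X j),
      g ≫ x = y ≫ Sigma.ι X j → g ≫ a = g ≫ b) : a = b := by
  refine Scheme.Cover.hom_ext ((sigmaOpenCover X).pullback₁ x) _ _ fun j => ?_
  exact H j _ _ (pullback.snd _ _) pullback.condition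

/-- disjointness: two factorizations through different components force emptiness. -/
lemma eq_of_nonempty {T : Scheme.{u}} [Nonempty T] {i j : ι} (a : T ⟶ X i) (b : T ⟶ X j)
    (h : a ≫ Sigma.ι X i = b ≫ Sigma.ι X j) : i = j := by
  by_contra hij
  have := isEmpty_of_commSq_sigmaι_of_ne (g := X) ⟨h⟩ hij
  exact (not_isEmpty_of_nonempty T) this

lemma hom_eq_of_ne {T Z : Scheme.{u}} {i j : ι} (a : T ⟶ X i) (b : T ⟶ X j)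
    (h : a ≫ Sigma.ι X i = b ≫ Sigma.ι X j) (hij : i ≠ j) (u v : T ⟶ Z) : u = v := by
  haveI := isEmpty_of_commSq_sigmaι_of_ne (g := X) ⟨h⟩ hij
  exact isInitialOfIsEmpty.hom_ext _ _

section

variable (D : SchDDFam f)

/-- the total space of the family. -/
noncomputable def sV : Scheme.{u} := ∐ fun i => (D.obj i).left

/-- the inclusion of a member. -/
noncomputable def sι (i : ι) : (D.obj i).left ⟶ sV D := Sigma.ι (fun i => (D.obj i).left) i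

instance (i : ι) : IsOpenImmersion (sι D i) := isOpenImmersion_sigmaι _ i

/-- the structure morphism of the total space. -/
noncomputable def sh : sV D ⟶ ∐ X := Limits.Sigma.map fun i => (D.obj i).hom

@[reassoc]
lemma sι_sh (i : ι) : sι D i ≫ sh D = (D.obj i).hom ≫ Sigma.ι X i := Limits.Sigma.ι_map _ _

/-- lifting a point of the total space lying over a component. -/
lemma exists_lift_sι {T : Scheme.{u}} {i : ι} (y : T ⟶ X i) (v : T ⟶ sV D)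
    (hv : v ≫ sh D = y ≫ Sigma.ι X i) : ∃ v' : T ⟶ (D.obj i).left, v' ≫ sι D i = v ∧
      v' ≫ (D.obj i).hom = y := by
  have hr : Set.range v ⊆ Set.range (sι D i) := by
    rintro _ ⟨t, rfl⟩
    obtain ⟨i', z, hz⟩ := (sigmaOpenCover fun i => (D.obj i).left).exists_eq (v t)
    have hz' : sι D i' z = v t := hz
    have e1 : (Sigma.ι X i') ((D.obj i').hom z) = (Sigma.ι X i) (y t) := by
      have h1 := congrArg (fun m => m.base t) hv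
      simp only [Scheme.Hom.comp_base, TopCat.comp_app] at h1
      have h2 := congrArg (fun m => m.base z) (sι_sh D i')
      simp only [Scheme.Hom.comp_base, TopCat.comp_app] at h2
      rw [← h2, hz']
      exact h1
    obtain ⟨rfl⟩ : i' = i := by
      have := (sigmaι_eq_iff X i' i _ _).mp e1
      exact congrArg Sigma.fst this
    exact ⟨z, hz'⟩
  refine ⟨IsOpenImmersion.lift (sι D i) v hr, IsOpenImmersion.lift_fac _ _ _, ?_⟩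
  rw [← cancel_mono (Sigma.ι X i), Category.assoc, ← sι_sh, ← Category.assoc,
    IsOpenImmersion.lift_fac, hv]

/-- compatibility of base points from the coproduct. -/
lemma compat_of {T T' : Scheme.{u}} {x₀ x₁ : T ⟶ ∐ X} (h : x₀ ≫ Sigma.desc f = x₁ ≫ Sigma.desc f)
    (g : T' ⟶ T) {i j : ι} (y₀ : T' ⟶ X i) (y₁ : T' ⟶ X j)
    (e₀ : g ≫ x₀ = y₀ ≫ Sigma.ι X i) (e₁ : g ≫ x₁ = y₁ ≫ Sigma.ι X j) :
    y₀ ≫ f i = y₁ ≫ f j := by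
  have a0 : y₀ ≫ f i = (y₀ ≫ Sigma.ι X i) ≫ Sigma.desc f := by
    rw [Category.assoc, Sigma.ι_desc]
  have a1 : y₁ ≫ f j = (y₁ ≫ Sigma.ι X j) ≫ Sigma.desc f := by
    rw [Category.assoc, Sigma.ι_desc]
  rw [a0, a1, ← e₀, ← e₁, Category.assoc, Category.assoc, h]

/-- the characterization of the glued bijection. -/
def IsGlue {T : Scheme.{u}} (x₀ x₁ : T ⟶ ∐ X) (v w : T ⟶ sV D) : Prop :=
  ∀ ⦃T' : Scheme.{u}⦄ (g : T' ⟶ T) ⦃i j : ι⦄ (y₀ : T' ⟶ X i) (y₁ : T' ⟶ X j)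
    (h : y₀ ≫ f i = y₁ ≫ f j) (v' : Lifts (D.obj i) y₀),
    g ≫ x₀ = y₀ ≫ Sigma.ι X i → g ≫ x₁ = y₁ ≫ Sigma.ι X j → g ≫ v = v'.1 ≫ sι D i →
    g ≫ w = (D.φ y₀ y₁ h v').1 ≫ sι D j

variable {D}

lemma IsGlue.precomp {T T₁ : Scheme.{u}} {x₀ x₁ : T ⟶ ∐ X} {v w : T ⟶ sV D}
    (H : IsGlue D x₀ x₁ v w) (k : T₁ ⟶ T) : IsGlue D (k ≫ x₀) (k ≫ x₁) (k ≫ v) (k ≫ w) := by
  intro T' g i j y₀ y₁ h v' e₀ e₁ ev
  rw [← Category.assoc]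
  exact H (g ≫ k) y₀ y₁ h v' (by rw [Category.assoc, e₀]) (by rw [Category.assoc, e₁])
    (by rw [Category.assoc, ev])

/-- local equality principle with all local data. -/
lemma hom_ext_loc {T Z : Scheme.{u}} (x₀ x₁ : T ⟶ ∐ X) (v : T ⟶ sV D) (hv : v ≫ sh D = x₀)
    (a b : T ⟶ Z)
    (H : ∀ ⦃T' : Scheme.{u}⦄ (g : T' ⟶ T) ⦃i j : ι⦄ (y₀ : T' ⟶ X i) (y₁ : T' ⟶ X j)
      (v' : Lifts (D.obj i) y₀), g ≫ x₀ = y₀ ≫ Sigma.ι X i → g ≫ x₁ = y₁ ≫ Sigma.ι X j →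
      g ≫ v = v'.1 ≫ sι D i → g ≫ a = g ≫ b) : a = b := by
  refine hom_ext_sigma x₀ a b fun i T₁ g₁ y₀ e₀ => ?_
  refine hom_ext_sigma (g₁ ≫ x₁) _ _ fun j T₂ g₂ y₁ e₁ => ?_
  obtain ⟨v', hv', hv''⟩ := exists_lift_sι D (g₂ ≫ y₀) ((g₂ ≫ g₁) ≫ v) (by
    rw [Category.assoc, hv, Category.assoc, e₀, Category.assoc])
  rw [← Category.assoc, ← Category.assoc]
  exact H (g₂ ≫ g₁) (g₂ ≫ y₀) y₁ ⟨v', hv''⟩ (by rw [Category.assoc, e₀, Category.assoc])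
    (by rw [Category.assoc, e₁]) hv'.symm

lemma IsGlue.unique {T : Scheme.{u}} {x₀ x₁ : T ⟶ ∐ X} {v w w' : T ⟶ sV D}
    (hv : v ≫ sh D = x₀) (hx : x₀ ≫ Sigma.desc f = x₁ ≫ Sigma.desc f)
    (H : IsGlue D x₀ x₁ v w) (H' : IsGlue D x₀ x₁ v w') : w = w' := by
  refine hom_ext_loc x₀ x₁ v hv w w' fun T' g i j y₀ y₁ v' e₀ e₁ ev => ?_
  rw [H g y₀ y₁ (compat_of hx g y₀ y₁ e₀ e₁) v' e₀ e₁ ev,
    H' g y₀ y₁ (compat_of hx g y₀ y₁ e₀ e₁) v' e₀ e₁ ev]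

lemma IsGlue.hom {T : Scheme.{u}} {x₀ x₁ : T ⟶ ∐ X} {v w : T ⟶ sV D}
    (hv : v ≫ sh D = x₀) (hx : x₀ ≫ Sigma.desc f = x₁ ≫ Sigma.desc f)
    (H : IsGlue D x₀ x₁ v w) : w ≫ sh D = x₁ := by
  refine hom_ext_loc x₀ x₁ v hv _ _ fun T' g i j y₀ y₁ v' e₀ e₁ ev => ?_
  rw [← Category.assoc, H g y₀ y₁ (compat_of hx g y₀ y₁ e₀ e₁) v' e₀ e₁ ev, Category.assoc,
    sι_sh, ← Category.assoc, (D.φ y₀ y₁ _ v').2, e₁]

section exist

variable {T : Scheme.{u}} (x₀ x₁ : T ⟶ ∐ X)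

/-- the double cover of `T` by the preimages of the components. -/
noncomputable def cov2 : T.OpenCover where
  I₀ := Σ _ : ι, ι
  X a := pullback (pullback.fst x₀ (Sigma.ι X a.1) ≫ x₁) (Sigma.ι X a.2)
  f a := pullback.fst (pullback.fst x₀ (Sigma.ι X a.1) ≫ x₁) (Sigma.ι X a.2) ≫
    pullback.fst x₀ (Sigma.ι X a.1)
  mem₀ := (Precoverage.ZeroHypercover.bind ((sigmaOpenCover X).pullback₁ x₀) fun i =>
    (sigmaOpenCover X).pullback₁ (pullback.fst x₀ (Sigma.ι X i) ≫ x₁)).mem₀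

/-- first local point. -/
noncomputable def ly₀ (a : Σ _ : ι, ι) : (cov2 x₀ x₁).X a ⟶ X a.1 :=
  pullback.fst (pullback.fst x₀ (Sigma.ι X a.1) ≫ x₁) (Sigma.ι X a.2) ≫
    pullback.snd x₀ (Sigma.ι X a.1)

/-- second local point. -/
noncomputable def ly₁ (a : Σ _ : ι, ι) : (cov2 x₀ x₁).X a ⟶ X a.2 :=
  pullback.snd (pullback.fst x₀ (Sigma.ι X a.1) ≫ x₁) (Sigma.ι X a.2)

lemma le₀ (a : Σ _ : ι, ι) : (cov2 x₀ x₁).f a ≫ x₀ = ly₀ x₀ x₁ a ≫ Sigma.ι X a.1 := by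
  change (pullback.fst (pullback.fst x₀ (Sigma.ι X a.1) ≫ x₁) (Sigma.ι X a.2) ≫
    pullback.fst x₀ (Sigma.ι X a.1)) ≫ x₀ = _
  rw [ly₀, Category.assoc, Category.assoc, pullback.condition]
  rfl

lemma le₁ (a : Σ _ : ι, ι) : (cov2 x₀ x₁).f a ≫ x₁ = ly₁ x₀ x₁ a ≫ Sigma.ι X a.2 := by
  change (pullback.fst (pullback.fst x₀ (Sigma.ι X a.1) ≫ x₁) (Sigma.ι X a.2) ≫
    pullback.fst x₀ (Sigma.ι X a.1)) ≫ x₁ = _
  rw [ly₁, Category.assoc, pullback.condition]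
  rfl

/-- factoring a point with local data through the double cover. -/
noncomputable def fac {T' : Scheme.{u}} (g : T' ⟶ T) {i j : ι} (y₀ : T' ⟶ X i) (y₁ : T' ⟶ X j)
    (e₀ : g ≫ x₀ = y₀ ≫ Sigma.ι X i) (e₁ : g ≫ x₁ = y₁ ≫ Sigma.ι X j) :
    T' ⟶ (cov2 x₀ x₁).X ⟨i, j⟩ :=
  pullback.lift (pullback.lift g y₀ e₀) y₁ (by rw [← Category.assoc, pullback.lift_fst, e₁])

section
variable {x₀ x₁} {T' : Scheme.{u}} (g : T' ⟶ T) {i j : ι} (y₀ : T' ⟶ X i) (y₁ : T' ⟶ X j)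
    (e₀ : g ≫ x₀ = y₀ ≫ Sigma.ι X i) (e₁ : g ≫ x₁ = y₁ ≫ Sigma.ι X j)

lemma fac_f : fac x₀ x₁ g y₀ y₁ e₀ e₁ ≫ (cov2 x₀ x₁).f ⟨i, j⟩ = g := by
  change pullback.lift _ _ _ ≫ (pullback.fst (pullback.fst x₀ (Sigma.ι X i) ≫ x₁) (Sigma.ι X j) ≫
    pullback.fst x₀ (Sigma.ι X i)) = g
  rw [pullback.lift_fst_assoc, pullback.lift_fst]

lemma fac_y₀ : fac x₀ x₁ g y₀ y₁ e₀ e₁ ≫ ly₀ x₀ x₁ ⟨i, j⟩ = y₀ := by
  change pullback.lift _ _ _ ≫ (pullback.fst (pullback.fst x₀ (Sigma.ι X i) ≫ x₁) (Sigma.ι X j) ≫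
    pullback.snd x₀ (Sigma.ι X i)) = y₀
  rw [pullback.lift_fst_assoc, pullback.lift_snd]

lemma fac_y₁ : fac x₀ x₁ g y₀ y₁ e₀ e₁ ≫ ly₁ x₀ x₁ ⟨i, j⟩ = y₁ := by
  change pullback.lift _ _ _ ≫ pullback.snd (pullback.fst x₀ (Sigma.ι X i) ≫ x₁) (Sigma.ι X j) = y₁
  rw [pullback.lift_snd]

end

variable {x₀ x₁} (hx : x₀ ≫ Sigma.desc f = x₁ ≫ Sigma.desc f) (v : T ⟶ sV D)
  (hv : v ≫ sh D = x₀)

include hv in
lemma lv_exists (a : Σ _ : ι, ι) : ∃ v' : (cov2 x₀ x₁).X a ⟶ (D.obj a.1).left,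
    v' ≫ sι D a.1 = (cov2 x₀ x₁).f a ≫ v ∧ v' ≫ (D.obj a.1).hom = ly₀ x₀ x₁ a :=
  exists_lift_sι D (ly₀ x₀ x₁ a) ((cov2 x₀ x₁).f a ≫ v) (by rw [Category.assoc, hv, le₀])

/-- local lift of the point. -/
noncomputable def lv (a : Σ _ : ι, ι) : Lifts (D.obj a.1) (ly₀ x₀ x₁ a) :=
  ⟨(lv_exists v hv a).choose, (lv_exists v hv a).choose_spec.2⟩

lemma lv_sι (a : Σ _ : ι, ι) : (lv v hv a).1 ≫ sι D a.1 = (cov2 x₀ x₁).f a ≫ v :=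
  (lv_exists v hv a).choose_spec.1

/-- local glued point. -/
noncomputable def lw (a : Σ _ : ι, ι) : (cov2 x₀ x₁).X a ⟶ sV D :=
  (D.φ (ly₀ x₀ x₁ a) (ly₁ x₀ x₁ a) (compat_of hx _ _ _ (le₀ x₀ x₁ a) (le₁ x₀ x₁ a))
    (lv v hv a)).1 ≫ sι D a.2

lemma lw_compat (a b : Σ _ : ι, ι) :
    pullback.fst ((cov2 x₀ x₁).f a) ((cov2 x₀ x₁).f b) ≫ lw hx v hv a =
      pullback.snd ((cov2 x₀ x₁).f a) ((cov2 x₀ x₁).f b) ≫ lw hx v hv b := by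
  have cond := pullback.condition (f := (cov2 x₀ x₁).f a) (g := (cov2 x₀ x₁).f b)
  by_cases h1 : a.1 = b.1
  · by_cases h2 : a.2 = b.2
    · obtain ⟨a1, a2⟩ := a
      obtain ⟨b1, b2⟩ := b
      obtain rfl : a1 = b1 := h1
      obtain rfl : a2 = b2 := h2
      have : pullback.fst ((cov2 x₀ x₁).f ⟨a1, a2⟩) ((cov2 x₀ x₁).f ⟨a1, a2⟩) =
          pullback.snd ((cov2 x₀ x₁).f ⟨a1, a2⟩) ((cov2 x₀ x₁).f ⟨a1, a2⟩) := by
        rw [← cancel_mono ((cov2 x₀ x₁).f ⟨a1, a2⟩)]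
        exact cond
      rw [this]
    · refine hom_eq_of_ne (pullback.fst _ _ ≫ ly₁ x₀ x₁ a) (pullback.snd _ _ ≫ ly₁ x₀ x₁ b) ?_
        h2 _ _
      rw [Category.assoc, ← le₁, Category.assoc, ← le₁, ← Category.assoc, cond, Category.assoc]
  · refine hom_eq_of_ne (pullback.fst _ _ ≫ ly₀ x₀ x₁ a) (pullback.snd _ _ ≫ ly₀ x₀ x₁ b) ?_
      h1 _ _
    rw [Category.assoc, ← le₀, Category.assoc, ← le₀, ← Category.assoc, cond, Category.assoc]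

/-- the glued point. -/
noncomputable def glue : T ⟶ sV D :=
  (cov2 x₀ x₁).glueMorphisms (lw hx v hv) (lw_compat hx v hv)

lemma isGlue_glue : IsGlue D x₀ x₁ v (glue hx v hv) := by
  intro T' g i j y₀ y₁ h v' e₀ e₁ ev
  have e1 : g ≫ glue hx v hv = fac x₀ x₁ g y₀ y₁ e₀ e₁ ≫ lw hx v hv ⟨i, j⟩ := by
    rw [glue, ← Scheme.Cover.ι_glueMorphisms (cov2 x₀ x₁) (lw hx v hv) (lw_compat hx v hv) ⟨i, j⟩,
      ← Category.assoc, fac_f]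
  rw [e1, lw, ← Category.assoc]
  congr 1
  refine (D.φ_natural (fac x₀ x₁ g y₀ y₁ e₀ e₁) (ly₀ x₀ x₁ ⟨i, j⟩) (ly₁ x₀ x₁ ⟨i, j⟩) _ y₀ y₁
    (fac_y₀ g y₀ y₁ e₀ e₁) (fac_y₁ g y₀ y₁ e₀ e₁) h (lv v hv ⟨i, j⟩) v' ?_).symm
  rw [← cancel_mono (sι D i), ← ev, Category.assoc, lv_sι, ← Category.assoc, fac_f]

end exist

section dd

variable (D)

/-- the object of the glued descent datum. -/
noncomputable def sobj : Over (∐ X) := Over.mk (sh D)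

variable {D}

/-- the raw glued bijection. -/
noncomputable def Φ {T : Scheme.{u}} (x₀ x₁ : T ⟶ ∐ X) (hx : x₀ ≫ Sigma.desc f = x₁ ≫ Sigma.desc f)
    (v : Lifts (sobj D) x₀) : Lifts (sobj D) x₁ :=
  ⟨glue hx v.1 v.2, (isGlue_glue hx v.1 v.2).hom v.2 hx⟩

lemma Φ_spec {T : Scheme.{u}} (x₀ x₁ : T ⟶ ∐ X) (hx : x₀ ≫ Sigma.desc f = x₁ ≫ Sigma.desc f)
    (v : Lifts (sobj D) x₀) : IsGlue D x₀ x₁ v.1 (Φ x₀ x₁ hx v).1 :=
  isGlue_glue hx v.1 v.2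

lemma Φ_eq_of_isGlue {T : Scheme.{u}} (x₀ x₁ : T ⟶ ∐ X)
    (hx : x₀ ≫ Sigma.desc f = x₁ ≫ Sigma.desc f) (v : Lifts (sobj D) x₀) (w : T ⟶ sV D)
    (H : IsGlue D x₀ x₁ v.1 w) : (Φ x₀ x₁ hx v).1 = w :=
  IsGlue.unique v.2 hx (Φ_spec x₀ x₁ hx v) H

lemma isGlue_self {T : Scheme.{u}} (x : T ⟶ ∐ X) (v : T ⟶ sV D) : IsGlue D x x v v := by
  intro T' g i j y₀ y₁ h v' e₀ e₁ ev
  by_cases hij : i = j
  · subst hij
    obtain rfl : y₀ = y₁ := by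
      rw [← cancel_mono (Sigma.ι X i), ← e₀, e₁]
    rw [D.φ_self y₀ v', ev]
  · exact hom_eq_of_ne y₀ y₁ (e₀.symm.trans e₁) hij _ _

lemma Φ_self {T : Scheme.{u}} (x : T ⟶ ∐ X) (v : Lifts (sobj D) x) : Φ x x rfl v = v :=
  Subtype.ext (Φ_eq_of_isGlue x x rfl v v.1 (isGlue_self x v.1))

lemma isGlue_comp {T : Scheme.{u}} (x₀ x₁ x₂ : T ⟶ ∐ X)
    (h₀₁ : x₀ ≫ Sigma.desc f = x₁ ≫ Sigma.desc f) (h₁₂ : x₁ ≫ Sigma.desc f = x₂ ≫ Sigma.desc f)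
    (v w₁ w₂ : T ⟶ sV D) (hv : v ≫ sh D = x₀)
    (H₁ : IsGlue D x₀ x₁ v w₁) (H₂ : IsGlue D x₁ x₂ w₁ w₂) : IsGlue D x₀ x₂ v w₂ := by
  intro T' g i k y₀ y₂ h v' e₀ e₂ ev
  refine hom_ext_sigma (g ≫ x₁) _ _ fun j T'' g₂ y₁ e₁ => ?_
  have e₀' : (g₂ ≫ g) ≫ x₀ = (g₂ ≫ y₀) ≫ Sigma.ι X i := by
    rw [Category.assoc, e₀, Category.assoc]
  have e₁' : (g₂ ≫ g) ≫ x₁ = y₁ ≫ Sigma.ι X j := by rw [Category.assoc, e₁]
  have e₂' : (g₂ ≫ g) ≫ x₂ = (g₂ ≫ y₂) ≫ Sigma.ι X k := by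
    rw [Category.assoc, e₂, Category.assoc]
  have hv' : (g₂ ≫ v'.1) ≫ (D.obj i).hom = g₂ ≫ y₀ := by rw [Category.assoc, v'.2]
  have c01 := compat_of h₀₁ (g₂ ≫ g) (g₂ ≫ y₀) y₁ e₀' e₁'
  have c12 := compat_of h₁₂ (g₂ ≫ g) y₁ (g₂ ≫ y₂) e₁' e₂'
  have s1 := H₁ (g₂ ≫ g) (g₂ ≫ y₀) y₁ c01 ⟨g₂ ≫ v'.1, hv'⟩ e₀' e₁' (by
    rw [Category.assoc, ev, Category.assoc])
  have s2 := H₂ (g₂ ≫ g) y₁ (g₂ ≫ y₂) c12 (D.φ (g₂ ≫ y₀) y₁ c01 ⟨g₂ ≫ v'.1, hv'⟩) e₁' e₂' s1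
  rw [← Category.assoc, s2, D.φ_comp, ← Category.assoc]
  congr 1
  exact D.φ_natural g₂ y₀ y₂ h (g₂ ≫ y₀) (g₂ ≫ y₂) rfl rfl _ v' ⟨g₂ ≫ v'.1, hv'⟩ rfl

lemma Φ_comp {T : Scheme.{u}} (x₀ x₁ x₂ : T ⟶ ∐ X)
    (h₀₁ : x₀ ≫ Sigma.desc f = x₁ ≫ Sigma.desc f) (h₁₂ : x₁ ≫ Sigma.desc f = x₂ ≫ Sigma.desc f)
    (v : Lifts (sobj D) x₀) : Φ x₁ x₂ h₁₂ (Φ x₀ x₁ h₀₁ v) = Φ x₀ x₂ (h₀₁.trans h₁₂) v :=
  Subtype.ext (Φ_eq_of_isGlue x₀ x₂ _ v _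
    (isGlue_comp x₀ x₁ x₂ h₀₁ h₁₂ v.1 _ _ v.2 (Φ_spec x₀ x₁ h₀₁ v)
      (Φ_spec x₁ x₂ h₁₂ (Φ x₀ x₁ h₀₁ v)))).symm

variable (D)

/-- the glued descent datum on the coproduct. -/
noncomputable def sigmaDD : SchDD (Sigma.desc f) where
  obj := sobj D
  φ T x₀ x₁ h :=
    { toFun := Φ x₀ x₁ h
      invFun := Φ x₁ x₀ h.symm
      left_inv := fun v => by rw [Φ_comp, Φ_self]
      right_inv := fun v => by rw [Φ_comp, Φ_self] }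
  φ_natural T T' g x₀ x₁ h h' v v' hv' := by
    refine Φ_eq_of_isGlue (g ≫ x₀) (g ≫ x₁) h' v' _ ?_
    have := (Φ_spec x₀ x₁ h v).precomp g
    rw [hv']
    exact this
  φ_self T x v := Φ_self x v
  φ_comp T x₀ x₁ x₂ h₀₁ h₁₂ v := Φ_comp x₀ x₁ x₂ h₀₁ h₁₂ v

lemma sigmaDD_spec {T : Scheme.{u}} (x₀ x₁ : T ⟶ ∐ X)
    (hx : x₀ ≫ Sigma.desc f = x₁ ≫ Sigma.desc f) (v : Lifts (sigmaDD D).obj x₀) :
    IsGlue D x₀ x₁ v.1 ((sigmaDD D).φ x₀ x₁ hx v).1 :=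
  Φ_spec x₀ x₁ hx v

end dd

end

section pull

variable (f)

/-- the functor restricting a descent datum on the coproduct to the family. -/
noncomputable abbrev pullF : SchDD (Sigma.desc f) ⥤ SchDDFam f :=
  Desc.SchDDFam.ofSchDD (Sigma.desc f) ⋙
    Desc.pullDDFam (f := fun _ : PUnit.{u + 1} => Sigma.desc f) (f' := f)
      (α := fun _ => PUnit.unit) (p := 𝟙 S) (p' := fun i => Sigma.ι X i)
      (fun i => (Sigma.ι_desc f i).trans (Category.comp_id (f i)).symm)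

variable {f}

lemma pullF_obj_hom (E : SchDD (Sigma.desc f)) (i : ι) :
    (((pullF f).obj E).obj i).hom = pullback.snd E.obj.hom (Sigma.ι X i) := rfl

lemma pullF_φ_fst (E : SchDD (Sigma.desc f)) {T : Scheme.{u}} {i j : ι} (x₀ : T ⟶ X i)
    (x₁ : T ⟶ X j) (h : x₀ ≫ f i = x₁ ≫ f j)
    (h' : (x₀ ≫ Sigma.ι X i) ≫ Sigma.desc f = (x₁ ≫ Sigma.ι X j) ≫ Sigma.desc f)
    (w0 : T ⟶ pullback E.obj.hom (Sigma.ι X i))
    (hw0 : w0 ≫ pullback.snd E.obj.hom (Sigma.ι X i) = x₀)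
    (w' : Lifts E.obj (x₀ ≫ Sigma.ι X i))
    (hw : w'.1 = w0 ≫ pullback.fst E.obj.hom (Sigma.ι X i)) :
    ((((pullF f).obj E).φ x₀ x₁ h) ⟨w0, hw0⟩).1 ≫ pullback.fst E.obj.hom (Sigma.ι X j) =
      (E.φ (x₀ ≫ Sigma.ι X i) (x₁ ≫ Sigma.ι X j) h' w').1 := by
  have hw2 : (w0 ≫ pullback.fst E.obj.hom (Sigma.ι X i)) ≫ E.obj.hom = x₀ ≫ Sigma.ι X i := by
    rw [Category.assoc, pullback.condition, ← Category.assoc, hw0]
  obtain rfl : w' = ⟨w0 ≫ pullback.fst E.obj.hom (Sigma.ι X i), hw2⟩ := Subtype.ext hw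
  exact pullback.lift_fst _ _ _

lemma pullF_φ_snd (E : SchDD (Sigma.desc f)) {T : Scheme.{u}} {i j : ι} (x₀ : T ⟶ X i)
    (x₁ : T ⟶ X j) (h : x₀ ≫ f i = x₁ ≫ f j) (w : Lifts (((pullF f).obj E).obj i) x₀) :
    ((((pullF f).obj E).φ x₀ x₁ h) w).1 ≫ pullback.snd E.obj.hom (Sigma.ι X j) = x₁ :=
  ((((pullF f).obj E).φ x₀ x₁ h) w).2

variable (D : SchDDFam f)

/-- the comparison of a member of the family with the restriction of the total space. -/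
noncomputable def aMor (i : ι) : (D.obj i).left ⟶ pullback (sh D) (Sigma.ι X i) :=
  pullback.lift (sι D i) (D.obj i).hom (sι_sh D i)

@[reassoc (attr := simp)]
lemma aMor_fst (i : ι) : aMor D i ≫ pullback.fst (sh D) (Sigma.ι X i) = sι D i :=
  pullback.lift_fst _ _ _

@[reassoc (attr := simp)]
lemma aMor_snd (i : ι) : aMor D i ≫ pullback.snd (sh D) (Sigma.ι X i) = (D.obj i).hom :=
  pullback.lift_snd _ _ _

lemma bMor_exists (i : ι) : ∃ b : pullback (sh D) (Sigma.ι X i) ⟶ (D.obj i).left,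
    b ≫ sι D i = pullback.fst (sh D) (Sigma.ι X i) ∧
      b ≫ (D.obj i).hom = pullback.snd (sh D) (Sigma.ι X i) :=
  exists_lift_sι D _ _ pullback.condition

/-- the inverse comparison. -/
noncomputable def bMor (i : ι) : pullback (sh D) (Sigma.ι X i) ⟶ (D.obj i).left :=
  (bMor_exists D i).choose

@[reassoc (attr := simp)]
lemma bMor_sι (i : ι) : bMor D i ≫ sι D i = pullback.fst (sh D) (Sigma.ι X i) :=
  (bMor_exists D i).choose_spec.1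

@[reassoc (attr := simp)]
lemma bMor_hom (i : ι) : bMor D i ≫ (D.obj i).hom = pullback.snd (sh D) (Sigma.ι X i) :=
  (bMor_exists D i).choose_spec.2

@[reassoc (attr := simp)]
lemma aMor_bMor (i : ι) : aMor D i ≫ bMor D i = 𝟙 _ := by
  rw [← cancel_mono (sι D i), Category.assoc, bMor_sι, aMor_fst, Category.id_comp]

@[reassoc (attr := simp)]
lemma bMor_aMor (i : ι) : bMor D i ≫ aMor D i = 𝟙 _ := by
  apply pullback.hom_ext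
  · rw [Category.assoc, aMor_fst, bMor_sι, Category.id_comp]
  · rw [Category.assoc, aMor_snd, bMor_hom, Category.id_comp]

/-- the comparison morphism of descent data. -/
noncomputable def pullHom : D ⟶ (pullF f).obj (sigmaDD D) where
  hom i := Over.homMk (aMor D i) (aMor_snd D i)
  comm T i j x₀ x₁ h v w hw := by
    obtain ⟨w0, hw0⟩ := w
    obtain rfl : w0 = v.1 ≫ aMor D i := hw
    change _ = (D.φ x₀ x₁ h v).1 ≫ aMor D j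
    have h' : (x₀ ≫ Sigma.ι X i) ≫ Sigma.desc f = (x₁ ≫ Sigma.ι X j) ≫ Sigma.desc f := by
      rw [Category.assoc, Category.assoc, Sigma.ι_desc, Sigma.ι_desc, h]
    have hv2 : (v.1 ≫ sι D i) ≫ sh D = x₀ ≫ Sigma.ι X i := by
      rw [Category.assoc, sι_sh, ← Category.assoc, v.2]
    apply pullback.hom_ext
    · have e1 := pullF_φ_fst (sigmaDD D) x₀ x₁ h h' (v.1 ≫ aMor D i) hw0 ⟨v.1 ≫ sι D i, hv2⟩ (by
        change v.1 ≫ sι D i = (v.1 ≫ aMor D i) ≫ pullback.fst (sh D) (Sigma.ι X i)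
        rw [Category.assoc, aMor_fst])
      refine e1.trans ?_
      have e2 := sigmaDD_spec D (x₀ ≫ Sigma.ι X i) (x₁ ≫ Sigma.ι X j) h' ⟨v.1 ≫ sι D i, hv2⟩
        (𝟙 T) x₀ x₁ h v (Category.id_comp _) (Category.id_comp _) (Category.id_comp _)
      rw [Category.id_comp] at e2
      change _ = ((D.φ x₀ x₁ h v).1 ≫ aMor D j) ≫ pullback.fst (sh D) (Sigma.ι X j)
      rw [e2, Category.assoc, aMor_fst]
    · refine (pullF_φ_snd (sigmaDD D) x₀ x₁ h _).trans ?_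
      change _ = ((D.φ x₀ x₁ h v).1 ≫ aMor D j) ≫ pullback.snd (sh D) (Sigma.ι X j)
      rw [Category.assoc, aMor_snd, (D.φ x₀ x₁ h v).2]

/-- the restriction of the glued datum is the original one. -/
noncomputable def pullIso : D ≅ (pullF f).obj (sigmaDD D) :=
  H5bDescPull.isoOfInv (pullHom D) (fun i => Over.homMk (bMor D i) (bMor_hom D i))
    (fun i => by ext; exact aMor_bMor D i) (fun i => by ext; exact bMor_aMor D i)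

end pull

end Groth.Agent.Lib.R2LeadSigmaDDA
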