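import Mathlib
import Groth.Prelude.Def_DescFam
import Groth.Agent.Lib.R2LeadSigmaDDA

set_option autoImplicit false
universe w u

namespace Groth.Agent.Lib.R2LeadSigmaDDB

open CategoryTheory CategoryTheory.Limits AlgebraicGeometry Desc Groth.Agent.Lib.R2LeadSigmaDDA

variable {ι : Type w} [Small.{u} ι] {S : Scheme.{u}} {X : ι → Scheme.{u}} {f : ∀ i, X i ⟶ S}

lemma φ_congr' {Y S' : Scheme.{u}} {p : Y ⟶ S'} (E : SchDD p) {T : Scheme.{u}} {x₀ y₀ x₁ y₁ : T ⟶ Y}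
    (e₀ : x₀ = y₀) (e₁ : x₁ = y₁) (h : x₀ ≫ p = x₁ ≫ p) (h' : y₀ ≫ p = y₁ ≫ p)
    (v : Lifts E.obj x₀) (v' : Lifts E.obj y₀) (hv : v.1 = v'.1) :
    (E.φ x₀ x₁ h v).1 = (E.φ y₀ y₁ h' v').1 := by
  subst e₀ e₁
  obtain rfl : v = v' := Subtype.ext hv
  rfl

section

variable {E E' : SchDD (Sigma.desc f)}

lemma pullF_map_left_fst (a : E ⟶ E') (i : ι) :
    (((pullF f).map a).hom i).left ≫ pullback.fst E'.obj.hom (Sigma.ι X i) =
      pullback.fst E.obj.hom (Sigma.ι X i) ≫ a.hom.left := by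
  exact pullback.lift_fst _ _ _

theorem pullF_faithful : (pullF f).Faithful := by
  refine ⟨fun {E E'} a b hab => ?_⟩
  apply SchDD.hom_ext
  apply Over.OverMorphism.ext
  refine hom_ext_sigma E.obj.hom _ _ fun j T' g y e => ?_
  have h1 : g = pullback.lift g y e ≫ pullback.fst E.obj.hom (Sigma.ι X j) :=
    (pullback.lift_fst _ _ _).symm
  have h2 : (((pullF f).map a).hom j).left = (((pullF f).map b).hom j).left := by rw [hab]
  rw [h1, Category.assoc, Category.assoc, ← pullF_map_left_fst, ← pullF_map_left_fst, h2]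

end

section full

variable {E E' : SchDD (Sigma.desc f)} (c : (pullF f).obj E ⟶ (pullF f).obj E')

/-- the local pieces of the preimage morphism. -/
noncomputable def cL (i : ι) : pullback E.obj.hom (Sigma.ι X i) ⟶ pullback E'.obj.hom (Sigma.ι X i) :=
  (c.hom i).left

lemma cL_snd (i : ι) : cL c i ≫ pullback.snd E'.obj.hom (Sigma.ι X i) =
    pullback.snd E.obj.hom (Sigma.ι X i) := Over.w (c.hom i)

/-- the cover of the total space by the restrictions. -/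
noncomputable def covE (E : SchDD (Sigma.desc f)) : E.obj.left.OpenCover where
  I₀ := ι
  X i := pullback E.obj.hom (Sigma.ι X i)
  f i := pullback.fst E.obj.hom (Sigma.ι X i)
  mem₀ := ((sigmaOpenCover X).pullback₁ E.obj.hom).mem₀

lemma cL_compat (i j : ι) :
    pullback.fst ((covE E).f i) ((covE E).f j) ≫ cL c i ≫ pullback.fst E'.obj.hom (Sigma.ι X i) =
      pullback.snd ((covE E).f i) ((covE E).f j) ≫ cL c j ≫
        pullback.fst E'.obj.hom (Sigma.ι X j) := by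
  have cond := pullback.condition (f := (covE E).f i) (g := (covE E).f j)
  by_cases hij : i = j
  · subst hij
    have : pullback.fst ((covE E).f i) ((covE E).f i) = pullback.snd ((covE E).f i) ((covE E).f i) := by
      rw [← cancel_mono ((covE E).f i)]
      exact cond
    rw [this]
  · refine hom_eq_of_ne (pullback.fst _ _ ≫ pullback.snd E.obj.hom (Sigma.ι X i))
      (pullback.snd _ _ ≫ pullback.snd E.obj.hom (Sigma.ι X j)) ?_ hij _ _
    have ci := pullback.condition (f := E.obj.hom) (g := Sigma.ι X i)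
    have cj := pullback.condition (f := E.obj.hom) (g := Sigma.ι X j)
    have cond' : pullback.fst ((covE E).f i) ((covE E).f j) ≫ pullback.fst E.obj.hom (Sigma.ι X i) =
      pullback.snd ((covE E).f i) ((covE E).f j) ≫ pullback.fst E.obj.hom (Sigma.ι X j) := cond
    calc (pullback.fst ((covE E).f i) ((covE E).f j) ≫ pullback.snd E.obj.hom (Sigma.ι X i)) ≫
          Sigma.ι X i
        = pullback.fst ((covE E).f i) ((covE E).f j) ≫
            (pullback.fst E.obj.hom (Sigma.ι X i) ≫ E.obj.hom) :=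
          (Category.assoc _ _ _).trans
            (congrArg (pullback.fst ((covE E).f i) ((covE E).f j) ≫ ·) ci.symm)
      _ = (pullback.fst ((covE E).f i) ((covE E).f j) ≫ pullback.fst E.obj.hom (Sigma.ι X i)) ≫
            E.obj.hom := (Category.assoc _ _ _).symm
      _ = (pullback.snd ((covE E).f i) ((covE E).f j) ≫ pullback.fst E.obj.hom (Sigma.ι X j)) ≫
            E.obj.hom := congrArg (· ≫ E.obj.hom) cond'
      _ = pullback.snd ((covE E).f i) ((covE E).f j) ≫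
            (pullback.fst E.obj.hom (Sigma.ι X j) ≫ E.obj.hom) := Category.assoc _ _ _
      _ = (pullback.snd ((covE E).f i) ((covE E).f j) ≫ pullback.snd E.obj.hom (Sigma.ι X j)) ≫
          Sigma.ι X j :=
          (congrArg (pullback.snd ((covE E).f i) ((covE E).f j) ≫ ·) cj).trans
            (Category.assoc _ _ _).symm

/-- the glued morphism of total spaces. -/
noncomputable def gl : E.obj.left ⟶ E'.obj.left :=
  (covE E).glueMorphisms (fun i => cL c i ≫ pullback.fst E'.obj.hom (Sigma.ι X i)) (cL_compat c)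

lemma fst_gl (i : ι) : pullback.fst E.obj.hom (Sigma.ι X i) ≫ gl c =
    cL c i ≫ pullback.fst E'.obj.hom (Sigma.ι X i) :=
  (covE E).ι_glueMorphisms _ (cL_compat c) i

lemma gl_hom : gl c ≫ E'.obj.hom = E.obj.hom := by
  refine (covE E).hom_ext _ _ fun i => ?_
  change pullback.fst E.obj.hom (Sigma.ι X i) ≫ _ = pullback.fst E.obj.hom (Sigma.ι X i) ≫ _
  rw [← Category.assoc, fst_gl, Category.assoc, pullback.condition, ← Category.assoc, cL_snd,
    pullback.condition]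

lemma φ_loc {Y S' : Scheme.{u}} {p : Y ⟶ S'} (E : SchDD p) {T T' : Scheme.{u}} (g : T' ⟶ T)
    (x₀ x₁ : T ⟶ Y) (h : x₀ ≫ p = x₁ ≫ p) (a₀ a₁ : T' ⟶ Y) (e₀ : g ≫ x₀ = a₀) (e₁ : g ≫ x₁ = a₁)
    (h' : a₀ ≫ p = a₁ ≫ p) (v : Lifts E.obj x₀) (v' : Lifts E.obj a₀) (hv : v'.1 = g ≫ v.1) :
    (E.φ a₀ a₁ h' v').1 = g ≫ (E.φ x₀ x₁ h v).1 := by
  subst e₀ e₁
  exact E.φ_natural g x₀ x₁ h h' v v' hv

lemma comm_loc {T T' : Scheme.{u}} (x₀ x₁ : T ⟶ ∐ X) (h : x₀ ≫ Sigma.desc f = x₁ ≫ Sigma.desc f)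
    (v : Lifts E.obj x₀) (w : Lifts E'.obj x₀) (hw : w.1 = v.1 ≫ gl c)
    (g : T' ⟶ T) {i j : ι} (y₀ : T' ⟶ X i) (y₁ : T' ⟶ X j)
    (e₀ : g ≫ x₀ = y₀ ≫ Sigma.ι X i) (e₁ : g ≫ x₁ = y₁ ≫ Sigma.ι X j) :
    g ≫ (E'.φ x₀ x₁ h w).1 = g ≫ (E.φ x₀ x₁ h v).1 ≫ gl c := by
  have hy : y₀ ≫ f i = y₁ ≫ f j := compat_of h g y₀ y₁ e₀ e₁
  have h' : (y₀ ≫ Sigma.ι X i) ≫ Sigma.desc f = (y₁ ≫ Sigma.ι X j) ≫ Sigma.desc f := by
    rw [Category.assoc, Category.assoc, Sigma.ι_desc, Sigma.ι_desc, hy]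
  have hgv : (g ≫ v.1) ≫ E.obj.hom = y₀ ≫ Sigma.ι X i := by rw [Category.assoc, v.2, e₀]
  have hgw : (g ≫ w.1) ≫ E'.obj.hom = y₀ ≫ Sigma.ι X i := by rw [Category.assoc, w.2, e₀]
  let v₀ : T' ⟶ pullback E.obj.hom (Sigma.ι X i) := pullback.lift (g ≫ v.1) y₀ hgv
  have hv₀ : v₀ ≫ pullback.snd E.obj.hom (Sigma.ι X i) = y₀ := pullback.lift_snd _ _ _
  have hv₀f : v₀ ≫ pullback.fst E.obj.hom (Sigma.ι X i) = g ≫ v.1 := pullback.lift_fst _ _ _
  let w₀ : T' ⟶ pullback E'.obj.hom (Sigma.ι X i) := v₀ ≫ cL c i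
  have hw₀ : w₀ ≫ pullback.snd E'.obj.hom (Sigma.ι X i) = y₀ := by
    rw [Category.assoc, cL_snd, hv₀]
  have hw₀f : w₀ ≫ pullback.fst E'.obj.hom (Sigma.ι X i) = g ≫ w.1 := by
    rw [Category.assoc, ← fst_gl, ← Category.assoc, hv₀f, hw, Category.assoc]
  have key := c.comm y₀ y₁ hy ⟨v₀, hv₀⟩ ⟨w₀, hw₀⟩ rfl
  have key' := congrArg (· ≫ pullback.fst E'.obj.hom (Sigma.ι X j)) key
  have L := pullF_φ_fst E' y₀ y₁ hy h' w₀ hw₀ ⟨g ≫ w.1, hgw⟩ hw₀f.symm
  have R := pullF_φ_fst E y₀ y₁ hy h' v₀ hv₀ ⟨g ≫ v.1, hgv⟩ hv₀f.symm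
  have L2 := φ_loc E' g x₀ x₁ h _ _ e₀ e₁ h' w ⟨g ≫ w.1, hgw⟩ rfl
  have R2 := φ_loc E g x₀ x₁ h _ _ e₀ e₁ h' v ⟨g ≫ v.1, hgv⟩ rfl
  rw [← L2, ← L]
  refine key'.trans ?_
  change (_ ≫ cL c j) ≫ _ = _
  rw [Category.assoc, ← fst_gl, ← Category.assoc]
  exact (congrArg (· ≫ gl c) (R.trans R2)).trans (Category.assoc _ _ _)

/-- the preimage of a morphism of restricted descent data. -/
noncomputable def preim : E ⟶ E' where
  hom := Over.homMk (gl c) (gl_hom c)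
  comm T x₀ x₁ h v w hw := by
    change _ = (E.φ x₀ x₁ h v).1 ≫ gl c
    refine hom_ext_sigma x₀ _ _ fun i T₁ g₁ y₀ e₀ => ?_
    refine hom_ext_sigma (g₁ ≫ x₁) _ _ fun j T₂ g₂ y₁ e₁ => ?_
    rw [← Category.assoc, ← Category.assoc]
    exact comm_loc c x₀ x₁ h v w hw (g₂ ≫ g₁) (g₂ ≫ y₀) y₁
      (by rw [Category.assoc, e₀, Category.assoc]) (by rw [Category.assoc, e₁])

lemma pullF_map_preim : (pullF f).map (preim c) = c := by
  apply SchDDFam.hom_ext
  funext i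
  apply Over.OverMorphism.ext
  apply pullback.hom_ext
  · refine (pullF_map_left_fst (preim c) i).trans ?_
    exact fst_gl c i
  · refine (Over.w (((pullF f).map (preim c)).hom i)).trans ?_
    exact (cL_snd c i).symm

end full

theorem pullF_full : (pullF f).Full := ⟨fun c => ⟨preim c, pullF_map_preim c⟩⟩

theorem pullF_essSurj : (pullF f).EssSurj := ⟨fun D => ⟨sigmaDD D, ⟨(pullIso D).symm⟩⟩⟩

theorem pullF_isEquivalence : (pullF f).IsEquivalence :=
  { faithful := pullF_faithful, full := pullF_full, essSurj := pullF_essSurj }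

end Groth.Agent.Lib.R2LeadSigmaDDB
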