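import Mathlib
import Groth.Prelude.Def_DescFam
import Groth.Agent.Lib.R2LeadSigmaDDB
import Groth.Agent.Lib.R2LeadFpqcCov

set_option autoImplicit false
universe w u

namespace Groth.Agent.Lib.R2LeadSigmaDDC

open CategoryTheory CategoryTheory.Limits AlgebraicGeometry Desc Groth.Agent.Lib.R2LeadSigmaDDA
  Groth.Agent.Lib.R2LeadSigmaDDB Groth.Agent.Lib.R2LeadFpqcCov

variable {ι : Type u} {S : Scheme.{u}} {X : ι → Scheme.{u}} {f : ∀ i, X i ⟶ S}

/-- the total morphism of an fpqc covering family is an fpqc covering. -/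
theorem isFpqcCov_sigmaDesc (hf : Presieve.ofArrows X f ∈ Scheme.fpqcPrecoverage S) :
    IsFpqcCov (Sigma.desc f) := by
  have hg1 : Presieve.ofArrows X f ∈ Scheme.qcPrecoverage S := hf.1
  have hg2 : Presieve.ofArrows X f ∈ Scheme.precoverage @Flat S := hf.2
  rw [Scheme.ofArrows_mem_precoverage_iff] at hg2
  haveI : ∀ i, Flat (f i) := hg2.2
  let E : PreZeroHypercover.{u} S := ⟨ι, X, f⟩
  have hE : QuasiCompactCover E := Scheme.presieve₀_mem_qcPrecoverage_iff.mp hg1
  let E' : PreZeroHypercover.{u} S := ⟨PUnit.{u + 1}, fun _ => ∐ X, fun _ => Sigma.desc f⟩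
  have hE' : QuasiCompactCover E' :=
    QuasiCompactCover.of_hom (𝒱 := E) (𝒰 := E')
      { s₀ := fun _ => PUnit.unit
        h₀ := fun i => Sigma.ι X i
        w₀ := fun i => Sigma.ι_desc f i }
  refine ⟨Scheme.presieve₀_mem_qcPrecoverage_iff.mpr hE', ?_⟩
  change Presieve.ofArrows (fun _ : PUnit.{u + 1} => ∐ X) (fun _ => Sigma.desc f) ∈
    Scheme.precoverage @Flat S
  rw [Scheme.ofArrows_mem_precoverage_iff]
  refine ⟨fun s => ?_, fun _ => inferInstance⟩
  obtain ⟨i, x, hx⟩ := hg2.1 s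
  refine ⟨PUnit.unit, Sigma.ι X i x, ?_⟩
  rw [← Scheme.Hom.comp_apply, Sigma.ι_desc]
  exact hx

lemma isPullback_sι (D : SchDDFam f) (i : ι) :
    IsPullback (sι D i) (D.obj i).hom (sh D) (Sigma.ι X i) :=
  IsPullback.of_iso_pullback ⟨sι_sh D i⟩ ⟨aMor D i, bMor D i, aMor_bMor D i, bMor_aMor D i⟩
    (aMor_fst D i) (aMor_snd D i)

section can

variable (f) (Y : Over S)

/-- comparison of canonical data, forward. -/
noncomputable def canA (i : ι) : pullback (f i) Y.hom ⟶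
    pullback (pullback.fst (Sigma.desc f) Y.hom) (Sigma.ι X i) :=
  pullback.lift (pullback.map (f i) Y.hom (Sigma.desc f) Y.hom (Sigma.ι X i) (𝟙 _) (𝟙 _)
    (by simp) (by simp)) (pullback.fst (f i) Y.hom) (pullback.lift_fst _ _ _)

@[reassoc (attr := simp)]
lemma canA_snd (i : ι) : canA f Y i ≫ pullback.snd (pullback.fst (Sigma.desc f) Y.hom) (Sigma.ι X i) =
    pullback.fst (f i) Y.hom := pullback.lift_snd _ _ _

@[reassoc (attr := simp)]
lemma canA_fst_fst (i : ι) : canA f Y i ≫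
    pullback.fst (pullback.fst (Sigma.desc f) Y.hom) (Sigma.ι X i) ≫
      pullback.fst (Sigma.desc f) Y.hom = pullback.fst (f i) Y.hom ≫ Sigma.ι X i := by
  rw [canA, pullback.lift_fst_assoc]
  exact pullback.lift_fst _ _ _

@[reassoc (attr := simp)]
lemma canA_fst_snd (i : ι) : canA f Y i ≫
    pullback.fst (pullback.fst (Sigma.desc f) Y.hom) (Sigma.ι X i) ≫
      pullback.snd (Sigma.desc f) Y.hom = pullback.snd (f i) Y.hom := by
  rw [canA, pullback.lift_fst_assoc]
  exact (pullback.lift_snd _ _ _).trans (Category.comp_id _)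

/-- comparison of canonical data, backward. -/
noncomputable def canB (i : ι) : pullback (pullback.fst (Sigma.desc f) Y.hom) (Sigma.ι X i) ⟶
    pullback (f i) Y.hom :=
  pullback.lift (pullback.snd _ _) (pullback.fst _ _ ≫ pullback.snd (Sigma.desc f) Y.hom) (by
    have c1 := pullback.condition (f := pullback.fst (Sigma.desc f) Y.hom) (g := Sigma.ι X i)
    have c2 := pullback.condition (f := Sigma.desc f) (g := Y.hom)
    rw [← Sigma.ι_desc f i, ← Category.assoc, ← c1, Category.assoc, c2, Category.assoc])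

@[reassoc (attr := simp)]
lemma canB_fst (i : ι) : canB f Y i ≫ pullback.fst (f i) Y.hom =
    pullback.snd (pullback.fst (Sigma.desc f) Y.hom) (Sigma.ι X i) := pullback.lift_fst _ _ _

@[reassoc (attr := simp)]
lemma canB_snd (i : ι) : canB f Y i ≫ pullback.snd (f i) Y.hom =
    pullback.fst (pullback.fst (Sigma.desc f) Y.hom) (Sigma.ι X i) ≫
      pullback.snd (Sigma.desc f) Y.hom := pullback.lift_snd _ _ _

lemma canA_canB (i : ι) : canA f Y i ≫ canB f Y i = 𝟙 _ := by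
  apply pullback.hom_ext <;> simp

lemma canB_canA (i : ι) : canB f Y i ≫ canA f Y i = 𝟙 _ := by
  apply pullback.hom_ext
  · apply pullback.hom_ext
    · simp [pullback.condition]
    · simp
  · simp

lemma canHom_comm {T : Scheme.{u}} {i j : ι} (x₀ : T ⟶ X i) (x₁ : T ⟶ X j)
    (h : x₀ ≫ f i = x₁ ≫ f j) (v0 : T ⟶ pullback (f i) Y.hom)
    (hv0 : v0 ≫ pullback.fst (f i) Y.hom = x₀)
    (hw0 : (v0 ≫ canA f Y i) ≫
      pullback.snd (pullback.fst (Sigma.desc f) Y.hom) (Sigma.ι X i) = x₀) :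
    ((((pullF f).obj ((toDD (Sigma.desc f)).obj Y)).φ x₀ x₁ h) ⟨v0 ≫ canA f Y i, hw0⟩).1 =
      (((canonicalDDFam f Y).φ x₀ x₁ h) ⟨v0, hv0⟩).1 ≫ canA f Y j := by
  have h' : (x₀ ≫ Sigma.ι X i) ≫ Sigma.desc f = (x₁ ≫ Sigma.ι X j) ≫ Sigma.desc f := by
    rw [Category.assoc, Category.assoc, Sigma.ι_desc, Sigma.ι_desc, h]
  have hv2 : (v0 ≫ canA f Y i ≫ pullback.fst (pullback.fst (Sigma.desc f) Y.hom) (Sigma.ι X i)) ≫
      pullback.fst (Sigma.desc f) Y.hom = x₀ ≫ Sigma.ι X i := by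
    rw [Category.assoc, Category.assoc, canA_fst_fst, ← Category.assoc, hv0]
  obtain ⟨hc, eφ⟩ : ∃ hc, (((canonicalDDFam f Y).φ x₀ x₁ h) ⟨v0, hv0⟩).1 =
      pullback.lift x₁ (v0 ≫ pullback.snd (f i) Y.hom) hc := ⟨_, rfl⟩
  rw [eφ]
  apply pullback.hom_ext
  · have e1 := pullF_φ_fst ((toDD (Sigma.desc f)).obj Y) x₀ x₁ h h' (v0 ≫ canA f Y i) hw0
      ⟨v0 ≫ canA f Y i ≫ pullback.fst (pullback.fst (Sigma.desc f) Y.hom) (Sigma.ι X i), hv2⟩
      (Category.assoc _ _ _).symm
    refine e1.trans ?_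
    obtain ⟨hc', eψ⟩ : ∃ hc', (((toDD (Sigma.desc f)).obj Y).φ (x₀ ≫ Sigma.ι X i) (x₁ ≫ Sigma.ι X j) h'
        ⟨v0 ≫ canA f Y i ≫ pullback.fst (pullback.fst (Sigma.desc f) Y.hom) (Sigma.ι X i),
          hv2⟩).1 = pullback.lift (x₁ ≫ Sigma.ι X j)
        ((v0 ≫ canA f Y i ≫ pullback.fst (pullback.fst (Sigma.desc f) Y.hom) (Sigma.ι X i)) ≫
          pullback.snd (Sigma.desc f) Y.hom) hc' := ⟨_, rfl⟩
    rw [eψ]
    apply pullback.hom_ext
    · change _ = ((pullback.lift x₁ (v0 ≫ pullback.snd (f i) Y.hom) hc ≫ canA f Y j) ≫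
        pullback.fst (pullback.fst (Sigma.desc f) Y.hom) (Sigma.ι X j)) ≫
          pullback.fst (Sigma.desc f) Y.hom
      rw [pullback.lift_fst, Category.assoc, Category.assoc, canA_fst_fst, pullback.lift_fst_assoc]
    · change _ = ((pullback.lift x₁ (v0 ≫ pullback.snd (f i) Y.hom) hc ≫ canA f Y j) ≫
        pullback.fst (pullback.fst (Sigma.desc f) Y.hom) (Sigma.ι X j)) ≫
          pullback.snd (Sigma.desc f) Y.hom
      rw [pullback.lift_snd, Category.assoc, Category.assoc, canA_fst_snd, Category.assoc,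
        Category.assoc, canA_fst_snd, pullback.lift_snd]
  · refine (pullF_φ_snd ((toDD (Sigma.desc f)).obj Y) x₀ x₁ h _).trans ?_
    change _ = (pullback.lift x₁ (v0 ≫ pullback.snd (f i) Y.hom) hc ≫ canA f Y j) ≫
        pullback.snd (pullback.fst (Sigma.desc f) Y.hom) (Sigma.ι X j)
    rw [Category.assoc, canA_snd, pullback.lift_fst]

/-- the comparison morphism between the canonical data. -/
noncomputable def canHom : (toDDFam f).obj Y ⟶ (pullF f).obj ((toDD (Sigma.desc f)).obj Y) where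
  hom i := Over.homMk (canA f Y i) (canA_snd f Y i)
  comm T i j x₀ x₁ h v w hw := by
    obtain ⟨v0, hv0⟩ := v
    obtain ⟨w0, hw0⟩ := w
    obtain rfl : w0 = v0 ≫ canA f Y i := hw
    exact canHom_comm f Y x₀ x₁ h v0 hv0 hw0

/-- the canonical descent data correspond under restriction to the family. -/
noncomputable def canIso : (toDDFam f).obj Y ≅ (pullF f).obj ((toDD (Sigma.desc f)).obj Y) :=
  H5bDescPull.isoOfInv (canHom f Y) (fun i => Over.homMk (canB f Y i) (canB_fst f Y i))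
    (fun i => by ext; exact canA_canB f Y i) (fun i => by ext; exact canB_canA f Y i)

end can

/-- effectivity of a family datum follows from effectivity of the glued datum. -/
theorem isEffective_of_sigmaDD (D : SchDDFam f)
    (h : ∃ Y : Over S, Nonempty ((toDD (Sigma.desc f)).obj Y ≅ sigmaDD D)) : D.IsEffective := by
  obtain ⟨Y, ⟨e⟩⟩ := h
  exact ⟨Y, ⟨canIso f Y ≪≫ (pullF f).mapIso e ≪≫ (pullIso D).symm⟩⟩

end Groth.Agent.Lib.R2LeadSigmaDDC
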