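import Mathlib
import Groth.Prelude.Def_DescFam
import Groth.Agent.Lib.R2LeadSigmaDDC
import Groth.Agent.Lib.H5bDDGenG
import Groth.Agent.Lib.H5bDDGenE

set_option autoImplicit false
universe u

namespace Groth.Agent.Lib.R2LeadSigmaDDD

open CategoryTheory CategoryTheory.Limits AlgebraicGeometry Desc Groth.Agent.Lib.R2LeadSigmaDDA
  Groth.Agent.Lib.R2LeadSigmaDDB Groth.Agent.Lib.R2LeadSigmaDDC Groth.Agent.Lib.R2LeadFpqcCov
  Groth.Agent.Lib.H5bDDGlue Groth.Agent.Lib.H5bDDGen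

/-- refinement by a morphism whose composite is (propositionally) a given descent cover. -/
theorem effective_of_pull_effective_of_cover' {X S X' : Scheme.{u}} {p : X ⟶ S} (q : X' ⟶ X)
    {p' : X' ⟶ S} (hp' : q ≫ p = p') [IsDescCover p'] (D : SchDD p) (U : Over S)
    (e : (toDD p').obj U ≅ pullDD (s := 𝟙 S) (p' := p') (hp'.trans (Category.comp_id p').symm) D) :
    Nonempty ((toDD p).obj U ≅ D) := by
  subst hp'
  exact effective_of_pull_effective_of_cover q D U e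

section main

variable (P : MorphismProperty Scheme.{u}) [P.IsStableUnderBaseChange]
  (h2 : ∀ (m : ℕ) (Y V : Fin m → Scheme.{u}) (q : ∀ j, Y j ⟶ V j), (∀ j, P (q j)) →
    P (Limits.Sigma.map q))
  (h3 : ∀ (X S : Scheme.{u}) (p : X ⟶ S), IsAffine X → IsAffine S → Flat p → Surjective p →
      ∀ D : Desc.SchDD p, P D.obj.hom → ∃ U : Over S, Nonempty ((Desc.toDD p).obj U ≅ D))

include h2 h3 in
/-- effectivity over an affine base for a finite family of affines. -/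
theorem effective_finite_affine {n : ℕ} {S₀ : Scheme.{u}} [IsAffine S₀] {W : Fin n → Scheme.{u}}
    [∀ k, IsAffine (W k)] (w : ∀ k, W k ⟶ S₀) [∀ k, Flat (w k)] [Surjective (Sigma.desc w)]
    (E₀ : SchDD (Sigma.desc w))
    (hP : ∀ k, P (pullback.snd E₀.obj.hom (Sigma.ι W k))) :
    ∃ Y : Over S₀, Nonempty ((toDD (Sigma.desc w)).obj Y ≅ E₀) := by
  let D_W : SchDDFam w := (pullF w).obj E₀
  let E₀' : SchDD (Sigma.desc w) := sigmaDD D_W
  haveI : (pullF w).Full := pullF_full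
  haveI : (pullF w).Faithful := pullF_faithful
  let eE : E₀' ≅ E₀ := (pullF w).preimageIso (pullIso D_W).symm
  have hP' : P E₀'.obj.hom := h2 n (fun k => (D_W.obj k).left) W (fun k => (D_W.obj k).hom) hP
  obtain ⟨Y, ⟨e⟩⟩ := h3 _ _ (Sigma.desc w) inferInstance inferInstance inferInstance inferInstance
    E₀' hP'
  exact ⟨Y, ⟨e ≪≫ eE⟩⟩

include h2 h3 in
/-- the reduction of effectivity for fpqc covering families to the affine case. -/
theorem effective_of_affine_case {ι : Type u} {S : Scheme.{u}} {U : ι → Scheme.{u}}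
    (u : ∀ i, U i ⟶ S) (hu : Presieve.ofArrows U u ∈ Scheme.fpqcPrecoverage S)
    (D : Desc.SchDDFam u) (hD : ∀ i, P (D.obj i).hom) : D.IsEffective := by
  apply isEffective_of_sigmaDD
  have hq := isFpqcCov_sigmaDesc hu
  haveI := hq.isDescCover
  haveI := hq.flat
  have hg1 : Presieve.ofArrows U u ∈ Scheme.qcPrecoverage S := hu.1
  have hg2 : Presieve.ofArrows U u ∈ Scheme.precoverage @Flat S := hu.2
  rw [Scheme.ofArrows_mem_precoverage_iff] at hg2
  haveI : ∀ i, Flat (u i) := hg2.2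
  let C : PreZeroHypercover.{u} S := ⟨ι, U, u⟩
  have hC : QuasiCompactCover C := Scheme.presieve₀_mem_qcPrecoverage_iff.mp hg1
  obtain ⟨q, hqdef⟩ : ∃ q : ∐ U ⟶ S, q = Sigma.desc u := ⟨_, rfl⟩
  apply effective_of_good_cover (sigmaDD D)
  intro v
  obtain ⟨⟨S₀, hS₀⟩, hv⟩ : ∃ S₀ : S.affineOpens, (Sigma.desc u) ((sigmaDD D).obj.hom v) ∈ S₀.1 := by
    obtain ⟨_, ⟨S₀, hS₀, rfl⟩, hv, -⟩ :=
      S.isBasis_affineOpens.exists_subset_of_mem_open
        (Set.mem_univ ((Sigma.desc u) ((sigmaDD D).obj.hom v))) isOpen_univ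
    exact ⟨⟨S₀, hS₀⟩, hv⟩
  obtain ⟨n, a, W, hW, hWU⟩ := QuasiCompactCover.exists_isAffineOpen_of_isCompact C
    (U := S₀) hS₀.isCompact
  have hWU' : ∀ (k : Fin n) (x : U (a k)), x ∈ W k → u (a k) x ∈ S₀ := by
    intro k x hx
    have : (u (a k)) x ∈ ⋃ i, C.f (a i) '' (W i) := Set.mem_iUnion.mpr ⟨k, ⟨x, hx, rfl⟩⟩
    rw [hWU] at this
    exact this
  have sq : IsPullback ((Sigma.desc u) ⁻¹ᵁ S₀).ι ((Sigma.desc u) ∣_ S₀) (Sigma.desc u) S₀.ι :=
    (isPullback_morphismRestrict (Sigma.desc u) S₀).flip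
  let E₁ := pullDD sq.w (sigmaDD D)
  -- the finite affine family
  let Wk : Fin n → Scheme.{u} := fun k => (W k : (U (a k)).Opens)
  haveI : ∀ k, IsAffine (Wk k) := hW
  haveI : IsAffine (S₀ : Scheme.{u}) := hS₀
  have hrange : ∀ k, Set.range ((W k).ι ≫ Sigma.ι U (a k)) ⊆
      Set.range ((Sigma.desc u) ⁻¹ᵁ S₀).ι := by
    rintro k _ ⟨x, rfl⟩
    rw [Scheme.Opens.range_ι]
    change (Sigma.desc u) (((W k).ι ≫ Sigma.ι U (a k)) x) ∈ S₀
    rw [← Scheme.Hom.comp_apply, Category.assoc, Sigma.ι_desc, Scheme.Hom.comp_apply]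
    exact hWU' k _ x.2
  let j : ∀ k, Wk k ⟶ ((Sigma.desc u) ⁻¹ᵁ S₀ : Scheme.{u}) := fun k =>
    IsOpenImmersion.lift ((Sigma.desc u) ⁻¹ᵁ S₀).ι ((W k).ι ≫ Sigma.ι U (a k)) (hrange k)
  have hj : ∀ k, j k ≫ ((Sigma.desc u) ⁻¹ᵁ S₀).ι = (W k).ι ≫ Sigma.ι U (a k) := fun k =>
    IsOpenImmersion.lift_fac _ _ _
  haveI : ∀ k, IsOpenImmersion (j k) := fun k => by
    haveI : IsOpenImmersion (j k ≫ ((Sigma.desc u) ⁻¹ᵁ S₀).ι) := by
      rw [hj k]
      haveI := isOpenImmersion_sigmaι U (a k)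
      infer_instance
    exact IsOpenImmersion.of_comp (j k) ((Sigma.desc u) ⁻¹ᵁ S₀).ι
  let w : ∀ k, Wk k ⟶ (S₀ : Scheme.{u}) := fun k => j k ≫ (Sigma.desc u) ∣_ S₀
  have hw : ∀ k, w k ≫ S₀.ι = (W k).ι ≫ u (a k) := fun k => by
    rw [Category.assoc, morphismRestrict_ι, ← Category.assoc, hj k, Category.assoc, Sigma.ι_desc]
  haveI : ∀ k, Flat (w k) := fun k => inferInstance
  let r : ∐ Wk ⟶ ((Sigma.desc u) ⁻¹ᵁ S₀ : Scheme.{u}) := Sigma.desc j
  have hr : r ≫ (Sigma.desc u) ∣_ S₀ = Sigma.desc w := by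
    apply Sigma.hom_ext
    intro k
    rw [← Category.assoc, Sigma.ι_desc, Sigma.ι_desc]
  haveI : Surjective (Sigma.desc w) := by
    apply Surjective.sigmaDesc_of_union_range_eq_univ
    rw [Set.eq_univ_iff_forall]
    intro s
    have hs : (s.1 : S) ∈ ⋃ i, C.f (a i) '' (W i) := by rw [hWU]; exact s.2
    obtain ⟨k, x, hx, hxs⟩ := Set.mem_iUnion.mp hs
    refine Set.mem_iUnion.mpr ⟨k, ⟨x, hx⟩, ?_⟩
    apply Subtype.ext
    have := congrArg (fun m => m.base (⟨x, hx⟩ : Wk k)) (hw k)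
    simp only [Scheme.Hom.comp_base, TopCat.comp_app] at this
    exact this.trans hxs
  haveI : QuasiCompact (Sigma.desc w) := quasiCompact_of_compactSpace _
  let E₀ := pullDD (q := r) (s := 𝟙 _) (p' := Sigma.desc w)
    (hr.trans (Category.comp_id _).symm) E₁
  have hPk : ∀ k, P (pullback.snd E₀.obj.hom (Sigma.ι Wk k)) := by
    intro k
    have A : IsPullback (pullback.fst E₀.obj.hom (Sigma.ι Wk k))
        (pullback.snd E₀.obj.hom (Sigma.ι Wk k)) E₀.obj.hom (Sigma.ι Wk k) :=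
      IsPullback.of_hasPullback _ _
    have B := isPullback_pullDD (hr.trans (Category.comp_id _).symm) E₁
    have C' := isPullback_pullDD sq.w (sigmaDD D)
    have big := (A.paste_horiz B).paste_horiz C'
    have e1 : (Sigma.ι Wk k ≫ r) ≫ ((Sigma.desc u) ⁻¹ᵁ S₀).ι = (W k).ι ≫ Sigma.ι U (a k) := by
      rw [Sigma.ι_desc, hj k]
    rw [e1] at big
    have R := isPullback_sι D (a k)
    let l := R.lift ((pullback.fst E₀.obj.hom (Sigma.ι Wk k) ≫
      prD (hr.trans (Category.comp_id _).symm) E₁) ≫ prD sq.w (sigmaDD D))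
      (pullback.snd E₀.obj.hom (Sigma.ι Wk k) ≫ (W k).ι) (by
        rw [Category.assoc]
        exact big.w)
    have hl1 : l ≫ sι D (a k) = (pullback.fst E₀.obj.hom (Sigma.ι Wk k) ≫
      prD (hr.trans (Category.comp_id _).symm) E₁) ≫ prD sq.w (sigmaDD D) := R.lift_fst _ _ _
    have hl2 : l ≫ (D.obj (a k)).hom = pullback.snd E₀.obj.hom (Sigma.ι Wk k) ≫ (W k).ι :=
      R.lift_snd _ _ _
    rw [← hl1] at big
    have left := IsPullback.of_right big hl2 R
    exact P.of_isPullback left (hD (a k))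
  obtain ⟨Y₁, ⟨e⟩⟩ := effective_finite_affine P h2 h3 w E₀ hPk
  obtain ⟨e₁⟩ := effective_of_pull_effective_of_cover' r hr E₁ Y₁ e
  refine ⟨_, good_of_pull_effective sq (sigmaDD D) Y₁ e₁, ?_⟩
  change (sigmaDD D).obj.hom v ∈ ((Sigma.desc u) ⁻¹ᵁ S₀).ι.opensRange
  rw [Scheme.Opens.opensRange_ι]
  exact hv

end main

end Groth.Agent.Lib.R2LeadSigmaDDD
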