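import Groth.Agent.Lib.Helper3SmDim
import Groth.Agent.Lib.Helper4DimFormulaAD
import Groth.Agent.Lib.Helper4DimFormulaAN
import Groth.Agent.Lib.Helper6SmDimSch
import Groth.Agent.Lib.Helper5FiberStalk
import Groth.Agent.Lib.Helper5StalkSpec
import Groth.Agent.Lib.Helper5MiracleSch
import Groth.Agent.Lib.R2LeadIntDimA
import Groth.Agent.Lib.R2LeadDimCompB

/-!
# Relative codimension equals codimension for smooth pairs (lead)
-/

set_option autoImplicit false
set_option linter.style.haveILetI false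
universe u

open CategoryTheory CategoryTheory.Limits AlgebraicGeometry TopologicalSpace

namespace Groth.Agent.Lib.R2LeadSmCodim

open Groth.Agent.Lib.Helper4.DimFormula

/-- the local fibre dimension of a smooth morphism is locally constant (and a natural number) -/
theorem exists_fibreDimAt_const {X S : Scheme.{u}} (f : X ⟶ S) [Smooth f] (x : X) :
    ∃ (n : ℕ) (V : X.Opens), x ∈ V ∧ ∀ x' ∈ V, FlatMor.fibreDimAt f x' = (n : WithBot ℕ∞) := by
  obtain ⟨U, hU, V, hV, hx, e, hf⟩ := Smooth.exists_isStandardSmooth f x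
  obtain ⟨n, hn⟩ := Groth.Agent.Lib.Helper3.SmDim.exists_relDim_of_isStandardSmooth _ hf
  exact ⟨n, V, hx, fun x' hx' =>
    Groth.Agent.Lib.Helper3.SmDim.fibreDimAt_eq_of_chart f n x' hU hV hx' e hn⟩

/-- `dim O_{X,x} = dim O_{S,f x} + dim O_{X_s,x}` for a smooth morphism -/
theorem dim_stalk_eq {X S : Scheme.{u}} [IsLocallyNoetherian S] (f : X ⟶ S) [Smooth f] (x : X) :
    ringKrullDim (X.presheaf.stalk x) =
      ringKrullDim (S.presheaf.stalk (f x)) + ringKrullDim (CInt.fiberStalk f x) := by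
  have h := Groth.Agent.Lib.Helper6.SmDim.main4990 f x
    ⟨⊤, trivial, inferInstance⟩
  obtain ⟨ψ⟩ := Groth.Agent.Lib.Helper5.FiberStalk.nonempty_stalk_asFiber_equiv f x
  rw [h, ringKrullDim_eq_of_ringEquiv ψ]


theorem main {X Y S : Scheme.{u}} [IsLocallyNoetherian X]
    [IsLocallyNoetherian S] (f : X ⟶ S) [Smooth f] (i : Y ⟶ X) [IsClosedImmersion i]
    [Smooth (i ≫ f)] :
    (⨅ y : Set.range i.base, ringKrullDim ↑(CInt.fiberStalk f y.1)) =
      ⨅ y : Set.range i.base, ringKrullDim ↑(X.presheaf.stalk y.1) := by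
  haveI : IsLocallyNoetherian Y := LocallyOfFiniteType.isLocallyNoetherian i
  apply le_antisymm
  · refine le_iInf fun y => (iInf_le _ y).trans ?_
    rw [dim_stalk_eq f y.1]
    exact le_add_of_nonneg_left ringKrullDim_nonneg_of_nontrivial
  · refine le_iInf fun ⟨x, y, hy⟩ => ?_
    subst hy
    obtain ⟨y', hy'cl, hy'max⟩ :=
      Groth.Agent.Lib.R2LeadDimCompB.exists_generic_of_mem_irreducibleComponents
        (irreducibleComponent y) (irreducibleComponent_mem_irreducibleComponents y)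
    have hspec : y' ⤳ y := specializes_iff_mem_closure.mpr (hy'cl ▸ mem_irreducibleComponent)
    obtain ⟨n, V, hxV, hV⟩ := exists_fibreDimAt_const f (i y)
    obtain ⟨m, V', hyV', hV'⟩ := exists_fibreDimAt_const (i ≫ f) y
    have hspec' : i y' ⤳ i y := hspec.map i.continuous
    have h1 := hV (i y) hxV
    have h2 := hV (i y') (hspec'.mem_open V.2 hxV)
    have h3 := hV' y hyV'
    have h4 := hV' y' (hspec.mem_open V'.2 hyV')
    rw [fibreDimAt_eq_stalk_add_ptTrdeg] at h1 h2 h3 h4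
    have h5 : ptTrdeg (i ≫ f) y = ptTrdeg f (i y) := ptTrdeg_comp_of_isPreimmersion i f y
    have h5' : ptTrdeg (i ≫ f) y' = ptTrdeg f (i y') := ptTrdeg_comp_of_isPreimmersion i f y'
    have h6 : ringKrullDim (Y.presheaf.stalk y') = 0 :=
      Groth.Agent.Lib.Helper5.StalkSpec.ringKrullDim_stalk_eq_zero_of_maximal Y y' hy'max
    have h7 : ringKrullDim (S.presheaf.stalk ((i ≫ f) y')) = 0 :=
      Groth.Agent.Lib.R2LeadIntDimA.dim_stalk_eq_zero_of_flat (i ≫ f) y' h6
    have h8 := dim_stalk_eq (i ≫ f) y'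
    rw [h6] at h8
    have h9 : ringKrullDim (CInt.fiberStalk (i ≫ f) y') = 0 :=
      Groth.Agent.Lib.R2LeadIntDimA.eq_zero_of_zero_eq_add _ _ h8 ringKrullDim_nonneg_of_nontrivial
    have h10 := dim_stalk_eq f (i y')
    have h7' : ringKrullDim (S.presheaf.stalk (f (i y'))) = 0 := h7
    rw [h7', zero_add] at h10
    rw [h9, zero_add] at h4
    have h4' : ptTrdeg (i ≫ f) y' = m := by exact_mod_cast h4
    obtain ⟨a, ha, ha'⟩ := Groth.Agent.Lib.Helper5.MiracleSch.exists_nat_of_add_eq h1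
    obtain ⟨a', hA, hA'⟩ := Groth.Agent.Lib.Helper5.MiracleSch.exists_nat_of_add_eq h2
    obtain ⟨b, hb, hb'⟩ := Groth.Agent.Lib.Helper5.MiracleSch.exists_nat_of_add_eq h3
    refine (iInf_le _ ⟨i y', y', rfl⟩).trans ?_
    show ringKrullDim (X.presheaf.stalk (i y')) ≤ ringKrullDim (CInt.fiberStalk f (i y))
    rw [h10, hA, ha]
    have hle : a' ≤ a := by omega
    exact_mod_cast hle

end Groth.Agent.Lib.R2LeadSmCodim
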