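import Mathlib
import Groth.Prelude.Def_LCI2
import Groth.Prelude.Def_RegImm
import Groth.Agent.Lib.R2LeadSyntP
import Groth.Agent.Lib.R2LeadSyntE

set_option autoImplicit false
set_option linter.style.haveILetI false
universe u

open TensorProduct

namespace Groth.Agent.Lib.R2LeadSyntS

/-- flat + quasi-finite + lci ⟹ locally a relative global complete intersection with as many equations
as variables. -/
theorem main {A B : Type u} [CommRing A] [CommRing B] [Algebra A B] [Module.Flat A B]
    [Algebra.QuasiFinite A B] (hlci : LCI.IsLCI A B) (q : Ideal B) [q.IsPrime] :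
    ∃ g : B, g ∉ q ∧ ∃ (n : ℕ) (f : Fin n → MvPolynomial (Fin n) A),
      Nonempty (Localization.Away g ≃ₐ[A]
        (MvPolynomial (Fin n) A ⧸ Ideal.span (Set.range f))) := by
  have hS : Synt.IsSyntomic A B := Groth.Agent.Lib.R2LeadSyntE.isSyntomic_of_flat_of_isLCI _ _ hlci
  obtain ⟨h, hh, m, c, F, hrel, ⟨e⟩⟩ :=
    Groth.Agent.Lib.R2LeadSyntP.exists_relGCI_nhd A B hS ⟨q, inferInstance⟩
  change h ∉ q at hh
  let p : PrimeSpectrum A := ⟨q.comap (algebraMap A B), inferInstance⟩
  have hdisj : Disjoint (Submonoid.powers h : Set B) (q : Set B) := by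
    rw [Set.disjoint_left]
    rintro _ ⟨k, rfl⟩ hmem
    exact hh (Ideal.IsPrime.mem_of_pow_mem inferInstance k hmem)
  have hprime := IsLocalization.isPrime_of_isPrime_disjoint
    (Submonoid.powers h) (Localization.Away h) q inferInstance hdisj
  have hcomap : Ideal.comap (algebraMap B (Localization.Away h))
      (Ideal.map (algebraMap B (Localization.Away h)) q) = q :=
    IsLocalization.under_map_of_isPrime_disjoint
      (Submonoid.powers h) (Localization.Away h) inferInstance hdisj
  let z : PrimeSpectrum (Synt.RelGCIRing A m c F) :=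
    PrimeSpectrum.comap (e.symm : Synt.RelGCIRing A m c F →+* Localization.Away h) ⟨_, hprime⟩
  have hz : PrimeSpectrum.comap (algebraMap A (Synt.RelGCIRing A m c F)) z = p := by
    ext a
    change e.symm (algebraMap A _ a) ∈ Ideal.map (algebraMap B (Localization.Away h)) q ↔
      algebraMap A B a ∈ q
    rw [e.symm.commutes, IsScalarTower.algebraMap_apply A B (Localization.Away h),
      ← Ideal.mem_comap, hcomap]
  have hnt : Nontrivial (p.asIdeal.Fiber (Synt.RelGCIRing A m c F)) := by
    have hne : Nonempty (PrimeSpectrum (p.asIdeal.Fiber (Synt.RelGCIRing A m c F))) :=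
      ⟨PrimeSpectrum.preimageEquivFiber A (Synt.RelGCIRing A m c F) p ⟨z, hz⟩⟩
    exact PrimeSpectrum.nonempty_iff_nontrivial.mp hne
  obtain ⟨hcm, hdim⟩ := hrel p hnt
  haveI : Algebra.QuasiFinite A (Synt.RelGCIRing A m c F) :=
    (Algebra.QuasiFinite.iff_of_algEquiv e).mp inferInstance
  have h0 : ringKrullDim (p.asIdeal.Fiber (Synt.RelGCIRing A m c F)) = 0 := by
    haveI : IsArtinianRing (p.asIdeal.Fiber (Synt.RelGCIRing A m c F)) := inferInstance
    have h1 := (isArtinianRing_iff_krullDimLE_zero
      (R := p.asIdeal.Fiber (Synt.RelGCIRing A m c F))).mp inferInstance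
    exact ringKrullDimZero_iff_ringKrullDim_eq_zero.mp h1
  rw [h0] at hdim
  have hmc : m = c := by
    have h1 : ((m - c : ℕ) : WithBot ℕ∞) = 0 := hdim.symm
    have h2 : m - c = 0 := by exact_mod_cast h1
    omega
  subst hmc
  exact ⟨h, hh, m, F, ⟨e⟩⟩

end Groth.Agent.Lib.R2LeadSyntS
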