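import Mathlib
import Groth.Prelude.Def_RefHull
import Groth.Agent.Lib.R2LeadReflB
import Groth.Agent.Lib.R2LeadReflC
import Groth.Agent.Lib.R2LeadSyz2

set_option autoImplicit false
set_option linter.style.haveILetI false
universe u

open AlgebraicGeometry CategoryTheory TopologicalSpace Opposite RefHull

namespace Groth.Agent.Lib.R2LeadSyz2B

theorem main (X : Scheme.{u}) [IsIntegral X] [IsLocallyNoetherian X]
    (hreg : ∀ x : X, IsRegularLocalRing (X.presheaf.stalk x)) (F : X.Modules) (hF : Coh.IsCoh F)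
    (hrefl : RefHull.IsReflexive F) (x : X)
    (hx : ¬ Module.Free (X.presheaf.stalk x) (F.presheaf.stalk x)) :
    (3 : WithBot ℕ∞) ≤ ringKrullDim (X.presheaf.stalk x) := by
  by_contra hlt
  apply hx
  haveI := hreg x
  haveI : Module.Finite (X.presheaf.stalk x) (F.presheaf.stalk x) :=
    Groth.Agent.Lib.R2Lead.ReflC.finite_stalk F hF x
  have h01 : RefHull.IsReflexive F ↔ ∀ x : ↥X, RefHull.IsReflexiveAt F x :=
    (Groth.Agent.Lib.R2Lead.ReflB.tfae F hF).out 0 1
  haveI : Module.IsReflexive (X.presheaf.stalk x) (F.presheaf.stalk x) := h01.1 hrefl x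
  apply Groth.Agent.Lib.R2LeadSyz2.free_of_isReflexive_of_dim_le_two
  -- dimension at most two
  rw [not_le] at hlt
  cases h : ringKrullDim (X.presheaf.stalk x) with
  | bot => exact bot_le
  | coe m =>
    rw [h] at hlt
    have h3 : ((m : ℕ∞) : WithBot ℕ∞) < ((3 : ℕ∞) : WithBot ℕ∞) := hlt
    have hm : m < 3 := WithBot.coe_lt_coe.1 h3
    have hm2 : m ≤ 2 := by
      lift m to ℕ using (ne_top_of_lt hm)
      have : m < 3 := by exact_mod_cast hm
      have : m ≤ 2 := by omega
      exact_mod_cast this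
    exact WithBot.coe_le_coe.2 hm2

end Groth.Agent.Lib.R2LeadSyz2B
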