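import Mathlib

/-!
# Towers of modules with "multiplication by `r` factors through the transition map" (lead)

Pure algebra used for S8830.
-/

set_option autoImplicit false
universe u v

namespace Groth.Agent.Lib.R2LeadTFSysA

variable {R : Type u} [CommRing R] (r : R) (M : ℕ → Type v) [∀ n, AddCommGroup (M n)]
  [∀ n, Module R (M n)] (t : ∀ n, M (n + 1) →ₗ[R] M n) (i : ∀ n, M n →ₗ[R] M (n + 1))
  (q : ∀ n, M n →ₗ[R] M 0)

include r in
theorem t_i (hi : ∀ n, Function.Injective (i n)) (hit : ∀ n x, i n (t n x) = r • x) (n : ℕ)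
    (w : M n) : t n (i n w) = r • w := by
  apply hi n
  rw [hit, map_smul]

theorem surjective_t (hi : ∀ n, Function.Injective (i n)) (hit : ∀ n x, i n (t n x) = r • x)
    (hex : ∀ n x, q (n + 1) x = 0 → ∃ y, i n y = x) (hqs : ∀ n, Function.Surjective (q (n + 1)))
    (hq : ∀ n x, q (n + 1) x = q n (t n x)) (hq0 : ∀ x, q 0 x = x) :
    ∀ n, Function.Surjective (t n) := by
  intro n
  induction n with
  | zero =>
    intro y
    obtain ⟨x, hx⟩ := hqs 0 y
    exact ⟨x, by rw [← hq0 (t 0 x), ← hq, hx]⟩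
  | succ n ih =>
    intro y
    obtain ⟨x, hx⟩ := hqs (n + 1) (q (n + 1) y)
    have h0 : q (n + 1) (t (n + 1) x - y) = 0 := by
      rw [map_sub, ← hq, hx, sub_self]
    obtain ⟨z, hz⟩ := hex n _ h0
    obtain ⟨w, rfl⟩ := ih z
    refine ⟨x - i (n + 1) w, ?_⟩
    rw [map_sub, t_i r M t i hi hit, ← hit n w, hz]
    abel

theorem exists_pow_smul_of_t_eq_zero (hi : ∀ n, Function.Injective (i n))
    (hit : ∀ n x, i n (t n x) = r • x)
    (hex : ∀ n x, q (n + 1) x = 0 → ∃ y, i n y = x) (hqs : ∀ n, Function.Surjective (q (n + 1)))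
    (hq : ∀ n x, q (n + 1) x = q n (t n x)) (hq0 : ∀ x, q 0 x = x) :
    ∀ n (x : M (n + 1)), t n x = 0 → ∃ w : M (n + 1), x = r ^ (n + 1) • w := by
  have hsurj := surjective_t r M t i q hi hit hex hqs hq hq0
  intro n
  induction n with
  | zero =>
    intro x hx
    have h0 : q 1 x = 0 := by rw [hq, hx, map_zero]
    obtain ⟨y, rfl⟩ := hex 0 x h0
    obtain ⟨w, rfl⟩ := hsurj 0 y
    exact ⟨w, by rw [hit]; simp⟩
  | succ n ih =>
    intro x hx
    have h0 : q (n + 2) x = 0 := by rw [hq, hx, map_zero]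
    obtain ⟨y, rfl⟩ := hex (n + 1) x h0
    rw [t_i r M t i hi hit] at hx
    have h1 : t n y = 0 := by
      apply hi n
      rw [hit, hx, map_zero]
    obtain ⟨v, rfl⟩ := ih y h1
    obtain ⟨w, rfl⟩ := hsurj (n + 1) v
    refine ⟨w, ?_⟩
    rw [map_smul, hit, smul_smul, ← pow_succ]

theorem pow_smul_eq_zero (hi : ∀ n, Function.Injective (i n)) (hit : ∀ n x, i n (t n x) = r • x)
    (hqs : ∀ n, Function.Surjective (q (n + 1)))
    (hq : ∀ n x, q (n + 1) x = q n (t n x)) (hq0 : ∀ x, q 0 x = x)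
    (hiq : ∀ n y, q (n + 1) (i n y) = 0) :
    ∀ n (x : M n), r ^ (n + 1) • x = 0 := by
  intro n
  induction n with
  | zero =>
    intro x
    obtain ⟨y, rfl⟩ := hqs 0 x
    have : r ^ (0 + 1) • q (0 + 1) y = q (0 + 1) (r • y) := by simp
    rw [this, ← hit, hiq]
  | succ n ih =>
    intro x
    rw [pow_succ, mul_smul, ← hit, ← map_smul, ih, map_zero]

end Groth.Agent.Lib.R2LeadTFSysA
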