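import Groth.Agent.Lib.R2LeadTFSysA
import Groth.Agent.Lib.R2LeadFormSys3b
import Groth.Agent.Lib.R2H4ModPowSeq
import Groth.Agent.Lib.Helper2ModExact
import Groth.Agent.Lib.R2H2ProjOverPush
import Groth.Agent.Lib.R2H2FormalFn

set_option autoImplicit false
set_option linter.style.haveILetI false
set_option linter.unusedSectionVars false
universe u
open CategoryTheory CategoryTheory.Limits AlgebraicGeometry Opposite

namespace Groth.Agent.Lib.R2LeadTFSysB

open Groth.Agent.Lib.R2LeadFormSys1 Groth.Agent.Lib.R2LeadFormSys3b Groth.Agent.Lib.R2H4ModPowSeq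
open Groth.Agent.Lib.R2H2.FlatDev Groth.Agent.Lib.R2H2.ModPowAff

variable {A : Type u} [CommRing A] {X : Scheme.{u}} [X.Over (Spec (CommRingCat.of A))] (f : A)
  (G : ℕᵒᵖ ⥤ X.Modules)

/-- the transition map to level `0` -/
noncomputable abbrev q (n : ℕ) : G.obj (op n) ⟶ G.obj (op 0) := G.map (homOfLE (Nat.zero_le n)).op

theorem q_succ (n : ℕ) : q G (n + 1) = tr G n ≫ q G n := by
  unfold q tr
  rw [← G.map_comp]
  rfl

theorem q_zero : q G 0 = 𝟙 _ := by
  unfold q
  have : (homOfLE (Nat.zero_le 0)).op = 𝟙 (op 0) := rfl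
  rw [this, G.map_id]

section
variable (i : ∀ n : ℕ, G.obj (op n) ⟶ G.obj (op (n + 1))) (hmono : ∀ n, Mono (i n))
  (hti : ∀ n, tr G n ≫ i n = Formal.smulMod A (G.obj (op (n + 1))) f)
  (w : ∀ n, i n ≫ q G (n + 1) = 0)
  (hses : ∀ n, (ShortComplex.mk (i n) (q G (n + 1)) (w n)).ShortExact)

include hmono hti in
theorem i_tr (n : ℕ) : i n ≫ tr G n = Formal.smulMod A (G.obj (op n)) f := by
  haveI := hmono n
  rw [← cancel_mono (i n), Category.assoc, hti, comp_smulMod]

include hmono hti w hses in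
theorem smulMod_pow_eq_zero (n : ℕ) : Formal.smulMod A (G.obj (op n)) (f ^ (n + 1)) = 0 := by
  induction n with
  | zero =>
    haveI : Epi (tr G 0) := by
      have h : Epi (q G (0 + 1)) := (hses 0).epi_g
      have e : q G (0 + 1) = tr G 0 := by rw [q_succ, q_zero, Category.comp_id]
      exact e ▸ h
    rw [zero_add, pow_one, ← cancel_epi (tr G 0), comp_zero, comp_smulMod, ← hti 0, Category.assoc]
    have : i 0 ≫ tr G 0 = 0 := by
      have := w 0
      rwa [q_succ, q_zero, Category.comp_id] at this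
    rw [this, comp_zero]
  | succ n ih =>
    rw [pow_succ, smulMod_mul, ← hti n, ← Category.assoc, ← comp_smulMod, ih, comp_zero,
      zero_comp]

include hmono hti w hses in
theorem killedBy (n : ℕ) : Formal.KilledBy (Ideal.span ({f} : Set A) ^ (n + 1)) (G.obj (op n)) := by
  intro a ha
  rw [Ideal.span_singleton_pow, Ideal.mem_span_singleton'] at ha
  obtain ⟨b, rfl⟩ := ha
  rw [smulMod_mul, smulMod_pow_eq_zero f G i hmono hti w hses n, comp_zero]

end

end Groth.Agent.Lib.R2LeadTFSysB
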