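import Groth.Agent.Lib.R2LeadTFSysB

set_option autoImplicit false
set_option linter.style.haveILetI false
set_option linter.unusedSectionVars false
universe u
open CategoryTheory CategoryTheory.Limits AlgebraicGeometry Opposite

namespace Groth.Agent.Lib.R2LeadTFSysC

open Groth.Agent.Lib.R2LeadFormSys1 Groth.Agent.Lib.R2LeadFormSys3b Groth.Agent.Lib.R2H4ModPowSeq
open Groth.Agent.Lib.R2H2.FlatDev Groth.Agent.Lib.R2H2.ModPowAff
open Groth.Agent.Lib.R2LeadTFSysB

variable {A : Type u} [CommRing A] {X : Scheme.{u}} [X.Over (Spec (CommRingCat.of A))]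

/-- an epimorphism whose kernel on affine sections is `J Γ(M, V)` is the quotient by `J`. -/
theorem isIso_cokernel_desc_of_ker (J : Ideal A) {M N : X.Modules} (φ : M ⟶ N) [Epi φ]
    (h : Formal.smulFamily J M ≫ φ = 0)
    (hker : ∀ (V : X.Opens), IsAffineOpen V → ∀ s : Γ(M, V), φ.app V s = 0 →
      s ∈ J.map (ρ V) • (⊤ : Submodule Γ(X, V) Γ(M, V))) :
    IsIso (cokernel.desc _ _ h) := by
  apply isIso_cokernel_desc
  apply Groth.Agent.Lib.R2H3.PnChart.epi_of_locally_surjective
  intro V t x hx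
  obtain ⟨V', hV', hxV', hle⟩ := exists_isAffineOpen_mem_and_subset (x := x) (U := V) hx
  obtain ⟨t', ht'⟩ : ∃ t' : Γ(kernel φ, V'),
      t' = (kernel φ).presheaf.map (homOfLE hle).op t := ⟨_, rfl⟩
  obtain ⟨s, hs'⟩ : ∃ s : Γ(M, V'), s = (kernel.ι φ).app V' t' := ⟨_, rfl⟩
  have hs : φ.app V' s = 0 := by
    rw [hs']
    have := congrArg (fun ψ => Scheme.Modules.Hom.app ψ V' t') (kernel.condition φ)
    exact this
  obtain ⟨w, hw⟩ := mem_range_smulFamily M J V' s (hker V' hV' s hs)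
  have goal : (kernel.lift φ (Formal.smulFamily J M) h).app V' w = t' := by
    apply Groth.Agent.Lib.Helper23.Extend.injective_app_of_mono (kernel.ι φ) V'
    have := congrArg (fun ψ => Scheme.Modules.Hom.app ψ V' w)
      (kernel.lift_ι φ (Formal.smulFamily J M) h)
    exact (this.trans hw).trans hs'
  exact ⟨V', hle, hxV', w, goal.trans ht'⟩

variable (f : A) (G : ℕᵒᵖ ⥤ X.Modules)

section
variable (hqc : ∀ n : ℕᵒᵖ, Coh.IsQCoh (G.obj n))
  (i : ∀ n : ℕ, G.obj (op n) ⟶ G.obj (op (n + 1))) (hmono : ∀ n, Mono (i n))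
  (hti : ∀ n, tr G n ≫ i n = Formal.smulMod A (G.obj (op (n + 1))) f)
  (w : ∀ n, i n ≫ q G (n + 1) = 0)
  (hses : ∀ n, (ShortComplex.mk (i n) (q G (n + 1)) (w n)).ShortExact)

include hqc hmono hti w hses

theorem sec_facts {U : X.Opens} (hU : IsAffineOpen U) :
    (∀ n, Function.Surjective ((tr G n).app U)) ∧
    (∀ n (x : Γ(G.obj (op (n + 1)), U)), (tr G n).app U x = 0 →
      ∃ y : Γ(G.obj (op (n + 1)), U), x = (ρ U f) ^ (n + 1) • y) := by
  have hi : ∀ n, Function.Injective (appL (i n) U) := fun n => by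
    haveI := hmono n
    exact Groth.Agent.Lib.Helper2.ModExact.app_injective_of_mono (i n) U
  have hit : ∀ n (x : Γ(G.obj (op (n + 1)), U)),
      appL (i n) U (appL (tr G n) U x) = ρ U f • x := fun n x =>
    congrArg (fun ψ => Scheme.Modules.Hom.app ψ U x) (hti n)
  have hex : ∀ n (x : Γ(G.obj (op (n + 1)), U)), appL (q G (n + 1)) U x = 0 →
      ∃ y, appL (i n) U y = x := fun n x hx =>
    Groth.Agent.Lib.Helper2.ModExact.exists_app_eq_of_shortExact _ (hses n) U x hx
  have hqs : ∀ n, Function.Surjective (appL (q G (n + 1)) U) := fun n => by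
    haveI : (G.obj (op (n + 1))).IsQuasicoherent := hqc _
    haveI : (G.obj (op 0)).IsQuasicoherent := hqc _
    haveI : Epi (q G (n + 1)) := (hses n).epi_g
    exact Groth.Agent.Lib.Helper23.FinType.surjective_app_of_epi (q G (n + 1)) hU
  have hq : ∀ n (x : Γ(G.obj (op (n + 1)), U)),
      appL (q G (n + 1)) U x = appL (q G n) U (appL (tr G n) U x) := fun n x =>
    congrArg (fun ψ => Scheme.Modules.Hom.app ψ U x) (q_succ G n)
  have hq0 : ∀ x : Γ(G.obj (op 0), U), appL (q G 0) U x = x := fun x =>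
    congrArg (fun ψ => Scheme.Modules.Hom.app ψ U x) (q_zero G)
  refine ⟨fun n => ?_, fun n x hx => ?_⟩
  · exact Groth.Agent.Lib.R2LeadTFSysA.surjective_t (ρ U f) (fun n => Γ(G.obj (op n), U))
      (fun n => appL (tr G n) U) (fun n => appL (i n) U) (fun n => appL (q G n) U)
      hi hit hex hqs hq hq0 n
  · exact Groth.Agent.Lib.R2LeadTFSysA.exists_pow_smul_of_t_eq_zero (ρ U f)
      (fun n => Γ(G.obj (op n), U))
      (fun n => appL (tr G n) U) (fun n => appL (i n) U) (fun n => appL (q G n) U)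
      hi hit hex hqs hq hq0 n x hx

theorem epi_tr' (n : ℕ) : Epi (tr G n) := by
  apply Groth.Agent.Lib.R2H3.PnChart.epi_of_locally_surjective
  intro V t x hx
  obtain ⟨V', hV', hxV', hle⟩ := exists_isAffineOpen_mem_and_subset (x := x) (U := V) hx
  obtain ⟨s, hs⟩ := (sec_facts f G hqc i hmono hti w hses hV').1 n
    ((G.obj (op n)).presheaf.map (homOfLE hle).op t)
  exact ⟨V', hle, hxV', s, hs⟩

theorem isQCohFormal : Formal2.IsQCohFormal (Ideal.span ({f} : Set A)) G := by
  refine ⟨fun n => hqc _, killedBy f G i hmono hti w hses, fun n => ?_⟩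
  have h : Formal.smulFamily (Ideal.span ({f} : Set A) ^ (n + 1)) (G.obj (op (n + 1))) ≫
      G.map (homOfLE (Nat.le_succ n)).op = 0 :=
    Groth.Agent.Lib.R2Lead.CohFormalA.smulFamily_comp_eq_zero_of_killedBy _
      (killedBy f G i hmono hti w hses n)
  refine ⟨h, ?_⟩
  haveI : Epi (G.map (homOfLE (Nat.le_succ n)).op) := epi_tr' f G hqc i hmono hti w hses n
  apply isIso_cokernel_desc_of_ker
  intro V hV s hs
  obtain ⟨y, rfl⟩ := (sec_facts f G hqc i hmono hti w hses hV).2 n s hs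
  refine Submodule.smul_mem_smul ?_ trivial
  rw [← map_pow]
  exact Ideal.mem_map_of_mem _ (Ideal.pow_mem_pow (Ideal.mem_span_singleton_self f) _)

theorem mono_smulMod_limit : Mono (Formal.smulMod A (limit G) f) := by
  haveI : ∀ n, Mono (i n) := hmono
  rw [Preadditive.mono_iff_cancel_zero]
  intro P g hg
  apply limit.hom_ext
  intro ⟨n⟩
  rw [zero_comp, ← cancel_mono (i n), zero_comp, Category.assoc]
  have h1 : limit.π G (op n) = limit.π G (op (n + 1)) ≫ tr G n :=
    (limit.w G (homOfLE (Nat.le_succ n)).op).symm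
  rw [h1, Category.assoc, hti n, comp_smulMod, ← Category.assoc, hg, zero_comp]

theorem main : ∃ F : X.Modules, Mono (Formal.smulMod A F f) ∧
    Nonempty (Formal.completion (Ideal.span ({f} : Set A)) F ≅ G) := by
  have hG := isQCohFormal f G hqc i hmono hti w hses
  have hI : (Ideal.span ({f} : Set A)).FG := ⟨{f}, by simp⟩
  refine ⟨limit G, mono_smulMod_limit f G hqc i hmono hti w hses, ?_⟩
  let Θ : Formal.completion (Ideal.span ({f} : Set A)) (limit G) ⟶ G :=
    Groth.Agent.Lib.R2Lead.CohFormalA.ofFamily hG.2.1 (fun n => limit.π G (op n))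
      (fun n => limit.w G (homOfLE (Nat.le_succ n)).op)
  have hΘ : ∀ n, Formal.modPowπ (Ideal.span ({f} : Set A)) (n + 1) (limit G) ≫ Θ.app (op n) =
      limit.π G (op n) := fun n =>
    Groth.Agent.Lib.R2Lead.CohFormalA.π_ofFamily_app hG.2.1 _ _ n
  have hiso : ∀ n : ℕᵒᵖ, IsIso (Θ.app n) := by
    intro ⟨n⟩
    obtain ⟨h, hh⟩ := truncation hI hG n
    have e : Θ.app (op n) = cokernel.desc _ _ h := by
      apply coequalizer.hom_ext
      rw [cokernel.π_desc]
      exact hΘ n
    rw [e]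
    exact hh
  haveI : IsIso Θ := NatIso.isIso_of_isIso_app Θ
  exact ⟨asIso Θ⟩

end

end Groth.Agent.Lib.R2LeadTFSysC
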