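import Mathlib

/-!
# Algebra maps out of a finite tensor product of algebras from commuting families
-/

set_option autoImplicit false

namespace Groth.Agent.Lib.R2LeadTPowLift

open TensorProduct PiTensorProduct

section Lift

variable {R : Type*} [CommSemiring R] {ι : Type*} [Fintype ι] [DecidableEq ι]
  {A : ι → Type*} [∀ i, Semiring (A i)] [∀ i, Algebra R (A i)]
  {B : Type*} [Semiring B] [Algebra R B]
  (h : ∀ i, A i →ₐ[R] B)
  (hc : Pairwise fun i j => ∀ x y, Commute (h i x) (h j y))

/-- the monoid hom `x ↦ ∏ h i (x i)` -/
noncomputable def prodHom : (∀ i, A i) →* B :=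
  MonoidHom.noncommPiCoprod (fun i => (h i).toMonoidHom) hc

theorem prodHom_mulSingle (i : ι) (a : A i) : prodHom h hc (Pi.mulSingle i a) = h i a :=
  MonoidHom.noncommPiCoprod_mulSingle (ϕ := fun i => (h i).toMonoidHom) i a

theorem update_eq_mul (x : ∀ i, A i) (i : ι) (a : A i) :
    Function.update x i a = Function.update x i 1 * Pi.mulSingle i a := by
  funext j
  by_cases hj : j = i
  · subst hj
    simp
  · simp [hj]

theorem prodHom_update (x : ∀ i, A i) (i : ι) (a : A i) :
    prodHom h hc (Function.update x i a) = prodHom h hc (Function.update x i 1) * h i a := by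
  rw [update_eq_mul x i a, map_mul, prodHom_mulSingle]

/-- the multilinear map `x ↦ ∏ h i (x i)` -/
noncomputable def prodMulti : MultilinearMap R A B where
  toFun := prodHom h hc
  map_update_add' := by
    intro _ x i a b
    have e : ∀ (c : A i), @Function.update ι A (fun a b => ‹DecidableEq ι› a b) x i c =
      Function.update x i c := fun c => by congr
    rw [prodHom_update h hc x i (a + b), prodHom_update h hc x i a, prodHom_update h hc x i b, map_add,
      mul_add]
  map_update_smul' := by
    intro _ x i c a
    rw [prodHom_update h hc x i (c • a), prodHom_update h hc x i a, map_smul, mul_smul_comm]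

/-- the algebra hom out of the tensor product attached to a commuting family of algebra homs -/
noncomputable def liftComm : (⨂[R] i, A i) →ₐ[R] B :=
  PiTensorProduct.liftAlgHom (prodMulti h hc) (map_one (prodHom h hc))
    (fun x y => map_mul (prodHom h hc) x y)

theorem liftComm_tprod (x : ∀ i, A i) : liftComm h hc (tprod R x) = prodHom h hc x := by
  simp [liftComm, prodMulti]

theorem liftComm_single (i : ι) (a : A i) : liftComm h hc (singleAlgHom i a) = h i a := by
  rw [singleAlgHom_apply, liftComm_tprod]
  exact prodHom_mulSingle h hc i a

theorem liftComm_comp_single (i : ι) : (liftComm h hc).comp (singleAlgHom i) = h i :=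
  AlgHom.ext (liftComm_single h hc i)

end Lift

section Single

variable {R : Type*} [CommSemiring R] {ι : Type*} [Fintype ι] [DecidableEq ι]
  {A : ι → Type*} [∀ i, Semiring (A i)] [∀ i, Algebra R (A i)]

theorem single_commute {i j : ι} (hij : i ≠ j) (x : A i) (y : A j) :
    Commute (singleAlgHom (R := R) i x) (singleAlgHom (R := R) j y) := by
  rw [singleAlgHom_apply, singleAlgHom_apply]
  apply Commute.tprod
  show Pi.mulSingle i x * Pi.mulSingle j y = Pi.mulSingle j y * Pi.mulSingle i x
  exact Pi.mulSingle_commute hij x y

end Single

end Groth.Agent.Lib.R2LeadTPowLift
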