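import Mathlib
import Groth.Agent.Lib.R2LeadTPowLift

/-!
# The Kronecker isomorphism `⨂ M_n(S) ≃ M_{n^r}(S)`
-/

set_option autoImplicit false

namespace Groth.Agent.Lib.R2LeadTPowKron

open TensorProduct PiTensorProduct

section Kron

variable (S : Type*) [CommRing S] (r n : ℕ)

/-- the multilinear map `(m_k) ↦ (∏_k m_k (I k) (J k))_{I,J}` -/
noncomputable def kronMulti : MultilinearMap S (fun _ : Fin r => Matrix (Fin n) (Fin n) S)
    (Matrix (Fin r → Fin n) (Fin r → Fin n) S) :=
  (Matrix.ofLinearEquiv S).toLinearMap.compMultilinearMap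
    (MultilinearMap.pi (fun I : Fin r → Fin n => MultilinearMap.pi (fun J : Fin r → Fin n =>
      (MultilinearMap.mkPiAlgebra S (Fin r) S).compLinearMap
        (fun k => Matrix.entryLinearMap S S (I k) (J k)))))

theorem kronMulti_apply (x : Fin r → Matrix (Fin n) (Fin n) S) (I J : Fin r → Fin n) :
    kronMulti S r n x I J = ∏ k, x k (I k) (J k) := by
  simp [kronMulti, Matrix.entryLinearMap]

theorem kronMulti_one : kronMulti S r n 1 = 1 := by
  ext I J
  rw [kronMulti_apply]
  simp only [Pi.one_apply, Matrix.one_apply]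
  rw [Fintype.prod_ite_zero]
  simp only [Finset.prod_const_one, ← funext_iff]

theorem kronMulti_mul (x y : Fin r → Matrix (Fin n) (Fin n) S) :
    kronMulti S r n (x * y) = kronMulti S r n x * kronMulti S r n y := by
  ext I J
  rw [kronMulti_apply, Matrix.mul_apply]
  simp only [Pi.mul_apply, Matrix.mul_apply, kronMulti_apply]
  rw [Finset.prod_univ_sum, Fintype.piFinset_univ]
  apply Finset.sum_congr rfl
  intro K _
  rw [Finset.prod_mul_distrib]

/-- the Kronecker algebra map -/
noncomputable def kron : (⨂[S] _ : Fin r, Matrix (Fin n) (Fin n) S) →ₐ[S]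
    Matrix (Fin r → Fin n) (Fin r → Fin n) S :=
  PiTensorProduct.liftAlgHom (kronMulti S r n) (kronMulti_one S r n) (kronMulti_mul S r n)

theorem kron_tprod (x : Fin r → Matrix (Fin n) (Fin n) S) (I J : Fin r → Fin n) :
    kron S r n (tprod S x) I J = ∏ k, x k (I k) (J k) := by
  simp [kron, kronMulti_apply]

theorem kron_bijective : Function.Bijective (kron S r n) := by
  classical
  let b : Module.Basis (Fin r → Fin n × Fin n) S (⨂[S] _ : Fin r, Matrix (Fin n) (Fin n) S) :=
    Basis.piTensorProduct (fun _ : Fin r => Matrix.stdBasis S (Fin n) (Fin n))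
  let c : Module.Basis ((Fin r → Fin n) × (Fin r → Fin n)) S
      (Matrix (Fin r → Fin n) (Fin r → Fin n) S) :=
    Matrix.stdBasis S (Fin r → Fin n) (Fin r → Fin n)
  let e : (Fin r → Fin n × Fin n) ≃ (Fin r → Fin n) × (Fin r → Fin n) :=
    Equiv.arrowProdEquivProdArrow _ _ _
  have key : (kron S r n).toLinearMap = (b.equiv c e).toLinearMap := by
    apply b.ext
    intro p
    rw [AlgHom.toLinearMap_apply, LinearEquiv.coe_coe, Module.Basis.equiv_apply]
    simp only [b, c, Basis.piTensorProduct_apply]
    ext I J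
    rw [kron_tprod]
    have he : e p = (fun k => (p k).1, fun k => (p k).2) := rfl
    have hp : ∀ k, Matrix.stdBasis S (Fin n) (Fin n) (p k) =
        Matrix.single (p k).1 (p k).2 (1 : S) := fun k =>
      Matrix.stdBasis_eq_single (R := S) (p k).1 (p k).2
    rw [he, Matrix.stdBasis_eq_single, Matrix.single_apply]
    simp only [hp, Matrix.single_apply]
    rw [Fintype.prod_ite_zero]
    simp only [Finset.prod_const_one]
    congr 1
    rw [funext_iff, funext_iff, ← forall_and]
  have : ⇑(kron S r n) = ⇑(b.equiv c e) := by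
    funext z
    exact LinearMap.congr_fun key z
  rw [this]
  exact (b.equiv c e).bijective

/-- the Kronecker algebra isomorphism -/
noncomputable def kronEquiv : (⨂[S] _ : Fin r, Matrix (Fin n) (Fin n) S) ≃ₐ[S]
    Matrix (Fin r → Fin n) (Fin r → Fin n) S :=
  AlgEquiv.ofBijective (kron S r n) (kron_bijective S r n)

theorem kronEquiv_tprod (x : Fin r → Matrix (Fin n) (Fin n) S) (I J : Fin r → Fin n) :
    kronEquiv S r n (tprod S x) I J = ∏ k, x k (I k) (J k) :=
  kron_tprod S r n x I J

end Kron

end Groth.Agent.Lib.R2LeadTPowKron
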