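import Mathlib
import Groth.Agent.Lib.R2LeadTPowLift
import Groth.Agent.Lib.R2LeadTPowKron
import Groth.Agent.Lib.R2LeadAzCharpoly

/-!
# Base change of a tensor power of an algebra, and its splitting
-/

set_option autoImplicit false

namespace Groth.Agent.Lib.R2LeadTPowBC

open TensorProduct PiTensorProduct
open Groth.Agent.Lib.R2LeadTPowLift Groth.Agent.Lib.R2LeadTPowKron

section BaseChange

variable (R : Type*) [CommRing R] (S : Type*) [CommRing S] [Algebra R S]
  (A : Type*) [Ring A] [Algebra R A] (r : ℕ)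

/-- the `k`-th inclusion `A → ⨂[S] (S ⊗ A)` -/
noncomputable def incl (k : Fin r) : A →ₐ[R] (⨂[S] _ : Fin r, (S ⊗[R] A)) :=
  ((singleAlgHom (R := S) (A := fun _ : Fin r => S ⊗[R] A) k).restrictScalars R).comp
    (Algebra.TensorProduct.includeRight : A →ₐ[R] S ⊗[R] A)

theorem incl_apply (k : Fin r) (a : A) :
    incl R S A r k a = singleAlgHom (R := S) (A := fun _ : Fin r => S ⊗[R] A) k
      ((1 : S) ⊗ₜ[R] a) := rfl

theorem incl_commute : Pairwise fun i j : Fin r =>
    ∀ x y : A, Commute (incl R S A r i x) (incl R S A r j y) := by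
  intro i j hij x y
  rw [incl_apply, incl_apply]
  exact single_commute hij _ _

/-- `T → ⨂[S] (S ⊗ A)` -/
noncomputable def toBC₀ : (⨂[R] _ : Fin r, A) →ₐ[R] (⨂[S] _ : Fin r, (S ⊗[R] A)) :=
  liftComm (incl R S A r) (incl_commute R S A r)

/-- `S ⊗ T → ⨂[S] (S ⊗ A)` -/
noncomputable def toBC : (S ⊗[R] (⨂[R] _ : Fin r, A)) →ₐ[S] (⨂[S] _ : Fin r, (S ⊗[R] A)) :=
  Algebra.TensorProduct.lift (Algebra.ofId S _) (toBC₀ R S A r)
    (fun s t => Algebra.commute_algebraMap_left s _)

theorem toBC_one_tmul_single (k : Fin r) (a : A) :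
    toBC R S A r ((1 : S) ⊗ₜ[R] (singleAlgHom (R := R) (A := fun _ : Fin r => A) k a)) =
      singleAlgHom (R := S) (A := fun _ : Fin r => S ⊗[R] A) k ((1 : S) ⊗ₜ[R] a) := by
  rw [toBC, Algebra.TensorProduct.lift_tmul, map_one, one_mul, toBC₀, liftComm_single, incl_apply]

/-- the `k`-th inclusion `S ⊗ A → S ⊗ T` -/
noncomputable def inclBC (k : Fin r) : (S ⊗[R] A) →ₐ[S] (S ⊗[R] (⨂[R] _ : Fin r, A)) :=
  Algebra.TensorProduct.map (AlgHom.id S S)
    (singleAlgHom (R := R) (A := fun _ : Fin r => A) k)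

theorem inclBC_tmul (k : Fin r) (s : S) (a : A) :
    inclBC R S A r k (s ⊗ₜ[R] a) =
      s ⊗ₜ[R] (singleAlgHom (R := R) (A := fun _ : Fin r => A) k a) := by
  simp [inclBC]

theorem inclBC_commute : Pairwise fun i j : Fin r =>
    ∀ x y : S ⊗[R] A, Commute (inclBC R S A r i x) (inclBC R S A r j y) := by
  intro i j hij x y
  induction x using TensorProduct.induction_on with
  | zero => simp
  | add x₁ x₂ h₁ h₂ => rw [map_add]; exact h₁.add_left h₂
  | tmul s a =>
    induction y using TensorProduct.induction_on with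
    | zero => simp
    | add y₁ y₂ h₁ h₂ => rw [map_add]; exact h₁.add_right h₂
    | tmul s' a' =>
      rw [inclBC_tmul, inclBC_tmul]
      show _ * _ = _ * _
      rw [Algebra.TensorProduct.tmul_mul_tmul, Algebra.TensorProduct.tmul_mul_tmul, mul_comm s s',
        (single_commute (R := R) (A := fun _ : Fin r => A) hij a a').eq]

/-- `⨂[S] (S ⊗ A) → S ⊗ T` -/
noncomputable def ofBC : (⨂[S] _ : Fin r, (S ⊗[R] A)) →ₐ[S] (S ⊗[R] (⨂[R] _ : Fin r, A)) :=
  liftComm (inclBC R S A r) (inclBC_commute R S A r)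

theorem ofBC_single (k : Fin r) (z : S ⊗[R] A) :
    ofBC R S A r (singleAlgHom (R := S) (A := fun _ : Fin r => S ⊗[R] A) k z) =
      inclBC R S A r k z :=
  liftComm_single (inclBC R S A r) (inclBC_commute R S A r) k z

theorem ofBC_comp_toBC : (ofBC R S A r).comp (toBC R S A r) = AlgHom.id S _ := by
  apply Algebra.TensorProduct.ext'
  intro s t
  have h1 : (s ⊗ₜ[R] t : S ⊗[R] (⨂[R] _ : Fin r, A)) = s • ((1 : S) ⊗ₜ[R] t) := by
    rw [TensorProduct.smul_tmul', smul_eq_mul, mul_one]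
  rw [h1, map_smul, map_smul]
  congr 1
  -- now an equality of `R`-algebra maps out of `T`
  have h2 : (((ofBC R S A r).comp (toBC R S A r)).restrictScalars R).comp
      (Algebra.TensorProduct.includeRight : (⨂[R] _ : Fin r, A) →ₐ[R] _) =
      ((AlgHom.id S (S ⊗[R] (⨂[R] _ : Fin r, A))).restrictScalars R).comp
      (Algebra.TensorProduct.includeRight : (⨂[R] _ : Fin r, A) →ₐ[R] _) := by
    apply PiTensorProduct.algHom_ext
    intro k
    ext a
    simp only [AlgHom.coe_comp, AlgHom.coe_restrictScalars', Function.comp_apply,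
      Algebra.TensorProduct.includeRight_apply, AlgHom.coe_id, id_eq]
    rw [toBC_one_tmul_single, ofBC_single, inclBC_tmul]
  exact AlgHom.congr_fun h2 t

theorem toBC_comp_ofBC : (toBC R S A r).comp (ofBC R S A r) = AlgHom.id S _ := by
  apply PiTensorProduct.algHom_ext
  intro k
  apply Algebra.TensorProduct.ext'
  intro s a
  simp only [AlgHom.coe_comp, Function.comp_apply, AlgHom.coe_id, id_eq]
  rw [ofBC_single, inclBC_tmul]
  have h1 : (s ⊗ₜ[R] (singleAlgHom (R := R) (A := fun _ : Fin r => A) k a) :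
      S ⊗[R] (⨂[R] _ : Fin r, A)) = s • ((1 : S) ⊗ₜ[R] (singleAlgHom k a)) := by
    rw [TensorProduct.smul_tmul', smul_eq_mul, mul_one]
  have h2 : (s ⊗ₜ[R] a : S ⊗[R] A) = s • ((1 : S) ⊗ₜ[R] a) := by
    rw [TensorProduct.smul_tmul', smul_eq_mul, mul_one]
  rw [h1, map_smul, toBC_one_tmul_single, h2, map_smul]

/-- base change of a tensor power -/
noncomputable def bcEquiv : (S ⊗[R] (⨂[R] _ : Fin r, A)) ≃ₐ[S] (⨂[S] _ : Fin r, (S ⊗[R] A)) :=
  AlgEquiv.ofAlgHom (toBC R S A r) (ofBC R S A r) (toBC_comp_ofBC R S A r) (ofBC_comp_toBC R S A r)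

theorem bcEquiv_one_tmul_single (k : Fin r) (a : A) :
    bcEquiv R S A r ((1 : S) ⊗ₜ[R] (singleAlgHom (R := R) (A := fun _ : Fin r => A) k a)) =
      singleAlgHom (R := S) (A := fun _ : Fin r => S ⊗[R] A) k ((1 : S) ⊗ₜ[R] a) :=
  toBC_one_tmul_single R S A r k a

end BaseChange

section MapAlg

variable {S : Type*} [CommRing S] (r : ℕ) {C D E : Type*} [Ring C] [Algebra S C] [Ring D]
  [Algebra S D] [Ring E] [Algebra S E]

/-- the `k`-th inclusion composed with `f` -/
noncomputable def mapIncl (f : C →ₐ[S] D) (k : Fin r) : C →ₐ[S] (⨂[S] _ : Fin r, D) :=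
  (singleAlgHom (R := S) (A := fun _ : Fin r => D) k).comp f

theorem mapIncl_apply (f : C →ₐ[S] D) (k : Fin r) (c : C) :
    mapIncl r f k c = singleAlgHom (R := S) (A := fun _ : Fin r => D) k (f c) := rfl

theorem mapIncl_commute (f : C →ₐ[S] D) : Pairwise fun i j : Fin r => ∀ x y : C,
    Commute (mapIncl r f i x) (mapIncl r f j y) := by
  intro i j hij x y
  rw [mapIncl_apply, mapIncl_apply]
  exact single_commute (R := S) (A := fun _ : Fin r => D) hij (f x) (f y)

/-- functoriality of the tensor power in the algebra -/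
noncomputable def mapAlg (f : C →ₐ[S] D) : (⨂[S] _ : Fin r, C) →ₐ[S] (⨂[S] _ : Fin r, D) :=
  liftComm (A := fun _ : Fin r => C) (mapIncl r f) (mapIncl_commute r f)

theorem mapAlg_single (f : C →ₐ[S] D) (k : Fin r) (c : C) :
    mapAlg r f (singleAlgHom (R := S) (A := fun _ : Fin r => C) k c) =
      singleAlgHom (R := S) (A := fun _ : Fin r => D) k (f c) :=
  liftComm_single (A := fun _ : Fin r => C) (mapIncl r f) (mapIncl_commute r f) k c

theorem mapAlg_comp (f : C →ₐ[S] D) (g : D →ₐ[S] E) :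
    (mapAlg r g).comp (mapAlg r f) = mapAlg r (g.comp f) := by
  apply PiTensorProduct.algHom_ext
  intro k
  ext c
  simp only [AlgHom.coe_comp, Function.comp_apply, mapAlg_single]

theorem mapAlg_id : mapAlg r (AlgHom.id S C) = AlgHom.id S _ := by
  apply PiTensorProduct.algHom_ext
  intro k
  ext c
  simp only [AlgHom.coe_comp, Function.comp_apply, mapAlg_single, AlgHom.coe_id, id_eq]

/-- an algebra isomorphism induces one on tensor powers -/
noncomputable def congrAlg (e : C ≃ₐ[S] D) : (⨂[S] _ : Fin r, C) ≃ₐ[S] (⨂[S] _ : Fin r, D) :=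
  AlgEquiv.ofAlgHom (mapAlg r (e : C →ₐ[S] D)) (mapAlg r (e.symm : D →ₐ[S] C))
    (by rw [mapAlg_comp]; convert mapAlg_id r (S := S) (C := D); ext; simp)
    (by rw [mapAlg_comp]; convert mapAlg_id r (S := S) (C := C); ext; simp)

theorem congrAlg_single (e : C ≃ₐ[S] D) (k : Fin r) (c : C) :
    congrAlg r e (singleAlgHom (R := S) (A := fun _ : Fin r => C) k c) =
      singleAlgHom (R := S) (A := fun _ : Fin r => D) k (e c) :=
  mapAlg_single r (e : C →ₐ[S] D) k c

end MapAlg

section Split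

open Groth.Agent.Lib.R2LeadAzCharpoly

variable {R : Type*} [CommRing R] {S : Type*} [CommRing S] [Algebra R S]
  {A : Type*} [Ring A] [Algebra R A] (r : ℕ) {n : ℕ}

/-- the splitting of the tensor power induced by a splitting of `A` -/
noncomputable def theta (σ : (S ⊗[R] A) ≃ₐ[S] Matrix (Fin n) (Fin n) S) :
    (S ⊗[R] (⨂[R] _ : Fin r, A)) ≃ₐ[S] Matrix (Fin r → Fin n) (Fin r → Fin n) S :=
  ((bcEquiv R S A r).trans (congrAlg r σ)).trans (kronEquiv S r n)

/-- placing a matrix in the `k`-th Kronecker slot -/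
noncomputable def slot (S : Type*) [CommRing S] (r n : ℕ) (k : Fin r) :
    Matrix (Fin n) (Fin n) S →ₐ[S] Matrix (Fin r → Fin n) (Fin r → Fin n) S :=
  (kronEquiv S r n : _ →ₐ[S] _).comp
    (singleAlgHom (R := S) (A := fun _ : Fin r => Matrix (Fin n) (Fin n) S) k)

theorem slot_apply' (k : Fin r) (m : Matrix (Fin n) (Fin n) S) :
    slot S r n k m = kronEquiv S r n
      (singleAlgHom (R := S) (A := fun _ : Fin r => Matrix (Fin n) (Fin n) S) k m) := rfl

theorem theta_one_tmul_single (σ : (S ⊗[R] A) ≃ₐ[S] Matrix (Fin n) (Fin n) S) (k : Fin r)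
    (a : A) :
    theta r σ ((1 : S) ⊗ₜ[R] (singleAlgHom (R := R) (A := fun _ : Fin r => A) k a)) =
      slot S r n k (σ ((1 : S) ⊗ₜ[R] a)) := by
  rw [theta, AlgEquiv.trans_apply, AlgEquiv.trans_apply, bcEquiv_one_tmul_single,
    congrAlg_single, slot_apply']

theorem slot_map {S' : Type*} [CommRing S'] (g : S →+* S') (k : Fin r)
    (m : Matrix (Fin n) (Fin n) S) :
    (slot S r n k m).map g = slot S' r n k (m.map g) := by
  classical
  ext I J
  rw [Matrix.map_apply, slot_apply', slot_apply', singleAlgHom_apply, singleAlgHom_apply,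
    kronEquiv_tprod, kronEquiv_tprod, map_prod]
  apply Finset.prod_congr rfl
  intro l _
  by_cases hl : l = k
  · subst hl
    simp
  · simp only [MonoidHom.mulSingle_apply, Pi.mulSingle_eq_of_ne hl, Matrix.one_apply]
    split_ifs <;> simp

variable {S' : Type*} [CommRing S'] [Algebra R S']

theorem theta_map (σ : (S ⊗[R] A) ≃ₐ[S] Matrix (Fin n) (Fin n) S) (g : S →ₐ[R] S')
    (z : S ⊗[R] (⨂[R] _ : Fin r, A)) :
    theta r (splitBC σ g)
      (Algebra.TensorProduct.map g (AlgHom.id R (⨂[R] _ : Fin r, A)) z) =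
      (theta r σ z).map g := by
  let F₁ : (S ⊗[R] (⨂[R] _ : Fin r, A)) →ₐ[R] Matrix (Fin r → Fin n) (Fin r → Fin n) S' :=
    ((theta r (splitBC σ g) : _ →ₐ[S'] _).restrictScalars R).comp
      (Algebra.TensorProduct.map g (AlgHom.id R (⨂[R] _ : Fin r, A)))
  let F₂ : (S ⊗[R] (⨂[R] _ : Fin r, A)) →ₐ[R] Matrix (Fin r → Fin n) (Fin r → Fin n) S' :=
    (g.mapMatrix).comp ((theta r σ : _ →ₐ[S] _).restrictScalars R)
  suffices h : F₁ = F₂ from AlgHom.congr_fun h z
  apply Algebra.TensorProduct.ext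
  · ext s
    simp only [F₁, F₂, AlgHom.coe_comp, AlgHom.coe_restrictScalars', Function.comp_apply,
      Algebra.TensorProduct.includeLeft_apply, Algebra.TensorProduct.map_tmul, map_one,
      AlgEquiv.coe_toAlgHom, AlgHom.mapMatrix_apply]
    have h1 : ∀ (s' : S'), (s' ⊗ₜ[R] (1 : ⨂[R] _ : Fin r, A) : S' ⊗[R] (⨂[R] _ : Fin r, A)) =
        algebraMap S' _ s' := fun s' => rfl
    have h2 : (s ⊗ₜ[R] (1 : ⨂[R] _ : Fin r, A) : S ⊗[R] (⨂[R] _ : Fin r, A)) =
        algebraMap S _ s := rfl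
    rw [h1, h2, AlgEquiv.commutes, AlgEquiv.commutes]
    rw [Matrix.map_apply, Matrix.algebraMap_matrix_apply, Matrix.algebraMap_matrix_apply]
    split_ifs <;> simp
  · apply PiTensorProduct.algHom_ext
    intro k
    ext a
    simp only [F₁, F₂, AlgHom.coe_comp, AlgHom.coe_restrictScalars', Function.comp_apply,
      Algebra.TensorProduct.includeRight_apply, Algebra.TensorProduct.map_tmul, map_one,
      AlgEquiv.coe_toAlgHom, AlgHom.mapMatrix_apply, AlgHom.coe_id, id_eq]
    rw [theta_one_tmul_single, theta_one_tmul_single, splitBC_one_tmul]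
    exact congrFun (congrFun (slot_map r (g : S →+* S') k (σ ((1 : S) ⊗ₜ[R] a))).symm _) _

end Split

end Groth.Agent.Lib.R2LeadTPowBC
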