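import Mathlib
import Groth.Agent.Lib.R2LeadTPowBC
import Groth.Agent.Lib.LeadLocalInner

/-!
# The antisymmetriser in a split tensor power, and its independence of the splitting
-/

set_option autoImplicit false

namespace Groth.Agent.Lib.R2LeadTPowAlt

open TensorProduct PiTensorProduct
open Groth.Agent.Lib.R2LeadTPowLift Groth.Agent.Lib.R2LeadTPowKron Groth.Agent.Lib.R2LeadTPowBC
open Groth.Agent.Lib.R2LeadAzCharpoly

section Alt

variable (S : Type*) [CommRing S] (r n : ℕ)

/-- the permutation matrix of `π` acting on `Fin r → Fin n` -/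
def permMat (π : Equiv.Perm (Fin r)) : Matrix (Fin r → Fin n) (Fin r → Fin n) S :=
  Matrix.of fun I J => if I = J ∘ π then 1 else 0

theorem permMat_apply (π : Equiv.Perm (Fin r)) (I J : Fin r → Fin n) :
    permMat S r n π I J = if I = J ∘ π then 1 else 0 := rfl

/-- the antisymmetriser -/
def alt : Matrix (Fin r → Fin n) (Fin r → Fin n) S :=
  ∑ π : Equiv.Perm (Fin r), ((Equiv.Perm.sign π : ℤ) : S) • permMat S r n π

theorem alt_apply (I J : Fin r → Fin n) :
    alt S r n I J = ∑ π : Equiv.Perm (Fin r),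
      ((Equiv.Perm.sign π : ℤ) : S) * (if I = J ∘ π then 1 else 0) := by
  simp only [alt, Matrix.sum_apply, Matrix.smul_apply, permMat_apply, smul_eq_mul]

variable {S}

theorem alt_map {S' : Type*} [CommRing S'] (g : S →+* S') :
    (alt S r n).map g = alt S' r n := by
  ext I J
  rw [Matrix.map_apply, alt_apply, alt_apply, map_sum]
  apply Finset.sum_congr rfl
  intro π _
  rw [map_mul, map_intCast]
  split_ifs <;> simp

/-- the Kronecker power of a matrix -/
noncomputable def kpow (u : Matrix (Fin n) (Fin n) S) :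
    Matrix (Fin r → Fin n) (Fin r → Fin n) S :=
  kronEquiv S r n (tprod S (fun _ => u))

theorem kpow_apply (u : Matrix (Fin n) (Fin n) S) (I J : Fin r → Fin n) :
    kpow r n u I J = ∏ k, u (I k) (J k) :=
  kronEquiv_tprod S r n _ I J

theorem kpow_mul_kpow (u v : Matrix (Fin n) (Fin n) S) :
    kpow r n u * kpow r n v = kpow r n (u * v) := by
  rw [kpow, kpow, ← map_mul, tprod_mul_tprod]
  rfl

theorem kpow_one : kpow r n (1 : Matrix (Fin n) (Fin n) S) = 1 := by
  rw [kpow]
  exact map_one (kronEquiv S r n)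

theorem kpow_mul_permMat (u : Matrix (Fin n) (Fin n) S) (π : Equiv.Perm (Fin r)) :
    kpow r n u * permMat S r n π = permMat S r n π * kpow r n u := by
  ext I J
  rw [Matrix.mul_apply, Matrix.mul_apply]
  simp only [permMat_apply, kpow_apply, mul_ite, mul_one, mul_zero, ite_mul, one_mul, zero_mul]
  rw [Finset.sum_ite_eq' Finset.univ (J ∘ π), if_pos (Finset.mem_univ _)]
  have hcond : ∀ K : Fin r → Fin n, (I = K ∘ π) ↔ (K = I ∘ π.symm) := by
    intro K
    constructor
    · rintro rfl
      funext k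
      simp
    · rintro rfl
      funext k
      simp
  simp only [hcond]
  rw [Finset.sum_ite_eq' Finset.univ (I ∘ π.symm), if_pos (Finset.mem_univ _)]
  rw [← Equiv.prod_comp π (fun k => u ((I ∘ π.symm) k) (J k))]
  apply Finset.prod_congr rfl
  intro k _
  simp

theorem kpow_mul_alt (u : Matrix (Fin n) (Fin n) S) :
    kpow r n u * alt S r n = alt S r n * kpow r n u := by
  simp only [alt, Finset.mul_sum, Finset.sum_mul, Matrix.mul_smul, Matrix.smul_mul,
    kpow_mul_permMat]

end Alt

section Conj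

variable {S : Type*} [CommRing S] (r n : ℕ)

theorem kpow_mul_slot_mul_kpow (u v m : Matrix (Fin n) (Fin n) S) (huv : u * v = 1) (k : Fin r) :
    kpow r n u * slot S r n k m * kpow r n v = slot S r n k (u * m * v) := by
  classical
  rw [kpow, kpow, slot_apply', slot_apply', singleAlgHom_apply, singleAlgHom_apply, ← map_mul,
    ← map_mul, tprod_mul_tprod, tprod_mul_tprod]
  congr 2
  funext l
  by_cases hl : l = k
  · subst hl
    simp
  · simp [Pi.mulSingle_eq_of_ne hl, huv]

end Conj

section ConjHom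

variable {S : Type*} [CommRing S] {B : Type*} [Ring B] [Algebra S B]

/-- conjugation by an invertible element as an algebra map -/
def conjHom (U V : B) (hUV : U * V = 1) (hVU : V * U = 1) : B →ₐ[S] B where
  toFun x := U * x * V
  map_one' := by rw [mul_one, hUV]
  map_mul' x y := by
    calc U * (x * y) * V = U * x * (1 * (y * V)) := by rw [one_mul]; noncomm_ring
      _ = U * x * (V * U * (y * V)) := by rw [hVU]
      _ = U * x * V * (U * y * V) := by noncomm_ring
  map_zero' := by simp
  map_add' x y := by rw [mul_add, add_mul]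
  commutes' s := by
    rw [← Algebra.commutes, mul_assoc, hUV, mul_one]

theorem conjHom_apply (U V : B) (hUV : U * V = 1) (hVU : V * U = 1) (x : B) :
    conjHom (S := S) U V hUV hVU x = U * x * V := rfl

end ConjHom

section Indep

variable {R : Type*} [CommRing R] {S : Type*} [CommRing S] [Algebra R S]
  {A : Type*} [Ring A] [Algebra R A] (r : ℕ) {n : ℕ}

theorem theta_conj (σ σ' : (S ⊗[R] A) ≃ₐ[S] Matrix (Fin n) (Fin n) S)
    (u v : Matrix (Fin n) (Fin n) S) (huv : u * v = 1) (hvu : v * u = 1)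
    (h : ∀ z, σ' z = u * σ z * v) (z : S ⊗[R] (⨂[R] _ : Fin r, A)) :
    theta r σ' z = kpow r n u * theta r σ z * kpow r n v := by
  have hUV : kpow r n u * kpow r n v = 1 := by rw [kpow_mul_kpow, huv, kpow_one]
  have hVU : kpow r n v * kpow r n u = 1 := by rw [kpow_mul_kpow, hvu, kpow_one]
  let F₁ : (S ⊗[R] (⨂[R] _ : Fin r, A)) →ₐ[S] Matrix (Fin r → Fin n) (Fin r → Fin n) S :=
    (theta r σ' : _ →ₐ[S] _)
  let F₂ : (S ⊗[R] (⨂[R] _ : Fin r, A)) →ₐ[S] Matrix (Fin r → Fin n) (Fin r → Fin n) S :=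
    (conjHom (S := S) (kpow r n u) (kpow r n v) hUV hVU).comp (theta r σ : _ →ₐ[S] _)
  suffices hF : F₁ = F₂ from AlgHom.congr_fun hF z
  apply Algebra.TensorProduct.ext
  · ext
  · apply PiTensorProduct.algHom_ext
    intro k
    ext a
    simp only [F₁, F₂, AlgHom.coe_comp, AlgHom.coe_restrictScalars', Function.comp_apply,
      Algebra.TensorProduct.includeRight_apply, AlgEquiv.coe_toAlgHom, conjHom_apply]
    rw [theta_one_tmul_single, theta_one_tmul_single, h, kpow_mul_slot_mul_kpow r n u v _ huv]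

theorem theta_alt_of_conj (σ σ' : (S ⊗[R] A) ≃ₐ[S] Matrix (Fin n) (Fin n) S)
    (u v : Matrix (Fin n) (Fin n) S) (huv : u * v = 1) (hvu : v * u = 1)
    (h : ∀ z, σ' z = u * σ z * v) :
    theta r σ' ((theta r σ).symm (alt S r n)) = alt S r n := by
  rw [theta_conj r σ σ' u v huv hvu h, AlgEquiv.apply_symm_apply, kpow_mul_alt, mul_assoc,
    kpow_mul_kpow, huv, kpow_one, mul_one]

theorem theta_alt_local [IsLocalRing S] (σ σ' : (S ⊗[R] A) ≃ₐ[S] Matrix (Fin n) (Fin n) S) :
    theta r σ' ((theta r σ).symm (alt S r n)) = alt S r n := by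
  rcases Nat.eq_zero_or_pos n with rfl | hn
  · apply theta_alt_of_conj r σ σ' 1 1 (one_mul 1) (one_mul 1)
    intro z
    exact Subsingleton.elim _ _
  · haveI : Nonempty (Fin n) := ⟨⟨0, hn⟩⟩
    haveI : IsAzumaya S (Matrix (Fin n) (Fin n) S) := IsAzumaya.matrix S (Fin n)
    obtain ⟨u, hu⟩ := Groth.Agent.Lib.LeadLocalInner.exists_unit_conj (σ.symm.trans σ')
    apply theta_alt_of_conj r σ σ' (u : Matrix (Fin n) (Fin n) S)
      ((u⁻¹ : (Matrix (Fin n) (Fin n) S)ˣ) : Matrix (Fin n) (Fin n) S) (Units.mul_inv u)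
      (Units.inv_mul u)
    intro z
    have := hu (σ z)
    rw [AlgEquiv.trans_apply, AlgEquiv.symm_apply_apply] at this
    exact this

theorem theta_alt (σ σ' : (S ⊗[R] A) ≃ₐ[S] Matrix (Fin n) (Fin n) S) :
    theta r σ' ((theta r σ).symm (alt S r n)) = alt S r n := by
  ext I J
  rw [← sub_eq_zero]
  apply eq_zero_of_localization
  intro q hq
  let g : S →ₐ[R] Localization.AtPrime q := IsScalarTower.toAlgHom R S _
  have hg : ∀ s : S, algebraMap S (Localization.AtPrime q) s = g s := fun s => rfl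
  obtain ⟨z, hz⟩ : ∃ z, z = (theta r σ).symm (alt S r n) := ⟨_, rfl⟩
  have h1 : theta r (splitBC σ g)
      (Algebra.TensorProduct.map g (AlgHom.id R (⨂[R] _ : Fin r, A)) z) =
      alt (Localization.AtPrime q) r n := by
    rw [theta_map, hz, AlgEquiv.apply_symm_apply]
    exact alt_map r n (g : S →+* Localization.AtPrime q)
  have h2 := theta_map r σ' g z
  have h3 := theta_alt_local r (splitBC σ g) (splitBC σ' g)
  have h5 : (theta r (splitBC σ g)).symm (alt (Localization.AtPrime q) r n) =
      Algebra.TensorProduct.map g (AlgHom.id R (⨂[R] _ : Fin r, A)) z :=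
    (AlgEquiv.symm_apply_eq _).2 h1.symm
  rw [h5, h2] at h3
  have h4 := congrFun (congrFun h3 I) J
  rw [Matrix.map_apply, ← alt_map r n (g : S →+* Localization.AtPrime q), Matrix.map_apply] at h4
  rw [map_sub, sub_eq_zero, hg, hg, ← hz]
  exact h4

end Indep

end Groth.Agent.Lib.R2LeadTPowAlt
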