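import Mathlib
import Groth.Agent.Lib.R2LeadTPowAlt

/-!
# Descent of the antisymmetriser to the tensor power of an Azumaya algebra
-/

set_option autoImplicit false

namespace Groth.Agent.Lib.R2LeadTPowDesc

open TensorProduct PiTensorProduct
open Groth.Agent.Lib.R2LeadTPowLift Groth.Agent.Lib.R2LeadTPowKron Groth.Agent.Lib.R2LeadTPowBC
  Groth.Agent.Lib.R2LeadTPowAlt
open Groth.Agent.Lib.R2LeadAzCharpoly

section Elem

variable {R : Type*} [CommRing R] {S : Type*} [CommRing S] [Algebra R S]
  {A : Type*} [Ring A] [Algebra R A] (r : ℕ) {n : ℕ}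

/-- the antisymmetriser transported to `S ⊗ T` -/
noncomputable def altElem (σ : (S ⊗[R] A) ≃ₐ[S] Matrix (Fin n) (Fin n) S) :
    S ⊗[R] (⨂[R] _ : Fin r, A) :=
  (theta r σ).symm (alt S r n)

theorem theta_altElem (σ : (S ⊗[R] A) ≃ₐ[S] Matrix (Fin n) (Fin n) S) :
    theta r σ (altElem r σ) = alt S r n :=
  AlgEquiv.apply_symm_apply _ _

theorem altElem_indep (σ σ' : (S ⊗[R] A) ≃ₐ[S] Matrix (Fin n) (Fin n) S) :
    altElem r σ = altElem r σ' := by
  apply (theta r σ').injective
  rw [theta_altElem]
  exact theta_alt r σ σ'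

theorem map_altElem {S' : Type*} [CommRing S'] [Algebra R S']
    (σ : (S ⊗[R] A) ≃ₐ[S] Matrix (Fin n) (Fin n) S) (g : S →ₐ[R] S') :
    Algebra.TensorProduct.map g (AlgHom.id R (⨂[R] _ : Fin r, A)) (altElem r σ) =
      altElem r (splitBC σ g) := by
  apply (theta r (splitBC σ g)).injective
  rw [theta_altElem, theta_map, theta_altElem]
  exact alt_map r n (g : S →+* S')

end Elem

section Descent

variable {R : Type*} [CommRing R] {S : Type*} [CommRing S] [Algebra R S]
  [Module.FaithfullyFlat R S] {M : Type*} [AddCommGroup M] [Module R M] [Module.Flat R M]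

theorem exists_of_rTensor_eq (x : S ⊗[R] M)
    (hx : (Algebra.TensorProduct.includeLeft : S →ₐ[R] S ⊗[R] S).toLinearMap.rTensor M x =
      (Algebra.TensorProduct.includeRight : S →ₐ[R] S ⊗[R] S).toLinearMap.rTensor M x) :
    ∃ m : M, (1 : S) ⊗ₜ[R] m = x := by
  have heff : Function.Exact (Algebra.linearMap R S) (Algebra.TensorProduct.includeLeftSubRight R S) :=
    Algebra.IsEffective.of_faithfullyFlat R S
  have hex := Module.Flat.rTensor_exact M heff
  have h0 : (Algebra.TensorProduct.includeLeftSubRight R S).rTensor M x = 0 := by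
    rw [Algebra.TensorProduct.includeLeftSubRight, LinearMap.rTensor_sub, LinearMap.sub_apply, hx,
      sub_self]
  obtain ⟨y, hy⟩ := (hex x).1 h0
  refine ⟨TensorProduct.lid R M y, ?_⟩
  rw [← hy]
  clear hy
  induction y using TensorProduct.induction_on with
  | zero => simp
  | add a b ha hb => rw [map_add, TensorProduct.tmul_add, ha, hb, map_add]
  | tmul c m =>
    rw [TensorProduct.lid_tmul, LinearMap.rTensor_tmul, Algebra.linearMap_apply,
      Algebra.algebraMap_eq_smul_one, TensorProduct.smul_tmul]

end Descent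

section Exists

variable {R : Type*} [CommRing R] {S : Type*} [CommRing S] [Algebra R S]
  [Module.FaithfullyFlat R S] {A : Type*} [Ring A] [Algebra R A] (r : ℕ) {n : ℕ}

theorem algMap_eq_rTensor {S' : Type*} [CommRing S'] [Algebra R S'] {M : Type*} [Ring M]
    [Algebra R M] (g : S →ₐ[R] S') (x : S ⊗[R] M) :
    Algebra.TensorProduct.map g (AlgHom.id R M) x = g.toLinearMap.rTensor M x := by
  induction x using TensorProduct.induction_on with
  | zero => simp
  | add a b ha hb => rw [map_add, map_add, ha, hb]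
  | tmul c m => simp

theorem flat_tpow (σ : (S ⊗[R] A) ≃ₐ[S] Matrix (Fin n) (Fin n) S) :
    Module.Flat R (⨂[R] _ : Fin r, A) := by
  haveI : Module.Flat S (S ⊗[R] (⨂[R] _ : Fin r, A)) :=
    Module.Flat.of_linearEquiv (theta r σ).toLinearEquiv
  exact Module.Flat.of_flat_tensorProduct (R := R) (M := ⨂[R] _ : Fin r, A) S

theorem exists_antisymmetrizer (σ : (S ⊗[R] A) ≃ₐ[S] Matrix (Fin n) (Fin n) S) :
    ∃ s : ⨂[R] _ : Fin r, A, (1 : S) ⊗ₜ[R] s = altElem r σ := by
  haveI := flat_tpow r σ
  apply exists_of_rTensor_eq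
  rw [← algMap_eq_rTensor, ← algMap_eq_rTensor, map_altElem, map_altElem]
  exact altElem_indep r _ _

end Exists

section RankOne

variable (S : Type*) [CommRing S] (n : ℕ)

/-- the sign vector -/
noncomputable def omega (I : Fin n → Fin n) : S :=
  (Matrix.of fun k c : Fin n => if I k = c then (1 : S) else 0).det

theorem omega_id : omega S n id = 1 := by
  have : (Matrix.of fun k c : Fin n => if id k = c then (1 : S) else 0) = 1 := by
    ext k c
    simp [Matrix.one_apply]
  rw [omega, this, Matrix.det_one]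

theorem alt_eq_vecMulVec : alt S n n = Matrix.vecMulVec (omega S n) (omega S n) := by
  ext I J
  rw [Matrix.vecMulVec_apply, alt_apply, omega, omega, mul_comm, ← Matrix.det_transpose
    (Matrix.of fun k c : Fin n => if I k = c then (1 : S) else 0), ← Matrix.det_mul,
    Matrix.det_apply']
  apply Finset.sum_congr rfl
  intro π _
  congr 1
  have h1 : ∀ k : Fin n, ((Matrix.of fun k c : Fin n => if J k = c then (1 : S) else 0) *
      (Matrix.of fun k c : Fin n => if I k = c then (1 : S) else 0).transpose) (π k) k =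
      if I k = J (π k) then 1 else 0 := by
    intro k
    rw [Matrix.mul_apply]
    simp only [Matrix.of_apply, Matrix.transpose_apply, mul_ite, mul_one, mul_zero]
    rw [Finset.sum_ite_eq Finset.univ (I k), if_pos (Finset.mem_univ _)]
    by_cases h : I k = J (π k)
    · rw [if_pos h, if_pos h.symm]
    · rw [if_neg h, if_neg (fun h' => h h'.symm)]
  simp only [h1]
  rw [Fintype.prod_ite_zero]
  simp only [Finset.prod_const_one]
  congr 1
  rw [funext_iff]
  rfl

end RankOne

end Groth.Agent.Lib.R2LeadTPowDesc
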