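import Mathlib
import Groth.Agent.Lib.LeadAzumaya

/-!
# A left ideal generated by a rank-one element in an algebra that splits faithfully flatly
-/

set_option autoImplicit false

namespace Groth.Agent.Lib.R2LeadTPowEnd

open TensorProduct Matrix

section Abstract

variable {R : Type*} [CommRing R] {S : Type*} [CommRing S] [Algebra R S]
  {T : Type*} [Ring T] [Algebra R T] (s : T) {ι : Type*} [Fintype ι] [DecidableEq ι]
  (Θ : (S ⊗[R] T) ≃ₐ[S] Matrix ι ι S) (ω : ι → S) (i₀ : ι)

/-- the left ideal `T s` as an `R`-module -/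
abbrev leftIdeal : Submodule R T := LinearMap.range (LinearMap.mulRight R s)

/-- the left multiplication action of `T` on `T s` -/
noncomputable def actHom : T →ₐ[R] Module.End R (leftIdeal (R := R) s) where
  toFun t := (LinearMap.mulLeft R t).restrict (p := leftIdeal (R := R) s)
    (q := leftIdeal (R := R) s) (fun x hx => by
      obtain ⟨y, rfl⟩ := hx
      exact ⟨t * y, by simp [mul_assoc]⟩)
  map_one' := by
    ext x
    simp
  map_mul' a b := by
    ext x
    simp [mul_assoc]
  map_zero' := by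
    ext x
    simp
  map_add' a b := by
    ext x
    simp [add_mul]
  commutes' c := by
    ext x
    simp [Algebra.smul_def]

theorem actHom_apply_coe (t : T) (x : leftIdeal (R := R) s) :
    ((actHom (R := R) s t x : leftIdeal (R := R) s) : T) = t * (x : T) := rfl

/-- the `S`-linear inclusion `S ⊗ T s → S ⊗ T` -/
noncomputable def jS : S ⊗[R] leftIdeal (R := R) s →ₗ[S] S ⊗[R] T :=
  (leftIdeal (R := R) s).subtype.baseChange S

theorem jS_tmul (c : S) (x : leftIdeal (R := R) s) :
    jS (S := S) s (c ⊗ₜ[R] x) = c ⊗ₜ[R] (x : T) := rfl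

theorem jS_injective [Module.Flat R S] : Function.Injective (jS (R := R) (S := S) s) :=
  Module.Flat.lTensor_preserves_injective_linearMap (M := S) (leftIdeal (R := R) s).subtype
    Subtype.val_injective

theorem range_jS : LinearMap.range (jS (R := R) (S := S) s) =
    LinearMap.range (LinearMap.mulRight S ((1 : S) ⊗ₜ[R] s)) := by
  apply le_antisymm
  · rintro _ ⟨z, rfl⟩
    induction z using TensorProduct.induction_on with
    | zero => simp
    | add a b ha hb => rw [map_add]; exact Submodule.add_mem _ ha hb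
    | tmul c x =>
      obtain ⟨x, y, rfl⟩ := x
      refine ⟨c ⊗ₜ[R] y, ?_⟩
      rw [jS_tmul, LinearMap.mulRight_apply, Algebra.TensorProduct.tmul_mul_tmul, mul_one]
      rfl
  · rintro _ ⟨y, rfl⟩
    induction y using TensorProduct.induction_on with
    | zero => simp
    | add a b ha hb => rw [map_add]; exact Submodule.add_mem _ ha hb
    | tmul c y =>
      refine ⟨c ⊗ₜ[R] ⟨LinearMap.mulRight R s y, ⟨y, rfl⟩⟩, ?_⟩
      rw [jS_tmul]
      show c ⊗ₜ[R] (y * s) = _
      rw [LinearMap.mulRight_apply, Algebra.TensorProduct.tmul_mul_tmul, mul_one]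

/-- `v ↦ Θ⁻¹ (v ωᵀ)` -/
noncomputable def iotaS : (ι → S) →ₗ[S] S ⊗[R] T where
  toFun v := Θ.symm (Matrix.vecMulVec v ω)
  map_add' v w := by rw [Matrix.add_vecMulVec, map_add]
  map_smul' c v := by rw [Matrix.smul_vecMulVec, map_smul]; rfl

theorem iotaS_apply (v : ι → S) : iotaS Θ ω v = Θ.symm (Matrix.vecMulVec v ω) := rfl

theorem iotaS_injective (hω : ω i₀ = 1) : Function.Injective (iotaS Θ ω) := by
  intro v w h
  rw [iotaS_apply, iotaS_apply] at h
  have h1 := Θ.symm.injective h
  funext i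
  have h2 := congrFun (congrFun h1 i) i₀
  rwa [Matrix.vecMulVec_apply, Matrix.vecMulVec_apply, hω, mul_one, mul_one] at h2

theorem range_iotaS (hω : ω i₀ = 1)
    (hs : Θ ((1 : S) ⊗ₜ[R] s) = Matrix.vecMulVec ω ω) :
    LinearMap.range (iotaS Θ ω) = LinearMap.range (LinearMap.mulRight S ((1 : S) ⊗ₜ[R] s)) := by
  apply le_antisymm
  · rintro _ ⟨v, rfl⟩
    refine ⟨Θ.symm (Matrix.vecMulVec v (Pi.single i₀ 1)), ?_⟩
    rw [LinearMap.mulRight_apply, iotaS_apply]
    apply Θ.injective
    rw [map_mul, AlgEquiv.apply_symm_apply, AlgEquiv.apply_symm_apply, hs,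
      Matrix.vecMulVec_mul_vecMulVec]
    congr 1
    rw [single_dotProduct, one_mul, hω, one_smul]
  · rintro _ ⟨y, rfl⟩
    refine ⟨Θ y *ᵥ ω, ?_⟩
    rw [LinearMap.mulRight_apply, iotaS_apply]
    apply Θ.injective
    rw [map_mul, AlgEquiv.apply_symm_apply, hs, Matrix.mul_vecMulVec]

variable [Module.Flat R S]

/-- `S ⊗ T s` is free with basis indexed by `ι` -/
noncomputable def epsS (hω : ω i₀ = 1) (hs : Θ ((1 : S) ⊗ₜ[R] s) = Matrix.vecMulVec ω ω) :
    (ι → S) ≃ₗ[S] S ⊗[R] leftIdeal (R := R) s :=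
  (LinearEquiv.ofInjective (iotaS Θ ω) (iotaS_injective Θ ω i₀ hω)).trans
    ((LinearEquiv.ofEq _ _ ((range_iotaS s Θ ω i₀ hω hs).trans (range_jS s).symm)).trans
      (LinearEquiv.ofInjective (jS (R := R) (S := S) s) (jS_injective s)).symm)

theorem jS_epsS (hω : ω i₀ = 1) (hs : Θ ((1 : S) ⊗ₜ[R] s) = Matrix.vecMulVec ω ω)
    (v : ι → S) : jS s (epsS s Θ ω i₀ hω hs v) = iotaS Θ ω v := by
  have h1 : ∀ w : LinearMap.range (jS (R := R) (S := S) s),
      jS s ((LinearEquiv.ofInjective (jS (R := R) (S := S) s) (jS_injective s)).symm w) = w := by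
    intro w
    have := (LinearEquiv.ofInjective (jS (R := R) (S := S) s) (jS_injective s)).apply_symm_apply w
    exact congrArg Subtype.val this
  rw [epsS, LinearEquiv.trans_apply, LinearEquiv.trans_apply, h1]
  rfl

end Abstract

section Conclusions

variable {R : Type*} [CommRing R] {S : Type*} [CommRing S] [Algebra R S]
  [Module.FaithfullyFlat R S]
  {T : Type*} [Ring T] [Algebra R T] (s : T) {ι : Type*} [Fintype ι] [DecidableEq ι]
  (Θ : (S ⊗[R] T) ≃ₐ[S] Matrix ι ι S) (ω : ι → S) (i₀ : ι)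
  (hω : ω i₀ = 1) (hs : Θ ((1 : S) ⊗ₜ[R] s) = Matrix.vecMulVec ω ω)

include hω hs in
theorem finite_projective :
    Module.Finite R (leftIdeal (R := R) s) ∧ Module.Projective R (leftIdeal (R := R) s) := by
  haveI : Module.Free S (S ⊗[R] leftIdeal (R := R) s) :=
    Module.Free.of_equiv (epsS s Θ ω i₀ hω hs)
  haveI : Module.Finite S (S ⊗[R] leftIdeal (R := R) s) :=
    Module.Finite.equiv (epsS s Θ ω i₀ hω hs)
  exact Groth.Agent.Lib.LeadAzumaya.finite_projective_of_faithfullyFlat_baseChange S _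

include hω hs in
theorem rankAtStalk_eq (p : PrimeSpectrum R) :
    Module.rankAtStalk (R := R) (leftIdeal (R := R) s) p = Fintype.card ι := by
  obtain ⟨h1, h2⟩ := finite_projective s Θ ω i₀ hω hs
  haveI := h1
  haveI := h2
  obtain ⟨q, rfl⟩ := PrimeSpectrum.comap_surjective_of_faithfullyFlat (A := R) (B := S) p
  haveI : Nontrivial S := ⟨⟨0, 1, fun h => q.isPrime.ne_top
    ((Ideal.eq_top_iff_one _).2 (h ▸ q.asIdeal.zero_mem))⟩⟩
  haveI : Module.Free S (S ⊗[R] leftIdeal (R := R) s) :=
    Module.Free.of_equiv (epsS s Θ ω i₀ hω hs)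
  rw [← Module.rankAtStalk_baseChange (S := S) q, Module.rankAtStalk_eq_finrank_of_free,
    Pi.natCast_apply, Nat.cast_id, ← (epsS s Θ ω i₀ hω hs).finrank_eq,
    Module.finrank_fintype_fun_eq_card]

include hω hs in
theorem actHom_bijective : Function.Bijective (actHom (R := R) s) := by
  obtain ⟨h1, h2⟩ := finite_projective s Θ ω i₀ hω hs
  haveI := h1
  haveI := h2
  have hτ := Groth.Agent.Lib.LeadAzumaya.tensorProductEnd_bijective (R := R) S
    (leftIdeal (R := R) s)
  obtain ⟨f, hf⟩ : ∃ f : T →ₗ[R] Module.End R (leftIdeal (R := R) s),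
    f = (actHom (R := R) s).toLinearMap := ⟨_, rfl⟩
  have hfa : ∀ t, f t = actHom (R := R) s t := fun t => by rw [hf]; rfl
  suffices hb : Function.Bijective f by
    have : ⇑(actHom (R := R) s) = ⇑f := funext (fun t => (hfa t).symm)
    rw [this]
    exact hb
  refine (Module.FaithfullyFlat.lTensor_bijective_iff_bijective R S (N := T)
    (N' := Module.End R (leftIdeal (R := R) s)) f).1 ?_
  refine (Function.Bijective.of_comp_iff' hτ _).1 ?_
  -- the composite `c`
  have key : ∀ (z : S ⊗[R] T) (x : S ⊗[R] leftIdeal (R := R) s),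
      jS s ((LinearMap.tensorProductEnd R S (leftIdeal (R := R) s))
        ((f.lTensor S) z) x) = z * jS s x := by
    intro z x
    induction z using TensorProduct.induction_on with
    | zero => simp
    | add a b ha hb => rw [map_add, map_add, LinearMap.add_apply, map_add, ha, hb, add_mul]
    | tmul c t =>
      induction x using TensorProduct.induction_on with
      | zero => simp
      | add a b ha hb => rw [map_add, map_add, ha, hb, map_add, mul_add]
      | tmul d e =>
        rw [LinearMap.lTensor_tmul, hfa,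
          Groth.Agent.Lib.LeadAzumaya.tensorProductEnd_tmul_apply, jS_tmul, jS_tmul,
          Algebra.TensorProduct.tmul_mul_tmul, actHom_apply_coe]
  have key2 : ∀ (z : S ⊗[R] T),
      (LinearMap.tensorProductEnd R S (leftIdeal (R := R) s))
        ((f.lTensor S) z) =
      (epsS s Θ ω i₀ hω hs).conj (Matrix.toLin' (Θ z)) := by
    intro z
    apply LinearMap.ext
    intro x
    apply jS_injective (R := R) (S := S) s
    rw [key, LinearEquiv.conj_apply, LinearMap.comp_apply, LinearMap.comp_apply,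
      LinearEquiv.coe_coe, LinearEquiv.coe_coe, jS_epsS, Matrix.toLin'_apply, iotaS_apply]
    obtain ⟨v, rfl⟩ := (epsS s Θ ω i₀ hω hs).surjective x
    rw [LinearEquiv.symm_apply_apply, jS_epsS, iotaS_apply]
    apply Θ.injective
    rw [map_mul, AlgEquiv.apply_symm_apply, AlgEquiv.apply_symm_apply, Matrix.mul_vecMulVec]
  have : ⇑(LinearMap.tensorProductEnd R S (leftIdeal (R := R) s)) ∘
      ⇑(f.lTensor S) =
      ⇑((epsS s Θ ω i₀ hω hs).conj) ∘ ⇑(Matrix.toLin' (R := S) (n := ι) (m := ι)) ∘ ⇑Θ := by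
    funext z
    exact key2 z
  rw [this]
  exact (epsS s Θ ω i₀ hω hs).conj.bijective.comp
    ((Matrix.toLin' (R := S) (n := ι) (m := ι)).bijective.comp Θ.bijective)

end Conclusions

end Groth.Agent.Lib.R2LeadTPowEnd
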