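import Mathlib
import Groth.Agent.Lib.R2LeadTPowDesc
import Groth.Agent.Lib.R2LeadTPowEnd
import Groth.Agent.Lib.R2LeadAzGlobalSplit

/-!
# The `n`-th tensor power of an Azumaya algebra of rank `n²` is an endomorphism algebra
-/

set_option autoImplicit false

namespace Groth.Agent.Lib.R2LeadTPowMain

open TensorProduct PiTensorProduct
open Groth.Agent.Lib.R2LeadTPowBC Groth.Agent.Lib.R2LeadTPowAlt Groth.Agent.Lib.R2LeadTPowDesc
  Groth.Agent.Lib.R2LeadTPowEnd Groth.Agent.Lib.R2LeadAzGlobalSplit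

universe u

theorem main (R : Type u) [CommRing R] (A : Type u) [Ring A] [Algebra R A]
    [IsAzumaya R A] (n : ℕ) (hrk : ∀ p : PrimeSpectrum R, Module.rankAtStalk (R := R) A p = n ^ 2) :
    ∃ (E : Type u) (_ : AddCommGroup E) (_ : Module R E), Module.Finite R E ∧ Module.Projective R E ∧
      (∀ p : PrimeSpectrum R, Module.rankAtStalk (R := R) E p = n ^ n) ∧
      Nonempty ((⨂[R] _ : Fin n, A) ≃ₐ[R] Module.End R E) := by
  classical
  obtain ⟨S, i1, i2, hff, ⟨σ⟩⟩ := exists_global_splitting R A n hrk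
  obtain ⟨s, hs⟩ := exists_antisymmetrizer n σ
  have hΘs : theta n σ ((1 : S) ⊗ₜ[R] s) = Matrix.vecMulVec (omega S n) (omega S n) := by
    rw [hs, theta_altElem, alt_eq_vecMulVec]
  obtain ⟨hfin, hproj⟩ := finite_projective s (theta n σ) (omega S n) id (omega_id S n) hΘs
  refine ⟨leftIdeal (R := R) s, inferInstance, inferInstance, hfin, hproj, ?_, ?_⟩
  · intro p
    rw [rankAtStalk_eq s (theta n σ) (omega S n) id (omega_id S n) hΘs p]
    simp
  · exact ⟨AlgEquiv.ofBijective (actHom (R := R) s)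
      (actHom_bijective s (theta n σ) (omega S n) id (omega_id S n) hΘs)⟩

end Groth.Agent.Lib.R2LeadTPowMain
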