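import Mathlib
import Groth.Agent.Lib.R2H7FlatNil
import Groth.Agent.Lib.R2LeadTrivDef

set_option autoImplicit false
universe u v
open TensorProduct

namespace Groth.Agent.Lib.R2LeadTrivDefMk

section CoreSection
variable {k A B B' : Type u} [Field k] [CommRing A] [Algebra k A] [CommRing B] [Algebra k B]
  [CommRing B'] [Algebra A B'] [Algebra k B'] [IsScalarTower k A B']

/-- Ring-level core with a prescribed section. -/
theorem core_of_section (e : A →ₐ[k] k) (n : ℕ) (hn : (RingHom.ker e.toRingHom) ^ n = ⊥)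
    [Module.Flat A B']
    (c : B' →ₐ[k] B) (hc : ∀ a, c (algebraMap A B' a) = algebraMap k B (e a))
    (hker : RingHom.ker c.toRingHom = (RingHom.ker e.toRingHom).map (algebraMap A B'))
    (s : B →ₐ[k] B') (hs : ∀ b, c (s b) = b) :
    ∃ θ : A ⊗[k] B ≃ₐ[A] B', ∀ b, θ ((1 : A) ⊗ₜ[k] b) = s b := by
  classical
  set I := RingHom.ker e.toRingHom with hI
  let Ψ : A ⊗[k] B →ₐ[A] B' :=
    Algebra.TensorProduct.lift (Algebra.ofId A B') s (fun _ _ => Commute.all _ _)
  have hΨ : ∀ a b, Ψ (a ⊗ₜ b) = algebraMap A B' a * s b := fun a b => by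
    simp [Ψ, Algebra.ofId_apply]
  let ρ : A ⊗[k] B →ₐ[k] B :=
    Algebra.TensorProduct.lift ((Algebra.ofId k B).comp e) (AlgHom.id k B)
      (fun _ _ => Commute.all _ _)
  have hρ : ∀ a b, ρ (a ⊗ₜ b) = algebraMap k B (e a) * b := fun a b => by
    simp [ρ, Algebra.ofId_apply]
  have h1 : ∀ p, c (Ψ p) = ρ p := by
    intro p
    induction p using TensorProduct.induction_on with
    | zero => simp
    | tmul a b => rw [hΨ, hρ, map_mul, hc, hs]
    | add x y hx hy => rw [map_add, map_add, map_add, hx, hy]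
  have h2 : ∀ p : A ⊗[k] B, p - (1 : A) ⊗ₜ[k] (ρ p) ∈ I • (⊤ : Submodule A (A ⊗[k] B)) := by
    intro p
    induction p using TensorProduct.induction_on with
    | zero => simp
    | tmul a b =>
      rw [hρ]
      have hmem : a - algebraMap k A (e a) ∈ I := by
        rw [hI, RingHom.mem_ker]
        change e (a - algebraMap k A (e a)) = 0
        rw [map_sub, e.commutes, Algebra.algebraMap_self_apply, sub_self]
      have : a ⊗ₜ[k] b - (1 : A) ⊗ₜ[k] (algebraMap k B (e a) * b)
          = (a - algebraMap k A (e a)) • ((1 : A) ⊗ₜ[k] b) := by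
        rw [← Algebra.smul_def, TensorProduct.tmul_smul, sub_smul]
        simp [Algebra.smul_def, Algebra.TensorProduct.algebraMap_apply]
      rw [this]
      exact Submodule.smul_mem_smul hmem Submodule.mem_top
    | add x y hx hy =>
      have : x + y - (1 : A) ⊗ₜ[k] ρ (x + y) = (x - (1 : A) ⊗ₜ[k] ρ x) + (y - (1 : A) ⊗ₜ[k] ρ y) := by
        rw [map_add, TensorProduct.tmul_add]; abel
      rw [this]
      exact Submodule.add_mem _ hx hy
  have hbij : Function.Bijective Ψ := by
    refine Groth.Agent.Lib.R2H7.FlatNil.bijective_of_flat_of_nilpotent (R := A) I n hn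
      Ψ.toLinearMap ?_ ?_
    · intro q
      refine ⟨(1 : A) ⊗ₜ[k] (c q), ?_⟩
      have h0 : c (Ψ ((1 : A) ⊗ₜ[k] (c q)) - q) = 0 := by
        rw [map_sub, h1, hρ, map_one, map_one, one_mul, sub_self]
      rw [Ideal.smul_top_eq_map]
      change Ψ ((1 : A) ⊗ₜ[k] (c q)) - q ∈ I.map (algebraMap A B')
      rw [← hker]
      exact h0
    · intro p hp
      rw [Ideal.smul_top_eq_map] at hp
      have hp' : Ψ p ∈ I.map (algebraMap A B') := hp
      rw [← hker] at hp'
      have h3 : ρ p = 0 := by rw [← h1]; exact hp'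
      have h4 := h2 p
      rwa [h3, TensorProduct.tmul_zero, sub_zero] at h4
  refine ⟨AlgEquiv.ofBijective Ψ hbij, fun b => ?_⟩
  change Ψ ((1 : A) ⊗ₜ[k] b) = s b
  rw [hΨ, map_one, one_mul]

end CoreSection

section Adjust

variable {k B : Type u} [Field k] [CommRing B] [Algebra k B] {ι : Type v}

/-- `k` as a `B`-module through the `j`-th point. -/
def Kpt (π : ι → (B →ₐ[k] k)) (_ : ι) : Type u := k

instance (π : ι → (B →ₐ[k] k)) (j : ι) : AddCommGroup (Kpt π j) := inferInstanceAs (AddCommGroup k)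
instance (π : ι → (B →ₐ[k] k)) (j : ι) : Module k (Kpt π j) := inferInstanceAs (Module k k)
instance (π : ι → (B →ₐ[k] k)) (j : ι) : Module B (Kpt π j) := Module.compHom k (π j).toRingHom

theorem Kpt.smul_def (π : ι → (B →ₐ[k] k)) (j : ι) (b : B) (x : Kpt π j) :
    b • x = (π j b) • x := rfl

instance (π : ι → (B →ₐ[k] k)) (j : ι) : IsScalarTower k B (Kpt π j) :=
  ⟨fun κ b x => by
    rw [Kpt.smul_def, Kpt.smul_def, map_smul, smul_eq_mul, mul_smul]⟩

variable {B' : Type u} [CommRing B'] [Algebra (DualNumber k) B'] [Algebra k B']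
  [IsScalarTower k (DualNumber k) B']

theorem adjust [Finite ι] [Algebra.FormallySmooth k B]
    (c : B' →ₐ[k] B)
    (hc : ∀ a, c (algebraMap (DualNumber k) B' a) = algebraMap k B (TrivSqZeroExt.fst a))
    (s₀ : B →ₐ[k] B') (hs₀ : ∀ b, c (s₀ b) = b)
    (π : ι → (B →ₐ[k] k)) (hπ : Function.Injective π)
    (π' : ι → (B' →ₐ[DualNumber k] DualNumber k))
    (hππ' : ∀ j x, TrivSqZeroExt.fst (π' j x) = π j (c x)) :
    ∃ s : B →ₐ[k] B', (∀ b, c (s b) = b) ∧
      ∀ j b, π' j (s b) = algebraMap k (DualNumber k) (π j b) := by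
  classical
  -- `π' j` is `k`-linear
  have hπ'k : ∀ j (κ : k) (x : B'), π' j (κ • x) = κ • π' j x := by
    intro j κ x
    rw [← IsScalarTower.algebraMap_smul (DualNumber k) κ x, map_smul,
      IsScalarTower.algebraMap_smul]
  -- the derivation measuring the failure of `s₀`
  let D : Derivation k B (∀ j, Kpt π j) :=
    { toFun := fun b j => (TrivSqZeroExt.snd (π' j (s₀ b)) : k)
      map_add' := fun a b => by
        funext j
        change TrivSqZeroExt.snd (π' j (s₀ (a + b))) = TrivSqZeroExt.snd (π' j (s₀ a)) +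
          TrivSqZeroExt.snd (π' j (s₀ b))
        rw [map_add, map_add, TrivSqZeroExt.snd_add]
      map_smul' := fun κ b => by
        funext j
        change TrivSqZeroExt.snd (π' j (s₀ (κ • b))) = κ * TrivSqZeroExt.snd (π' j (s₀ b))
        rw [map_smul, hπ'k, TrivSqZeroExt.snd_smul, smul_eq_mul]
      map_one_eq_zero' := by
        funext j
        change TrivSqZeroExt.snd (π' j (s₀ 1)) = 0
        rw [map_one, map_one, TrivSqZeroExt.snd_one]
      leibniz' := fun a b => by
        funext j
        change TrivSqZeroExt.snd (π' j (s₀ (a * b))) =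
          π j a * TrivSqZeroExt.snd (π' j (s₀ b)) + π j b * TrivSqZeroExt.snd (π' j (s₀ a))
        rw [map_mul, map_mul, TrivSqZeroExt.snd_mul, hππ', hππ', hs₀, hs₀]
        simp [smul_eq_mul, mul_comm] }
  have hD : ∀ b j, D b j = (TrivSqZeroExt.snd (π' j (s₀ b)) : k) := fun _ _ => rfl
  let L : Ω[B⁄k] →ₗ[B] (∀ j, Kpt π j) := (KaehlerDifferential.linearMapEquivDerivation k B).symm D
  have hL : ∀ b, L (KaehlerDifferential.D k B b) = D b := by
    intro b
    have := (KaehlerDifferential.linearMapEquivDerivation k B).apply_symm_apply D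
    exact congrArg (fun d : Derivation k B (∀ j, Kpt π j) => d b) this
  -- evaluation at the points
  let ev : B →ₗ[B] (∀ j, Kpt π j) :=
    { toFun := fun b j => (π j b : k)
      map_add' := fun a b => by funext j; exact map_add (π j) a b
      map_smul' := fun a b => by
        funext j
        change π j (a * b) = π j a * π j b
        exact map_mul _ _ _ }
  have hev : Function.Surjective ev := by
    intro x
    have hcop : Pairwise (Function.onFun IsCoprime fun j => RingHom.ker (π j).toRingHom) := by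
      intro i j hij
      have hsurj : ∀ l, Function.Surjective (π l).toRingHom := fun l κ =>
        ⟨algebraMap k B κ, by change π l (algebraMap k B κ) = κ; rw [(π l).commutes]; rfl⟩
      haveI := RingHom.ker_isMaximal_of_surjective _ (hsurj i)
      haveI := RingHom.ker_isMaximal_of_surjective _ (hsurj j)
      refine Ideal.isCoprime_of_isMaximal ?_
      intro heq0
      have heq : RingHom.ker (π i).toRingHom = RingHom.ker (π j).toRingHom := heq0
      apply hij
      apply hπ
      ext b
      have hmem : b - algebraMap k B (π j b) ∈ RingHom.ker (π j).toRingHom := by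
        rw [RingHom.mem_ker]
        change π j (b - algebraMap k B (π j b)) = 0
        rw [map_sub, (π j).commutes, Algebra.algebraMap_self_apply, sub_self]
      rw [← heq, RingHom.mem_ker] at hmem
      have : π i (b - algebraMap k B (π j b)) = 0 := hmem
      rw [map_sub, (π i).commutes, Algebra.algebraMap_self_apply, sub_eq_zero] at this
      exact this
    obtain ⟨r, hr⟩ := Ideal.exists_forall_sub_mem_ideal hcop (fun j => algebraMap k B (x j : k))
    refine ⟨r, ?_⟩
    funext j
    have := hr j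
    rw [RingHom.mem_ker] at this
    have h' : π j (r - algebraMap k B (x j : k)) = 0 := this
    rw [map_sub, (π j).commutes, Algebra.algebraMap_self_apply, sub_eq_zero] at h'
    exact h'
  obtain ⟨Lt, hLt⟩ := Module.projective_lifting_property ev (-L) hev
  let d : Derivation k B B := KaehlerDifferential.linearMapEquivDerivation k B Lt
  have hd : ∀ b j, π j (d b) = -(TrivSqZeroExt.snd (π' j (s₀ b)) : k) := by
    intro b j
    have h1 : ev (Lt (KaehlerDifferential.D k B b)) = (-L) (KaehlerDifferential.D k B b) :=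
      congrArg (fun f : Ω[B⁄k] →ₗ[B] (∀ j, Kpt π j) => f (KaehlerDifferential.D k B b)) hLt
    have h2 := congrFun h1 j
    rw [LinearMap.neg_apply, hL] at h2
    exact h2
  -- the corrected section
  set ε' : B' := algebraMap (DualNumber k) B' DualNumber.eps with hε'
  have hεε : ε' * ε' = 0 := by
    rw [hε', ← map_mul, DualNumber.eps_mul_eps, map_zero]
  let sl : B →ₗ[k] B' := s₀.toLinearMap + (LinearMap.mulLeft k ε') ∘ₗ s₀.toLinearMap ∘ₗ d.toLinearMap
  have hsl : ∀ b, sl b = s₀ b + ε' * s₀ (d b) := fun b => rfl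
  let s : B →ₐ[k] B' := AlgHom.ofLinearMap sl
    (by rw [hsl, map_one, Derivation.map_one_eq_zero, map_zero, mul_zero, add_zero])
    (by
      intro a b
      rw [hsl, hsl, hsl, map_mul, Derivation.leibniz, map_add, smul_eq_mul, smul_eq_mul,
        map_mul, map_mul]
      linear_combination (- s₀ (d a) * s₀ (d b)) * hεε)
  have hs : ∀ b, s b = s₀ b + ε' * s₀ (d b) := fun b => rfl
  refine ⟨s, fun b => ?_, fun j b => ?_⟩
  · rw [hs, map_add, map_mul, hs₀, hs₀, hε', hc]
    simp
  · rw [hs, map_add, map_mul, hε', AlgHom.commutes]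
    apply TrivSqZeroExt.ext
    · rw [TrivSqZeroExt.fst_add, TrivSqZeroExt.fst_mul, hππ', hππ', hs₀, hs₀]
      simp [TrivSqZeroExt.algebraMap_eq_inl]
    · rw [TrivSqZeroExt.snd_add, TrivSqZeroExt.snd_mul, hππ', hs₀, hd]
      simp [TrivSqZeroExt.algebraMap_eq_inl]

end Adjust

section Geom

open CategoryTheory CategoryTheory.Limits AlgebraicGeometry

theorem affine_case_mk (k : Type u) [Field k] (B B' : CommRingCat.{u})
    (β : CommRingCat.of k ⟶ B) (α : CommRingCat.of (DualNumber k) ⟶ B') (c : B' ⟶ B)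
    (hflat : α.hom.Flat) (hsm : β.hom.FormallySmooth)
    (hsq : IsPullback (Spec.map c) (Spec.map β) (Spec.map α)
      (Spec.map (CommRingCat.ofHom (TrivSqZeroExt.fstHom k k k).toRingHom)))
    {ι : Type v} [Finite ι] (π : ι → (B ⟶ CommRingCat.of k)) (hπβ : ∀ j, β ≫ π j = 𝟙 _)
    (hπinj : Function.Injective π)
    (π' : ι → (B' ⟶ CommRingCat.of (DualNumber k))) (hπ'α : ∀ j, α ≫ π' j = 𝟙 _)
    (hππ' : ∀ j, c ≫ π j = π' j ≫ CommRingCat.ofHom (TrivSqZeroExt.fstHom k k k).toRingHom) :
    ∃ (φ : Spec B' ≅ pullback (Spec.map β)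
        (Spec.map (CommRingCat.ofHom (algebraMap k (DualNumber k))))) (sh : B ⟶ B'),
      φ.hom ≫ pullback.snd _ _ = Spec.map α ∧ φ.hom ≫ pullback.fst _ _ = Spec.map sh ∧
        sh ≫ c = 𝟙 B ∧
        ∀ j, sh ≫ π' j = π j ≫ CommRingCat.ofHom (algebraMap k (DualNumber k)) := by
  classical
  set e : DualNumber k →ₐ[k] k := TrivSqZeroExt.fstHom k k k with he
  letI : Algebra k B := β.hom.toAlgebra
  letI : Algebra (DualNumber k) B' := α.hom.toAlgebra
  letI : Algebra k B' := (α.hom.comp (algebraMap k (DualNumber k))).toAlgebra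
  haveI : IsScalarTower k (DualNumber k) B' := by
    refine ⟨fun κ a x => ?_⟩
    have h : κ • a = algebraMap k (DualNumber k) κ * a := Algebra.smul_def κ a
    rw [h]
    change α.hom (algebraMap k (DualNumber k) κ * a) * x =
      α.hom (algebraMap k (DualNumber k) κ) * (α.hom a * x)
    rw [map_mul, mul_assoc]
  have hw : α ≫ c = CommRingCat.ofHom e.toRingHom ≫ β := by
    apply Spec.map_injective
    rw [Spec.map_comp, Spec.map_comp]
    exact hsq.w
  have hpb : IsPullback c.op β.op α.op (CommRingCat.ofHom e.toRingHom).op :=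
    IsPullback.of_map Scheme.Spec (by rw [← op_comp, ← op_comp, hw]) hsq
  have hpo : IsPushout (CommRingCat.ofHom e.toRingHom) α β c := hpb.unop
  let c' : B' →ₐ[k] B :=
    { c.hom with
      commutes' := fun κ => by
        have h1 := congrArg (fun f => f.hom (algebraMap k (DualNumber k) κ)) hw
        have h2 : e (algebraMap k (DualNumber k) κ) = κ := by
          rw [e.commutes]; rfl
        change c.hom (α.hom (algebraMap k (DualNumber k) κ)) = β.hom κ
        refine Eq.trans h1 ?_
        change β.hom (e (algebraMap k (DualNumber k) κ)) = β.hom κ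
        rw [h2] }
  have hpo' : IsPushout (CommRingCat.ofHom e.toRingHom)
      (CommRingCat.ofHom (algebraMap (DualNumber k) B')) (CommRingCat.ofHom (algebraMap k B))
      (CommRingCat.ofHom c'.toRingHom) := hpo
  obtain ⟨hc, hsurj, hker⟩ := Groth.Agent.Lib.R2LeadTrivDef.surj_ker_of_isPushout e c' hpo'
  haveI : Algebra.FormallySmooth k B := hsm
  haveI : Module.Flat (DualNumber k) B' := hflat
  have hn : (RingHom.ker e.toRingHom) ^ 2 = ⊥ := TrivSqZeroExt.kerIdeal_sq k k
  have hnil : IsNilpotent (RingHom.ker (c' : B' →+* B)) := by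
    refine ⟨2, ?_⟩
    have : RingHom.ker (c' : B' →+* B) =
        (RingHom.ker e.toRingHom).map (algebraMap (DualNumber k) B') := hker
    rw [this, ← Ideal.map_pow, hn, Ideal.map_bot]
    rfl
  let s₀ : B →ₐ[k] B' := Algebra.FormallySmooth.liftOfSurjective (AlgHom.id k B) c' hsurj hnil
  have hs₀ : ∀ b, c' (s₀ b) = b := fun b =>
    Algebra.FormallySmooth.liftOfSurjective_apply (AlgHom.id k B) c' hsurj hnil b
  -- the points as algebra maps
  let πa : ι → (B →ₐ[k] k) := fun j =>
    { (π j).hom with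
      commutes' := fun κ => congrArg (fun f => f.hom κ) (hπβ j) }
  let πa' : ι → (B' →ₐ[DualNumber k] DualNumber k) := fun j =>
    { (π' j).hom with
      commutes' := fun a => congrArg (fun f => f.hom a) (hπ'α j) }
  have hπa_inj : Function.Injective πa := by
    intro i j hij
    apply hπinj
    ext b
    exact congrArg (fun f : B →ₐ[k] k => f b) hij
  have hππa : ∀ j x, TrivSqZeroExt.fst (πa' j x) = πa j (c' x) := by
    intro j x
    exact (congrArg (fun f => f.hom x) (hππ' j)).symm
  have hc' : ∀ a, c' (algebraMap (DualNumber k) B' a) = algebraMap k B (TrivSqZeroExt.fst a) := hc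
  obtain ⟨s, hs, hsπ⟩ := adjust c' hc' s₀ hs₀ πa hπa_inj πa' hππa
  obtain ⟨θ, hθ⟩ := core_of_section e 2 hn c' hc hker s hs
  let r : (B ⊗[k] DualNumber k) ≃+* B' :=
    (Algebra.TensorProduct.comm k B (DualNumber k)).toRingEquiv.trans θ.toRingEquiv
  let ι' : CommRingCat.of (B ⊗[k] DualNumber k) ≅ B' := r.toCommRingCatIso
  have hι : CommRingCat.ofHom (Algebra.TensorProduct.includeRight.toRingHom :
      DualNumber k →+* B ⊗[k] DualNumber k) ≫ ι'.hom = α := by
    refine CommRingCat.hom_ext (RingHom.ext fun a => ?_)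
    change θ (Algebra.TensorProduct.comm k B (DualNumber k) ((1 : B) ⊗ₜ[k] a)) = α.hom a
    rw [Algebra.TensorProduct.comm_tmul]
    have h := θ.commutes a
    rw [Algebra.TensorProduct.algebraMap_apply, Algebra.algebraMap_self_apply] at h
    exact h
  have hι2 : CommRingCat.ofHom (Algebra.TensorProduct.includeLeftRingHom :
      B →+* B ⊗[k] DualNumber k) ≫ ι'.hom = CommRingCat.ofHom s.toRingHom := by
    ext b
    change θ (Algebra.TensorProduct.comm k B (DualNumber k) (b ⊗ₜ[k] (1 : DualNumber k))) = s b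
    rw [Algebra.TensorProduct.comm_tmul, hθ]
  refine ⟨Scheme.Spec.mapIso ι'.op ≪≫ (pullbackSpecIso k B (DualNumber k)).symm,
    CommRingCat.ofHom s.toRingHom, ?_, ?_, ?_, ?_⟩
  · change (Spec.map ι'.hom ≫ (pullbackSpecIso k B (DualNumber k)).inv) ≫ pullback.snd _ _ = Spec.map α
    rw [Category.assoc, pullbackSpecIso_inv_snd, ← Spec.map_comp]
    exact congrArg Spec.map hι
  · change (Spec.map ι'.hom ≫ (pullbackSpecIso k B (DualNumber k)).inv) ≫ pullback.fst _ _ = _
    rw [Category.assoc, pullbackSpecIso_inv_fst, ← Spec.map_comp]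
    exact congrArg Spec.map hι2
  · ext b
    exact hs b
  · intro j
    refine CommRingCat.hom_ext (RingHom.ext fun b => ?_)
    exact hsπ j b

end Geom

end Groth.Agent.Lib.R2LeadTrivDefMk
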