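import Mathlib
import Groth.Agent.Lib.R2LeadReducedQuot

/-! R2Lead: descent of "unit times n-th power" along a flat local homomorphism of Noetherian
normal local domains that is weakly unramified in codimension one. -/

set_option autoImplicit false
set_option linter.unusedSectionVars false
universe u
open IsLocalRing

namespace Groth.Agent.Lib.R2Lead.UnramPow

open Groth.Agent.Lib.R2Lead.ReducedQuot

section Normal

variable {R : Type u} [CommRing R] [IsDomain R] [IsNoetherianRing R] [IsIntegrallyClosed R]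

/-- the image of `c ∈ q \ q^{(2)}` generates the maximal ideal of `R_q`. -/
theorem maximalIdeal_eq_span (q : Ideal R) [q.IsPrime] (hq1 : q.height = 1) {c : R}
    (hc : c ∈ q) (hc2 : ¬ InSq q c) :
    maximalIdeal (Localization.AtPrime q) =
      Ideal.span {algebraMap R (Localization.AtPrime q) c} := by
  haveI : IsDiscreteValuationRing (Localization.AtPrime q) :=
    Groth.Agent.Lib.Helper28.WeakKrull.isDiscreteValuationRing_localization_of_height_one R q hq1
  have hMeq : Ideal.map (algebraMap R (Localization.AtPrime q)) q =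
      maximalIdeal (Localization.AtPrime q) := Localization.AtPrime.map_eq_maximalIdeal
  have hcM : algebraMap R (Localization.AtPrime q) c ∈ maximalIdeal (Localization.AtPrime q) := by
    rw [← hMeq]
    exact Ideal.mem_map_of_mem _ hc
  have hc2' : algebraMap R (Localization.AtPrime q) c ∉
      maximalIdeal (Localization.AtPrime q) ^ 2 := by
    intro h
    rw [← hMeq, ← Ideal.map_pow,
      IsLocalization.mem_map_algebraMap_iff q.primeCompl (Localization.AtPrime q)] at h
    obtain ⟨⟨⟨y, hy⟩, ⟨s, hs⟩⟩, hys⟩ := h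
    simp only at hys
    rw [← map_mul] at hys
    have h5 : c * s = y :=
      IsLocalization.injective (Localization.AtPrime q) q.primeCompl_le_nonZeroDivisors hys
    apply hc2
    refine ⟨s, hs, ?_⟩
    rw [mul_comm, h5]
    exact hy
  exact dvr_span_eq hcM hc2'

/-- every nonzero `x` is, up to elements outside `q`, a power of `c`. -/
theorem exists_pow_rel (q : Ideal R) [q.IsPrime] (hq1 : q.height = 1) {c : R}
    (hc : c ∈ q) (hc2 : ¬ InSq q c) {x : R} (hx : x ≠ 0) :
    ∃ (k : ℕ) (a s : R), a ∉ q ∧ s ∉ q ∧ s * x = a * c ^ k := by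
  haveI : IsDiscreteValuationRing (Localization.AtPrime q) :=
    Groth.Agent.Lib.Helper28.WeakKrull.isDiscreteValuationRing_localization_of_height_one R q hq1
  have hinj : Function.Injective (algebraMap R (Localization.AtPrime q)) :=
    IsLocalization.injective (Localization.AtPrime q) q.primeCompl_le_nonZeroDivisors
  have hirr : Irreducible (algebraMap R (Localization.AtPrime q) c) :=
    (IsDiscreteValuationRing.irreducible_iff_uniformizer _).mpr
      (maximalIdeal_eq_span q hq1 hc hc2)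
  have hx' : algebraMap R (Localization.AtPrime q) x ≠ 0 := by
    intro h
    exact hx (hinj (by rw [h, map_zero]))
  obtain ⟨k, u, hu⟩ := IsDiscreteValuationRing.eq_unit_mul_pow_irreducible hx' hirr
  obtain ⟨a, s, has⟩ := IsLocalization.exists_mk'_eq q.primeCompl (u : Localization.AtPrime q)
  have ha : a ∉ q := by
    have h1 : IsUnit (IsLocalization.mk' (Localization.AtPrime q) a s) := by
      rw [has]; exact u.isUnit
    exact (IsLocalization.AtPrime.isUnit_mk'_iff (Localization.AtPrime q) q a s).mp h1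
  refine ⟨k, a, (s : R), ha, s.2, ?_⟩
  apply hinj
  rw [map_mul, map_mul, map_pow, hu, ← has, ← mul_assoc,
    mul_comm (algebraMap R (Localization.AtPrime q) (s : R)), IsLocalization.mk'_spec]

/-- exponent divisibility read off in the DVR `B_q`. -/
theorem dvd_exponent (q : Ideal R) [q.IsPrime] (hq1 : q.height = 1) {ϖ : R}
    (hϖ : maximalIdeal (Localization.AtPrime q) =
      Ideal.span {algebraMap R (Localization.AtPrime q) ϖ})
    {s a h : R} {w : Rˣ} {n k : ℕ} (hs : s ∉ q) (ha : a ∉ q) (hh : h ≠ 0)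
    (hrel : s * ((w : R) * h ^ n) = a * ϖ ^ k) : n ∣ k := by
  haveI : IsDiscreteValuationRing (Localization.AtPrime q) :=
    Groth.Agent.Lib.Helper28.WeakKrull.isDiscreteValuationRing_localization_of_height_one R q hq1
  have hinj : Function.Injective (algebraMap R (Localization.AtPrime q)) :=
    IsLocalization.injective (Localization.AtPrime q) q.primeCompl_le_nonZeroDivisors
  have hirr : Irreducible (algebraMap R (Localization.AtPrime q) ϖ) :=
    (IsDiscreteValuationRing.irreducible_iff_uniformizer _).mpr hϖ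
  have hh' : algebraMap R (Localization.AtPrime q) h ≠ 0 :=
    fun h0 => hh (hinj (by rw [h0, map_zero]))
  obtain ⟨j, u, hu⟩ := IsDiscreteValuationRing.eq_unit_mul_pow_irreducible hh' hirr
  obtain ⟨us, hus⟩ : IsUnit (algebraMap R (Localization.AtPrime q) s) :=
    IsLocalization.map_units (Localization.AtPrime q) (⟨s, hs⟩ : q.primeCompl)
  obtain ⟨ua, hua⟩ : IsUnit (algebraMap R (Localization.AtPrime q) a) :=
    IsLocalization.map_units (Localization.AtPrime q) (⟨a, ha⟩ : q.primeCompl)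
  obtain ⟨uw, huw⟩ : IsUnit (algebraMap R (Localization.AtPrime q) (w : R)) := w.isUnit.map _
  have h1 := congrArg (algebraMap R (Localization.AtPrime q)) hrel
  simp only [map_mul, map_pow] at h1
  rw [hu, ← hus, ← hua, ← huw] at h1
  have h2 : ((us * uw * u ^ n : (Localization.AtPrime q)ˣ) : Localization.AtPrime q) *
      (algebraMap R (Localization.AtPrime q) ϖ) ^ (j * n) =
      (ua : Localization.AtPrime q) * (algebraMap R (Localization.AtPrime q) ϖ) ^ k := by
    rw [← h1]
    push_cast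
    ring
  have h3 := IsDiscreteValuationRing.unit_mul_pow_congr_pow hirr hirr _ _ _ _ h2
  exact ⟨j, by rw [← h3, mul_comm]⟩

end Normal

section Unram

/-- under weak unramifiedness at `q` over `p`, a uniformizer of `A_p` stays one in `B_q`. -/
theorem maximalIdeal_eq_span_of_unram {A B : Type u} [CommRing A] [IsDomain A]
    [IsNoetherianRing A] [IsIntegrallyClosed A] [CommRing B] [Algebra A B]
    (p : Ideal A) [p.IsPrime] (hp1 : p.height = 1) (q : Ideal B) [q.IsPrime]
    (hqp : q.comap (algebraMap A B) = p)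
    (hram : Ideal.map (algebraMap B (Localization.AtPrime q)) (Ideal.map (algebraMap A B) p) =
      IsLocalRing.maximalIdeal (Localization.AtPrime q))
    {c : A} (hc : c ∈ p) (hc2 : ¬ InSq p c) :
    maximalIdeal (Localization.AtPrime q) =
      Ideal.span {algebraMap B (Localization.AtPrime q) (algebraMap A B c)} := by
  apply le_antisymm
  · rw [← hram, Ideal.map_le_iff_le_comap, Ideal.map_le_iff_le_comap]
    intro z hz
    rw [Ideal.mem_comap, Ideal.mem_comap, Ideal.mem_span_singleton]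
    obtain ⟨y, hy⟩ := dvd_of_not_inSq p hp1 hc hc2 hz
    obtain ⟨a, s, rfl⟩ := IsLocalization.exists_mk'_eq p.primeCompl y
    have hinj : Function.Injective (algebraMap A (Localization.AtPrime p)) :=
      IsLocalization.injective (Localization.AtPrime p) p.primeCompl_le_nonZeroDivisors
    have h1 : z * (s : A) = c * a := by
      apply hinj
      rw [map_mul, map_mul, hy, mul_assoc, IsLocalization.mk'_spec]
    have hs : algebraMap A B (s : A) ∉ q := by
      intro h
      have h' : (s : A) ∈ q.comap (algebraMap A B) := h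
      rw [hqp] at h'
      exact s.2 h'
    have hunit : IsUnit (algebraMap B (Localization.AtPrime q) (algebraMap A B (s : A))) :=
      IsLocalization.map_units (Localization.AtPrime q) (⟨_, hs⟩ : q.primeCompl)
    obtain ⟨v, hv⟩ := hunit
    refine ⟨algebraMap B (Localization.AtPrime q) (algebraMap A B a) *
      ((v⁻¹ : (Localization.AtPrime q)ˣ) : Localization.AtPrime q), ?_⟩
    have h2 : algebraMap B (Localization.AtPrime q) (algebraMap A B z) *
        (v : Localization.AtPrime q) =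
        algebraMap B (Localization.AtPrime q) (algebraMap A B c) *
          algebraMap B (Localization.AtPrime q) (algebraMap A B a) := by
      rw [hv, ← map_mul, ← map_mul, h1, map_mul, map_mul]
    calc algebraMap B (Localization.AtPrime q) (algebraMap A B z)
        = algebraMap B (Localization.AtPrime q) (algebraMap A B z) *
          (v : Localization.AtPrime q) *
          ((v⁻¹ : (Localization.AtPrime q)ˣ) : Localization.AtPrime q) := by
          rw [Units.mul_inv_cancel_right]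
      _ = _ := by rw [h2, mul_assoc]
  · rw [Ideal.span_singleton_le_iff_mem, ← hram]
    exact Ideal.mem_map_of_mem _ (Ideal.mem_map_of_mem _ hc)

end Unram

section Main

variable {A B : Type u} [CommRing A] [IsDomain A] [IsNoetherianRing A] [IsLocalRing A]
  [IsIntegrallyClosed A] [CommRing B] [IsDomain B] [IsNoetherianRing B] [IsLocalRing B]
  [IsIntegrallyClosed B] [Algebra A B] [IsLocalHom (algebraMap A B)] [Module.Flat A B]

/-- Step 1: existence of `g, t` with `g ^ n = f * t` and `t` regular modulo `f`. -/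
theorem exists_pow_eq_mul (f : A) (hf0 : f ≠ 0) (n : ℕ)
    (hdiv : ∀ (p : Ideal A) [p.IsPrime], p.height = 1 → ∀ c ∈ p, ¬ InSq p c →
      ∀ (k : ℕ) (a s : A), a ∉ p → s ∉ p → s * f = a * c ^ k → n ∣ k) :
    ∃ g t : A, g ≠ 0 ∧ g ^ n = f * t ∧ ∀ y, f ∣ t * y → f ∣ y := by
  classical
  have hfin := Ideal.finite_minimalPrimes_of_isNoetherianRing A (Ideal.span {f})
  obtain ⟨𝒬, h𝒬⟩ : ∃ 𝒬 : Finset (Ideal A), 𝒬 = hfin.toFinset := ⟨_, rfl⟩
  have hmem : ∀ Q, Q ∈ 𝒬 ↔ Q ∈ (Ideal.span {f}).minimalPrimes := fun Q => by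
    rw [h𝒬]; exact hfin.mem_toFinset
  have hprime : ∀ Q ∈ 𝒬, Q.IsPrime := fun Q hQ => ((hmem Q).mp hQ).1.1
  have hht : ∀ Q ∈ 𝒬, Q.height = 1 :=
    fun Q hQ => height_eq_one_of_mem_minimalPrimes hf0 ((hmem Q).mp hQ)
  have hincomp : ∀ Q ∈ 𝒬, ∀ Q' ∈ 𝒬, Q ≤ Q' → Q = Q' := by
    intro Q hQ Q' hQ' hle
    exact le_antisymm hle (((hmem Q').mp hQ').2 ((hmem Q).mp hQ).1 hle)
  have hz : ∀ Q : Ideal A, ∃ z : A,
      Q ∈ 𝒬 → (z ∈ Q ∧ ¬ InSq Q z ∧ ∀ Q' ∈ 𝒬, Q' ≠ Q → z ∉ Q') := by
    intro Q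
    by_cases hQ : Q ∈ 𝒬
    · haveI := hprime Q hQ
      obtain ⟨z, hzQ, hz2, hzT⟩ := exists_mem_avoid Q (sqIdeal Q (hprime Q hQ)) (𝒬.erase Q)
        (fun P hP => hprime P (Finset.mem_of_mem_erase hP))
        (by
          obtain ⟨w, hw, hw2⟩ := exists_mem_not_inSq Q (hht Q hQ)
          exact fun hle => hw2 (hle hw))
        (by
          intro P hP hle
          exact (Finset.ne_of_mem_erase hP)
            (hincomp Q hQ P (Finset.mem_of_mem_erase hP) hle).symm)
      exact ⟨z, fun _ => ⟨hzQ, hz2,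
        fun Q' hQ' hne => hzT Q' (Finset.mem_erase.mpr ⟨hne, hQ'⟩)⟩⟩
    · exact ⟨0, fun h => absurd h hQ⟩
  choose z hz using hz
  have hj : ∀ Q : Ideal A, ∃ (j : ℕ) (a s : A),
      Q ∈ 𝒬 → (a ∉ Q ∧ s ∉ Q ∧ s * f = a * z Q ^ (n * j)) := by
    intro Q
    by_cases hQ : Q ∈ 𝒬
    · haveI := hprime Q hQ
      obtain ⟨k, a, s, ha, hs, hrel⟩ :=
        exists_pow_rel Q (hht Q hQ) (hz Q hQ).1 (hz Q hQ).2.1 hf0
      obtain ⟨j, rfl⟩ := hdiv Q (hht Q hQ) (z Q) (hz Q hQ).1 (hz Q hQ).2.1 k a s ha hs hrel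
      exact ⟨j, a, s, fun _ => ⟨ha, hs, hrel⟩⟩
    · exact ⟨0, 0, 0, fun h => absurd h hQ⟩
  choose j a s hj using hj
  obtain ⟨g, hg⟩ : ∃ g : A, g = ∏ Q ∈ 𝒬, z Q ^ j Q := ⟨_, rfl⟩
  have hz0 : ∀ Q ∈ 𝒬, z Q ≠ 0 := by
    intro Q hQ h0
    apply (hz Q hQ).2.1
    rw [h0]
    exact ⟨1, fun h => (hprime Q hQ).ne_top ((Ideal.eq_top_iff_one Q).mpr h), by simp⟩
  have hg0 : g ≠ 0 := by
    rw [hg]
    exact Finset.prod_ne_zero_iff.mpr fun Q hQ => pow_ne_zero _ (hz0 Q hQ)
  have hloc : ∀ Q ∈ 𝒬, ∃ r : A, r ∉ Q ∧ a Q * g ^ n = s Q * f * r ^ n := by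
    intro Q hQ
    have hQp := hprime Q hQ
    refine ⟨∏ Q' ∈ 𝒬.erase Q, z Q' ^ j Q', ?_, ?_⟩
    · intro h
      haveI := hQp
      obtain ⟨Q', hQ', h⟩ := (Ideal.IsPrime.prod_mem_iff).mp h
      exact (hz Q' (Finset.mem_of_mem_erase hQ')).2.2 Q hQ (Finset.ne_of_mem_erase hQ').symm
        (Ideal.IsPrime.mem_of_pow_mem hQp _ h)
    · rw [hg, ← Finset.prod_erase_mul 𝒬 _ hQ, mul_pow, ← pow_mul, mul_comm (j Q) n]
      have h1 := (hj Q hQ).2.2
      linear_combination ((∏ Q' ∈ 𝒬.erase Q, z Q' ^ j Q') ^ n) * h1.symm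
  have hfg : f ∣ g ^ n := by
    apply Groth.Agent.Lib.Helper28.WeakKrull.dvd_of_forall_associatedPrimes A f (g ^ n)
    intro Q _ hQass
    have hQmin := mem_minimalPrimes_of_mem_associatedPrimes hf0 hQass
    have hQ := (hmem Q).mpr hQmin
    obtain ⟨r, hr, hrel⟩ := hloc Q hQ
    have hunit : IsUnit (algebraMap A (Localization.AtPrime Q) (a Q)) :=
      IsLocalization.map_units (Localization.AtPrime Q) (⟨a Q, (hj Q hQ).1⟩ : Q.primeCompl)
    have h1 : algebraMap A (Localization.AtPrime Q) f ∣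
        algebraMap A (Localization.AtPrime Q) (a Q) *
          algebraMap A (Localization.AtPrime Q) (g ^ n) := by
      rw [← map_mul, hrel]
      exact map_dvd (algebraMap A (Localization.AtPrime Q)) ⟨s Q * r ^ n, by ring⟩
    exact hunit.dvd_mul_left.mp h1
  obtain ⟨t, ht⟩ := hfg
  have htQ : ∀ Q ∈ 𝒬, t ∉ Q := by
    intro Q hQ htQ
    have hQp := hprime Q hQ
    obtain ⟨r, hr, hrel⟩ := hloc Q hQ
    rw [ht] at hrel
    have h1 : f * (a Q * t) = f * (s Q * r ^ n) := by linear_combination hrel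
    have h2 : a Q * t = s Q * r ^ n := mul_left_cancel₀ hf0 h1
    have h3 : s Q * r ^ n ∈ Q := h2 ▸ Ideal.mul_mem_left _ _ htQ
    rcases Ideal.IsPrime.mem_or_mem hQp h3 with h | h
    · exact (hj Q hQ).2.1 h
    · exact hr (Ideal.IsPrime.mem_of_pow_mem hQp n h)
  refine ⟨g, t, hg0, ht, ?_⟩
  intro y hy
  apply Groth.Agent.Lib.Helper28.WeakKrull.dvd_of_forall_associatedPrimes A f y
  intro Q _ hQass
  have hQmin := mem_minimalPrimes_of_mem_associatedPrimes hf0 hQass
  have hQ := (hmem Q).mpr hQmin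
  have hunit : IsUnit (algebraMap A (Localization.AtPrime Q) t) :=
    IsLocalization.map_units (Localization.AtPrime Q) (⟨t, htQ Q hQ⟩ : Q.primeCompl)
  have h1 : algebraMap A (Localization.AtPrime Q) f ∣
      algebraMap A (Localization.AtPrime Q) t * algebraMap A (Localization.AtPrime Q) y := by
    rw [← map_mul]
    exact map_dvd _ hy
  exact hunit.dvd_mul_left.mp h1

/-- regularity modulo `f` ascends along flat maps. -/
theorem regular_of_flat {f t : A} (hreg : ∀ y, f ∣ t * y → f ∣ y) (y : B)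
    (hy : algebraMap A B f ∣ algebraMap A B t * y) : algebraMap A B f ∣ y := by
  obtain ⟨y', hy'⟩ := hy
  have hrel : ∑ i : Fin 2, (![t, -f] i) • (![y, y'] i) = 0 := by
    have e1 : ∑ i : Fin 2, (![t, -f] i) • (![y, y'] i) = t • y + (-f) • y' := by
      rw [Fin.sum_univ_two]; rfl
    rw [e1, Algebra.smul_def, Algebra.smul_def, map_neg, hy']
    ring
  obtain ⟨k, c, b, hb, hc⟩ := Module.Flat.isTrivialRelation_of_sum_smul_eq_zero
    (R := A) (M := B) (f := ![t, -f]) (x := ![y, y']) hrel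
  have h0 : y = ∑ j, c 0 j • b j := hb 0
  rw [h0]
  apply Finset.dvd_sum
  intro j _
  have hcj : t * c 0 j + (-f) * c 1 j = 0 := by
    have := hc j
    rw [Fin.sum_univ_two] at this
    exact this
  have h1 : f ∣ c 0 j := hreg _ ⟨c 1 j, by linear_combination hcj⟩
  rw [Algebra.smul_def]
  exact Dvd.dvd.mul_right (map_dvd _ h1) _

theorem main (f : A) (h : B) (n : ℕ) (hn : 1 < n) (w : Bˣ)
    (hf : algebraMap A B f = (w : B) * h ^ n)
    (hram : ∀ (p : Ideal A) [p.IsPrime], p.height = 1 →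
      ∃ (q : Ideal B) (_ : q.IsPrime), q.height = 1 ∧ q.comap (algebraMap A B) = p ∧
        Ideal.map (algebraMap B (Localization.AtPrime q)) (Ideal.map (algebraMap A B) p) =
          IsLocalRing.maximalIdeal (Localization.AtPrime q)) :
    ∃ (g : A) (u : Aˣ), f = (u : A) * g ^ n := by
  haveI : Module.FaithfullyFlat A B := Module.FaithfullyFlat.of_flat_of_isLocalHom
  have hφinj : Function.Injective (algebraMap A B) := by
    rw [RingHom.injective_iff_ker_eq_bot, RingHom.ker_eq_comap_bot]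
    have h1 := Ideal.comap_map_eq_self_of_faithfullyFlat (B := B) (⊥ : Ideal A)
    rwa [Ideal.map_bot] at h1
  have hdesc : ∀ x y : A, algebraMap A B x ∣ algebraMap A B y → x ∣ y := by
    intro x y hxy
    have h1 : y ∈ ((Ideal.span {x}).map (algebraMap A B)).comap (algebraMap A B) := by
      rw [Ideal.mem_comap, Ideal.map_span, Set.image_singleton, Ideal.mem_span_singleton]
      exact hxy
    rw [Ideal.comap_map_eq_self_of_faithfullyFlat] at h1
    exact Ideal.mem_span_singleton.mp h1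
  have hn0 : n ≠ 0 := by omega
  by_cases hf0 : f = 0
  · refine ⟨0, 1, ?_⟩
    rw [hf0, zero_pow hn0, mul_zero]
  have hh0 : h ≠ 0 := by
    rintro rfl
    rw [zero_pow hn0, mul_zero] at hf
    exact hf0 (hφinj (by rw [hf, map_zero]))
  have hdiv : ∀ (p : Ideal A) [p.IsPrime], p.height = 1 → ∀ c ∈ p, ¬ InSq p c →
      ∀ (k : ℕ) (a s : A), a ∉ p → s ∉ p → s * f = a * c ^ k → n ∣ k := by
    intro p _ hp1 c hc hc2 k a s ha hs hrel
    obtain ⟨q, hq, hq1, hqp, hqram⟩ := hram p hp1
    haveI := hq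
    have hϖ := maximalIdeal_eq_span_of_unram p hp1 q hqp hqram hc hc2
    have hs' : algebraMap A B s ∉ q := fun hmem => hs (by rw [← hqp]; exact hmem)
    have ha' : algebraMap A B a ∉ q := fun hmem => ha (by rw [← hqp]; exact hmem)
    have hrel' : algebraMap A B s * ((w : B) * h ^ n) =
        algebraMap A B a * (algebraMap A B c) ^ k := by
      rw [← hf, ← map_mul, hrel, map_mul, map_pow]
    exact dvd_exponent q hq1 hϖ hs' ha' hh0 hrel'
  obtain ⟨g, t, hg0, hgt, hreg⟩ := exists_pow_eq_mul f hf0 n hdiv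
  have ht0 : t ≠ 0 := by
    rintro rfl
    rw [mul_zero] at hgt
    exact hg0 ((pow_eq_zero_iff hn0).mp hgt)
  obtain ⟨wi, hwi⟩ : ∃ wi : B, (w : B) * wi = 1 := ⟨_, Units.mul_inv w⟩
  have hB1 : (algebraMap A B g) ^ n = h ^ n * ((w : B) * algebraMap A B t) := by
    rw [← map_pow, hgt, map_mul, hf]; ring
  have hdvd : h ∣ algebraMap A B g :=
    (IsIntegrallyClosed.pow_dvd_pow_iff hn0).mp ⟨_, hB1⟩
  obtain ⟨s, hs⟩ := hdvd
  have hsn : s ^ n = (w : B) * algebraMap A B t := by
    have h1 : h ^ n * s ^ n = h ^ n * ((w : B) * algebraMap A B t) := by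
      rw [← mul_pow, ← hs]; exact hB1
    exact mul_left_cancel₀ (pow_ne_zero n hh0) h1
  have hpow : h ^ n = h ^ (n - 1) * h := by
    rw [← pow_succ, Nat.sub_add_cancel (by omega)]
  have hspow : s ^ n = s ^ (n - 1) * s := by
    rw [← pow_succ, Nat.sub_add_cancel (by omega)]
  have hf' : algebraMap A B f = (w : B) * (h ^ (n - 1) * h) := by rw [hf, hpow]
  have hregB : ∀ y : B, algebraMap A B f ∣ algebraMap A B t * y → algebraMap A B f ∣ y :=
    fun y hy => regular_of_flat hreg y hy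
  have hkey : ∀ x : B, h ∣ s ^ n * x → h ∣ x := by
    intro x hx
    obtain ⟨x', hx'⟩ := hx
    have h1 : algebraMap A B f ∣ algebraMap A B t * (h ^ (n - 1) * x) := by
      refine ⟨wi * wi * x', ?_⟩
      linear_combination (-(wi * wi * x')) * hf' +
        (-(wi * x' * h ^ (n - 1) * h) - algebraMap A B t * h ^ (n - 1) * x) * hwi +
        (wi * h ^ (n - 1)) * hx' + (-(wi * h ^ (n - 1) * x)) * hsn
    obtain ⟨y', hy'⟩ := hregB _ h1
    have h2 : h ^ (n - 1) * x = h ^ (n - 1) * (h * ((w : B) * y')) := by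
      rw [hy', hf']; ring
    exact ⟨_, mul_left_cancel₀ (pow_ne_zero _ hh0) h2⟩
  have hrel : ∑ i : Fin 2, (![t, -g] i) • (![h, wi * s ^ (n - 1)] i) = 0 := by
    have e1 : ∑ i : Fin 2, (![t, -g] i) • (![h, wi * s ^ (n - 1)] i) =
        t • h + (-g) • (wi * s ^ (n - 1)) := by
      rw [Fin.sum_univ_two]; rfl
    rw [e1, Algebra.smul_def, Algebra.smul_def, map_neg, hs]
    linear_combination (-(wi * h)) * hsn + (-(algebraMap A B t * h)) * hwi +
      (wi * h) * hspow
  obtain ⟨k, c, b, hb, hc⟩ := Module.Flat.isTrivialRelation_of_sum_smul_eq_zero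
    (R := A) (M := B) (f := ![t, -g]) (x := ![h, wi * s ^ (n - 1)]) hrel
  have hb0 : h = ∑ j, c 0 j • b j := hb 0
  have hcj : ∀ j, g ∣ t * c 0 j := by
    intro j
    have h1 := hc j
    rw [Fin.sum_univ_two] at h1
    have h' : t * c 0 j + (-g) * c 1 j = 0 := h1
    exact ⟨c 1 j, by linear_combination h'⟩
  have hdiv_j : ∀ j, h ∣ algebraMap A B (c 0 j) := by
    intro j
    apply hkey
    obtain ⟨c', hc'⟩ := hcj j
    refine ⟨(w : B) * s * algebraMap A B c', ?_⟩
    have h1 : algebraMap A B t * algebraMap A B (c 0 j) =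
        algebraMap A B g * algebraMap A B c' := by
      rw [← map_mul, hc', map_mul]
    rw [hsn]
    rw [hs] at h1
    linear_combination (w : B) * h1
  choose d hd using hdiv_j
  have hsum : (1 : B) = ∑ j, d j * b j := by
    have h1 : h * 1 = h * ∑ j, d j * b j := by
      rw [mul_one, Finset.mul_sum]
      conv_lhs => rw [hb0]
      apply Finset.sum_congr rfl
      intro j _
      rw [Algebra.smul_def, hd j, mul_assoc]
    exact mul_left_cancel₀ hh0 h1
  obtain ⟨j, hj⟩ : ∃ j, IsUnit (d j * b j) := by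
    by_contra hcon
    push Not at hcon
    have h1 : ∑ j, d j * b j ∈ maximalIdeal B :=
      Ideal.sum_mem _ fun j _ => (IsLocalRing.mem_maximalIdeal _).mpr (hcon j)
    rw [← hsum] at h1
    exact (IsLocalRing.mem_maximalIdeal _).mp h1 isUnit_one
  have hdj : IsUnit (d j) := isUnit_of_mul_isUnit_left hj
  obtain ⟨a₀, ha₀⟩ : ∃ a₀ : A, algebraMap A B a₀ = h * d j := ⟨c 0 j, hd j⟩
  obtain ⟨e, he⟩ := hdj
  have h1 : algebraMap A B f ∣ algebraMap A B (a₀ ^ n) := by
    refine ⟨wi * d j ^ n, ?_⟩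
    rw [map_pow, ha₀, hf]
    linear_combination (-(h ^ n * d j ^ n)) * hwi
  have h2 : algebraMap A B (a₀ ^ n) ∣ algebraMap A B f := by
    refine ⟨(w : B) * ((e⁻¹ : Bˣ) : B) ^ n, ?_⟩
    rw [map_pow, ha₀, hf, ← he]
    have heq : (e : B) ^ n * ((e⁻¹ : Bˣ) : B) ^ n = 1 := by
      rw [← mul_pow, Units.mul_inv, one_pow]
    linear_combination (-((w : B) * h ^ n)) * heq
  obtain ⟨x, hx⟩ := hdesc _ _ h1
  obtain ⟨y, hy⟩ := hdesc _ _ h2
  have hxy : x * y = 1 := by
    have h3 : f * (x * y) = f * 1 := by rw [mul_one, ← mul_assoc, ← hx, ← hy]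
    exact mul_left_cancel₀ hf0 h3
  have hyu : IsUnit y := IsUnit.of_mul_eq_one x ((mul_comm y x).trans hxy)
  obtain ⟨u, hu⟩ := hyu
  exact ⟨a₀, u, by rw [hu, mul_comm]; exact hy⟩

end Main

end Groth.Agent.Lib.R2Lead.UnramPow
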