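import Mathlib

set_option autoImplicit false

open TensorProduct

universe u

namespace Groth.Agent.Lib.R2LeadWEProd

section

variable (A P X : Type u) [CommRing A] [CommRing P] [CommRing X] [Algebra A P] [Algebra A X]

theorem flat_comp_lmul' (π : P →ₐ[A] X) (hπ : (π : P →+* X).Flat) [Algebra.WeaklyEtale A X] :
    ((π : P →+* X).comp (Algebra.TensorProduct.lmul' A (S := P) : P ⊗[A] P →+* P)).Flat := by
  have h1 : (π : P →+* X).comp (Algebra.TensorProduct.lmul' A (S := P) : P ⊗[A] P →+* P) =
      (Algebra.TensorProduct.lmul' A (S := X) : X ⊗[A] X →+* X).comp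
        (Algebra.TensorProduct.map π π : P ⊗[A] P →+* X ⊗[A] X) := by
    have h2 : π.comp (Algebra.TensorProduct.lmul' A (S := P)) =
        (Algebra.TensorProduct.lmul' A (S := X)).comp (Algebra.TensorProduct.map π π) := by
      ext <;> simp
    exact congrArg (fun f : P ⊗[A] P →ₐ[A] X => (f : P ⊗[A] P →+* X)) h2
  rw [h1]
  exact RingHom.Flat.comp (RingHom.Flat.tensorProductMap hπ hπ)
    (Algebra.WeaklyEtale.flat_lmul' A X)

end

section prod

variable (X Y : Type u) [CommRing X] [CommRing Y]

theorem flat_fst : (RingHom.fst X Y).Flat := by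
  letI : Algebra (X × Y) X := (RingHom.fst X Y).toAlgebra
  haveI : Algebra.Etale (X × Y) X := inferInstance
  show (algebraMap (X × Y) X).Flat
  rw [RingHom.flat_algebraMap_iff]
  infer_instance

theorem flat_snd : (RingHom.snd X Y).Flat := by
  letI : Algebra (X × Y) Y := (RingHom.snd X Y).toAlgebra
  haveI : Algebra.Etale (X × Y) Y := inferInstance
  show (algebraMap (X × Y) Y).Flat
  rw [RingHom.flat_algebraMap_iff]
  infer_instance

end prod

section away

theorem flat_comp_away {R S S' : Type u} [CommRing R] [CommRing S] [CommRing S'] [Algebra S S']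
    (r : S) [IsLocalization.Away r S'] (f : R →+* S) (h : ((algebraMap S S').comp f).Flat) :
    ((algebraMap S (Localization.Away r)).comp f).Flat := by
  let e : S' ≃ₐ[S] Localization.Away r :=
    IsLocalization.algEquiv (Submonoid.powers r) S' (Localization.Away r)
  have h1 : (algebraMap S (Localization.Away r)).comp f =
      (e : S' →+* Localization.Away r).comp ((algebraMap S S').comp f) := by
    ext x
    show _ = e (algebraMap S S' (f x))
    rw [e.commutes]
    rfl
  rw [h1]
  exact RingHom.Flat.comp h (RingHom.Flat.of_bijective e.bijective)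

end away

section prod2

variable (A : Type u) (X Y : Type u) [CommRing A] [CommRing X] [CommRing Y] [Algebra A X] [Algebra A Y]

theorem span_pair_eq_top :
    Ideal.span ({((1 : X), (0 : Y)), ((0 : X), (1 : Y))} : Set (X × Y)) = ⊤ := by
  rw [Ideal.eq_top_iff_one]
  have : (1 : X × Y) = ((1 : X), (0 : Y)) + ((0 : X), (1 : Y)) := by ext <;> simp
  rw [this]
  exact Ideal.add_mem _ (Ideal.subset_span (by simp)) (Ideal.subset_span (by simp))

theorem flat_prod [Module.Flat A X] [Module.Flat A Y] : Module.Flat A (X × Y) := by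
  rw [← RingHom.flat_algebraMap_iff]
  apply RingHom.Flat.ofLocalizationSpanTarget _ _ (span_pair_eq_top X Y)
  rintro ⟨r, hr⟩
  rcases hr with rfl | hr
  · letI : Algebra (X × Y) X := (RingHom.fst X Y).toAlgebra
    refine flat_comp_away (S' := X) ((1 : X), (0 : Y)) _ ?_
    have : (algebraMap (X × Y) X).comp (algebraMap A (X × Y)) = algebraMap A X := rfl
    rw [this, RingHom.flat_algebraMap_iff]
    infer_instance
  · rw [Set.mem_singleton_iff] at hr
    subst hr
    letI : Algebra (X × Y) Y := (RingHom.snd X Y).toAlgebra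
    refine flat_comp_away (S' := Y) ((0 : X), (1 : Y)) _ ?_
    have : (algebraMap (X × Y) Y).comp (algebraMap A (X × Y)) = algebraMap A Y := rfl
    rw [this, RingHom.flat_algebraMap_iff]
    infer_instance

theorem weaklyEtale_prod [Algebra.WeaklyEtale A X] [Algebra.WeaklyEtale A Y] :
    Algebra.WeaklyEtale A (X × Y) where
  flat := flat_prod A X Y
  flat_lmul' := by
    apply RingHom.Flat.ofLocalizationSpanTarget _ _ (span_pair_eq_top X Y)
    rintro ⟨r, hr⟩
    rcases hr with rfl | hr
    · letI : Algebra (X × Y) X := (RingHom.fst X Y).toAlgebra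
      exact flat_comp_away (S' := X) ((1 : X), (0 : Y)) _
        (flat_comp_lmul' A (X × Y) X (AlgHom.fst A X Y) (flat_fst X Y))
    · rw [Set.mem_singleton_iff] at hr
      subst hr
      letI : Algebra (X × Y) Y := (RingHom.snd X Y).toAlgebra
      exact flat_comp_away (S' := Y) ((0 : X), (1 : Y)) _
        (flat_comp_lmul' A (X × Y) Y (AlgHom.snd A X Y) (flat_snd X Y))

end prod2

end Groth.Agent.Lib.R2LeadWEProd
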