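import Mathlib
import Groth.Prelude.Def_ProEtW
import Groth.Agent.Lib.Helper10Spectral

namespace Groth.Agent.Lib.R2LeadWLocalTop

universe u

open Groth.Agent.Lib.Helper10.Spectral

variable {Y : Type u} [TopologicalSpace Y] (hY : ProEtW.IsWLocal Y)

/-- the closed specialization -/
noncomputable def cl (y : Y) : Y := (hY.2.2 y).choose

theorem isClosed_cl (y : Y) : IsClosed ({cl hY y} : Set Y) := (hY.2.2 y).choose_spec.1.1

theorem specializes_cl (y : Y) : y ⤳ cl hY y := (hY.2.2 y).choose_spec.1.2

theorem eq_cl {y y' : Y} (hy' : IsClosed ({y'} : Set Y)) (h : y ⤳ y') : y' = cl hY y :=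
  (hY.2.2 y).choose_spec.2 y' ⟨hy', h⟩

theorem cl_eq_of_specializes {y y' : Y} (h : y ⤳ y') : cl hY y' = cl hY y :=
  eq_cl hY (isClosed_cl hY y') (h.trans (specializes_cl hY y'))

theorem cl_of_isClosed {y : Y} (hy : IsClosed ({y} : Set Y)) : cl hY y = y :=
  (eq_cl hY hy specializes_rfl).symm

/-- generalizations of a compact set of closed points form a closed set. -/
theorem isClosed_setOf_cl_mem {E : Set Y} (hE : IsCompact E)
    (hEc : ∀ e ∈ E, IsClosed ({e} : Set Y)) : IsClosed {y | cl hY y ∈ E} := by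
  haveI : SpectralSpace Y := hY.1
  have h1 : {y | cl hY y ∈ E} = {y | ∃ e ∈ E, y ⤳ e} := by
    ext y
    constructor
    · intro hy
      exact ⟨cl hY y, hy, specializes_cl hY y⟩
    · rintro ⟨e, he, hye⟩
      have := eq_cl hY (hEc e he) hye
      change cl hY y ∈ E
      rw [← this]
      exact he
  apply isClosed_of_isClosed_constr_of_stableUnderSpecialization
  · rw [h1, generalizations_eq_sInter hE, Set.sInter_eq_iInter]
    apply isClosed_constr_iInter
    rintro ⟨U, hUo, hUc, -⟩
    exact isClosed_constr_of_isCompact_isOpen hUo hUc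
  · intro y y' hyy' hy
    change cl hY y' ∈ E
    rw [cl_eq_of_specializes hY hyy']
    exact hy

theorem isClopen_preimage_cl {W : Set Y} (hWo : IsOpen W) (hWc : IsCompact W) :
    IsClopen (cl hY ⁻¹' W) := by
  have hcp : IsClosed {y : Y | IsClosed ({y} : Set Y)} := hY.2.1
  haveI : SpectralSpace Y := hY.1
  have h1 : cl hY ⁻¹' W = {y | cl hY y ∈ W ∩ {y : Y | IsClosed ({y} : Set Y)}} := by
    ext y
    exact ⟨fun h => ⟨h, isClosed_cl hY y⟩, fun h => h.1⟩
  have h2 : (cl hY ⁻¹' W)ᶜ = {y | cl hY y ∈ Wᶜ ∩ {y : Y | IsClosed ({y} : Set Y)}} := by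
    ext y
    exact ⟨fun h => ⟨h, isClosed_cl hY y⟩, fun h => h.1⟩
  constructor
  · rw [h1]
    exact isClosed_setOf_cl_mem hY (hWc.inter_right hcp) (fun e he => he.2)
  · rw [← isClosed_compl_iff, h2]
    exact isClosed_setOf_cl_mem hY ((hWo.isClosed_compl.inter hcp).isCompact) (fun e he => he.2)

/-- for a spectral map `f : Y → X`, the map `y ↦ f (cl y)` is continuous for the constructible
topology on `X`. -/
theorem continuous_comp_cl {X : Type u} [TopologicalSpace X] {f : Y → X} (hf : IsSpectralMap f) :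
    Continuous (fun y => (WithTopology.toTopology _ (f (cl hY y)) : WithConstructibleTopology X)) := by
  have hg : @Continuous Y X _ (constructibleTopology X) (fun y => f (cl hY y)) := by
    apply continuous_generateFrom_iff.mpr
    rintro s (⟨hso, hsc⟩ | ⟨hscl, hsc⟩)
    · exact (isClopen_preimage_cl hY (hso.preimage hf.continuous)
        (hf.isCompact_preimage_of_isOpen hso hsc)).2
    · have h1 := (isClopen_preimage_cl hY (hscl.isOpen_compl.preimage hf.continuous)
        (hf.isCompact_preimage_of_isOpen hscl.isOpen_compl hsc)).1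
      have h2 : (fun y => f (cl hY y)) ⁻¹' s = (cl hY ⁻¹' (f ⁻¹' sᶜ))ᶜ := by
        ext y
        simp
      rw [h2]
      exact h1.isOpen_compl
  rw [continuous_def]
  intro s hs
  rw [WithConstructibleTopology.isOpen_iff] at hs
  exact @Continuous.isOpen_preimage Y X _ (constructibleTopology X) _ hg _ hs

end Groth.Agent.Lib.R2LeadWLocalTop
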