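import Mathlib
import Groth.Agent.Lib.R2LeadWEProd
import Groth.Agent.Lib.R2LeadWContr
import Groth.Agent.Lib.R2LeadWLocalTop

set_option autoImplicit false

open TensorProduct PrimeSpectrum

universe u

namespace Groth.Agent.Lib.R2LeadWContrLoc

open Groth.Agent.Lib.R2LeadWLocalTop Groth.Agent.Lib.R2LeadWEProd
  Groth.Agent.Lib.Helper14.WEField

/-- generizations of `V(E)` form a clopen set in a w-local spectrum, `E` finite -/
theorem isClopen_generizations (A : Type u) [CommRing A] (hW : ProEtW.IsWLocal (PrimeSpectrum A))
    (E : Finset A) :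
    IsClopen {x : PrimeSpectrum A | ∃ z : PrimeSpectrum A,
      z ∈ zeroLocus (R := A) E ∧ x ⤳ z} := by
  have hWo : IsOpen ((zeroLocus (R := A) E)ᶜ : Set (PrimeSpectrum A)) :=
    (isClosed_zeroLocus _).isOpen_compl
  have hWc : IsCompact ((zeroLocus (R := A) E)ᶜ : Set (PrimeSpectrum A)) := by
    have h1 : ((zeroLocus (R := A) E)ᶜ : Set (PrimeSpectrum A)) =
        ⋃ f ∈ E, (basicOpen f : Set (PrimeSpectrum A)) := by
      ext x
      simp only [Set.mem_compl_iff, mem_zeroLocus, Set.subset_def, Finset.mem_coe,
        SetLike.mem_coe, not_forall, Set.mem_iUnion, mem_basicOpen, exists_prop]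
    rw [h1]
    exact E.isCompact_biUnion (fun f _ => isCompact_basicOpen f)
  have h2 := isClopen_preimage_cl hW hWo hWc
  have h3 : {x : PrimeSpectrum A | ∃ z : PrimeSpectrum A,
      z ∈ zeroLocus (R := A) E ∧ x ⤳ z} = (cl hW ⁻¹' (zeroLocus (R := A) E)ᶜ)ᶜ := by
    ext x
    simp only [Set.mem_setOf_eq, Set.mem_compl_iff, Set.mem_preimage, not_not]
    constructor
    · rintro ⟨z, hz, hxz⟩
      have h4 : cl hW z = cl hW x := cl_eq_of_specializes hW hxz
      rw [← h4]
      exact (isClosed_zeroLocus _).stableUnderSpecialization (specializes_cl hW z) hz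
    · intro hx
      exact ⟨cl hW x, hx, specializes_cl hW x⟩
  rw [h3]
  exact h2.compl

theorem main (A B : Type u) [CommRing A] [CommRing B]
    [Algebra A B] (S : Submonoid A) [IsLocalization S B] (E : Finset A)
    (hB : Set.range (PrimeSpectrum.comap (algebraMap A B)) =
      {x | ∃ z : PrimeSpectrum A, z ∈ PrimeSpectrum.zeroLocus (R := A) E ∧ x ⤳ z})
    (hA : EtPBC.IsWContractible A) : EtPBC.IsWContractible B := by
  have hW : ProEtW.IsWLocal (PrimeSpectrum A) :=
    ((Groth.Agent.Lib.R2LeadWContr.main A).mp hA).1
  obtain ⟨e, f, hef, hef1, hG⟩ := isClopen_iff_mul_add.mp (isClopen_generizations A hW E)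
  rw [← hB] at hG
  -- `f` maps to zero in `B`
  have hfB : algebraMap A B f = 0 := by
    have hu : IsUnit (algebraMap A B e) := by
      by_contra hnu
      obtain ⟨M, hM, heM⟩ := exists_max_ideal_of_mem_nonunits hnu
      have h1 : PrimeSpectrum.comap (algebraMap A B) ⟨M, hM.isPrime⟩ ∈
          Set.range (PrimeSpectrum.comap (algebraMap A B)) := ⟨_, rfl⟩
      rw [hG] at h1
      exact h1 heM
    have h2 : algebraMap A B e * algebraMap A B f = 0 := by rw [← map_mul, hef, map_zero]
    exact (hu.mul_right_eq_zero).mp h2
  intro B' _ _ hff hwe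
  haveI := hff
  haveI := hwe
  letI : Algebra A B' := ((algebraMap B B').comp (algebraMap A B)).toAlgebra
  haveI : IsScalarTower A B B' := IsScalarTower.of_algebraMap_eq (fun _ => rfl)
  haveI : Algebra.WeaklyEtale A B := weaklyEtale_of_isLocalization S B
  haveI : Algebra.WeaklyEtale A B' := Algebra.WeaklyEtale.trans A B B'
  haveI : Algebra.WeaklyEtale A (Localization.Away f) :=
    weaklyEtale_of_isLocalization (Submonoid.powers f) _
  haveI hweP : Algebra.WeaklyEtale A (B' × Localization.Away f) := weaklyEtale_prod A _ _
  have hffP : Module.FaithfullyFlat A (B' × Localization.Away f) := by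
    apply Module.FaithfullyFlat.of_comap_surjective
    intro p
    by_cases hp : p ∈ Set.range (PrimeSpectrum.comap (algebraMap A B))
    · obtain ⟨q, rfl⟩ := hp
      obtain ⟨q', rfl⟩ := PrimeSpectrum.comap_surjective_of_faithfullyFlat (A := B) (B := B') q
      refine ⟨PrimeSpectrum.comap (RingHom.fst _ _) q', ?_⟩
      rw [← PrimeSpectrum.comap_comp_apply, ← PrimeSpectrum.comap_comp_apply]
      rfl
    · rw [hG] at hp
      have hep : e ∈ p.asIdeal := by
        by_contra h
        exact hp h
      have hfp : f ∉ p.asIdeal := by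
        intro hfp
        apply p.isPrime.ne_top
        rw [Ideal.eq_top_iff_one, ← hef1]
        exact Ideal.add_mem _ hep hfp
      have : p ∈ Set.range (PrimeSpectrum.comap (algebraMap A (Localization.Away f))) := by
        rw [PrimeSpectrum.localization_away_comap_range (S := Localization.Away f) (r := f)]
        exact hfp
      obtain ⟨q, rfl⟩ := this
      refine ⟨PrimeSpectrum.comap (RingHom.snd _ _) q, ?_⟩
      rw [← PrimeSpectrum.comap_comp_apply]
      rfl
  obtain ⟨r⟩ := hA _ hffP hweP
  have hε : algebraMap A B (r ((0 : B'), (1 : Localization.Away f))) = 0 := by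
    have h1 : ((0 : B'), (1 : Localization.Away f)) =
        algebraMap A (B' × Localization.Away f) f *
          ((0 : B'), IsLocalization.Away.invSelf (S := Localization.Away f) f) := by
      rw [Prod.algebraMap_apply, Prod.mk_mul_mk, mul_zero, IsLocalization.Away.mul_invSelf]
    rw [h1, map_mul, r.commutes, map_mul]
    show algebraMap A B f * _ = 0
    rw [hfB, zero_mul]
  have h10 : ((1 : B'), (0 : Localization.Away f)) =
      1 - ((0 : B'), (1 : Localization.Away f)) := by
    ext <;> simp
  let ρ : B' →ₐ[A] B :=
    { toFun := fun x => algebraMap A B (r (x, (0 : Localization.Away f)))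
      map_one' := by
        rw [h10, map_sub, map_sub, hε, map_one, map_one, sub_zero]
      map_mul' := fun x y => by
        rw [← map_mul, ← map_mul, Prod.mk_mul_mk, mul_zero]
      map_zero' := by
        have : ((0 : B'), (0 : Localization.Away f)) = 0 := rfl
        rw [this, map_zero, map_zero]
      map_add' := fun x y => by
        rw [← map_add, ← map_add, Prod.mk_add_mk, add_zero]
      commutes' := fun a => by
        have h1 : (algebraMap A B' a, (0 : Localization.Away f)) =
            algebraMap A (B' × Localization.Away f) a *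
              ((1 : B'), (0 : Localization.Away f)) := by
          rw [Prod.algebraMap_apply, Prod.mk_mul_mk, mul_one, mul_zero]
        show algebraMap A B (r _) = _
        rw [h1, map_mul, r.commutes, h10, map_sub, map_one, map_mul, map_sub, hε, map_one,
          sub_zero, mul_one]
        rfl }
  have hρB : ∀ b : B, ρ (algebraMap B B' b) = b := by
    intro b
    have : (ρ.toRingHom.comp (algebraMap B B')) = RingHom.id B := by
      apply IsLocalization.ringHom_ext S
      ext a
      show ρ (algebraMap B B' (algebraMap A B a)) = algebraMap A B a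
      rw [← IsScalarTower.algebraMap_apply A B B', ρ.commutes]
    exact congr($this b)
  exact ⟨{ ρ.toRingHom with commutes' := hρB }⟩

end Groth.Agent.Lib.R2LeadWContrLoc
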