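import Mathlib
import Groth.Agent.Lib.H9FlatOpenAlg

/-!
# Tor over a weakly étale algebra (linear algebra core)

For `R → S` weakly étale and `S`-linear maps `f : X → Y`, `g : Y → Z`, exactness of
`N ⊗_R X → N ⊗_R Y → N ⊗_R Z` implies exactness of `N ⊗_S X → N ⊗_S Y → N ⊗_S Z`.
-/

set_option autoImplicit false

open TensorProduct

namespace Groth.Agent.Lib.R2LeadWETorA

variable (R S : Type*) [CommRing R] [CommRing S] [Algebra R S]

section rho

variable (N M : Type*) [AddCommGroup N] [Module R N] [Module S N] [IsScalarTower R S N]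
  [AddCommGroup M] [Module R M] [Module S M] [IsScalarTower R S M]

lemma r_apply (f : Module.End R N) (n : N) (m : M) :
    Module.End.rTensorAlgHom R N M f (n ⊗ₜ m) = f n ⊗ₜ[R] m := by
  change (LinearMap.rTensor M f) (n ⊗ₜ m) = _
  simp

lemma l_apply (f : Module.End R M) (n : N) (m : M) :
    Module.End.lTensorAlgHom R M N f (n ⊗ₜ m) = n ⊗ₜ[R] f m := by
  change (LinearMap.lTensor N f) (n ⊗ₜ m) = _
  simp

/-- the action of `S ⊗[R] S` on `N ⊗[R] M` -/
noncomputable def rho : S ⊗[R] S →ₐ[R] Module.End R (N ⊗[R] M) :=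
  Algebra.TensorProduct.lift
    ((Module.End.rTensorAlgHom R N M).comp (Algebra.lsmul R R N))
    ((Module.End.lTensorAlgHom R M N).comp (Algebra.lsmul R R M))
    (fun a b => by
      rw [commute_iff_eq]
      apply TensorProduct.ext'
      intro n m
      rw [Module.End.mul_apply, Module.End.mul_apply, AlgHom.comp_apply, AlgHom.comp_apply,
        l_apply, r_apply, r_apply, l_apply])

@[simp] lemma rho_tmul (a b : S) (n : N) (m : M) :
    rho R S N M (a ⊗ₜ b) (n ⊗ₜ m) = (a • n) ⊗ₜ[R] (b • m) := by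
  rw [rho, Algebra.TensorProduct.lift_tmul, Module.End.mul_apply, AlgHom.comp_apply,
    AlgHom.comp_apply, l_apply, r_apply]
  rfl

/-- the canonical surjection `N ⊗[R] M → N ⊗[S] M` -/
noncomputable abbrev pi : N ⊗[R] M →ₗ[S] N ⊗[S] M :=
  TensorProduct.mapOfCompatibleSMul S R S N M

lemma pi_surjective : Function.Surjective (pi R S N M) :=
  TensorProduct.mapOfCompatibleSMul_surjective S R S N M

lemma pi_rho (e : S ⊗[R] S) (t : N ⊗[R] M) :
    pi R S N M (rho R S N M e t) = Algebra.TensorProduct.lmul' R e • pi R S N M t := by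
  induction e with
  | zero => simp
  | add x y hx hy => simp [hx, hy, add_smul]
  | tmul a b =>
    induction t with
    | zero => simp
    | add x y hx hy => simp [hx, hy]
    | tmul n m =>
      simp only [rho_tmul, mapOfCompatibleSMul_tmul, Algebra.TensorProduct.lmul'_apply_tmul]
      rw [← TensorProduct.smul_tmul b (a • n) m, mul_comm, mul_smul, TensorProduct.smul_tmul',
        TensorProduct.smul_tmul']

lemma rho_smul (e : S ⊗[R] S) (s : S) (t : N ⊗[R] M) :
    rho R S N M e (s • t) = s • rho R S N M e t := by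
  induction e with
  | zero => simp
  | add x y hx hy => simp [hx, hy]
  | tmul a b =>
    induction t with
    | zero => simp
    | add x y hx hy => simp [hx, hy]
    | tmul n m =>
      simp only [rho_tmul, TensorProduct.smul_tmul']
      rw [smul_comm]

end rho

section nat

variable {N M M' : Type*} [AddCommGroup N] [Module R N] [Module S N] [IsScalarTower R S N]
  [AddCommGroup M] [Module R M] [Module S M] [IsScalarTower R S M]
  [AddCommGroup M'] [Module R M'] [Module S M'] [IsScalarTower R S M']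

lemma lTensor_rho (g : M →ₗ[S] M') (e : S ⊗[R] S) (t : N ⊗[R] M) :
    (g.restrictScalars R).lTensor N (rho R S N M e t) =
      rho R S N M' e ((g.restrictScalars R).lTensor N t) := by
  induction e with
  | zero => simp
  | add x y hx hy => simp [hx, hy]
  | tmul a b =>
    induction t with
    | zero => simp
    | add x y hx hy => simp [hx, hy]
    | tmul n m => simp

lemma pi_lTensor (g : M →ₗ[S] M') (t : N ⊗[R] M) :
    pi R S N M' ((g.restrictScalars R).lTensor N t) = g.lTensor N (pi R S N M t) := by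
  induction t with
  | zero => simp
  | add x y hx hy => simp [hx, hy]
  | tmul n m => simp

end nat

section main

variable [Algebra.WeaklyEtale R S]

lemma lmul'_surjective : Function.Surjective (Algebra.TensorProduct.lmul' R (S := S)) :=
  fun s => ⟨s ⊗ₜ 1, by simp⟩

/-- purity of the diagonal ideal -/
lemma exists_pure (e : S ⊗[R] S) (he : Algebra.TensorProduct.lmul' R e = 0) :
    ∃ z : S ⊗[R] S, Algebra.TensorProduct.lmul' R z = 0 ∧ e * (1 - z) = 0 :=
  Groth.Agent.Lib.H9FlatOpenAlg.exists_mul_one_sub_eq_zero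
    (Algebra.TensorProduct.lmul' R (S := S)).toRingHom (lmul'_surjective R S)
    (Algebra.WeaklyEtale.flat_lmul' R S) e he

variable {N M : Type*} [AddCommGroup N] [Module R N] [Module S N] [IsScalarTower R S N]
  [AddCommGroup M] [Module R M] [Module S M] [IsScalarTower R S M]

/-- an element is killed by `1 - z` for some `z` in the diagonal ideal -/
def Killed (t : N ⊗[R] M) : Prop :=
  ∃ z : S ⊗[R] S, Algebra.TensorProduct.lmul' R z = 0 ∧ rho R S N M (1 - z) t = 0

lemma killed_of_pi_eq_zero (t : N ⊗[R] M) (ht : pi R S N M t = 0) : Killed R S t := by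
  have hmem : t ∈ LinearMap.ker (pi R S N M) := ht
  rw [TensorProduct.AlgebraTensorModule.ker_mapOfCompatibleSMul] at hmem
  clear ht
  induction hmem using Submodule.span_induction with
  | mem x hx =>
    obtain ⟨a, n, m, rfl⟩ := hx
    have he : Algebra.TensorProduct.lmul' R ((a ⊗ₜ[R] (1 : S)) - (1 : S) ⊗ₜ[R] a) = 0 := by
      simp
    obtain ⟨z, hz, hez⟩ := exists_pure R S _ he
    refine ⟨z, hz, ?_⟩
    have h1 : (a • n) ⊗ₜ[R] m - n ⊗ₜ[R] (a • m) =
        rho R S N M ((a ⊗ₜ[R] (1 : S)) - (1 : S) ⊗ₜ[R] a) (n ⊗ₜ m) := by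
      simp
    rw [h1, ← Module.End.mul_apply, ← map_mul, mul_comm, hez, map_zero, LinearMap.zero_apply]
  | zero => exact ⟨0, by simp, by simp⟩
  | add x y _ _ hx hy =>
    obtain ⟨z₁, hz₁, h₁⟩ := hx
    obtain ⟨z₂, hz₂, h₂⟩ := hy
    refine ⟨z₁ + z₂ - z₁ * z₂, by simp [hz₁, hz₂], ?_⟩
    have e1 : (1 : S ⊗[R] S) - (z₁ + z₂ - z₁ * z₂) = (1 - z₂) * (1 - z₁) := by ring
    have e2 : (1 : S ⊗[R] S) - (z₁ + z₂ - z₁ * z₂) = (1 - z₁) * (1 - z₂) := by ring
    rw [map_add]
    conv_lhs => 
      congr
      · rw [e1, map_mul, Module.End.mul_apply, h₁, map_zero]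
      · rw [e2, map_mul, Module.End.mul_apply, h₂, map_zero]
    simp
  | smul s x _ hx =>
    obtain ⟨z, hz, h⟩ := hx
    exact ⟨z, hz, by rw [rho_smul, h, smul_zero]⟩

end main

section exact

variable [Algebra.WeaklyEtale R S]

variable {N X Y Z : Type*} [AddCommGroup N] [Module R N] [Module S N] [IsScalarTower R S N]
  [AddCommGroup X] [Module R X] [Module S X] [IsScalarTower R S X]
  [AddCommGroup Y] [Module R Y] [Module S Y] [IsScalarTower R S Y]
  [AddCommGroup Z] [Module R Z] [Module S Z] [IsScalarTower R S Z]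

/-- **Tor over a weakly étale algebra**: exactness after `N ⊗_R -` implies exactness after
`N ⊗_S -`. -/
theorem exact_lTensor_of_exact (f : X →ₗ[S] Y) (g : Y →ₗ[S] Z)
    (h : Function.Exact ((f.restrictScalars R).lTensor N) ((g.restrictScalars R).lTensor N)) :
    Function.Exact (f.lTensor N) (g.lTensor N) := by
  intro t
  constructor
  · intro ht
    obtain ⟨t', rfl⟩ := pi_surjective R S N Y t
    rw [← pi_lTensor] at ht
    obtain ⟨z, hz, hk⟩ := killed_of_pi_eq_zero R S _ ht
    rw [← lTensor_rho] at hk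
    obtain ⟨x, hx⟩ := (h _).1 hk
    refine ⟨pi R S N X x, ?_⟩
    rw [← pi_lTensor, hx, pi_rho, map_sub, map_one, hz, sub_zero, one_smul]
  · rintro ⟨x, rfl⟩
    obtain ⟨x', rfl⟩ := pi_surjective R S N X x
    rw [← pi_lTensor, ← pi_lTensor]
    have := (h ((f.restrictScalars R).lTensor N x')).2 ⟨x', rfl⟩
    rw [this, map_zero]

end exact

end Groth.Agent.Lib.R2LeadWETorA
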