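import Mathlib
import Groth.Agent.Lib.R2LeadWETorA
import Groth.Agent.Lib.H6xRelTorAmpH
set_option backward.isDefEq.respectTransparency.types false

/-!
# Tor amplitude over a weakly étale algebra
-/

set_option autoImplicit false
set_option linter.style.haveILetI false

universe u

open CategoryTheory CategoryTheory.Limits HomologicalComplex MonoidalCategory

attribute [local instance] HasDerivedCategory.standard

namespace Groth.Agent.Lib.R2LeadWETorB

open DerivedCategory Groth.Agent.Lib.Helper1.KF Groth.Agent.Lib.Helper1.Tor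
  Groth.Agent.Lib.Helper1.DT Groth.Agent.Lib.Helper1.TorO Groth.Agent.Lib.Helper1.KBC
  Groth.Agent.Lib.H6xRelTorAmp

variable {R R' : Type u} [CommRing R] [CommRing R'] (φ : R →+* R')

lemma acyc_of_iso {K L : Cx R} (e : K ≅ L) (h : Acyc K) : Acyc L := fun i =>
  IsZero.of_iso (h i) ((HomologicalComplex.homologyFunctor _ _ i).mapIso e).symm

/-- extension of scalars along a flat map preserves acyclicity -/
lemma acyc_extC (hφ : φ.Flat) (L : Cx R) (hL : Acyc L) : Acyc ((extC φ).obj L) := by
  intro i
  haveI := ModuleCat.preservesFiniteLimits_extendScalars_of_flat.{u} hφ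
  have e := (L.sc i).mapHomologyIso (ext φ)
  exact IsZero.of_iso ((ext φ).map_isZero (hL i)) e

lemma acyc_resC (W : Cx R') (h : Acyc W) : Acyc ((resC φ).obj W) := fun i =>
  (isZero_homology_resC_iff φ W i).2 (h i)

/-- restriction of scalars along a flat map preserves K-flatness -/
lemma kflat_resC (hφ : φ.Flat) (G : Cx R') (hG : KFlat G) : KFlat ((resC φ).obj G) := by
  intro L hL
  obtain ⟨e⟩ := nonempty_projIso' φ G L
  have h1 : Acyc ((extC φ).obj L ⊗ G) := hG _ (acyc_extC φ hφ L hL)
  have h2 : Acyc (G ⊗ (extC φ).obj L) := acyc_of_iso (swapIso _ _) h1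
  have h3 := acyc_resC φ _ h2
  have h4 : Acyc ((resC φ).obj G ⊗ L) := acyc_of_iso e h3
  exact acyc_of_iso (swapIso _ _) h4

section we

variable [Algebra R R'] [Algebra.WeaklyEtale R R']

/-- Tor-vanishing over `R` implies Tor-vanishing over a weakly étale `R'`. -/
theorem torVan_of_torVan_resC (G : Cx R') (a b : ℤ)
    (h : TorVan ((resC (algebraMap R R')).obj G) a b) : TorVan G a b := by
  intro N' i hi
  rw [exactAt_TC_iff N' G (i - 1) i (i + 1) (by lia) rfl]
  have h1 := h ((res (algebraMap R R')).obj N') i hi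
  rw [exactAt_TC_iff _ _ (i - 1) i (i + 1) (by lia) rfl] at h1
  letI inst : ∀ j, Module R ↑(G.X j) := fun j => Module.compHom _ (algebraMap R R')
  haveI : ∀ j, IsScalarTower R R' ↑(G.X j) := fun j => ⟨fun r s x => by
    change (r • s) • x = (algebraMap R R' r) • (s • x)
    rw [Algebra.smul_def, mul_smul]⟩
  letI : Module R ↑N' := Module.compHom _ (algebraMap R R')
  haveI : IsScalarTower R R' ↑N' := ⟨fun r s x => by
    change (r • s) • x = (algebraMap R R' r) • (s • x)
    rw [Algebra.smul_def, mul_smul]⟩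
  exact Groth.Agent.Lib.R2LeadWETorA.exact_lTensor_of_exact R R' (N := ↑N') (X := ↑(G.X (i - 1)))
    (Y := ↑(G.X i)) (Z := ↑(G.X (i + 1))) (G.d (i - 1) i).hom (G.d i (i + 1)).hom h1

/-- restriction of scalars on derived categories, computed termwise -/
noncomputable def restrictDQIso (T : Cx R') :
    (DRing.restrictD (algebraMap R R')).obj (Q.obj T) ≅ Q.obj ((resC (algebraMap R R')).obj T) :=
  ((ModuleCat.restrictScalars.{u} (algebraMap R R')).mapDerivedCategoryFactors).app T

/-- **Tor amplitude descends along weakly étale maps.** -/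
theorem hasTorAmp_of_restrictD (a b : ℤ) (K : Dual.D R')
    (h : DRing.HasTorAmplitudeIn R a b ((DRing.restrictD (algebraMap R R')).obj K)) :
    DRing.HasTorAmplitudeIn R' a b K := by
  have hflat : (algebraMap R R').Flat := RingHom.flat_algebraMap_iff.2 inferInstance
  let T := Q.objPreimage K
  let eT : Q.obj T ≅ K := Q.objObjPreimageIso K
  obtain ⟨G, q, hG, -, hq, -⟩ := exists_kprojective_resolution T
  have hGK : KFlat G := kflat_of_isKProjective G
  have hqi : IsIso (Q.map q) := (DerivedCategory.isIso_Q_map_iff_quasiIso (φ := q)).2 hq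
  let eG : Q.obj G ≅ K := asIso (Q.map q) ≪≫ eT
  let e1 : (DRing.restrictD (algebraMap R R')).obj K ≅ Q.obj ((resC (algebraMap R R')).obj G) :=
    (DRing.restrictD (algebraMap R R')).mapIso eG.symm ≪≫ restrictDQIso G
  have h1 : DRing.HasTorAmplitudeIn R a b (Q.obj ((resC (algebraMap R R')).obj G)) :=
    hasTorAmp_of_iso e1 h
  obtain ⟨E, hE, hEf, ⟨e⟩⟩ := h1
  have h2 : TorVan ((resC (algebraMap R R')).obj G) a b :=
    torVan_of_iso_kflat _ E (kflat_resC _ hflat G hGK) a b hE hEf e
  have h3 : TorVan G a b := torVan_of_torVan_resC G a b h2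
  exact hasTorAmp_of_iso eG (hasTorAmp_of_torVan_kflat G hGK a b h3)

/-- Tor amplitude is preserved by restriction along flat maps. -/
theorem hasTorAmp_restrictD (a b : ℤ) (K : Dual.D R')
    (h : DRing.HasTorAmplitudeIn R' a b K) :
    DRing.HasTorAmplitudeIn R a b ((DRing.restrictD (algebraMap R R')).obj K) := by
  have hflat : (algebraMap R R').Flat := RingHom.flat_algebraMap_iff.2 inferInstance
  let T := Q.objPreimage K
  let eT : Q.obj T ≅ K := Q.objObjPreimageIso K
  have h1 : DRing.HasTorAmplitudeIn R' a b (Q.obj T) := hasTorAmp_of_iso eT.symm h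
  have h2 := hasTorAmp_resC_of_flat (algebraMap R R') hflat T a b h1
  exact hasTorAmp_of_iso ((restrictDQIso T).symm ≪≫
    (DRing.restrictD (algebraMap R R')).mapIso eT) h2

theorem hasTorAmp_restrictD_iff (a b : ℤ) (K : Dual.D R') :
    DRing.HasTorAmplitudeIn R a b ((DRing.restrictD (algebraMap R R')).obj K) ↔
      DRing.HasTorAmplitudeIn R' a b K :=
  ⟨hasTorAmp_of_restrictD a b K, hasTorAmp_restrictD a b K⟩

end we

end Groth.Agent.Lib.R2LeadWETorB
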