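import Mathlib
import Groth.Agent.Lib.R2LeadWLocalTop
import Groth.Agent.Lib.R2LeadWLocalization
import Groth.Agent.Lib.R2LeadLCToRing2
import Groth.Agent.Lib.Helper10ProCons

namespace Groth.Agent.Lib.R2LeadWLocUniv

universe u

open Groth.Agent.Lib.R2LeadWLocCons Groth.Agent.Lib.R2LeadLCSpec Groth.Agent.Lib.Helper10.Spectral
  Groth.Agent.Lib.R2LeadWLocalization Groth.Agent.Lib.R2LeadLCToRing2 Groth.Agent.Lib.R2LeadWLocalTop

section Sum

variable {A : Type u} [CommRing A] {Z : Type u} [TopologicalSpace Z] [CompactSpace Z]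

/-- a locally constant function is an `A`-linear combination of characteristic functions. -/
theorem exists_eq_sum_charFn (g : LocallyConstant Z A) :
    ∃ (s : Finset A) (U : A → Set Z) (hU : ∀ a, IsClopen (U a)),
      g = ∑ a ∈ s, algebraMap A (LocallyConstant Z A) a * LocallyConstant.charFn A (hU a) := by
  classical
  have hfin : (Set.range g).Finite := g.range_finite
  have hU : ∀ a : A, IsClopen (g ⁻¹' {a}) := fun a => g.isLocallyConstant.isClopen_fiber a
  refine ⟨hfin.toFinset, fun a => g ⁻¹' {a}, hU, ?_⟩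
  refine LocallyConstant.ext fun z => ?_
  have : (∑ a ∈ hfin.toFinset,
      algebraMap A (LocallyConstant Z A) a * LocallyConstant.charFn A (hU a)) z =
      ∑ a ∈ hfin.toFinset, a * LocallyConstant.charFn A (hU a) z := by
    change LocallyConstant.evalRingHom z _ = _
    rw [map_sum]
    rfl
  rw [this, Finset.sum_eq_single (g z)]
  · rw [charFn_apply_of_mem (hU _) (show z ∈ g ⁻¹' {g z} from rfl), mul_one]
  · intro a _ hne
    rw [charFn_apply_of_notMem (hU a) (fun hc => hne (show g z = a from hc).symm), mul_zero]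
  · intro hc
    exact absurd (hfin.mem_toFinset.mpr ⟨z, rfl⟩) hc

theorem isIdempotentElem_charFn {U : Set Z} (hU : IsClopen U) :
    IsIdempotentElem (LocallyConstant.charFn A hU) := by
  refine LocallyConstant.ext fun z => ?_
  change LocallyConstant.charFn A hU z * LocallyConstant.charFn A hU z = _
  by_cases hz : z ∈ U
  · rw [charFn_apply_of_mem hU hz, mul_one]
  · rw [charFn_apply_of_notMem hU hz, mul_zero]

/-- two `A`-algebra maps out of `LC(Z, A)` inducing the same map on spectra agree. -/
theorem algHom_ext_of_comap_eq {B : Type u} [CommRing B] [Algebra A B]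
    (ψ ψ' : LocallyConstant Z A →ₐ[A] B)
    (h : ∀ y : PrimeSpectrum B, PrimeSpectrum.comap ψ.toRingHom y = PrimeSpectrum.comap ψ'.toRingHom y) :
    ψ = ψ' := by
  have hidem : ∀ e : LocallyConstant Z A, IsIdempotentElem e → ψ e = ψ' e := by
    intro e he
    apply PrimeSpectrum.basicOpen_injOn_isIdempotentElem (he.map ψ) (he.map ψ')
    ext y
    change ψ e ∉ y.asIdeal ↔ ψ' e ∉ y.asIdeal
    have := congrArg (fun P : PrimeSpectrum (LocallyConstant Z A) => e ∈ P.asIdeal) (h y)
    exact not_congr (iff_of_eq this)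
  refine AlgHom.ext fun g => ?_
  obtain ⟨s, U, hU, rfl⟩ := exists_eq_sum_charFn g
  rw [map_sum, map_sum]
  refine Finset.sum_congr rfl fun a _ => ?_
  rw [map_mul, map_mul, AlgHom.commutes, AlgHom.commutes, hidem _ (isIdempotentElem_charFn (hU a))]

end Sum

variable (A : Type u) [CommRing A]

/-- the w-localization -/
abbrev Aw : Type u := Bh (hcons A)

variable {A}
variable (B : Type u) [CommRing B] [Algebra A B] (hB : ProEtW.IsWLocal (PrimeSpectrum B))

/-- the map `Spec B → (Spec A)_cons`. -/
noncomputable def κ : C(PrimeSpectrum B, WithConstructibleTopology (PrimeSpectrum A)) :=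
  ⟨fun y => WithTopology.toTopology _ (PrimeSpectrum.comap (algebraMap A B) (cl hB y)),
    continuous_comp_cl hB (Groth.Agent.Lib.Helper10.ProCons.isSpectralMap_comap _)⟩

theorem hcons_κ (y : PrimeSpectrum B) :
    hcons A (κ B hB y) = PrimeSpectrum.comap (algebraMap A B) (cl hB y) := rfl

/-- `LC((Spec A)_cons, A) → B`. -/
noncomputable def ρκ : LocallyConstant (WithConstructibleTopology (PrimeSpectrum A)) A →ₐ[A] B :=
  (ρ₀ (A := A) (B := B)).comp (LocallyConstant.comapₐ A (κ B hB))

theorem comap_ρκ (y : PrimeSpectrum B) :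
    PrimeSpectrum.comap (ρκ B hB).toRingHom y =
      homeo (PrimeSpectrum.comap (algebraMap A B) y, κ B hB y) := by
  ext g
  change ρκ B hB g ∈ y.asIdeal ↔ g ∈ (Ψ (PrimeSpectrum.comap (algebraMap A B) y, κ B hB y)).asIdeal
  rw [mem_Ψ, ρκ, AlgHom.comp_apply, ρ₀_mem_iff]
  rfl

theorem isUnit_ρκ (m : Mh (hcons A)) : IsUnit (ρκ B hB m.1) := by
  apply isUnit_ρ₀
  intro y hy
  have h1 : m.1 (κ B hB y) ∉ (hcons A (κ B hB y)).asIdeal := m.2 _
  rw [hcons_κ] at h1
  apply h1
  have hle : PrimeSpectrum.comap (algebraMap A B) y ≤ PrimeSpectrum.comap (algebraMap A B) (cl hB y) := by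
    rw [PrimeSpectrum.le_iff_specializes]
    exact (specializes_cl hB y).map (PrimeSpectrum.continuous_comap _)
  exact hle hy

/-- the canonical map `A_w → B`. -/
noncomputable def φw : Aw A →ₐ[A] B :=
  IsLocalization.liftAlgHom (M := Mh (hcons A)) (f := ρκ B hB) (isUnit_ρκ B hB)

theorem φw_comp :
    (φw B hB).toRingHom.comp (algebraMap (LocallyConstant (WithConstructibleTopology (PrimeSpectrum A)) A) (Aw A)) =
      (ρκ B hB).toRingHom := by
  ext g
  change φw B hB (algebraMap _ _ g) = ρκ B hB g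
  rw [φw, IsLocalization.liftAlgHom_apply, IsLocalization.lift_eq]
  rfl

theorem σ_comap_φw (y : PrimeSpectrum B) :
    σ (hcons A) (PrimeSpectrum.comap (φw B hB).toRingHom y) =
      (PrimeSpectrum.comap (algebraMap A B) y, κ B hB y) := by
  rw [σ]
  apply (homeo (A := A) (T := WithConstructibleTopology (PrimeSpectrum A))).injective
  rw [Homeomorph.apply_symm_apply, ← PrimeSpectrum.comap_comp_apply, φw_comp, comap_ρκ]

theorem isWLocalMap_φw : ProEtW.IsWLocalMap (PrimeSpectrum.comap (φw (A := A) B hB).toRingHom) := by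
  refine ⟨Groth.Agent.Lib.Helper10.ProCons.isSpectralMap_comap _, fun y hy => ?_⟩
  rw [isClosed_singleton_iff, σ_comap_φw]
  change _ = hcons A (κ B hB y)
  rw [hcons_κ, cl_of_isClosed hB hy]

theorem unique_φw (φ' : Aw A →ₐ[A] B)
    (hφ' : ProEtW.IsWLocalMap (PrimeSpectrum.comap φ'.toRingHom)) : φ' = φw B hB := by
  -- reduce to the maps from `LC`
  have key : ∀ y : PrimeSpectrum B, σ (hcons A) (PrimeSpectrum.comap φ'.toRingHom y) =
      (PrimeSpectrum.comap (algebraMap A B) y, κ B hB y) := by
    intro y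
    refine Prod.ext ?_ ?_
    · rw [σ_fst, ← PrimeSpectrum.comap_comp_apply]
      congr 1
      exact RingHom.ext fun a => φ'.commutes a
    · have h1 : PrimeSpectrum.comap φ'.toRingHom y ⤳ PrimeSpectrum.comap φ'.toRingHom (cl hB y) :=
        (specializes_cl hB y).map (PrimeSpectrum.continuous_comap _)
      rw [specializes_iff] at h1
      have h2 := hφ'.2 (cl hB y) (isClosed_cl hB y)
      rw [isClosed_singleton_iff] at h2
      have h3 : (σ (hcons A) (PrimeSpectrum.comap φ'.toRingHom (cl hB y))).1 =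
          PrimeSpectrum.comap (algebraMap A B) (cl hB y) := by
        rw [σ_fst, ← PrimeSpectrum.comap_comp_apply]
        congr 1
        exact RingHom.ext fun a => φ'.commutes a
      rw [h3] at h2
      change (σ (hcons A) (PrimeSpectrum.comap φ'.toRingHom y)).2 = κ B hB y
      rw [h1.2]
      apply (hcons_bijective A).1
      rw [← h2, hcons_κ]
  have hLC : φ'.comp (IsScalarTower.toAlgHom A (LocallyConstant (WithConstructibleTopology (PrimeSpectrum A)) A) (Aw A)) =
      ρκ B hB := by
    apply algHom_ext_of_comap_eq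
    intro y
    rw [comap_ρκ]
    have : PrimeSpectrum.comap (φ'.comp (IsScalarTower.toAlgHom A
        (LocallyConstant (WithConstructibleTopology (PrimeSpectrum A)) A) (Aw A))).toRingHom y =
        PrimeSpectrum.comap (algebraMap (LocallyConstant (WithConstructibleTopology (PrimeSpectrum A)) A) (Aw A))
          (PrimeSpectrum.comap φ'.toRingHom y) := rfl
    rw [this, ← key y, σ, Homeomorph.apply_symm_apply]
  apply AlgHom.coe_ringHom_injective
  apply IsLocalization.ringHom_ext (Mh (hcons A))
  ext g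
  have h1 := congrArg (fun ψ => ψ g) hLC
  have h2 := congrArg (fun ψ => ψ g) (φw_comp B hB)
  exact h1.trans h2.symm

theorem main (A : Type u) [CommRing A] :
    ∃ (Aw : Type u) (_ : CommRing Aw) (_ : Algebra A Aw),
      Module.FaithfullyFlat A Aw ∧ EtPBC.IsIndZariski A Aw ∧ ProEtW.IsWLocal (PrimeSpectrum Aw) ∧
      ∀ (B : Type u) [CommRing B] [Algebra A B], ProEtW.IsWLocal (PrimeSpectrum B) →
        ∃! φ : Aw →ₐ[A] B, ProEtW.IsWLocalMap (PrimeSpectrum.comap φ.toRingHom) :=
  ⟨Bh (hcons A), inferInstance, inferInstance, faithfullyFlat _ (hcons_bijective A).2,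
    isIndZariski _, isWLocal _ (isClosed_hcons_preimage A),
    fun B _ _ hB => ⟨φw B hB, isWLocalMap_φw B hB, fun φ' hφ' => unique_φw B hB φ' hφ'⟩⟩

end Groth.Agent.Lib.R2LeadWLocUniv
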