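import Mathlib
import Groth.Agent.S0593

set_option autoImplicit false
universe u
open CategoryTheory AlgebraicGeometry

namespace Groth.Agent.Lib.R2LeadZeroCycImg

theorem main {X Y S : Scheme.{u}} (f : X ⟶ Y) (g : Y ⟶ S)
    [IsSeparated g] [IsIntegralHom (f ≫ g)] (hfin : ∀ s : S, Set.Finite ((f ≫ g).base ⁻¹' {s})) :
    IsIntegralHom (f.imageι ≫ g) ∧ ∀ s : S, Set.Finite ((f.imageι ≫ g).base ⁻¹' {s}) := by
  haveI hqc : QuasiCompact f := QuasiCompact.of_comp f g
  have e : f.toImage ≫ (f.imageι ≫ g) = f ≫ g := by rw [← Category.assoc, f.toImage_imageι]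
  haveI : UniversallyClosed (f.toImage ≫ (f.imageι ≫ g)) := by rw [e]; infer_instance
  haveI : IsSeparated (f.imageι ≫ g) := inferInstance
  haveI : UniversallyClosed f.toImage :=
    UniversallyClosed.of_comp_of_isSeparated f.toImage (f.imageι ≫ g)
  haveI hsurj : Surjective f.toImage := by
    refine ⟨?_⟩
    have h1 : IsClosed (Set.range f.toImage) := f.toImage.isClosedMap.isClosed_range
    have h2 : DenseRange f.toImage := f.toImage.denseRange
    rw [← Set.range_eq_univ, ← h1.closure_eq]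
    exact h2.closure_range
  haveI : UniversallyClosed (f.imageι ≫ g) := UniversallyClosed.of_comp_surjective f.toImage _
  haveI : IsAffineHom (f.imageι ≫ g) := by
    refine ⟨fun U hU => ?_⟩
    have hW : f.toImage ⁻¹ᵁ ((f.imageι ≫ g) ⁻¹ᵁ U) = (f ≫ g) ⁻¹ᵁ U := by
      rw [← e]; rfl
    haveI : IsAffine (f.toImage ⁻¹ᵁ ((f.imageι ≫ g) ⁻¹ᵁ U)).toScheme := by
      rw [hW]
      exact IsAffineHom.isAffine_preimage U hU
    haveI : Surjective (f.toImage ∣_ ((f.imageι ≫ g) ⁻¹ᵁ U)) :=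
      IsZariskiLocalAtTarget.restrict (P := @Surjective) hsurj _
    haveI : UniversallyClosed (f.toImage ∣_ ((f.imageι ≫ g) ⁻¹ᵁ U)) :=
      IsZariskiLocalAtTarget.restrict (P := @UniversallyClosed) inferInstance _
    exact Groth.Agent.S0593.result _ _ (f.toImage ∣_ ((f.imageι ≫ g) ⁻¹ᵁ U))
  refine ⟨IsIntegralHom.iff_universallyClosed_and_isAffineHom.mpr ⟨inferInstance, inferInstance⟩,
    fun s => ?_⟩
  refine ((hfin s).image f.toImage).subset ?_
  intro y hy
  obtain ⟨x, rfl⟩ := hsurj.surj y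
  refine ⟨x, ?_, rfl⟩
  have h3 : (f ≫ g).base x = (f.imageι ≫ g).base (f.toImage x) := by
    rw [← e]; rfl
  change (f ≫ g).base x = s
  rw [h3]
  exact hy

end Groth.Agent.Lib.R2LeadZeroCycImg
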